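/-
Function fields of one variable: elementary facts about places, divisors, `L(D)`, `A(D)`.
-/
import Groth.Prelude.Def_W4bk4goldsch23FF
import Mathlib.RingTheory.Valuation.LocalSubring
import Mathlib.Algebra.Order.GroupWithZero.Canonical
import Mathlib.RingTheory.Algebraic.Basic
import Mathlib.Tactic.Ring
import Mathlib.Tactic.FieldSimp
import Mathlib.Tactic.Linarith

open WithZero

namespace Groth.Agent.FF

open FunFld

variable {k K : Type*} [Field k] [Field K] [Algebra k K]

lemma exp_le_one' {n : ℤ} : exp n ≤ 1 ↔ n ≤ 0 := by rw [← exp_zero, exp_le_exp]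

lemma exp_lt_one' {n : ℤ} : exp n < 1 ↔ n < 0 := by rw [← exp_zero, exp_lt_exp]

lemma exp_eq_one' {n : ℤ} : exp n = 1 ↔ n = 0 := by
  refine ⟨fun h => ?_, fun h => by rw [h, exp_zero]⟩
  have h1 := congrArg log h
  simpa using h1

lemma one_lt_exp' {n : ℤ} : 1 < exp n ↔ 0 < n := by rw [← exp_zero, exp_lt_exp]

lemma val_ne_zero (P : Place k K) {x : K} (hx : x ≠ 0) : P.1 x ≠ 0 :=
  (Valuation.ne_zero_iff _).2 hx

lemma val_const (P : Place k K) {c : k} (hc : c ≠ 0) : P.1 (algebraMap k K c) = 1 := by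
  have h1 := P.2.1 c
  have h2 := P.2.1 c⁻¹
  rw [map_inv₀, map_inv₀] at h2
  refine le_antisymm h1 ?_
  have hne : P.1 (algebraMap k K c) ≠ 0 := val_ne_zero P (by simpa using hc)
  exact (inv_le_one₀ (zero_lt_iff.2 hne)).1 h2

lemma val_eq_exp (P : Place k K) {x : K} (hx : x ≠ 0) : P.1 x = exp (-(P.ord x)) := by
  rw [Place.ord, neg_neg, exp_log (val_ne_zero P hx)]

@[simp] lemma ord_zero (P : Place k K) : P.ord 0 = 0 := by simp [Place.ord]

lemma ord_eq_of_val (P : Place k K) {x : K} {n : ℤ} (h : P.1 x = exp n) : P.ord x = -n := by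
  rw [Place.ord, h, log_exp]

lemma val_le_exp_iff (P : Place k K) {x : K} (hx : x ≠ 0) {n : ℤ} :
    P.1 x ≤ exp n ↔ -n ≤ P.ord x := by
  rw [val_eq_exp P hx, exp_le_exp]; omega

lemma val_le_one_iff (P : Place k K) {x : K} (hx : x ≠ 0) : P.1 x ≤ 1 ↔ 0 ≤ P.ord x := by
  rw [val_eq_exp P hx, exp_le_one']; omega

lemma val_lt_one_iff (P : Place k K) {x : K} (hx : x ≠ 0) : P.1 x < 1 ↔ 0 < P.ord x := by
  rw [val_eq_exp P hx, exp_lt_one']; omega

lemma val_eq_one_iff (P : Place k K) {x : K} (hx : x ≠ 0) : P.1 x = 1 ↔ P.ord x = 0 := by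
  rw [val_eq_exp P hx, exp_eq_one']; omega

lemma ord_mul (P : Place k K) {x y : K} (hx : x ≠ 0) (hy : y ≠ 0) :
    P.ord (x * y) = P.ord x + P.ord y := by
  simp only [Place.ord, map_mul, log_mul (val_ne_zero P hx) (val_ne_zero P hy)]; ring

lemma ord_inv (P : Place k K) (x : K) : P.ord x⁻¹ = -P.ord x := by
  rcases eq_or_ne x 0 with rfl | hx
  · simp
  exact ord_eq_of_val P (by rw [map_inv₀, val_eq_exp P hx, exp_neg, inv_inv])

lemma ord_const (P : Place k K) (c : k) : P.ord (algebraMap k K c) = 0 := by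
  rcases eq_or_ne c 0 with rfl | hc
  · simp
  exact (val_eq_one_iff P (by simpa using hc)).1 (val_const P hc)

lemma exists_val_eq (P : Place k K) (n : ℤ) : ∃ t : K, t ≠ 0 ∧ P.1 t = exp n := by
  obtain ⟨t, ht⟩ := P.2.2 (exp n)
  exact ⟨t, fun h => exp_ne_zero (ht.symm.trans (by rw [h, map_zero])), ht⟩

lemma lt_one_le_exp {a : WithZero (Multiplicative ℤ)} (h : a < 1) : a ≤ exp (-1) := by
  rcases eq_or_ne a 0 with rfl | ha
  · exact zero_le
  rw [← exp_log ha, exp_le_exp]
  rw [← exp_zero, ← exp_log ha, exp_lt_exp] at h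
  omega

lemma le_exp_sub_one {a : WithZero (Multiplicative ℤ)} {n : ℤ} (h : a < exp n) : a ≤ exp (n - 1) := by
  rcases eq_or_ne a 0 with rfl | ha
  · exact zero_le
  rw [← exp_log ha, exp_le_exp]
  rw [← exp_log ha, exp_lt_exp] at h
  omega

/-- Places are determined by their valuation rings, which are pairwise incomparable. -/
lemma eq_of_le {P Q : Place k K} (h : ∀ z, P.1 z ≤ 1 → Q.1 z ≤ 1) : P = Q := by
  have h1 : ∀ z, z ≠ 0 → P.1 z = 1 → Q.1 z = 1 := by
    intro z hz hP
    refine le_antisymm (h z hP.le) ?_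
    have := h z⁻¹ (by rw [map_inv₀, hP, inv_one])
    rw [map_inv₀] at this
    exact (inv_le_one₀ (zero_lt_iff.2 (val_ne_zero Q hz))).1 this
  obtain ⟨t, ht0, ht⟩ := exists_val_eq P (-1)
  have key : ∀ z, z ≠ 0 → Q.ord z = P.ord z * Q.ord t := by
    intro z hz
    have hpow : t ^ (P.ord z) ≠ 0 := zpow_ne_zero _ ht0
    have h2 := h1 (z / t ^ (P.ord z)) (div_ne_zero hz hpow) (by
      rw [map_div₀, map_zpow₀, ht, val_eq_exp P hz, ← exp_zsmul]
      rw [smul_eq_mul, mul_neg, mul_one]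
      exact div_self exp_ne_zero)
    rw [map_div₀, map_zpow₀, div_eq_one_iff_eq
      (zpow_ne_zero _ (val_ne_zero Q ht0))] at h2
    rw [val_eq_exp Q hz, val_eq_exp Q ht0, ← exp_zsmul] at h2
    have h3 := congrArg log h2
    simp only [log_exp, smul_eq_mul] at h3
    linarith
  obtain ⟨s, hs0, hs⟩ := exists_val_eq Q (-1)
  have hs1 : Q.ord s = 1 := by rw [ord_eq_of_val Q hs]; norm_num
  have hnn : 0 ≤ Q.ord t := by
    refine (val_le_one_iff Q ht0).1 (h t ?_)
    rw [ht, exp_le_one']; norm_num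
  have hone : Q.ord t = 1 := by
    have := key s hs0
    rw [hs1] at this
    rcases Int.eq_one_or_neg_one_of_mul_eq_one' this.symm with h' | h' <;> omega
  refine Subtype.ext (Valuation.ext fun z => ?_)
  rcases eq_or_ne z 0 with rfl | hz
  · simp
  rw [val_eq_exp P hz, val_eq_exp Q hz, key z hz, hone, mul_one]

lemma exists_le_gt {P Q : Place k K} (h : P ≠ Q) : ∃ z, P.1 z ≤ 1 ∧ 1 < Q.1 z := by
  by_contra hc
  push Not at hc
  exact h (eq_of_le hc)

lemma mem_L {D : Divisor k K} {x : K} : x ∈ L D ↔ ∀ P : Place k K, P.1 x ≤ exp (D P) := Iff.rfl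

lemma mem_L_iff_ord {D : Divisor k K} {x : K} (hx : x ≠ 0) :
    x ∈ L D ↔ ∀ P : Place k K, 0 ≤ P.ord x + D P := by
  rw [mem_L]
  exact forall_congr' fun P => by rw [val_le_exp_iff P hx]; omega

lemma mem_AD {D : Divisor k K} {a : Place k K → K} :
    a ∈ AD D ↔ ∀ P : Place k K, P.1 (a P) ≤ exp (D P) := Iff.rfl

lemma L_mono {D E : Divisor k K} (h : D ≤ E) : L D ≤ L E :=
  fun _ hx P => (hx P).trans (exp_le_exp.2 (h P))

lemma AD_mono {D E : Divisor k K} (h : D ≤ E) : AD D ≤ AD E :=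
  fun _ hx P => (hx P).trans (exp_le_exp.2 (h P))

lemma AD_sup (D E : Divisor k K) : AD (D ⊔ E) = AD D ⊔ AD E := by
  classical
  refine le_antisymm (fun a ha => ?_) (sup_le (AD_mono le_sup_left) (AD_mono le_sup_right))
  rw [Submodule.mem_sup]
  refine ⟨fun P => if E P ≤ D P then a P else 0, fun P => ?_,
    fun P => if E P ≤ D P then 0 else a P, fun P => ?_, ?_⟩
  · simp only []
    split_ifs with h
    · exact (ha P).trans (by rw [Finsupp.sup_apply, max_eq_left h])
    · simp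
  · simp only []
    split_ifs with h
    · simp
    · exact (ha P).trans (by rw [Finsupp.sup_apply, max_eq_right (le_of_not_ge h)])
  · funext P
    simp only [Pi.add_apply]
    split_ifs <;> simp

lemma diag_apply (x : K) (P : Place k K) : diag k K x P = x := rfl

lemma diag_mem_AD {D : Divisor k K} {x : K} : diag k K x ∈ AD D ↔ x ∈ L D := Iff.rfl

lemma deg_zero : (0 : Divisor k K).deg = 0 := by simp [Divisor.deg]

lemma deg_add (D E : Divisor k K) : (D + E).deg = D.deg + E.deg :=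
  Finsupp.sum_add_index' (by simp) (by intros; ring)

lemma deg_neg (D : Divisor k K) : (-D).deg = -D.deg := by
  have := deg_add D (-D)
  rw [add_neg_cancel, deg_zero] at this
  linarith

lemma deg_sub (D E : Divisor k K) : (D - E).deg = D.deg - E.deg := by
  rw [sub_eq_add_neg, deg_add, deg_neg]; ring

lemma deg_single (P : Place k K) (n : ℤ) : Divisor.deg (Finsupp.single P n) = n * P.deg :=
  Finsupp.sum_single_index (by simp)

lemma deg_nonneg {D : Divisor k K} (h : 0 ≤ D) : 0 ≤ D.deg :=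
  Finset.sum_nonneg fun P _ => mul_nonneg (h P) (Int.natCast_nonneg _)

lemma deg_mono {D E : Divisor k K} (h : D ≤ E) : D.deg ≤ E.deg := by
  have := deg_nonneg (sub_nonneg.2 h)
  rw [deg_sub] at this
  linarith

lemma deg_eq_sum {D : Divisor k K} {s : Finset (Place k K)} (h : D.support ⊆ s) :
    D.deg = ∑ P ∈ s, D P * (P.deg : ℤ) :=
  Finset.sum_subset h fun P _ hP => by simp [Finsupp.notMem_support_iff.1 hP]

end Groth.Agent.FF
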