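/-
Weak approximation for finitely many places.
-/
import Groth.Agent.L26.FF.Basic

open WithZero

namespace Groth.Agent.FF

open FunFld

variable {k K : Type*} [Field k] [Field K] [Algebra k K]

lemma val_one_add_of_one_lt (P : Place k K) {z : K} (h : 1 < P.1 z) : P.1 (1 + z) = P.1 z :=
  P.1.map_add_eq_of_lt_right (by rwa [map_one])

lemma val_one_add_of_lt_one (P : Place k K) {z : K} (h : P.1 z < 1) : P.1 (1 + z) = 1 := by
  rw [P.1.map_add_eq_of_lt_left (by rwa [map_one]), map_one]

lemma pow_le_exp_neg {a : WithZero (Multiplicative ℤ)} (h : a < 1) (r : ℕ) :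
    a ^ r ≤ exp (-(r : ℤ)) := by
  calc a ^ r ≤ exp (-1) ^ r := pow_le_pow_left₀ zero_le (lt_one_le_exp h) r
    _ = exp (-(r : ℤ)) := by rw [← exp_nsmul]; simp

lemma exists_big [DecidableEq (Place k K)] (P : Place k K) (S : Finset (Place k K)) :
    P ∉ S → ∃ z : K, 1 < P.1 z ∧ ∀ Q ∈ S, Q.1 z < 1 := by
  induction S using Finset.induction with
  | empty =>
    intro _
    obtain ⟨t, _, ht⟩ := exists_val_eq P 1
    exact ⟨t, by rw [ht, one_lt_exp']; norm_num, by simp⟩
  | insert Q S hQ ih =>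
    intro hP
    rw [Finset.mem_insert, not_or] at hP
    obtain ⟨a, haP, haS⟩ := ih hP.2
    obtain ⟨a', ha'P, ha'Q⟩ := exists_le_gt hP.1
    obtain ⟨b', hb'Q, hb'P⟩ := exists_le_gt (Ne.symm hP.1)
    let b := b' / a'
    have hbP : 1 < P.1 b := by
      have hne : a' ≠ 0 := fun h => by rw [h, map_zero] at ha'Q; exact not_lt_zero ha'Q
      rw [map_div₀, one_lt_div₀ (zero_lt_iff.2 (val_ne_zero P hne))]
      exact ha'P.trans_lt hb'P
    have hbQ : Q.1 b < 1 := by
      rw [map_div₀, div_lt_one₀ (zero_lt_one.trans ha'Q)]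
      exact hb'Q.trans_lt ha'Q
    rcases lt_trichotomy (Q.1 a) 1 with h | h | h
    · exact ⟨a, haP, fun R hR => by
        rcases Finset.mem_insert.1 hR with rfl | hR
        exacts [h, haS R hR]⟩
    · let r : ℕ := S.sup (fun R => (log (R.1 b)).toNat) + 1
      refine ⟨a ^ r * b, ?_, fun R hR => ?_⟩
      · rw [map_mul, map_pow]
        exact one_lt_mul_of_le_of_lt (one_le_pow₀ haP.le) hbP
      · rcases Finset.mem_insert.1 hR with rfl | hR
        · rw [map_mul, map_pow, h, one_pow, one_mul]; exact hbQ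
        · rw [map_mul, map_pow]
          have h2 := Finset.le_sup (f := fun R => (log (R.1 b)).toNat) hR
          calc R.1 a ^ r * R.1 b ≤ exp (-(r : ℤ)) * exp (log (R.1 b)) :=
                mul_le_mul' (pow_le_exp_neg (haS R hR) r) le_exp_log
            _ < 1 := by
              rw [← exp_add, exp_lt_one']
              simp only [r] at *
              push_cast
              omega
    · let r : ℕ := S.sup (fun R => (log (R.1 b)).toNat) + 1
      have har : 1 < Q.1 (a ^ r) := by rw [map_pow]; exact one_lt_pow₀ h (by omega)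
      have harP : 1 < P.1 (a ^ r) := by rw [map_pow]; exact one_lt_pow₀ haP (by omega)
      refine ⟨a ^ r / (1 + a ^ r) * b, ?_, fun R hR => ?_⟩
      · rw [map_mul, map_div₀, val_one_add_of_one_lt P harP, div_self (zero_lt_one.trans harP).ne',
          one_mul]
        exact hbP
      · rcases Finset.mem_insert.1 hR with rfl | hR
        · rw [map_mul, map_div₀, val_one_add_of_one_lt _ har, div_self (zero_lt_one.trans har).ne',
            one_mul]
          exact hbQ
        · have h2 := Finset.le_sup (f := fun R => (log (R.1 b)).toNat) hR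
          have h3 : R.1 (a ^ r) < 1 := by rw [map_pow]; exact pow_lt_one₀ zero_le (haS R hR) (by omega)
          rw [map_mul, map_div₀, val_one_add_of_lt_one R h3, div_one, map_pow]
          calc R.1 a ^ r * R.1 b ≤ exp (-(r : ℤ)) * exp (log (R.1 b)) :=
                mul_le_mul' (pow_le_exp_neg (haS R hR) r) le_exp_log
            _ < 1 := by
              rw [← exp_add, exp_lt_one']
              simp only [r] at *
              push_cast
              omega

lemma exists_near (P : Place k K) (S : Finset (Place k K)) (hP : P ∉ S) (N : ℕ) :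
    ∃ w : K, P.1 (w - 1) ≤ exp (-(N : ℤ)) ∧ ∀ Q ∈ S, Q.1 w ≤ exp (-(N : ℤ)) := by
  classical
  obtain ⟨z, hzP, hzS⟩ := exists_big P S hP
  have hr : 1 < P.1 (z ^ (N + 1)) := by rw [map_pow]; exact one_lt_pow₀ hzP (by omega)
  have hne : 1 + z ^ (N + 1) ≠ 0 := fun h => by
    have := val_one_add_of_one_lt P hr
    rw [h, map_zero] at this
    exact (zero_lt_one.trans hr).ne this
  refine ⟨z ^ (N + 1) / (1 + z ^ (N + 1)), ?_, fun Q hQ => ?_⟩
  · have : z ^ (N + 1) / (1 + z ^ (N + 1)) - 1 = -(1 / (1 + z ^ (N + 1))) := by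
      field_simp; ring
    rw [this, Valuation.map_neg, map_div₀, map_one, val_one_add_of_one_lt P hr, one_div, ← map_inv₀,
      ← inv_pow, map_pow]
    refine (pow_le_exp_neg ?_ _).trans (exp_le_exp.2 (by omega))
    rw [map_inv₀]; exact inv_lt_one_of_one_lt₀ hzP
  · have h3 : Q.1 (z ^ (N + 1)) < 1 := by
      rw [map_pow]; exact pow_lt_one₀ zero_le (hzS Q hQ) (by omega)
    rw [map_div₀, val_one_add_of_lt_one Q h3, div_one, map_pow]
    exact (pow_le_exp_neg (hzS Q hQ) _).trans (exp_le_exp.2 (by omega))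

/-- Weak approximation. -/
lemma approx (S : Finset (Place k K)) (x : Place k K → K) (N : ℤ) :
    ∃ y : K, ∀ P ∈ S, P.1 (y - x P) ≤ exp (-N) := by
  classical
  let B : ℕ := S.sup (fun P => S.sup fun Q => (log (Q.1 (x P))).toNat)
  have hw : ∀ P ∈ S, ∃ w : K, P.1 (w - 1) ≤ exp (-((B + N.toNat : ℕ) : ℤ)) ∧
      ∀ Q ∈ S.erase P, Q.1 w ≤ exp (-((B + N.toNat : ℕ) : ℤ)) :=
    fun P _ => exists_near P _ (Finset.notMem_erase P S) _
  choose! w hw1 hw2 using hw
  refine ⟨∑ P ∈ S, x P * w P, fun P hP => ?_⟩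
  have hB : ∀ Q ∈ S, P.1 (x Q) ≤ exp (B : ℤ) := fun Q hQ => by
    refine le_exp_log.trans (exp_le_exp.2 ?_)
    have h1 := Finset.le_sup (f := fun R => (log (R.1 (x Q))).toNat) hP
    have h2 := Finset.le_sup (f := fun T => S.sup fun R => (log (R.1 (x T))).toNat) hQ
    simp only [B]
    omega
  have key : ∀ a : WithZero (Multiplicative ℤ), a ≤ exp (B : ℤ) →
      ∀ b, b ≤ exp (-((B + N.toNat : ℕ) : ℤ)) → a * b ≤ exp (-N) := fun a ha b hb =>
    (mul_le_mul' ha hb).trans (by rw [← exp_add, exp_le_exp]; omega)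
  have : ∑ Q ∈ S, x Q * w Q - x P = ∑ Q ∈ S, (x Q * w Q - if Q = P then x P else 0) := by
    rw [Finset.sum_sub_distrib, Finset.sum_ite_eq' S P, if_pos hP]
  rw [this]
  refine P.1.map_sum_le fun Q hQ => ?_
  split_ifs with h
  · subst h
    rw [show x Q * w Q - x Q = x Q * (w Q - 1) by ring, map_mul]
    exact key _ (hB Q hQ) _ (hw1 Q hQ)
  · rw [sub_zero, map_mul]
    exact key _ (hB Q hQ) _ (hw2 Q hQ P (Finset.mem_erase.2 ⟨Ne.symm h, hP⟩))

lemma approx_val (S : Finset (Place k K)) (n : Place k K → ℤ) :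
    ∃ y : K, ∀ P ∈ S, P.1 y = exp (n P) := by
  choose t ht0 ht using fun P : Place k K => exists_val_eq P (n P)
  let N : ℕ := S.sup fun P => (1 - n P).toNat
  obtain ⟨y, hy⟩ := approx S t N
  refine ⟨y, fun P hP => ?_⟩
  have h1 := Finset.le_sup (f := fun P => (1 - n P).toNat) hP
  have h2 : P.1 (y - t P) < P.1 (t P) := (hy P hP).trans_lt (by
    rw [ht P, exp_lt_exp]; simp only [N] at *; omega)
  rw [← ht P, ← P.1.map_add_eq_of_lt_right h2, sub_add_cancel]

end Groth.Agent.FF
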