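/-
Finiteness over `k(z)`, and existence of places.
-/
import Groth.Agent.L26.FF.Basic
import Mathlib.RingTheory.Adjoin.Polynomial.Bivariate
import Mathlib.RingTheory.AlgebraicIndependent.AlgebraicClosure
import Mathlib.FieldTheory.IntermediateField.Adjoin.Basic
import Mathlib.RingTheory.Valuation.LocalSubring
import Mathlib.RingTheory.DedekindDomain.AdicValuation
import Mathlib.RingTheory.DiscreteValuationRing.Basic
import Mathlib.Algebra.BigOperators.Field

open WithZero IntermediateField

namespace Groth.Agent.FF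

open FunFld

variable {k K : Type*} [Field k] [Field K] [Algebra k K]

/-- `K` has transcendence degree one and is finitely generated over `k`; constants may be larger. -/
abbrev IsFF (k K : Type*) [Field k] [Field K] [Algebra k K] : Prop :=
  ∃ x : K, Transcendental k x ∧ FiniteDimensional (IntermediateField.adjoin k ({x} : Set K)) K

lemma IsFF.of_isFunctionField (hK : IsFunctionField k K) : IsFF k K := hK.1


lemma transcendental_of_not_const (hK : IsFunctionField k K) {z : K}
    (hz : z ∉ Set.range (algebraMap k K)) : Transcendental k z :=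
  fun h => hz (hK.2 z h)

lemma not_const_of_transcendental {z : K} (hz : Transcendental k z) :
    z ∉ Set.range (algebraMap k K) := by
  rintro ⟨c, rfl⟩
  exact hz (isAlgebraic_algebraMap c)

lemma finite_over_adjoin (hK : IsFF k K) {z : K} (hz : Transcendental k z) :
    FiniteDimensional k⟮z⟯ K := by
  obtain ⟨x, hx, hfin⟩ := hK
  have h1 : IsAlgebraic k⟮z⟯ x :=
    isAlgebraic_adjoin_iff.mpr (.adjoin_singleton (A := K) (B := K) hx hz
      (isAlgebraic_adjoin_iff.mp (Algebra.IsAlgebraic.isAlgebraic (R := k⟮x⟯) z)))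
  let E : IntermediateField k⟮z⟯ K := k⟮z⟯⟮x⟯
  have : FiniteDimensional k⟮z⟯ E := adjoin.finiteDimensional h1.isIntegral
  have hxE : k⟮x⟯ ≤ E.restrictScalars k := by
    rw [adjoin_simple_le_iff]
    exact mem_adjoin_simple_self k⟮z⟯ x
  let b := Module.finBasis k⟮x⟯ K
  have : Module.Finite E K := by
    refine ⟨⟨(Set.finite_range b).toFinset, ?_⟩⟩
    rw [Set.Finite.coe_toFinset, eq_top_iff]
    intro w _
    rw [← b.sum_repr w]
    refine Submodule.sum_mem _ fun i _ => ?_
    have : (b.repr w i : K) ∈ E := hxE (b.repr w i).2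
    show (b.repr w i : K) * b i ∈ _
    exact Submodule.smul_mem _ (⟨_, this⟩ : E) (Submodule.subset_span ⟨i, rfl⟩)
  exact Module.Finite.trans E K

/-- Independence over `k(x)` from independence modulo `x V`. -/
lemma card_le_finrank {x : K} (hx : Transcendental k x) [FiniteDimensional k⟮x⟯ K]
    (V : Submodule k K) (hV : ∀ v ∈ V, x * v ∈ V) {m : ℕ} (u : Fin m → K) (hu : ∀ j, u j ∈ V)
    (h : ∀ a : Fin m → k, (∃ v ∈ V, ∑ j, a j • u j = x * v) → a = 0) :
    m ≤ Module.finrank k⟮x⟯ K := by
  have hx0 : x ≠ 0 := fun h => hx (h ▸ isAlgebraic_zero)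
  have hVp : ∀ (p : Polynomial k) v, v ∈ V → Polynomial.aeval x p * v ∈ V := by
    intro p v hv
    induction p using Polynomial.induction_on with
    | C a => rw [Polynomial.aeval_C, ← Algebra.smul_def]; exact V.smul_mem a hv
    | add p q hp hq => rw [map_add, add_mul]; exact add_mem hp hq
    | monomial n a ih =>
      rw [show Polynomial.C a * Polynomial.X ^ (n + 1) = Polynomial.X * (Polynomial.C a * Polynomial.X ^ n) by
        ring, map_mul, Polynomial.aeval_X, mul_assoc]
      exact hV _ ih
  have key : ∀ (d : ℕ) (φ : Fin m → Polynomial k), (∀ j, φ j ≠ 0 → (φ j).natDegree < d) →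
      ∑ j, Polynomial.aeval x (φ j) * u j = 0 → φ = 0 := by
    intro d
    induction d with
    | zero =>
      intro φ hφ _
      funext j
      by_contra hj
      exact absurd (hφ j hj) (by omega)
    | succ d ih =>
      intro φ hφ hsum
      have e : ∀ j, Polynomial.aeval x (φ j) * u j =
          x * (Polynomial.aeval x (φ j).divX * u j) + (φ j).coeff 0 • u j := fun j => by
        conv_lhs => rw [← Polynomial.X_mul_divX_add (φ j)]
        rw [map_add, map_mul, Polynomial.aeval_X, Polynomial.aeval_C, Algebra.smul_def]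
        ring
      simp only [e, Finset.sum_add_distrib, ← Finset.mul_sum] at hsum
      have h0 : (fun j => (φ j).coeff 0) = 0 := by
        refine h _ ⟨-∑ j, Polynomial.aeval x (φ j).divX * u j,
          neg_mem (Submodule.sum_mem _ fun j _ => hVp _ _ (hu j)), ?_⟩
        rw [mul_neg]
        exact eq_neg_of_add_eq_zero_right hsum
      have h0' : ∀ j, (φ j).coeff 0 = 0 := congrFun h0
      simp only [h0', zero_smul, Finset.sum_const_zero, add_zero] at hsum
      have h1 := ih (fun j => (φ j).divX) (fun j hj => by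
        have hj' : φ j ≠ 0 := fun h => hj (by rw [h, Polynomial.divX_zero])
        have hnd : (φ j).natDegree ≠ 0 := fun h => hj (by
          rw [Polynomial.eq_C_of_natDegree_eq_zero h, Polynomial.divX_C])
        have := hφ j hj'
        rw [Polynomial.natDegree_divX_eq_natDegree_tsub_one]
        omega) ((mul_eq_zero.1 hsum).resolve_left hx0)
      funext j
      rw [← Polynomial.X_mul_divX_add (φ j), congrFun h1 j, h0' j]
      simp
  have li : LinearIndependent k⟮x⟯ u := by
    classical
    rw [Fintype.linearIndependent_iff]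
    intro g hg i
    choose r s hrs using fun j => (mem_adjoin_simple_iff (F := k) (g j : K)).1 (g j).2
    let S : Finset (Fin m) := Finset.univ.filter fun j => g j ≠ 0
    by_contra hi
    have hs : ∀ j ∈ S, Polynomial.aeval x (s j) ≠ 0 := fun j hj h => (Finset.mem_filter.1 hj).2 (by
      apply Subtype.ext
      rw [hrs j, h, div_zero]
      rfl)
    let φ : Fin m → Polynomial k := fun j => if j ∈ S then r j * ∏ l ∈ S.erase j, s l else 0
    have hφ : ∀ j, Polynomial.aeval x (φ j) = (∏ l ∈ S, Polynomial.aeval x (s l)) * (g j : K) := by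
      intro j
      by_cases hj : j ∈ S
      · simp only [φ, if_pos hj, map_mul, map_prod]
        rw [← Finset.mul_prod_erase S _ hj, hrs j]
        field_simp [hs j hj]
      · simp only [φ, if_neg hj, map_zero]
        have : g j = 0 := by
          by_contra h'
          exact hj (Finset.mem_filter.2 ⟨Finset.mem_univ _, h'⟩)
        rw [this]; simp
    have h2 := key ((Finset.univ.sup fun j => (φ j).natDegree) + 1) φ (fun j _ => by
      have := Finset.le_sup (f := fun j => (φ j).natDegree) (Finset.mem_univ j)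
      omega) (by
        simp only [hφ, mul_assoc, ← Finset.mul_sum]
        rw [show ∑ j, (g j : K) * u j = ∑ j, g j • u j from rfl, hg, mul_zero])
    have := hφ i
    rw [h2, Pi.zero_apply, map_zero] at this
    rcases mul_eq_zero.1 this.symm with h' | h'
    · exact Finset.prod_ne_zero_iff.2 hs h'
    · exact hi (Subtype.ext (by rw [h']; rfl))
  simpa using li.fintype_card_le_finrank

section Chain

variable (O : ValuationSubring K) (hO : ∀ c : k, algebraMap k K c ∈ O)
include hO

lemma const_nonunit {c : k} (h : algebraMap k K c ∈ O.nonunits) : c = 0 := by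
  by_contra hc
  rcases O.mem_nonunits_iff_or.1 h with h' | h'
  · exact hc (by simpa using h')
  · exact h' (by simpa using hO c⁻¹)

lemma chain_bound {m : ℕ} (c : Fin (m + 1) → K) (h0 : ∀ i, c i ≠ 0)
    (hm : ∀ i, c i ∈ O.nonunits) (hlt : ∀ i j, i < j → c i / c j ∈ O.nonunits)
    (htr : Transcendental k (c 0)) [FiniteDimensional k⟮c 0⟯ K] :
    m + 1 ≤ Module.finrank k⟮c 0⟯ K := by
  let V : Submodule k K :=
    { carrier := O.nonunits
      add_mem' := O.nonunits.add_mem
      zero_mem' := O.nonunits.zero_mem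
      smul_mem' := fun a v hv => by
        show a • v ∈ O.nonunits
        rw [Algebra.smul_def, ValuationSubring.mem_nonunits_iff, map_mul]
        exact (mul_le_of_le_one_left zero_le ((O.valuation_le_one_iff _).2 (hO a))).trans_lt hv }
  refine card_le_finrank htr V (fun v hv => O.nonunits.mul_mem (hm 0) hv) c hm ?_
  classical
  rintro a ⟨v, hv, hsum⟩
  by_contra ha
  have hne : (Finset.univ.filter fun j => a j ≠ 0).Nonempty :=
    (Function.ne_iff.1 ha).imp fun j hj => by simpa using hj
  let j := (Finset.univ.filter fun j => a j ≠ 0).max' hne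
  have hj : a j ≠ 0 := (Finset.mem_filter.1 (Finset.max'_mem _ hne)).2
  apply hj
  apply const_nonunit O hO
  have e1 : algebraMap k K (a j) = c 0 / c j * v - ∑ i ∈ Finset.univ.erase j, a i • c i / c j := by
    rw [← Finset.sum_div, div_mul_eq_mul_div, ← hsum, ← sub_div,
      ← Finset.add_sum_erase _ _ (Finset.mem_univ j), add_sub_cancel_right, Algebra.smul_def,
      mul_div_cancel_right₀ _ (h0 j)]
  rw [e1]
  refine O.nonunits.sub_mem ?_ (sum_mem fun i hi => ?_)
  · rcases eq_or_ne j 0 with h | h
    · rw [h, div_self (h0 0), one_mul]; exact hv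
    · exact O.nonunits.mul_mem (hlt 0 j (Fin.pos_iff_ne_zero.2 h)) hv
  · by_cases hai : a i = 0
    · simp [hai]
    · have hle : i ≤ j := Finset.le_max' _ i (by simp [hai])
      rw [smul_div_assoc]
      exact V.smul_mem _ (hlt i j (lt_of_le_of_ne hle (Finset.ne_of_mem_erase hi)))

omit hO in
lemma trans_of_nonunit (hO : ∀ c : k, algebraMap k K c ∈ O) {y : K}
    (hy : y ∈ O.nonunits) (hy0 : y ≠ 0) : Transcendental k y := by
  intro halg
  let A : Subalgebra k K := { O.toSubring with algebraMap_mem' := hO }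
  let s : Subalgebra k K := Algebra.adjoin k {y}
  have hsA : s ≤ A := Algebra.adjoin_le (Set.singleton_subset_iff.2 (O.nonunits_subset hy))
  have hinv : y⁻¹ ∈ s :=
    Subalgebra.inv_mem_of_algebraic (A := s) (x := ⟨y, Algebra.self_mem_adjoin_singleton k y⟩)
      (by simpa using halg)
  rcases O.mem_nonunits_iff_or.1 hy with h | h
  exacts [hy0 h, h (hsA hinv)]

lemma exists_uniformizer (hK : IsFF k K) (hx : ∃ x ∈ O.nonunits, x ≠ 0) :
    ∃ t ∈ O.nonunits, t ≠ 0 ∧ ∀ y ∈ O.nonunits, y / t ∈ O := by
  obtain ⟨x, hxm, hx0⟩ := hx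
  have htr := trans_of_nonunit O hO hxm hx0
  have := finite_over_adjoin hK htr
  classical
  let P : ℕ → Prop := fun m => ∃ c : Fin (m + 1) → K, c 0 = x ∧ (∀ i, c i ≠ 0) ∧
    (∀ i, c i ∈ O.nonunits) ∧ (∀ i j, i < j → c i / c j ∈ O.nonunits)
  let n := Module.finrank k⟮x⟯ K
  have hbd : ∀ m, P m → m + 1 ≤ n := by
    rintro m ⟨c, rfl, h0, hm, hlt⟩
    exact chain_bound O hO c h0 hm hlt htr
  have hP0 : P 0 := ⟨fun _ => x, rfl, fun _ => hx0, fun _ => hxm,
    fun i j h => absurd h (by omega)⟩
  let M := Nat.findGreatest P n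
  obtain ⟨c, hc, h0, hm, hlt⟩ : P M := Nat.findGreatest_spec (P := P) (Nat.zero_le n) hP0
  refine ⟨c (Fin.last M), hm _, h0 _, fun y hy => ?_⟩
  by_contra hyt
  have hy0 : y ≠ 0 := fun h => hyt (by simp [h])
  have hty : c (Fin.last M) / y ∈ O.nonunits := by
    rw [ValuationSubring.mem_nonunits_iff_or, inv_div]; exact Or.inr hyt
  have hsucc : P (M + 1) := by
    refine ⟨Fin.snoc c y, ?_, ?_, ?_, ?_⟩
    · rw [← Fin.castSucc_zero, Fin.snoc_castSucc]; exact hc
    · intro i; cases i using Fin.lastCases <;> simp [hy0, h0]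
    · intro i; cases i using Fin.lastCases <;> simp [hy, hm]
    · intro i j hij
      cases i using Fin.lastCases with
      | last => exact absurd hij (by simp [Fin.le_last])
      | cast i =>
        cases j using Fin.lastCases with
        | cast j => simpa using hlt i j (Fin.castSucc_lt_castSucc_iff.1 hij)
        | last =>
          simp only [Fin.snoc_castSucc, Fin.snoc_last]
          rcases (Fin.le_last i).lt_or_eq with h | h
          · have := O.nonunits.mul_mem (hlt i _ h) hty
            rwa [div_mul_div_cancel₀ (h0 _)] at this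
          · rw [h]; exact hty
  have h' := Nat.le_findGreatest (P := P) (n := n) (by have := hbd _ hsucc; omega) hsucc
  simp only [M] at h'
  omega

lemma exists_unit_pow (hK : IsFF k K) {t : K} (ht : t ∈ O.nonunits) (ht0 : t ≠ 0)
    (hdiv : ∀ y ∈ O.nonunits, y / t ∈ O) {y : K} (hy : y ∈ O) (hy0 : y ≠ 0) :
    ∃ n : ℕ, y / t ^ n ∈ O ∧ y / t ^ n ∉ O.nonunits := by
  by_contra hc
  push Not at hc
  have hall : ∀ n : ℕ, y / t ^ n ∈ O ∧ y / t ^ n ∈ O.nonunits := fun n => by
    induction n with
    | zero => simpa [hy] using hc 0 (by simpa using hy)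
    | succ n ih =>
      have h1 : y / t ^ (n + 1) ∈ O := by
        rw [pow_succ, ← div_div]; exact hdiv _ ih.2
      exact ⟨h1, hc _ h1⟩
  have hym : y ∈ O.nonunits := by simpa using (hall 0).2
  have htr := trans_of_nonunit O hO hym hy0
  have := finite_over_adjoin hK htr
  let n := Module.finrank k⟮y⟯ K
  let c : Fin (n + 1) → K := fun i => if i = 0 then y else t ^ (n + 1 - (i : ℕ))
  have hc0 : c 0 = y := if_pos rfl
  have htp : ∀ e : ℕ, 0 < e → t ^ e ∈ O.nonunits := fun e he => by
    rw [ValuationSubring.mem_nonunits_iff, map_pow]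
    exact pow_lt_one₀ zero_le ht (by omega)
  have key : n + 1 ≤ Module.finrank k⟮y⟯ K := by
    have htr' : Transcendental k (c 0) := by rw [hc0]; exact htr
    have : FiniteDimensional k⟮c 0⟯ K := by rw [hc0]; assumption
    have hh := chain_bound O hO c (fun i => ?_) (fun i => ?_) (fun i j hij => ?_) htr'
    · rw [hc0] at hh; exact hh
    · simp only [c]; split_ifs
      exacts [hy0, pow_ne_zero _ ht0]
    · simp only [c]; split_ifs
      exacts [hym, htp _ (by omega)]
    · have hj0 : j ≠ 0 := Fin.ne_zero_of_lt hij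
      simp only [c, if_neg hj0]
      split_ifs with h
      · exact (hall _).2
      · have hi : (i : ℕ) < (j : ℕ) := hij
        have hjl := j.isLt
        rw [div_eq_mul_inv, ← pow_sub₀ t ht0 (by omega)]
        exact htp _ (by omega)
  omega

/-- A valuation subring containing `k` with a nonzero nonunit is the ring of a place. -/
lemma exists_place_of_valuationSubring (hK : IsFF k K)
    (hx : ∃ x ∈ O.nonunits, x ≠ 0) :
    ∃ P : Place k K, (∀ z, z ∈ O → P.1 z ≤ 1) ∧ (∀ z, z ∈ O.nonunits → P.1 z < 1) := by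
  obtain ⟨t, ht, ht0, hdiv⟩ := exists_uniformizer O hO hK hx
  let t' : O := ⟨t, O.nonunits_subset ht⟩
  have hirr : Irreducible t' := by
    refine ⟨fun h => ?_, fun a b hab => ?_⟩
    · exact (O.coe_mem_nonunits_iff.1 (show (t' : K) ∈ O.nonunits from ht)) h
    · by_contra hc
      push Not at hc
      have ha : (a : K) ∈ O.nonunits := O.coe_mem_nonunits_iff.2 hc.1
      have hb : (b : K) ∈ O.nonunits := O.coe_mem_nonunits_iff.2 hc.2
      have hab' : t = (a : K) * b := congrArg Subtype.val hab
      have ha0 : (a : K) ≠ 0 := fun h => ht0 (by rw [hab', h, zero_mul])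
      have hb0 : (b : K) ≠ 0 := fun h => ht0 (by rw [hab', h, mul_zero])
      have h1 : (a : K) / t * t' ∈ O := O.mul_mem _ _ (hdiv _ ha) t'.2
      have h2 := hdiv _ ha
      rw [hab', ← div_div, div_self ha0, one_div] at h2
      rcases O.mem_nonunits_iff_or.1 hb with h | h
      exacts [hb0 h, h h2]
  have : IsDiscreteValuationRing O :=
    IsDiscreteValuationRing.ofHasUnitMulPowIrreducibleFactorization ⟨t', hirr, fun {y} hy => by
      obtain ⟨n, hn, hn'⟩ := exists_unit_pow O hO hK ht ht0 hdiv y.2 (by simpa using hy)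
      have hu : IsUnit (⟨_, hn⟩ : O) := by
        by_contra h
        exact hn' (O.coe_mem_nonunits_iff.2 h)
      exact ⟨n, hu.unit, Subtype.ext (by
        show t ^ n * ((y : K) / t ^ n) = (y : K)
        rw [mul_div_cancel₀ _ (pow_ne_zero n ht0)])⟩⟩
  let w : IsDedekindDomain.HeightOneSpectrum O :=
    { asIdeal := IsLocalRing.maximalIdeal O
      isPrime := inferInstance
      ne_bot := IsDiscreteValuationRing.not_a_field O }
  have hle : ∀ z : K, z ∈ O → w.valuation K z ≤ 1 := fun z hz => w.valuation_le_one (K := K) ⟨z, hz⟩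
  refine ⟨⟨w.valuation K, fun c => hle _ (hO c), w.valuation_surjective K⟩, hle, fun z hz => ?_⟩
  exact (w.valuation_lt_one_iff_mem (K := K) ⟨z, O.nonunits_subset hz⟩).2
    (O.coe_mem_nonunits_iff.1 hz)

end Chain

/-- Every transcendental element has a zero. -/
lemma exists_zero (hK : IsFF k K) {x : K} (hx : Transcendental k x) :
    ∃ P : Place k K, P.1 x < 1 := by
  let A : Subring K := (Algebra.adjoin k ({x} : Set K)).toSubring
  let xA : A := ⟨x, Algebra.self_mem_adjoin_singleton k x⟩
  have hne : Ideal.span {xA} ≠ ⊤ := by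
    rw [Ne, Ideal.span_singleton_eq_top]
    intro h
    obtain ⟨b, hb⟩ := h.exists_right_inv
    have hb2 : (b : K) ∈ (Polynomial.aeval x : Polynomial k →ₐ[k] K).range := by
      rw [← Algebra.adjoin_singleton_eq_range_aeval]
      exact b.2
    obtain ⟨p, hp⟩ := hb2
    have hb' : x * (b : K) = 1 := congrArg Subtype.val hb
    rw [← show Polynomial.aeval x p = (b : K) from hp] at hb'
    refine hx ⟨Polynomial.X * p - 1, fun h0 => ?_, by simp [hb']⟩
    have := congrArg (Polynomial.eval 0) h0
    simp at this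
  obtain ⟨O, hAO, hI⟩ := Ideal.image_subset_nonunits_valuationSubring _ hne
  have hO : ∀ c : k, algebraMap k K c ∈ O := fun c =>
    hAO ((Algebra.adjoin k ({x} : Set K)).algebraMap_mem c)
  have hxm : x ∈ O.nonunits := hI ⟨xA, Ideal.subset_span rfl, rfl⟩
  obtain ⟨P, -, hP⟩ := exists_place_of_valuationSubring O hO hK
    ⟨x, hxm, fun h => hx (h ▸ isAlgebraic_zero)⟩
  exact ⟨P, hP x hxm⟩

lemma exists_pole (hK : IsFF k K) {x : K} (hx : Transcendental k x) :
    ∃ P : Place k K, 1 < P.1 x := by
  have hx0 : x ≠ 0 := fun h => hx (h ▸ isAlgebraic_zero)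
  obtain ⟨P, hP⟩ := exists_zero hK (show Transcendental k x⁻¹ from fun h => hx (by simpa using h.inv))
  refine ⟨P, ?_⟩
  rw [map_inv₀] at hP
  exact (inv_lt_one₀ (zero_lt_iff.2 (val_ne_zero P hx0))).1 hP

end Groth.Agent.FF
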