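/-
Relative quotients `B / A` of submodules and the local pieces `{v_P ≤ exp n}`.
-/
import Groth.Agent.L26.FF.Basic
import Mathlib.LinearAlgebra.Dimension.Constructions
import Mathlib.LinearAlgebra.FiniteDimensional.Basic
import Mathlib.LinearAlgebra.FiniteDimensional.Lemmas
import Mathlib.LinearAlgebra.Dimension.RankNullity
import Mathlib.LinearAlgebra.Isomorphisms

open WithZero

namespace Groth.Agent.FF

open FunFld

section RelQ

variable {k M N : Type*} [Field k] [AddCommGroup M] [Module k M] [AddCommGroup N] [Module k N]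

/-- `B / (A ∩ B)`. -/
abbrev RelQ (A B : Submodule k M) : Type _ := ↥B ⧸ Submodule.comap B.subtype A

lemma relQ_equiv {A B : Submodule k M} (f : ↥B →ₗ[k] N)
    (hker : LinearMap.ker f = Submodule.comap B.subtype A) :
    Nonempty (RelQ A B ≃ₗ[k] LinearMap.range f) :=
  ⟨(Submodule.quotEquivOfEq _ _ hker.symm).trans f.quotKerEquivRange⟩

lemma relQ_of_map {A B : Submodule k M} (f : ↥B →ₗ[k] N) [FiniteDimensional k N]
    (hker : LinearMap.ker f = Submodule.comap B.subtype A) :
    FiniteDimensional k (RelQ A B) ∧ Module.finrank k (RelQ A B) ≤ Module.finrank k N := by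
  obtain ⟨e⟩ := relQ_equiv f hker
  exact ⟨Module.Finite.equiv e.symm, e.finrank_eq.trans_le (Submodule.finrank_le _)⟩

lemma relQ_of_surj {A B : Submodule k M} (f : ↥B →ₗ[k] N) [FiniteDimensional k N]
    (hker : LinearMap.ker f = Submodule.comap B.subtype A) (hf : Function.Surjective f) :
    FiniteDimensional k (RelQ A B) ∧ Module.finrank k (RelQ A B) = Module.finrank k N := by
  obtain ⟨e⟩ := relQ_equiv f hker
  refine ⟨Module.Finite.equiv e.symm, e.finrank_eq.trans ?_⟩
  rw [LinearMap.range_eq_top.2 hf]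
  exact finrank_top k N

lemma relQ_self (A : Submodule k M) :
    FiniteDimensional k (RelQ A A) ∧ Module.finrank k (RelQ A A) = 0 := by
  have : Subsingleton (RelQ A A) := by
    rw [Submodule.Quotient.subsingleton_iff]
    simp
  exact ⟨inferInstance, Module.finrank_zero_of_subsingleton⟩

lemma relQ_add {A B C : Submodule k M} (h1 : A ≤ B) (h2 : B ≤ C)
    (f1 : FiniteDimensional k (RelQ A B)) (f2 : FiniteDimensional k (RelQ B C)) :
    FiniteDimensional k (RelQ A C) ∧
      Module.finrank k (RelQ A C) = Module.finrank k (RelQ A B) + Module.finrank k (RelQ B C) := by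
  let g : RelQ A C →ₗ[k] RelQ B C :=
    Submodule.mapQ _ _ LinearMap.id (fun x hx => h1 hx)
  have hg : Function.Surjective g := by
    intro y
    obtain ⟨x, rfl⟩ := Submodule.Quotient.mk_surjective _ y
    exact ⟨Submodule.Quotient.mk x, rfl⟩
  let f : ↥B →ₗ[k] RelQ A C := (Submodule.mkQ _).comp (Submodule.inclusion h2)
  have hker : LinearMap.ker f = Submodule.comap B.subtype A := by
    ext x
    simp [f, Submodule.Quotient.mk_eq_zero]
  obtain ⟨e⟩ := relQ_equiv f hker
  have hrange : LinearMap.range f = LinearMap.ker g := by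
    ext y
    obtain ⟨x, rfl⟩ := Submodule.Quotient.mk_surjective _ y
    constructor
    · rintro ⟨b, hb⟩
      rw [LinearMap.mem_ker, ← hb]
      show g (Submodule.Quotient.mk (Submodule.inclusion h2 b)) = 0
      rw [Submodule.mapQ_apply, LinearMap.id_apply, Submodule.Quotient.mk_eq_zero]
      exact b.2
    · intro hx
      rw [LinearMap.mem_ker] at hx
      change g (Submodule.Quotient.mk x) = 0 at hx
      rw [Submodule.mapQ_apply, LinearMap.id_apply, Submodule.Quotient.mk_eq_zero] at hx
      exact ⟨⟨(x : M), hx⟩, rfl⟩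
  let e' : RelQ A B ≃ₗ[k] LinearMap.ker g := e.trans (LinearEquiv.ofEq _ _ hrange)
  have : FiniteDimensional k (LinearMap.ker g) := Module.Finite.equiv e'
  have : FiniteDimensional k (RelQ A C ⧸ LinearMap.ker g) :=
    Module.Finite.equiv (g.quotKerEquivOfSurjective hg).symm
  have : FiniteDimensional k (RelQ A C) := Module.Finite.of_submodule_quotient (LinearMap.ker g)
  refine ⟨this, ?_⟩
  rw [← LinearMap.finrank_range_add_finrank_ker g, LinearMap.range_eq_top.2 hg, finrank_top,
    e'.finrank_eq, add_comm]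

end RelQ

variable {k K : Type*} [Field k] [Field K] [Algebra k K]

/-- `{z | v_P z ≤ exp n}` as a `k`-subspace. -/
def ball (P : Place k K) (n : ℤ) : Submodule k K where
  carrier := {z | P.1 z ≤ exp n}
  add_mem' {x y} hx hy := (P.1.map_add x y).trans (max_le hx hy)
  zero_mem' := by simp
  smul_mem' c x hx := by
    show P.1 (c • x) ≤ exp n
    rw [Algebra.smul_def, map_mul]
    exact (mul_le_mul' (P.2.1 c) hx).trans_eq (one_mul _)

lemma mem_ball {P : Place k K} {n : ℤ} {z : K} : z ∈ ball P n ↔ P.1 z ≤ exp n := Iff.rfl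

lemma ball_mono (P : Place k K) {m n : ℤ} (h : m ≤ n) : ball P m ≤ ball P n :=
  fun _ hz => (show P.1 _ ≤ exp m from hz).trans (exp_le_exp.2 h)

/-- The residue map as a `k`-linear map. -/
noncomputable def resMap (P : Place k K) : P.O →ₐ[k] IsLocalRing.ResidueField P.O where
  toRingHom := IsLocalRing.residue P.O
  commutes' _ := rfl

lemma residue_eq_zero (P : Place k K) (z : P.O) : resMap P z = 0 ↔ P.1 (z : K) < 1 := by
  show IsLocalRing.residue P.O z = 0 ↔ _
  rw [IsLocalRing.residue_eq_zero_iff, ← ValuationSubring.coe_mem_nonunits_iff]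
  rw [ValuationSubring.mem_nonunits_iff]
  exact ((Valuation.isEquiv_valuation_valuationSubring P.1).lt_one_iff_lt_one).symm

lemma ball_succ (P : Place k K) [FiniteDimensional k (IsLocalRing.ResidueField P.O)] (n : ℤ) :
    FiniteDimensional k (RelQ (ball P n) (ball P (n + 1))) ∧
      Module.finrank k (RelQ (ball P n) (ball P (n + 1))) = P.deg := by
  obtain ⟨t, ht0, ht⟩ := exists_val_eq P (-(n + 1))
  let m : ↥(ball P (n + 1)) →ₗ[k] P.O :=
    { toFun := fun z => ⟨(z : K) * t, by
        show P.1 ((z : K) * t) ≤ 1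
        rw [map_mul, ht]
        exact (mul_le_mul_left z.2 (exp (-(n + 1)))).trans_eq (by rw [← exp_add]; simp)⟩
      map_add' := fun a b => Subtype.ext (add_mul (a : K) b t)
      map_smul' := fun c a => Subtype.ext (by
        show (c • (a : K)) * t = algebraMap k K c * ((a : K) * t)
        rw [Algebra.smul_def, mul_assoc]) }
  refine relQ_of_surj ((resMap P).toLinearMap.comp m) ?_ ?_
  · ext z
    show resMap P (m z) = 0 ↔ (z : K) ∈ ball P n
    rw [residue_eq_zero, mem_ball]
    show P.1 ((z : K) * t) < 1 ↔ P.1 (z : K) ≤ exp n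
    rw [map_mul, ht, exp_neg, mul_inv_lt_iff₀ (zero_lt_iff.2 exp_ne_zero), one_mul]
    exact ⟨fun h => (le_exp_sub_one h).trans_eq (by simp), fun h => h.trans_lt (exp_lt_exp.2 (by omega))⟩
  · intro r
    obtain ⟨s, rfl⟩ := IsLocalRing.residue_surjective r
    refine ⟨⟨(s : K) / t, ?_⟩, ?_⟩
    · show P.1 ((s : K) / t) ≤ exp (n + 1)
      rw [map_div₀, ht, exp_neg, div_inv_eq_mul]
      exact (mul_le_mul_left (show P.1 (s : K) ≤ 1 from s.2) _).trans_eq (one_mul _)
    · show resMap P (m _) = _
      exact congrArg (resMap P) (Subtype.ext (div_mul_cancel₀ (s : K) ht0))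

lemma ball_quot (P : Place k K) [FiniteDimensional k (IsLocalRing.ResidueField P.O)] (n : ℤ)
    (d : ℕ) : FiniteDimensional k (RelQ (ball P n) (ball P (n + d))) ∧
      Module.finrank k (RelQ (ball P n) (ball P (n + d))) = d * P.deg := by
  induction d with
  | zero =>
    rw [Nat.cast_zero, add_zero, Nat.zero_mul]
    exact relQ_self _
  | succ d ih =>
    obtain ⟨i1, i2⟩ := ih
    obtain ⟨j1, j2⟩ := ball_succ P (n + d)
    rw [Nat.cast_succ, ← add_assoc]
    obtain ⟨a, b⟩ := relQ_add (ball_mono P (show n ≤ n + d by omega))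
      (ball_mono P (show n + d ≤ n + d + 1 by omega)) i1 j1
    exact ⟨a, by rw [b, i2, j2, Nat.succ_mul]⟩

lemma ball_quot' (P : Place k K) [FiniteDimensional k (IsLocalRing.ResidueField P.O)] {m n : ℤ}
    (h : m ≤ n) : FiniteDimensional k (RelQ (ball P m) (ball P n)) ∧
      (Module.finrank k (RelQ (ball P m) (ball P n)) : ℤ) = (n - m) * P.deg := by
  obtain ⟨d, rfl⟩ : ∃ d : ℕ, n = m + d := ⟨(n - m).toNat, by omega⟩
  obtain ⟨a, b⟩ := ball_quot P m d
  exact ⟨a, by rw [b]; push_cast; ring⟩

end Groth.Agent.FF
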