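/-
Residue fields are finite, principal divisors have degree zero, `L(D)` is finite dimensional.
-/
import Groth.Agent.L26.FF.Approx
import Groth.Agent.L26.FF.Quot
import Groth.Agent.L26.FF.Exists
import Mathlib.LinearAlgebra.Dimension.Finite
import Mathlib.LinearAlgebra.Dimension.Free
import Mathlib.RingTheory.Polynomial.Basic
import Mathlib.RingTheory.Finiteness.Subalgebra

open WithZero IntermediateField

namespace Groth.Agent.FF

open FunFld

variable {k K : Type*} [Field k] [Field K] [Algebra k K]

lemma transcendental_of_val_lt_one (P : Place k K) {x : K} (h0 : x ≠ 0) (h : P.1 x < 1) :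
    Transcendental k x := by
  refine trans_of_nonunit P.O (fun c => P.2.1 c) ?_ h0
  rw [ValuationSubring.mem_nonunits_iff]
  exact ((Valuation.isEquiv_valuation_valuationSubring P.1).lt_one_iff_lt_one).1 h

lemma ord_algebraic {x : K} (hx : IsAlgebraic k x) (P : Place k K) : P.ord x = 0 := by
  rcases eq_or_ne x 0 with rfl | h0
  · simp
  rcases lt_trichotomy (P.ord x) 0 with h | h | h
  · exact absurd hx.inv (transcendental_of_val_lt_one P (inv_ne_zero h0)
      ((val_lt_one_iff P (inv_ne_zero h0)).2 (by rw [ord_inv]; omega)))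
  · exact h
  · exact absurd hx (transcendental_of_val_lt_one P h0 ((val_lt_one_iff P h0).2 h))

lemma finite_residueField (hK : IsFF k K) (P : Place k K) :
    FiniteDimensional k (IsLocalRing.ResidueField P.O) := by
  obtain ⟨x, hx0, hx⟩ := exists_val_eq P (-1)
  have hx1 : P.1 x < 1 := by rw [hx, exp_lt_one']; norm_num
  have htr : Transcendental k x := transcendental_of_val_lt_one P hx0 hx1
  have := finite_over_adjoin hK htr
  refine Module.rank_lt_aleph0_iff.1
    (lt_of_le_of_lt (rank_le (n := Module.finrank k⟮x⟯ K) fun s hs => ?_) Cardinal.natCast_lt_aleph0)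
  choose u hu using fun r : s => IsLocalRing.residue_surjective (R := P.O) (r : IsLocalRing.ResidueField P.O)
  let e := s.equivFin
  have := card_le_finrank htr (ball P 0) (fun v hv => by
    show P.1 (x * v) ≤ exp 0
    rw [map_mul]
    exact (mul_le_mul' hx1.le hv).trans_eq (one_mul _)) (fun j => (u (e.symm j) : K))
    (fun j => (show P.1 _ ≤ 1 from (u (e.symm j)).2).trans_eq exp_zero.symm) ?_
  · exact this
  · rintro a ⟨v, hv, hsum⟩
    have h1 : resMap P (∑ j, a j • u (e.symm j)) = 0 := by
      rw [residue_eq_zero]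
      have : ((∑ j, a j • u (e.symm j) : P.O) : K) = x * v := by
        rw [AddSubmonoidClass.coe_finsetSum, ← hsum]
        exact Finset.sum_congr rfl fun j _ => (Algebra.smul_def (a j) (u (e.symm j) : K)).symm
      rw [this, map_mul]
      exact mul_lt_one_of_lt_of_le hx1 (hv.trans_eq exp_zero)
    rw [map_sum] at h1
    simp only [map_smul] at h1
    have hli := hs.comp e.symm e.symm.injective
    funext j
    refine Fintype.linearIndependent_iff.1 hli a (Eq.trans ?_ h1) j
    exact Finset.sum_congr rfl fun i _ => congrArg (a i • ·) (hu (e.symm i)).symm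

lemma one_le_deg (hK : IsFF k K) (P : Place k K) : 1 ≤ P.deg :=
  have := finite_residueField hK P
  Nat.one_le_iff_ne_zero.2 (Module.finrank_pos (R := k) (M := IsLocalRing.ResidueField P.O)).ne'

/-- The product of local quotients. -/
abbrev LocProd (S : Finset (Place k K)) (m n : Place k K → ℤ) : Type _ :=
  (P : S) → RelQ (ball P.1 (m P.1)) (ball P.1 (n P.1))

noncomputable instance locProdModule (S : Finset (Place k K)) (m n : Place k K → ℤ) :
    @Module k (LocProd S m n) _ (inferInstance : AddCommGroup (LocProd S m n)).toAddCommMonoid :=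
  show Module k ((P : S) → RelQ (ball P.1 (m P.1)) (ball P.1 (n P.1))) from
    @Pi.module _ _ k _ _
      (fun P : S => (inferInstance : Module k (RelQ (ball P.1 (m P.1)) (ball P.1 (n P.1)))))

lemma locProd_finrank (hK : IsFF k K) (S : Finset (Place k K)) (m n : Place k K → ℤ)
    (h : ∀ P, m P ≤ n P) : FiniteDimensional k (LocProd S m n) ∧
      (Module.finrank k (LocProd S m n) : ℤ) = ∑ P ∈ S, (n P - m P) * P.deg := by
  have hf : ∀ P : S, FiniteDimensional k (RelQ (ball P.1 (m P.1)) (ball P.1 (n P.1))) :=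
    fun P => (have := finite_residueField hK P.1; (ball_quot' P.1 (h P.1)).1)
  refine ⟨inferInstance, ?_⟩
  have : ∀ P : S, Module.Free k (RelQ (ball P.1 (m P.1)) (ball P.1 (n P.1))) :=
    fun P => Module.Free.of_divisionRing k _
  rw [Module.finrank_pi_fintype, Nat.cast_sum, ← Finset.sum_coe_sort S]
  exact Finset.sum_congr rfl fun P _ =>
    (have := finite_residueField hK P.1; (ball_quot' P.1 (h P.1)).2)

lemma sum_ord_le (hK : IsFF k K) {x : K} (hx : Transcendental k x)
    (S : Finset (Place k K)) (hS : ∀ P ∈ S, P.1 x < 1) :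
    ∑ P ∈ S, P.ord x * P.deg ≤ Module.finrank k⟮x⟯ K := by
  classical
  have hx0 : x ≠ 0 := fun h => hx (h ▸ isAlgebraic_zero)
  have := finite_over_adjoin hK hx
  let m : Place k K → ℤ := fun P => -max (P.ord x) 0
  have hm : ∀ P, m P ≤ 0 := fun P => by simp [m]
  obtain ⟨hfin, hdim⟩ := locProd_finrank hK S m (fun _ => 0) hm
  let V : Submodule k K := ⨅ P ∈ S, ball P 0
  have hV : ∀ {z}, z ∈ V ↔ ∀ P ∈ S, P.1 z ≤ exp 0 := by simp [V, Submodule.mem_iInf, mem_ball]
  let Φ : ↥V →ₗ[k] LocProd S m (fun _ => 0) := LinearMap.pi fun P =>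
    (Submodule.mkQ _).comp (Submodule.inclusion (iInf₂_le P.1 P.2))
  have hsurj : Function.Surjective Φ := by
    intro w
    choose z hz using fun P : S => Submodule.Quotient.mk_surjective _ (w P)
    let N : ℕ := S.sup fun P => (-m P).toNat
    obtain ⟨y, hy⟩ := approx S (fun P => if h : P ∈ S then (z ⟨P, h⟩ : K) else 0) N
    have hyP : ∀ P : S, P.1.1 (y - z P) ≤ exp (m P.1) := fun P => by
      have h1 := hy P.1 P.2
      rw [dif_pos P.2] at h1
      refine h1.trans (exp_le_exp.2 ?_)
      have h2 := Finset.le_sup (f := fun P => (-m P).toNat) P.2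
      simp only [N] at *
      omega
    have hyV : y ∈ V := hV.2 fun P hP => by
      have h1 : P.1 (y - z ⟨P, hP⟩) ≤ exp 0 := (hyP ⟨P, hP⟩).trans (exp_le_exp.2 (hm P))
      have := (P.1.map_add (y - z ⟨P, hP⟩) (z ⟨P, hP⟩ : K)).trans (max_le h1 (z ⟨P, hP⟩).2)
      rwa [sub_add_cancel] at this
    refine ⟨⟨y, hyV⟩, funext fun P => ?_⟩
    rw [← hz P]
    exact (Submodule.Quotient.eq _).2 (hyP P)
  have hxV : ∀ v ∈ V, ∀ P ∈ S, P.1 (x * v) ≤ exp (m P) := fun v hv P hP => by
    rw [map_mul, val_eq_exp P hx0]
    refine (mul_le_mul' le_rfl (hV.1 hv P hP)).trans_eq ?_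
    have := (val_lt_one_iff P hx0).1 (hS P hP)
    rw [exp_zero, mul_one]
    congr 1
    simp [m, this.le]
  let b := Module.finBasis k (LocProd S m fun _ => 0)
  choose u hu using fun i => hsurj (b i)
  have key := card_le_finrank hx V
    (fun v hv => hV.2 fun P hP => (hxV v hv P hP).trans (exp_le_exp.2 (hm P)))
    (fun i => (u i : K)) (fun i => (u i).2) ?_
  · have : ∑ P ∈ S, P.ord x * P.deg ≤ ∑ P ∈ S, ((0 : ℤ) - m P) * P.deg :=
      Finset.sum_le_sum fun P _ => mul_le_mul_of_nonneg_right (by simp [m]) (Int.natCast_nonneg _)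
    rw [← hdim] at this
    exact this.trans (by exact_mod_cast key)
  · rintro a ⟨v, hv, hsum⟩
    have h1 : Φ (∑ i, a i • u i) = 0 := by
      refine funext fun P => (Submodule.Quotient.mk_eq_zero _).2 ?_
      show ((∑ i, a i • u i : V) : K) ∈ ball P.1 (m P.1)
      rw [AddSubmonoidClass.coe_finsetSum, show (∑ i, ((a i • u i : V) : K)) = x * v from hsum]
      exact hxV v hv P.1 P.2
    rw [map_sum] at h1
    simp only [map_smul, hu] at h1
    exact funext (Fintype.linearIndependent_iff.1 b.linearIndependent a h1)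

lemma finite_zeros (hK : IsFF k K) {x : K} (hx : Transcendental k x) :
    {P : Place k K | P.1 x < 1}.Finite := by
  by_contra hinf
  have hx0 : x ≠ 0 := fun h => hx (h ▸ isAlgebraic_zero)
  obtain ⟨S, hS, hcard⟩ :=
    Set.Infinite.exists_subset_card_eq hinf (Module.finrank k⟮x⟯ K + 1)
  have h := sum_ord_le hK hx S fun P hP => hS hP
  have h2 : ∑ P ∈ S, (1 : ℤ) ≤ ∑ P ∈ S, P.ord x * P.deg := Finset.sum_le_sum fun P hP => by
    have h1 := (val_lt_one_iff P hx0).1 (hS hP)
    have h2 : (1 : ℤ) ≤ P.deg := by exact_mod_cast one_le_deg hK P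
    nlinarith
  simp only [Finset.sum_const, hcard, nsmul_eq_mul, mul_one] at h2
  push_cast at h2
  omega

lemma finite_support_ord (hK : IsFF k K) (x : K) :
    (Function.support fun P : Place k K => P.ord x).Finite := by
  by_cases hc : IsAlgebraic k x
  · simp [ord_algebraic hc]
  · have htr : Transcendental k x := hc
    have hx0 : x ≠ 0 := fun h => htr (h ▸ isAlgebraic_zero)
    have htr' : Transcendental k x⁻¹ := fun h => htr (by simpa using h.inv)
    refine ((finite_zeros hK htr).union (finite_zeros hK htr')).subset fun P hP => ?_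
    rcases lt_trichotomy (P.ord x) 0 with h | h | h
    · exact Or.inr ((val_lt_one_iff P (inv_ne_zero hx0)).2 (by rw [ord_inv]; omega))
    · exact absurd h hP
    · exact Or.inl ((val_lt_one_iff P hx0).2 h)

lemma div_apply (hK : IsFF k K) (x : K) (P : Place k K) :
    div k x P = P.ord x := by
  unfold FunFld.div
  rw [dif_pos (finite_support_ord hK x)]
  rfl

lemma div_zero' (hK : IsFF k K) : div k (0 : K) = 0 := by
  ext P; simp [div_apply hK]

lemma div_mul (hK : IsFF k K) {x y : K} (hx : x ≠ 0) (hy : y ≠ 0) :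
    div k (x * y) = div k x + div k y := by
  ext P; simp [div_apply hK, ord_mul P hx hy]

lemma div_inv (hK : IsFF k K) (x : K) : div k x⁻¹ = -div k x := by
  ext P; simp [div_apply hK, ord_inv]

lemma div_const (hK : IsFF k K) (c : k) : div k (algebraMap k K c) = 0 := by
  ext P; simp [div_apply hK, ord_const]

lemma mem_L_iff_div (hK : IsFF k K) {D : Divisor k K} {x : K} (hx : x ≠ 0) :
    x ∈ L D ↔ 0 ≤ div k x + D := by
  rw [mem_L_iff_ord hx]
  exact forall_congr' fun P => by simp [div_apply hK]

lemma L_zero (hK : IsFunctionField k K) : L (0 : Divisor k K) = 1 := by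
  apply le_antisymm
  · intro x hx
    rw [Submodule.mem_one]
    by_contra hc
    obtain ⟨P, hP⟩ := exists_pole hK.1 (transcendental_of_not_const hK hc)
    exact absurd ((hx P).trans_eq (by simp)) (not_le.2 hP)
  · rintro x hx P
    obtain ⟨c, rfl⟩ := Submodule.mem_one.1 hx
    exact (P.2.1 c).trans_eq (by simp)

lemma relQ_AD (hK : IsFF k K) {D E : Divisor k K} (h : D ≤ E) :
    FiniteDimensional k (RelQ (AD D) (AD E)) ∧
      (Module.finrank k (RelQ (AD D) (AD E)) : ℤ) = E.deg - D.deg := by
  classical
  let S := D.support ∪ E.support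
  obtain ⟨hfin, hdim⟩ := locProd_finrank hK S D E h
  let Φ : ↥(AD E) →ₗ[k] LocProd S D E := LinearMap.pi fun P =>
    (Submodule.mkQ _).comp
      (((LinearMap.proj (R := k) (φ := fun _ : Place k K => K) P.1).domRestrict (AD E)).codRestrict
        (ball P.1 (E P.1)) fun a => a.2 P.1)
  have hker : LinearMap.ker Φ = Submodule.comap (AD E).subtype (AD D) := by
    ext a
    constructor
    · intro ha P
      by_cases hP : P ∈ S
      · exact (Submodule.Quotient.mk_eq_zero _).1 (congrFun (LinearMap.mem_ker.1 ha) ⟨P, hP⟩)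
      · simp only [S, Finset.mem_union, Finsupp.mem_support_iff, not_or, not_not] at hP
        have := a.2 P
        rw [hP.2] at this
        rw [hP.1]
        exact this
    · intro ha
      exact LinearMap.mem_ker.2 (funext fun P => (Submodule.Quotient.mk_eq_zero _).2 (ha P.1))
  have hsurj : Function.Surjective Φ := by
    intro w
    choose z hz using fun P : S => Submodule.Quotient.mk_surjective _ (w P)
    refine ⟨⟨fun P => if hP : P ∈ S then (z ⟨P, hP⟩ : K) else 0, fun P => ?_⟩, funext fun P => ?_⟩
    · dsimp only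
      split_ifs with hP
      · exact (z ⟨P, hP⟩).2
      · simp
    · refine Eq.trans ?_ (hz P)
      exact congrArg Submodule.Quotient.mk (Subtype.ext (dif_pos P.2))
  obtain ⟨a, b⟩ := relQ_of_surj Φ hker hsurj
  refine ⟨a, ?_⟩
  rw [b, hdim, deg_eq_sum (s := S) Finset.subset_union_right,
    deg_eq_sum (s := S) Finset.subset_union_left, ← Finset.sum_sub_distrib]
  exact Finset.sum_congr rfl fun P _ => sub_mul _ _ _

lemma relQ_L (hK : IsFF k K) {D E : Divisor k K} (h : D ≤ E) :
    FiniteDimensional k (RelQ (L D) (L E)) ∧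
      (Module.finrank k (RelQ (L D) (L E)) : ℤ) ≤ E.deg - D.deg := by
  obtain ⟨hf, hd⟩ := relQ_AD hK h
  let f : ↥(L E) →ₗ[k] RelQ (AD D) (AD E) :=
    (Submodule.mkQ _).comp (((diag k K).domRestrict (L E)).codRestrict (AD E) fun x => x.2)
  obtain ⟨a, b⟩ := relQ_of_map (A := L D) f (by
    ext x
    exact LinearMap.mem_ker.trans (Submodule.Quotient.mk_eq_zero _))
  exact ⟨a, by rw [← hd]; exact_mod_cast b⟩

lemma isAlgebraic_of_mem_L_zero (hK : IsFF k K) {x : K} (hx : x ∈ L (0 : Divisor k K)) :
    IsAlgebraic k x := by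
  by_contra hc
  obtain ⟨P, hP⟩ := exists_pole hK hc
  exact absurd ((hx P).trans_eq (by simp)) (not_le.2 hP)

lemma finite_L_zero (hK : IsFF k K) : FiniteDimensional k (L (0 : Divisor k K)) ∧
    ∃ P : Place k K, ell (0 : Divisor k K) ≤ P.deg := by
  obtain ⟨x, hx, -⟩ := id hK
  obtain ⟨P, -⟩ := exists_zero hK hx
  have := finite_residueField hK P
  let f : ↥(L (0 : Divisor k K)) →ₗ[k] IsLocalRing.ResidueField P.O :=
    (resMap P).toLinearMap.comp
      ({ toFun := fun z => ⟨(z : K), (z.2 P).trans_eq (by simp)⟩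
         map_add' := fun a b => rfl
         map_smul' := fun c a => Subtype.ext (by
           show c • (a : K) = algebraMap k K c * (a : K)
           exact Algebra.smul_def c (a : K)) } : ↥(L (0 : Divisor k K)) →ₗ[k] P.O)
  have hf : Function.Injective f := by
    refine (injective_iff_map_eq_zero f).2 fun z hz => Subtype.ext (by_contra fun h0 => ?_)
    exact transcendental_of_val_lt_one P h0 ((residue_eq_zero P _).1 hz)
      (isAlgebraic_of_mem_L_zero hK z.2)
  exact ⟨FiniteDimensional.of_injective f hf, P, LinearMap.finrank_le_finrank_of_injective hf⟩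

lemma finite_L (hK : IsFF k K) (D : Divisor k K) : FiniteDimensional k (L D) := by
  have h0 : FiniteDimensional k (L (0 : Divisor k K)) := (finite_L_zero hK).1
  have hle : (0 : Divisor k K) ≤ D ⊔ 0 := le_sup_right
  have := (relQ_L hK hle).1
  have : FiniteDimensional k (Submodule.comap (L (D ⊔ 0)).subtype (L (0 : Divisor k K))) :=
    Module.Finite.equiv (Submodule.comapSubtypeEquivOfLe (L_mono hle)).symm
  have : FiniteDimensional k (L (D ⊔ 0)) :=
    Module.Finite.of_submodule_quotient (Submodule.comap (L (D ⊔ 0)).subtype (L (0 : Divisor k K)))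
  exact Submodule.finiteDimensional_of_le (L_mono (E := D ⊔ 0) le_sup_left)

lemma ell_eq_add (hK : IsFF k K) {D E : Divisor k K} (h : D ≤ E) :
    ell E = ell D + Module.finrank k (RelQ (L D) (L E)) := by
  have := finite_L hK E
  have e := Submodule.finrank_quotient_add_finrank (Submodule.comap (L E).subtype (L D))
  rw [(Submodule.comapSubtypeEquivOfLe (L_mono h)).finrank_eq] at e
  rw [ell, ell, ← e]
  exact add_comm _ _

lemma ell_sub_le (hK : IsFF k K) {D E : Divisor k K} (h : D ≤ E) :
    (ell E : ℤ) - ell D ≤ E.deg - D.deg := by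
  rw [ell_eq_add hK h]
  have := (relQ_L hK h).2
  push_cast
  linarith

lemma ell_mono (hK : IsFF k K) {D E : Divisor k K} (h : D ≤ E) : ell D ≤ ell E := by
  rw [ell_eq_add hK h]; exact Nat.le_add_right _ _

lemma ell_le_deg_add (hK : IsFF k K) {D : Divisor k K} (h : 0 ≤ D) {P : Place k K}
    (hP : ell (0 : Divisor k K) ≤ P.deg) : (ell D : ℤ) ≤ D.deg + P.deg := by
  have h1 := ell_sub_le hK h
  rw [deg_zero, sub_zero] at h1
  omega

lemma ell_zero (hK : IsFunctionField k K) : ell (0 : Divisor k K) = 1 := by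
  rw [ell, L_zero hK, Submodule.one_eq_range,
    LinearMap.finrank_range_of_inj (f := Algebra.linearMap k K) (algebraMap k K).injective,
    Module.finrank_self]

lemma ell_le_deg_add_one (hK : IsFunctionField k K) {D : Divisor k K} (h : 0 ≤ D) :
    (ell D : ℤ) ≤ D.deg + 1 := by
  have := ell_sub_le hK.1 h
  rw [ell_zero hK, deg_zero] at this
  push_cast at this
  linarith

/-- The divisor of poles. -/
noncomputable def poles (k : Type*) {K : Type*} [Field k] [Field K] [Algebra k K] (x : K) :
    Divisor k K := (-div k x) ⊔ 0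

lemma poles_nonneg (x : K) : (0 : Divisor k K) ≤ poles k x := le_sup_right

lemma poles_apply (hK : IsFF k K) (x : K) (P : Place k K) :
    poles k x P = max (-P.ord x) 0 := by simp [poles, div_apply hK]

lemma val_le_poles (hK : IsFF k K) (x : K) (P : Place k K) :
    P.1 x ≤ exp (poles k x P) := by
  rcases eq_or_ne x 0 with rfl | hx
  · simp
  rw [val_eq_exp P hx, exp_le_exp, poles_apply hK]
  exact le_max_left _ _

lemma deg_nsmul (D : Divisor k K) (l : ℕ) : (l • D).deg = l * D.deg := by
  induction l with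
  | zero => simp [deg_zero]
  | succ l ih => rw [succ_nsmul, deg_add, ih]; push_cast; ring

lemma deg_sum {ι : Type*} (s : Finset ι) (f : ι → Divisor k K) :
    (∑ i ∈ s, f i).deg = ∑ i ∈ s, (f i).deg := by
  classical
  induction s using Finset.induction with
  | empty => simp [deg_zero]
  | insert a s ha ih => rw [Finset.sum_insert ha, Finset.sum_insert ha, deg_add, ih]

lemma adjoin_inv_eq {x : K} : k⟮x⁻¹⟯ = k⟮x⟯ := by
  apply le_antisymm <;> rw [adjoin_simple_le_iff]
  · exact inv_mem (mem_adjoin_simple_self k x)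
  · simpa using inv_mem (mem_adjoin_simple_self k x⁻¹)

lemma finrank_adjoin_congr {F G : IntermediateField k K} (h : F = G) :
    Module.finrank F K = Module.finrank G K := by subst h; rfl

lemma exists_big_ell (hK : IsFF k K) {x : K} (hx : Transcendental k x) :
    ∃ C : Divisor k K, 0 ≤ C ∧
      ∀ l : ℕ, (l + 1) * Module.finrank k⟮x⟯ K ≤ ell (l • poles k x + C) := by
  have := finite_over_adjoin hK hx
  let b := Module.finBasis k⟮x⟯ K
  refine ⟨∑ i, poles k (b i), Finset.sum_nonneg fun i _ => poles_nonneg _, fun l => ?_⟩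
  have := finite_L hK (l • poles k x + ∑ i, poles k (b i))
  let T : (Fin (Module.finrank k⟮x⟯ K) → Polynomial.degreeLT k (l + 1)) →ₗ[k] K :=
    { toFun := fun φ => ∑ i, Polynomial.aeval x (φ i : Polynomial k) * b i
      map_add' := fun φ ψ => by simp [add_mul, Finset.sum_add_distrib]
      map_smul' := fun c φ => by simp [Finset.smul_sum] }
  have hT : ∀ φ, T φ ∈ L (l • poles k x + ∑ i, poles k (b i)) := fun φ P => by
    show P.1 (∑ i, Polynomial.aeval x (φ i : Polynomial k) * b i) ≤ _
    refine P.1.map_sum_le fun i _ => ?_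
    rw [map_mul, Finsupp.add_apply, exp_add]
    refine mul_le_mul' ?_ ((val_le_poles hK (b i) P).trans (exp_le_exp.2
      (Finset.single_le_sum (f := fun j => poles k (b j)) (fun j _ => poles_nonneg _)
        (Finset.mem_univ i) P)))
    have hp : (φ i : Polynomial k).natDegree ≤ l := by
      by_cases h0 : (φ i : Polynomial k) = 0
      · simp [h0]
      · have := Polynomial.mem_degreeLT.1 (φ i).2
        rw [Polynomial.degree_eq_natDegree h0] at this
        have := WithBot.coe_lt_coe.1 this
        exact Nat.lt_succ_iff.1 this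
    rw [Polynomial.aeval_eq_sum_range' (Nat.lt_succ_of_le hp)]
    refine P.1.map_sum_le fun j hj => ?_
    rw [Algebra.smul_def, map_mul, map_pow]
    refine (mul_le_mul' (P.2.1 _) (pow_le_pow_left₀ zero_le (val_le_poles hK x P) j)).trans ?_
    rw [one_mul, ← exp_nsmul, exp_le_exp, Finsupp.smul_apply]
    exact nsmul_le_nsmul_left (poles_nonneg x P) (Nat.lt_succ_iff.1 (Finset.mem_range.1 hj))
  have hinj : Function.Injective (T.codRestrict _ hT) := by
    rw [← LinearMap.ker_eq_bot, LinearMap.ker_eq_bot']
    intro φ hφ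
    have h1 : ∑ i, Polynomial.aeval (⟨x, mem_adjoin_simple_self k x⟩ : k⟮x⟯) (φ i : Polynomial k) • b i = 0 := by
      refine Eq.trans (Finset.sum_congr rfl fun i _ => ?_) (congrArg Subtype.val hφ)
      show ((Polynomial.aeval _ (φ i : Polynomial k) : k⟮x⟯) : K) * b i = _
      rw [Polynomial.aeval_subalgebra_coe]
    funext i
    have := Fintype.linearIndependent_iff.1 b.linearIndependent _ h1 i
    have h2 : Polynomial.aeval x (φ i : Polynomial k) = 0 := by
      have := congrArg Subtype.val this
      rwa [Polynomial.aeval_subalgebra_coe] at this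
    exact Subtype.ext (transcendental_iff_injective.1 hx (h2.trans (map_zero _).symm))
  have : Module.Finite k (Polynomial.degreeLT k (l + 1)) :=
    Module.Finite.equiv (Polynomial.degreeLTEquiv k (l + 1)).symm
  have := LinearMap.finrank_le_finrank_of_injective hinj
  rw [Module.finrank_pi_fintype, Finset.sum_const, Finset.card_univ, Fintype.card_fin,
    (Polynomial.degreeLTEquiv k (l + 1)).finrank_eq, Module.finrank_fin_fun, smul_eq_mul] at this
  rw [mul_comm]
  exact this

lemma deg_poles (hK : IsFF k K) {x : K} (hx : Transcendental k x) :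
    (poles k x).deg = Module.finrank k⟮x⟯ K := by
  have hx0 : x ≠ 0 := fun h => hx (h ▸ isAlgebraic_zero)
  have htr' : Transcendental k x⁻¹ := fun h => hx (by simpa using h.inv)
  apply le_antisymm
  · have hS : ∀ P ∈ (poles k x).support, P.1 x⁻¹ < 1 := fun P hP => by
      rw [Finsupp.mem_support_iff, poles_apply hK] at hP
      rw [val_lt_one_iff P (inv_ne_zero hx0), ord_inv]
      omega
    have := sum_ord_le hK htr' (poles k x).support hS
    rw [finrank_adjoin_congr (adjoin_inv_eq (k := k) (x := x))] at this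
    refine le_trans (le_of_eq ?_) this
    rw [deg_eq_sum (Finset.Subset.refl _)]
    refine Finset.sum_congr rfl fun P hP => ?_
    have := (val_lt_one_iff P (inv_ne_zero hx0)).1 (hS P hP)
    rw [ord_inv] at this ⊢
    rw [poles_apply hK, max_eq_left this.le]
  · obtain ⟨C, hC, h⟩ := exists_big_ell hK hx
    by_contra hlt
    push Not at hlt
    obtain ⟨-, P₀, hP₀⟩ := finite_L_zero hK
    let l := C.deg.toNat + P₀.deg
    have h1 := h l
    have h2 := ell_le_deg_add hK (add_nonneg (nsmul_nonneg (poles_nonneg x) l) hC) hP₀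
    rw [deg_add, deg_nsmul] at h2
    have h3 : ((l : ℤ) + 1) * Module.finrank k⟮x⟯ K ≤ l * (poles k x).deg + C.deg + P₀.deg :=
      le_trans (by exact_mod_cast h1) h2
    have h4 : 0 ≤ C.deg := deg_nonneg hC
    have h5 : (l : ℤ) = C.deg + P₀.deg := by simp only [l]; push_cast; omega
    have h6 : (0 : ℤ) ≤ (poles k x).deg := deg_nonneg (poles_nonneg x)
    nlinarith

lemma div_eq_poles (hK : IsFF k K) (x : K) :
    div k x = poles k x⁻¹ - poles k x := by
  ext P
  rw [Finsupp.sub_apply, poles_apply hK, poles_apply hK, div_apply hK, ord_inv]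
  omega

lemma deg_div (hK : IsFF k K) (x : K) : (div k x).deg = 0 := by
  by_cases hc : IsAlgebraic k x
  · rw [show div k x = 0 from Finsupp.ext fun P => by simp [div_apply hK, ord_algebraic hc],
      deg_zero]
  · have htr : Transcendental k x := hc
    have htr' : Transcendental k x⁻¹ := fun h => htr (by simpa using h.inv)
    rw [div_eq_poles hK, deg_sub, deg_poles hK htr, deg_poles hK htr',
      finrank_adjoin_congr (adjoin_inv_eq (k := k) (x := x)), sub_self]

lemma L_eq_bot_of_deg_neg (hK : IsFF k K) {D : Divisor k K} (h : D.deg < 0) :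
    L D = ⊥ := by
  refine (Submodule.eq_bot_iff _).2 fun x hx => by_contra fun hx0 => ?_
  have := deg_nonneg ((mem_L_iff_div hK hx0).1 hx)
  rw [deg_add, deg_div hK] at this
  omega

end Groth.Agent.FF
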