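/-
Riemann's inequality, the adele quotient and the genus.
-/
import Groth.Agent.L26.FF.Degree

open WithZero IntermediateField

namespace Groth.Agent.FF

open FunFld

variable {k K : Type*} [Field k] [Field K] [Algebra k K]

/-- `δ(D) = deg D + 1 - ℓ(D)`. -/
noncomputable def delta (D : Divisor k K) : ℤ := D.deg + 1 - (ell D : ℤ)

lemma delta_zero (hK : IsFunctionField k K) : delta (0 : Divisor k K) = 0 := by
  rw [delta, ell_zero hK, deg_zero]; norm_num

lemma delta_mono (hK : IsFunctionField k K) {D E : Divisor k K} (h : D ≤ E) : delta D ≤ delta E := by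
  have := ell_sub_le hK.1 h
  simp only [delta]
  linarith

lemma mem_L_mul (hK : IsFunctionField k K) {D E : Divisor k K} {x y : K} (hx : x ∈ L D)
    (hy : y ∈ L E) : x * y ∈ L (D + E) := fun P => by
  rw [map_mul, Finsupp.add_apply, exp_add]
  exact mul_le_mul' (hx P) (hy P)

lemma self_mem_L_neg_div (hK : IsFunctionField k K) (z : K) : z ∈ L (-div k z) := fun P => by
  rcases eq_or_ne z 0 with rfl | hz
  · simp
  rw [Finsupp.neg_apply, div_apply hK.1, val_eq_exp P hz]

lemma ell_add_div (hK : IsFunctionField k K) (D : Divisor k K) {z : K} (hz : z ≠ 0) :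
    ell (D + div k z) = ell D := by
  refine LinearEquiv.finrank_eq
    { toFun := fun y => ⟨(y : K) * z, ?_⟩
      invFun := fun y => ⟨(y : K) * z⁻¹, ?_⟩
      map_add' := fun a b => Subtype.ext (add_mul _ _ _)
      map_smul' := fun c a => Subtype.ext (smul_mul_assoc c (a : K) z)
      left_inv := fun y => Subtype.ext (mul_inv_cancel_right₀ hz (y : K))
      right_inv := fun y => Subtype.ext (inv_mul_cancel_right₀ hz (y : K)) }
  · simpa using mem_L_mul hK y.2 (self_mem_L_neg_div hK z)
  · simpa [div_inv hK.1] using mem_L_mul hK y.2 (self_mem_L_neg_div hK z⁻¹)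

lemma delta_add_div (hK : IsFunctionField k K) (D : Divisor k K) {z : K} (hz : z ≠ 0) :
    delta (D + div k z) = delta D := by
  rw [delta, delta, ell_add_div hK D hz, deg_add, deg_div hK.1, add_zero]

lemma exists_ne_zero_of_ell_pos {D : Divisor k K} (h : 0 < ell D) : ∃ z ∈ L D, z ≠ 0 := by
  by_contra hc
  push Not at hc
  have : L D = ⊥ := (Submodule.eq_bot_iff _).2 hc
  rw [ell, this, finrank_bot] at h
  exact lt_irrefl _ h

lemma exists_transcendental (hK : IsFunctionField k K) : ∃ x : K, Transcendental k x :=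
  hK.1.imp fun _ h => h.1

lemma nonempty_place (hK : IsFunctionField k K) : Nonempty (Place k K) := by
  obtain ⟨x, hx⟩ := exists_transcendental hK
  exact ⟨(exists_zero hK.1 hx).choose⟩

lemma delta_bdd (hK : IsFunctionField k K) : ∃ γ : ℤ, ∀ D : Divisor k K, delta D ≤ γ := by
  obtain ⟨x, hx⟩ := exists_transcendental hK
  have := finite_over_adjoin hK.1 hx
  obtain ⟨C, hC, hC'⟩ := exists_big_ell hK.1 hx
  let n := Module.finrank k⟮x⟯ K
  have hn : 0 < n := Module.finrank_pos
  refine ⟨C.deg + 1 - n, fun A => ?_⟩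
  have h1 : ∀ l : ℕ, delta (l • poles k x) ≤ C.deg + 1 - n := fun l => by
    refine (delta_mono hK (le_add_of_nonneg_right hC)).trans ?_
    have h2 : ((l : ℤ) + 1) * n ≤ (ell (l • poles k x + C) : ℤ) := by exact_mod_cast hC' l
    rw [delta, deg_add, deg_nsmul, deg_poles hK.1 hx]
    linarith
  let A1 := A ⊔ 0
  let l := (C.deg + 1 - n + A1.deg).toNat
  have h3 := h1 l
  have h4 := ell_sub_le hK.1 (sub_le_self (l • poles k x) (show (0 : Divisor k K) ≤ A1 from le_sup_right))
  rw [deg_sub] at h4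
  rw [delta, deg_nsmul, deg_poles hK.1 hx] at h3
  have h5 : (0 : ℤ) < ell (l • poles k x - A1) := by
    have h6 : C.deg + 1 - n + A1.deg ≤ l := Int.self_le_toNat _
    have h7 : (l : ℤ) ≤ l * n := le_mul_of_one_le_right (Int.natCast_nonneg _) (by exact_mod_cast hn)
    simp only [n] at h6 h7 ⊢
    linarith
  obtain ⟨z, hz, hz0⟩ := exists_ne_zero_of_ell_pos (by exact_mod_cast h5)
  have h8 : A1 ≤ l • poles k x + div k z := fun P => by
    have := (mem_L_iff_div hK.1 hz0).1 hz P
    simp only [Finsupp.add_apply, Finsupp.sub_apply, Finsupp.zero_apply] at this ⊢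
    linarith
  calc delta A ≤ delta A1 := delta_mono hK le_sup_left
    _ ≤ delta (l • poles k x + div k z) := delta_mono hK h8
    _ = delta (l • poles k x) := delta_add_div hK _ hz0
    _ ≤ _ := h1 l

lemma delta_le_genus (hK : IsFunctionField k K) (D : Divisor k K) : delta D ≤ genus k K := by
  obtain ⟨γ, hγ⟩ := delta_bdd hK
  have hb : BddAbove (Set.range fun D : Divisor k K => (D.deg + 1 - (ell D : ℤ)).toNat) :=
    ⟨γ.toNat, fun _ ⟨E, hE⟩ => hE ▸ Int.toNat_le_toNat (hγ E)⟩
  have h : (D.deg + 1 - (ell D : ℤ)).toNat ≤ genus k K := le_csSup hb ⟨D, rfl⟩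
  simp only [delta]
  omega

lemma exists_delta_eq_genus (hK : IsFunctionField k K) : ∃ D : Divisor k K, delta D = genus k K := by
  obtain ⟨γ, hγ⟩ := delta_bdd hK
  have hb : BddAbove (Set.range fun D : Divisor k K => (D.deg + 1 - (ell D : ℤ)).toNat) :=
    ⟨γ.toNat, fun _ ⟨E, hE⟩ => hE ▸ Int.toNat_le_toNat (hγ E)⟩
  obtain ⟨D, hD⟩ : genus k K ∈ Set.range fun D : Divisor k K => (D.deg + 1 - (ell D : ℤ)).toNat :=
    Nat.sSup_mem ⟨_, 0, rfl⟩ hb
  have hD' : (delta D).toNat = genus k K := hD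
  rcases Nat.eq_zero_or_pos (genus k K) with h | h
  · exact ⟨0, by rw [delta_zero hK, h]; rfl⟩
  · exact ⟨D, by omega⟩

lemma riemann (hK : IsFunctionField k K) :
    ∃ N : ℤ, ∀ D : Divisor k K, N ≤ D.deg → delta D = genus k K := by
  obtain ⟨A, hA⟩ := exists_delta_eq_genus hK
  refine ⟨A.deg + genus k K, fun D hD => le_antisymm (delta_le_genus hK D) ?_⟩
  have h1 := delta_le_genus hK (D - A)
  rw [delta, deg_sub] at h1
  obtain ⟨z, hz, hz0⟩ := exists_ne_zero_of_ell_pos (D := D - A) (by omega)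
  have h2 : A ≤ D + div k z := fun P => by
    have := (mem_L_iff_div hK.1 hz0).1 hz P
    simp only [Finsupp.add_apply, Finsupp.sub_apply, Finsupp.zero_apply] at this ⊢
    linarith
  rw [← hA, ← delta_add_div hK D hz0]
  exact delta_mono hK h2

lemma exists_ge_deg (hK : IsFunctionField k K) (D : Divisor k K) (N : ℤ) :
    ∃ E, D ≤ E ∧ N ≤ E.deg := by
  obtain ⟨P⟩ := nonempty_place hK
  refine ⟨D + Finsupp.single P (max 0 (N - D.deg)),
    le_add_of_nonneg_right (Finsupp.single_nonneg.2 (le_max_left _ _)), ?_⟩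
  rw [deg_add, deg_single]
  have h1 : (1 : ℤ) ≤ P.deg := by exact_mod_cast one_le_deg hK.1 P
  have h2 : max 0 (N - D.deg) ≤ max 0 (N - D.deg) * (P.deg : ℤ) :=
    le_mul_of_one_le_right (le_max_left _ _) h1
  have h3 := le_max_right 0 (N - D.deg)
  linarith

variable (k K) in
/-- The diagonal copy of `K`. -/
abbrev KR : Submodule k (Place k K → K) := LinearMap.range (diag k K)

lemma relQ_ADK (hK : IsFunctionField k K) {D E : Divisor k K} (h : D ≤ E) :
    FiniteDimensional k (RelQ (AD D ⊔ KR k K) (AD E ⊔ KR k K)) ∧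
      (Module.finrank k (RelQ (AD D ⊔ KR k K) (AD E ⊔ KR k K)) : ℤ) = delta E - delta D := by
  let M : Submodule k (Place k K → K) := AD D ⊔ Submodule.map (diag k K) (L E)
  have hDM : AD D ≤ M := le_sup_left
  have hME : M ≤ AD E := sup_le (AD_mono h) (Submodule.map_le_iff_le_comap.2 fun x hx => hx)
  have hinj : ∀ x y : K, diag k K x = diag k K y → x = y := by
    intro x y hxy
    obtain ⟨P⟩ := nonempty_place hK
    exact congrFun hxy P
  let f : ↥(L E) →ₗ[k] RelQ (AD D) M :=
    (Submodule.mkQ _).comp (((diag k K).domRestrict (L E)).codRestrict M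
      fun x => Submodule.mem_sup_right ⟨x, x.2, rfl⟩)
  have hf : Function.Surjective f := by
    intro y
    obtain ⟨⟨m, hm⟩, rfl⟩ := Submodule.Quotient.mk_surjective _ y
    obtain ⟨a, ha, b, ⟨x, hx, rfl⟩, rfl⟩ := Submodule.mem_sup.1 hm
    refine ⟨⟨x, hx⟩, (Submodule.Quotient.eq _).2 ?_⟩
    show diag k K x - (a + diag k K x) ∈ AD D
    simpa using neg_mem ha
  obtain ⟨e1⟩ := relQ_equiv (A := L D) f (by
    ext x
    exact LinearMap.mem_ker.trans (Submodule.Quotient.mk_eq_zero _))
  have f1 := (relQ_L hK.1 h).1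
  rw [LinearMap.range_eq_top.2 hf] at e1
  let e1' := e1.trans Submodule.topEquiv
  have fDM : FiniteDimensional k (RelQ (AD D) M) := Module.Finite.equiv e1'
  have fDE := (relQ_AD hK.1 h).1
  have fME : FiniteDimensional k (RelQ M (AD E)) := by
    refine Module.Finite.of_surjective (Submodule.mapQ _ _ LinearMap.id
      (fun x hx => hDM hx) : RelQ (AD D) (AD E) →ₗ[k] RelQ M (AD E)) fun y => ?_
    obtain ⟨x, rfl⟩ := Submodule.Quotient.mk_surjective _ y
    exact ⟨Submodule.Quotient.mk x, rfl⟩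
  have hadd := (relQ_add hDM hME fDM fME).2
  let g : ↥(AD E) →ₗ[k] RelQ (AD D ⊔ KR k K) (AD E ⊔ KR k K) :=
    (Submodule.mkQ _).comp (Submodule.inclusion le_sup_left)
  have hg : Function.Surjective g := by
    intro y
    obtain ⟨⟨m, hm⟩, rfl⟩ := Submodule.Quotient.mk_surjective _ y
    obtain ⟨a, ha, b, hb, rfl⟩ := Submodule.mem_sup.1 hm
    refine ⟨⟨a, ha⟩, (Submodule.Quotient.eq _).2 ?_⟩
    show a - (a + b) ∈ AD D ⊔ KR k K
    exact Submodule.mem_sup_right (by simpa using neg_mem hb)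
  obtain ⟨e2⟩ := relQ_equiv (A := M) g (by
    ext a
    refine LinearMap.mem_ker.trans ((Submodule.Quotient.mk_eq_zero _).trans ?_)
    constructor
    · intro ha
      obtain ⟨d, hd, b, ⟨x, rfl⟩, hadd⟩ := Submodule.mem_sup.1 (show (a : Place k K → K) ∈ AD D ⊔ KR k K from ha)
      have hx : x ∈ L E := by
        rw [← diag_mem_AD, eq_sub_of_add_eq' hadd]
        exact sub_mem a.2 (AD_mono h hd)
      show (a : Place k K → K) ∈ M
      rw [← hadd]
      exact Submodule.add_mem_sup hd ⟨x, hx, rfl⟩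
    · intro ha
      exact (sup_le_sup le_rfl (LinearMap.map_le_range (f := diag k K))) ha)
  rw [LinearMap.range_eq_top.2 hg] at e2
  let e2' := e2.trans Submodule.topEquiv
  refine ⟨Module.Finite.equiv e2', ?_⟩
  have h1 := (relQ_AD hK.1 h).2
  have h2 := ell_eq_add hK.1 h
  rw [← e2'.finrank_eq]
  rw [hadd, ← e1'.finrank_eq] at h1
  push_cast at h1
  simp only [delta, h2]
  push_cast
  linarith

lemma AD_le_adele (D : Divisor k K) : AD D ≤ adele k K := fun a ha => by
  refine Filter.eventually_cofinite.2 (D.support.finite_toSet.subset fun P hP => ?_)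
  by_contra h
  have := ha P
  rw [Finsupp.notMem_support_iff.1 h] at this
  exact hP this

lemma exists_mem_AD {a : Place k K → K} (ha : a ∈ adele k K) : ∃ D : Divisor k K, a ∈ AD D := by
  have hfin : (Function.support fun P : Place k K => max 0 (log (P.1 (a P)))).Finite := by
    refine (Filter.eventually_cofinite.1 ha).subset fun P hP h => hP ?_
    show max 0 (log (P.1 (a P))) = 0
    rw [max_eq_left]
    rcases eq_or_ne (P.1 (a P)) 0 with h0 | h0
    · rw [h0, log_zero]
    · rw [log_le_iff_le_exp h0]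
      exact h.trans_eq exp_zero.symm
  exact ⟨Finsupp.ofSupportFinite _ hfin,
    fun P => le_exp_log.trans (exp_le_exp.2 (le_max_right 0 _))⟩

lemma diag_mem_adele (hK : IsFunctionField k K) (x : K) : diag k K x ∈ adele k K := by
  refine AD_le_adele (poles k x) ?_
  exact fun P => val_le_poles hK.1 x P

lemma KR_le_adele (hK : IsFunctionField k K) : KR k K ≤ adele k K := by
  rintro _ ⟨x, rfl⟩
  exact diag_mem_adele hK x

lemma sup_eq_adele (hK : IsFunctionField k K) {D : Divisor k K} (hD : delta D = genus k K) :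
    AD D ⊔ KR k K = adele k K := by
  refine le_antisymm (sup_le (AD_le_adele D) (KR_le_adele hK)) fun a ha => ?_
  obtain ⟨E, hE⟩ := exists_mem_AD ha
  obtain ⟨h1, h2⟩ := relQ_ADK hK (D := D) (E := D ⊔ E) le_sup_left
  have h3 : delta (D ⊔ E) = genus k K :=
    le_antisymm (delta_le_genus hK _) (hD ▸ delta_mono hK le_sup_left)
  rw [h3, hD, sub_self] at h2
  have : Subsingleton (RelQ (AD D ⊔ KR k K) (AD (D ⊔ E) ⊔ KR k K)) :=
    Module.finrank_zero_iff.1 (by exact_mod_cast h2)
  have hmem : a ∈ AD (D ⊔ E) ⊔ KR k K :=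
    Submodule.mem_sup_left (AD_mono le_sup_right hE)
  exact (Submodule.Quotient.mk_eq_zero (Submodule.comap (AD (D ⊔ E) ⊔ KR k K).subtype
    (AD D ⊔ KR k K)) (x := ⟨a, hmem⟩)).1 (Subsingleton.elim _ _)

lemma adele_quotient (hK : IsFunctionField k K) (D : Divisor k K) :
    FiniteDimensional k (↥(adele k K) ⧸ ADK D) ∧
      (Module.finrank k (↥(adele k K) ⧸ ADK D) : ℤ) = genus k K - delta D := by
  obtain ⟨N, hN⟩ := riemann hK
  obtain ⟨E, hDE, hE⟩ := exists_ge_deg hK D N
  have h := relQ_ADK hK hDE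
  rw [hN E hE, sup_eq_adele hK (hN E hE)] at h
  exact h

end Groth.Agent.FF
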