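/-
Weil differentials, the Riemann–Roch theorem and strong approximation.
-/
import Groth.Agent.L26.FF.Riemann
import Mathlib.LinearAlgebra.Dual.Lemmas

open WithZero IntermediateField

namespace Groth.Agent.FF

open FunFld

variable {k K : Type*} [Field k] [Field K] [Algebra k K]

lemma finrank_WD (hK : IsFunctionField k K) (D : Divisor k K) :
    FiniteDimensional k (WD D) ∧
      (Module.finrank k (WD D) : ℤ) = genus k K - delta D := by
  obtain ⟨h1, h2⟩ := adele_quotient hK D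
  let e := (ADK D).dualQuotEquivDualAnnihilator
  exact ⟨Module.Finite.equiv e, by rw [← h2, WD, ← e.finrank_eq, Subspace.dual_finrank_eq]⟩

lemma mem_WD {D : Divisor k K} {ω : Module.Dual k (adele k K)} :
    ω ∈ WD D ↔ ∀ a : adele k K, (a : Place k K → K) ∈ AD D ⊔ KR k K → ω a = 0 :=
  Submodule.mem_dualAnnihilator ω

lemma mem_WD_iff (hK : IsFunctionField k K) {D : Divisor k K} {ω : Module.Dual k (adele k K)} :
    ω ∈ WD D ↔ (∀ a : adele k K, (a : Place k K → K) ∈ AD D → ω a = 0) ∧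
      ∀ a : adele k K, (a : Place k K → K) ∈ KR k K → ω a = 0 := by
  rw [mem_WD]
  refine ⟨fun h => ⟨fun a ha => h a (Submodule.mem_sup_left ha),
    fun a ha => h a (Submodule.mem_sup_right ha)⟩, fun h a ha => ?_⟩
  obtain ⟨b, hb, c, hc, hbc⟩ := Submodule.mem_sup.1 ha
  have : a = (⟨b, AD_le_adele D hb⟩ + ⟨c, KR_le_adele hK hc⟩ : adele k K) := Subtype.ext hbc.symm
  rw [this, map_add, h.1 _ hb, h.2 _ hc, add_zero]

lemma WD_anti {D E : Divisor k K} (h : D ≤ E) : WD E ≤ WD D := fun _ hω =>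
  mem_WD.2 fun a ha => mem_WD.1 hω a (sup_le_sup_right (AD_mono h) _ ha)

lemma WD_sup (hK : IsFunctionField k K) {D E : Divisor k K} {ω : Module.Dual k (adele k K)}
    (hD : ω ∈ WD D) (hE : ω ∈ WD E) : ω ∈ WD (D ⊔ E) := by
  refine (mem_WD_iff hK).2 ⟨fun a ha => ?_, ((mem_WD_iff hK).1 hD).2⟩
  rw [AD_sup] at ha
  obtain ⟨b, hb, c, hc, hbc⟩ := Submodule.mem_sup.1 ha
  have : a = (⟨b, AD_le_adele D hb⟩ + ⟨c, AD_le_adele E hc⟩ : adele k K) := Subtype.ext hbc.symm
  rw [this, map_add, ((mem_WD_iff hK).1 hD).1 _ hb, ((mem_WD_iff hK).1 hE).1 _ hc, add_zero]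

lemma WD_eq_bot (hK : IsFunctionField k K) {D : Divisor k K} (h : delta D = genus k K) :
    WD D = ⊥ := by
  obtain ⟨h1, h2⟩ := finrank_WD hK D
  rw [h, sub_self] at h2
  exact Submodule.finrank_eq_zero.1 (by exact_mod_cast h2)

lemma exists_isDivOf (hK : IsFunctionField k K) {ω : Module.Dual k (adele k K)} (hω : IsWeil ω)
    (h0 : ω ≠ 0) : ∃ C, IsDivOf ω C := by
  classical
  obtain ⟨N, hN⟩ := riemann hK
  have hbd : ∀ E, ω ∈ WD E → E.deg < N := fun E hE => by
    by_contra h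
    push Not at h
    rw [WD_eq_bot hK (hN E h)] at hE
    exact h0 hE
  obtain ⟨E₀, hE₀⟩ := hω
  obtain ⟨d, ⟨C, hC, rfl⟩, hmax⟩ := Int.exists_greatest_of_bdd
    (P := fun d => ∃ E, ω ∈ WD E ∧ E.deg = d) ⟨N, fun _ ⟨E, hE, h⟩ => h ▸ (hbd E hE).le⟩
    ⟨_, E₀, hE₀, rfl⟩
  refine ⟨C, fun E => ⟨fun hE => ?_, fun h => WD_anti h hC⟩⟩
  have h1 := hmax _ ⟨_, WD_sup hK hC hE, rfl⟩
  intro P
  by_contra hP
  have h2 : (0 : Divisor k K) ≤ C ⊔ E - C - Finsupp.single P 1 := fun Q => by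
    simp only [Finsupp.zero_apply, Finsupp.sub_apply, Finsupp.sup_apply, Finsupp.single_apply]
    split_ifs with h
    · subst h; omega
    · omega
  have h3 := deg_nonneg h2
  rw [deg_sub, deg_sub, deg_single] at h3
  have : (1 : ℤ) ≤ P.deg := by exact_mod_cast one_le_deg hK.1 P
  omega

lemma smul_mem_AD {C D : Divisor k K} {x : K} (hx : x ∈ L D) {a : Place k K → K} (ha : a ∈ AD C) :
    x • a ∈ AD (D + C) := fun P => by
  rw [Pi.smul_apply, smul_eq_mul, map_mul, Finsupp.add_apply, exp_add]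
  exact mul_le_mul' (hx P) (ha P)

lemma smul_mem_adele (hK : IsFunctionField k K) (x : K) :
    ∀ a ∈ adele k K, x • a ∈ adele k K := fun a ha => by
  obtain ⟨D, hD⟩ := exists_mem_AD ha
  exact AD_le_adele _ (smul_mem_AD (self_mem_L_neg_div hK x) hD)

lemma smul_diag (x y : K) : x • diag k K y = diag k K (x * y) := rfl

lemma smul_mem_KR {x : K} {a : Place k K → K} (ha : a ∈ KR k K) : x • a ∈ KR k K := by
  obtain ⟨y, rfl⟩ := ha
  exact ⟨x * y, rfl⟩

lemma mulW_apply (x : K) (hx : ∀ a ∈ adele k K, x • a ∈ adele k K)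
    (ω : Module.Dual k (adele k K)) (a : adele k K) :
    mulW x hx ω a = ω ⟨x • (a : Place k K → K), hx a a.2⟩ := rfl

lemma mulW_mem_WD {C D : Divisor k K} {x : K} (hxD : x ∈ L D)
    (hx : ∀ a ∈ adele k K, x • a ∈ adele k K) {ω : Module.Dual k (adele k K)} (hω : ω ∈ WD C) :
    mulW x hx ω ∈ WD (C - D) := by
  refine mem_WD.2 fun a ha => mem_WD.1 hω ⟨_, hx a a.2⟩ ?_
  show x • (a : Place k K → K) ∈ AD C ⊔ KR k K
  obtain ⟨b, hb, c, hc, hbc⟩ := Submodule.mem_sup.1 ha
  rw [← hbc, smul_add]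
  refine Submodule.add_mem_sup ?_ (smul_mem_KR hc)
  simpa using smul_mem_AD hxD hb

lemma mulW_mulW (x y : K) (hx : ∀ a ∈ adele k K, x • a ∈ adele k K)
    (hy : ∀ a ∈ adele k K, y • a ∈ adele k K) (hxy : ∀ a ∈ adele k K, (y * x) • a ∈ adele k K)
    (ω : Module.Dual k (adele k K)) : mulW x hx (mulW y hy ω) = mulW (y * x) hxy ω := by
  refine LinearMap.ext fun a => congrArg ω (Subtype.ext ?_)
  exact smul_smul y x (a : Place k K → K)

lemma mulW_one (h : ∀ a ∈ adele k K, (1 : K) • a ∈ adele k K) (ω : Module.Dual k (adele k K)) :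
    mulW 1 h ω = ω :=
  LinearMap.ext fun a => congrArg ω (Subtype.ext (one_smul K (a : Place k K → K)))

/-- `x ↦ xω` as a linear map. -/
noncomputable def mulWLin (hK : IsFunctionField k K) (ω : Module.Dual k (adele k K)) :
    K →ₗ[k] Module.Dual k (adele k K) where
  toFun x := mulW x (smul_mem_adele hK x) ω
  map_add' x y := LinearMap.ext fun a => by
    simp only [LinearMap.add_apply, mulW_apply]
    rw [← map_add]
    exact congrArg ω (Subtype.ext (add_smul x y (a : Place k K → K)))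
  map_smul' c x := LinearMap.ext fun a => by
    simp only [LinearMap.smul_apply, RingHom.id_apply, mulW_apply]
    rw [← map_smul]
    exact congrArg ω (Subtype.ext (smul_assoc c x (a : Place k K → K)))

lemma mulWLin_mul (hK : IsFunctionField k K) (ω : Module.Dual k (adele k K)) (x y : K) :
    mulWLin hK (mulWLin hK ω y) x = mulWLin hK ω (y * x) :=
  mulW_mulW x y (smul_mem_adele hK x) (smul_mem_adele hK y) (smul_mem_adele hK (y * x)) ω

lemma mulWLin_one (hK : IsFunctionField k K) (ω : Module.Dual k (adele k K)) :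
    mulWLin hK ω 1 = ω := mulW_one (smul_mem_adele hK 1) ω

lemma mulWLin_eq_zero (hK : IsFunctionField k K) {ω : Module.Dual k (adele k K)} (h0 : ω ≠ 0)
    {x : K} (h : mulWLin hK ω x = 0) : x = 0 := by
  by_contra hx
  apply h0
  rw [← mulWLin_one hK ω, ← mul_inv_cancel₀ hx, ← mulWLin_mul, h]
  rfl

lemma isDivOf_mulW (hK : IsFunctionField k K) {x : K} (hx0 : x ≠ 0)
    (hx : ∀ a ∈ adele k K, x • a ∈ adele k K) {ω : Module.Dual k (adele k K)} {C : Divisor k K}
    (hω : IsDivOf ω C) : IsDivOf (mulW x hx ω) (C + div k x) := by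
  intro E
  constructor
  · intro h
    have h1 := mulW_mem_WD (self_mem_L_neg_div hK x⁻¹) (smul_mem_adele hK x⁻¹) h
    rw [mulW_mulW x⁻¹ x _ _ (smul_mem_adele hK _)] at h1
    simp only [mul_inv_cancel₀ hx0, mulW_one] at h1
    have h2 := (hω _).1 h1
    rw [div_inv hK.1, neg_neg, sub_le_iff_le_add] at h2
    exact h2
  · intro h
    have h1 := mulW_mem_WD (self_mem_L_neg_div hK x) hx ((hω (E - div k x)).2 (by
      rwa [sub_le_iff_le_add]))
    simpa using h1

lemma exists_isCanonical (hK : IsFunctionField k K) : ∃ C, IsCanonical k K C := by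
  obtain ⟨P⟩ := nonempty_place hK
  obtain ⟨hfin, hd⟩ := finrank_WD hK (Finsupp.single P (-2))
  have h1 : (1 : ℤ) ≤ P.deg := by exact_mod_cast one_le_deg hK.1 P
  rw [delta, deg_single] at hd
  have hpos : 0 < Module.finrank k (WD (Finsupp.single P (-2) : Divisor k K)) := by omega
  obtain ⟨ω, hω⟩ : ∃ ω : WD (Finsupp.single P (-2) : Divisor k K), ω ≠ 0 := by
    by_contra hc
    push Not at hc
    have : Subsingleton (WD (Finsupp.single P (-2) : Divisor k K)) := ⟨fun a b => by rw [hc a, hc b]⟩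
    rw [Module.finrank_zero_of_subsingleton] at hpos
    exact lt_irrefl _ hpos
  have hne : (ω : Module.Dual k (adele k K)) ≠ 0 := fun h => hω (Subtype.ext h)
  obtain ⟨C, hC⟩ := exists_isDivOf hK ⟨_, ω.2⟩ hne
  exact ⟨C, ω, hne, hC⟩

lemma exists_mulW_eq (hK : IsFunctionField k K) {ω₁ ω₂ : Module.Dual k (adele k K)}
    (h₁ : IsWeil ω₁) (h0 : ω₁ ≠ 0) (h₂ : IsWeil ω₂) : ∃ x : K, mulWLin hK ω₁ x = ω₂ := by
  by_cases h20 : ω₂ = 0
  · exact ⟨0, by rw [map_zero, h20]⟩
  obtain ⟨C₁, hC₁⟩ := exists_isDivOf hK h₁ h0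
  obtain ⟨C₂, hC₂⟩ := exists_isDivOf hK h₂ h20
  obtain ⟨D, -, hD⟩ := exists_ge_deg hK (0 : Divisor k K)
    (max 1 (3 * (genus k K : ℤ) - 2 - C₁.deg - C₂.deg))
  obtain ⟨hfW, hW⟩ := finrank_WD hK (-D)
  have hL : L (-D) = (⊥ : Submodule k K) := L_eq_bot_of_deg_neg hK.1 (by rw [deg_neg]; omega)
  have hl : (ell (-D) : ℤ) = 0 := by rw [ell, hL, finrank_bot]; rfl
  rw [delta, hl, deg_neg] at hW
  have hmap : ∀ {ω : Module.Dual k (adele k K)} {C : Divisor k K}, IsDivOf ω C →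
      ∀ x : L (C + D), mulWLin hK ω x ∈ WD (-D) := fun {ω C} hC x => by
    have := mulW_mem_WD x.2 (smul_mem_adele hK x) ((hC C).2 le_rfl)
    rwa [show C - (C + D) = -D by abel] at this
  let T₁ : L (C₁ + D) →ₗ[k] WD (-D) :=
    ((mulWLin hK ω₁).domRestrict _).codRestrict _ (hmap hC₁)
  let T₂ : L (C₂ + D) →ₗ[k] WD (-D) :=
    ((mulWLin hK ω₂).domRestrict _).codRestrict _ (hmap hC₂)
  have := finite_L hK.1 (C₁ + D)
  have := finite_L hK.1 (C₂ + D)
  have hnot : ¬ Function.Injective (T₁.coprod T₂) := fun hinj => by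
    have := LinearMap.finrank_le_finrank_of_injective hinj
    rw [Module.finrank_prod] at this
    have e1 := delta_le_genus hK (C₁ + D)
    have e2 := delta_le_genus hK (C₂ + D)
    rw [delta, deg_add] at e1 e2
    simp only [ell] at e1 e2
    omega
  rw [injective_iff_map_eq_zero] at hnot
  push Not at hnot
  obtain ⟨⟨x, y⟩, hxy, hne⟩ := hnot
  have h : mulWLin hK ω₁ x + mulWLin hK ω₂ y = 0 := congrArg Subtype.val hxy
  have hy : (y : K) ≠ 0 := fun hy => hne (Prod.ext (Subtype.ext (mulWLin_eq_zero hK h0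
    (by rwa [hy, map_zero, add_zero] at h))) (Subtype.ext hy))
  refine ⟨-((x : K) * (y : K)⁻¹), ?_⟩
  conv_rhs => rw [← mulWLin_one hK ω₂, ← mul_inv_cancel₀ hy, ← mulWLin_mul hK,
    eq_neg_of_add_eq_zero_right h]
  rw [map_neg, ← mulWLin_mul hK]
  rfl

lemma isWeil_of_isDivOf {ω : Module.Dual k (adele k K)} {C : Divisor k K} (h : IsDivOf ω C) :
    IsWeil ω := ⟨C, (h C).2 le_rfl⟩

lemma isDivOf_unique {ω : Module.Dual k (adele k K)} {C C' : Divisor k K} (h : IsDivOf ω C)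
    (h' : IsDivOf ω C') : C = C' :=
  le_antisymm ((h' C).1 ((h C).2 le_rfl)) ((h C').1 ((h' C').2 le_rfl))

lemma mulW_L_onto (hK : IsFunctionField k K) {ω : Module.Dual k (adele k K)} {C : Divisor k K}
    (h0 : ω ≠ 0) (hω : IsDivOf ω C) (D : Divisor k K) {ω' : Module.Dual k (adele k K)}
    (hω' : ω' ∈ WD D) : ∃ x ∈ L (C - D), mulWLin hK ω x = ω' := by
  obtain ⟨x, hx⟩ := exists_mulW_eq hK (isWeil_of_isDivOf hω) h0 ⟨D, hω'⟩
  refine ⟨x, ?_, hx⟩
  rcases eq_or_ne x 0 with rfl | hx0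
  · exact zero_mem _
  have h1 := (isDivOf_mulW hK hx0 (smul_mem_adele hK x) hω D).1
    (show mulWLin hK ω x ∈ WD D by rw [hx]; exact hω')
  rw [mem_L_iff_div hK.1 hx0]
  intro P
  have := h1 P
  simp only [Finsupp.zero_apply, Finsupp.add_apply, Finsupp.sub_apply] at this ⊢
  linarith

lemma riemann_roch (hK : IsFunctionField k K) {C : Divisor k K} (hC : IsCanonical k K C)
    (D : Divisor k K) :
    (ell D : ℤ) = D.deg + 1 - genus k K + ell (C - D) := by
  obtain ⟨ω, h0, hω⟩ := hC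
  let T : L (C - D) →ₗ[k] WD D := ((mulWLin hK ω).domRestrict _).codRestrict _ fun x => by
    have := mulW_mem_WD x.2 (smul_mem_adele hK x) ((hω C).2 le_rfl)
    rwa [sub_sub_cancel] at this
  have hbij : Function.Bijective T := by
    refine ⟨?_, fun w => ?_⟩
    · rw [injective_iff_map_eq_zero]
      exact fun x hx => Subtype.ext (mulWLin_eq_zero hK h0 (congrArg Subtype.val hx))
    · obtain ⟨x, hx, h⟩ := mulW_L_onto hK h0 hω D w.2
      exact ⟨⟨x, hx⟩, Subtype.ext h⟩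
  have h1 := (LinearEquiv.ofBijective T hbij).finrank_eq
  have h2 := (finrank_WD hK D).2
  rw [← h1, delta] at h2
  show _ = _ + ((Module.finrank k (L (C - D)) : ℕ) : ℤ)
  linarith

lemma ell_canonical (hK : IsFunctionField k K) {C : Divisor k K} (hC : IsCanonical k K C) :
    ell C = genus k K ∧ C.deg = 2 * genus k K - 2 := by
  have h0 := riemann_roch hK hC 0
  rw [ell_zero hK, deg_zero, sub_zero] at h0
  have h1 := riemann_roch hK hC C
  rw [sub_self, ell_zero hK] at h1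
  push_cast at h0 h1
  constructor <;> omega

lemma ell_eq_of_deg_ge (hK : IsFunctionField k K) {D : Divisor k K}
    (h : 2 * (genus k K : ℤ) - 1 ≤ D.deg) : (ell D : ℤ) = D.deg + 1 - genus k K := by
  obtain ⟨C, hC⟩ := exists_isCanonical hK
  have h1 := riemann_roch hK hC D
  have h2 := (ell_canonical hK hC).2
  have : L (C - D) = ⊥ := L_eq_bot_of_deg_neg hK.1 (by rw [deg_sub]; omega)
  rw [show ell (C - D) = 0 by rw [ell, this, finrank_bot]] at h1
  simpa using h1

lemma isCanonical_sub (hK : IsFunctionField k K) {C₁ C₂ : Divisor k K}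
    (h₁ : IsCanonical k K C₁) (h₂ : IsCanonical k K C₂) :
    ∃ x : K, x ≠ 0 ∧ C₂ = C₁ + div k x := by
  obtain ⟨ω₁, n1, d1⟩ := h₁
  obtain ⟨ω₂, n2, d2⟩ := h₂
  obtain ⟨x, hx⟩ := exists_mulW_eq hK (isWeil_of_isDivOf d1) n1 (isWeil_of_isDivOf d2)
  have hx0 : x ≠ 0 := fun h => n2 (by rw [← hx, h, map_zero])
  refine ⟨x, hx0, isDivOf_unique d2 ?_⟩
  rw [← hx]
  exact isDivOf_mulW hK hx0 (smul_mem_adele hK x) d1

lemma isCanonical_iff (hK : IsFunctionField k K) (C : Divisor k K) :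
    IsCanonical k K C ↔ (ell C = genus k K ∧ C.deg = 2 * genus k K - 2) := by
  classical
  refine ⟨ell_canonical hK, fun ⟨h1, h2⟩ => ?_⟩
  obtain ⟨C₀, hC₀⟩ := exists_isCanonical hK
  have h3 := riemann_roch hK hC₀ C
  rw [h1, h2] at h3
  obtain ⟨z, hz, hz0⟩ := exists_ne_zero_of_ell_pos (D := C₀ - C) (by omega)
  have h4 : (0 : Divisor k K) ≤ div k z + (C₀ - C) := (mem_L_iff_div hK.1 hz0).1 hz
  have h5 : div k z + (C₀ - C) = 0 := by
    refine Finsupp.ext fun P => ?_
    by_contra hP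
    have hpos : 1 ≤ (div k z + (C₀ - C)) P :=
      Int.add_one_le_iff.2 (lt_of_le_of_ne (h4 P) (Ne.symm hP))
    have hle : Finsupp.single P 1 ≤ div k z + (C₀ - C) := fun Q => by
      rw [Finsupp.single_apply]
      split_ifs with h
      · exact h ▸ hpos
      · exact h4 Q
    have := deg_mono hle
    rw [deg_single, deg_add, deg_div hK.1, deg_sub, h2, (ell_canonical hK hC₀).2] at this
    have := one_le_deg hK.1 P
    omega
  obtain ⟨ω, n0, d0⟩ := hC₀
  refine ⟨_, fun h => hz0 (mulWLin_eq_zero hK n0 h), ?_⟩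
  have := isDivOf_mulW hK hz0 (smul_mem_adele hK z) d0
  rw [show C = C₀ + div k z by rw [← add_zero C, ← h5]; abel]
  exact this

/-- Strong approximation. -/
lemma strong_approximation (hK : IsFunctionField k K) (Pinf : Place k K) (S : Finset (Place k K))
    (hinf : Pinf ∉ S) (x : Place k K → K) (m : Place k K → ℤ) :
    ∃ y : K, (∀ P ∈ S, P.1 (y - x P) = exp (-(m P))) ∧
      ∀ Q : Place k K, Q ≠ Pinf → Q ∉ S → Q.1 y ≤ 1 := by
  classical
  have base : ∀ (x : Place k K → K) (m : Place k K → ℤ), ∃ y : K,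
      (∀ P ∈ S, P.1 (y - x P) ≤ exp (m P)) ∧ ∀ Q, Q ≠ Pinf → Q ∉ S → Q.1 y ≤ 1 := by
    intro x m
    obtain ⟨N, hN⟩ := riemann hK
    let D₀ : Divisor k K := ∑ P ∈ S, Finsupp.single P (m P)
    have hD₀ : ∀ Q, D₀ Q = if Q ∈ S then m Q else 0 := fun Q => by
      simp [D₀, Finsupp.finsetSum_apply, Finsupp.single_apply]
    let t : ℤ := max 0 (N - D₀.deg)
    let D : Divisor k K := D₀ + Finsupp.single Pinf t
    have hDdeg : N ≤ D.deg := by
      rw [deg_add, deg_single]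
      have h1 : (1 : ℤ) ≤ Pinf.deg := by exact_mod_cast one_le_deg hK.1 Pinf
      have h2 : t ≤ t * Pinf.deg := le_mul_of_one_le_right (le_max_left _ _) h1
      have h3 := le_max_right 0 (N - D₀.deg)
      simp only [t] at *
      linarith
    let a : Place k K → K := fun P => if P ∈ S then x P else 0
    have ha : a ∈ adele k K := Filter.eventually_cofinite.2 (S.finite_toSet.subset fun P hP => by
      by_contra h
      exact hP (by simp [a, show P ∉ S from h]))
    rw [← sup_eq_adele hK (hN D hDdeg)] at ha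
    obtain ⟨b, hb, c, ⟨y, rfl⟩, hbc⟩ := Submodule.mem_sup.1 ha
    have hb' : ∀ P, P.1 (a P - y) ≤ exp (D P) := fun P => by
      rw [← hbc]
      simpa [diag_apply] using hb P
    refine ⟨y, fun P hP => ?_, fun Q hQ hQS => ?_⟩
    · have h := hb' P
      rw [show a P = x P from if_pos hP, P.1.map_sub_swap] at h
      have hne : P ≠ Pinf := fun h' => hinf (h' ▸ hP)
      simpa [D, hD₀, hP, Ne.symm hne] using h
    · have h := hb' Q
      rw [show a Q = 0 from if_neg hQS, zero_sub, Valuation.map_neg] at h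
      simpa [D, hD₀, hQS, Ne.symm hQ] using h
  choose t ht0 ht using fun P : Place k K => exists_val_eq P (-(m P))
  obtain ⟨y, hy1, hy2⟩ := base (fun P => x P + t P) fun P => -(m P) - 1
  refine ⟨y, fun P hP => ?_, hy2⟩
  have h1 : P.1 (y - (x P + t P)) < P.1 (t P) :=
    (hy1 P hP).trans_lt (by rw [ht P, exp_lt_exp]; omega)
  rw [← ht P, ← P.1.map_add_eq_of_lt_right h1]
  congr 1
  ring

end Groth.Agent.FF
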