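/-
Finite extensions of function fields: places above and below, the fundamental equality, conorms.
-/
import Groth.Agent.L26.FF.RR
import Groth.Prelude.Def_W4bk4goldsch23Ext
import Mathlib.FieldTheory.IntermediateField.Algebraic

open WithZero IntermediateField

namespace Groth.Agent.FF

open FunFld

variable {k K K' : Type*} [Field k] [Field K] [Field K'] [Algebra k K] [Algebra K K'] [Algebra k K']

lemma _root_.FunFld.IsOverWith.pos {Q : Place k K'} {P : Place k K} {e : ℕ} (h : IsOverWith Q P e) : 0 < e := by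
  rcases Nat.eq_zero_or_pos e with rfl | he
  · have := h 0
    rw [map_zero, map_zero, pow_zero] at this
    exact absurd this zero_ne_one
  · exact he

lemma _root_.FunFld.IsOverWith.le_one_iff {Q : Place k K'} {P : Place k K} {e : ℕ} (h : IsOverWith Q P e) (x : K) :
    Q.1 (algebraMap K K' x) ≤ 1 ↔ P.1 x ≤ 1 := by
  rw [h x, pow_le_one_iff_of_nonneg zero_le h.pos.ne']

lemma _root_.FunFld.IsOverWith.lt_one_iff {Q : Place k K'} {P : Place k K} {e : ℕ} (h : IsOverWith Q P e) (x : K) :
    Q.1 (algebraMap K K' x) < 1 ↔ P.1 x < 1 := by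
  rw [h x, pow_lt_one_iff_of_nonneg zero_le h.pos.ne']

lemma _root_.FunFld.IsOverWith.unique {Q : Place k K'} {P P' : Place k K} {e e' : ℕ} (h : IsOverWith Q P e)
    (h' : IsOverWith Q P' e') : P = P' ∧ e = e' := by
  have hP : P = P' := eq_of_le fun z hz => (h'.le_one_iff z).1 ((h.le_one_iff z).2 hz)
  subst hP
  refine ⟨rfl, ?_⟩
  obtain ⟨t, -, ht⟩ := exists_val_eq P (-1)
  have h1 := (h t).symm.trans (h' t)
  rw [ht, ← exp_nsmul, ← exp_nsmul] at h1
  have h2 := congrArg log h1
  simp only [log_exp, nsmul_eq_mul, mul_neg, mul_one, neg_inj] at h2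
  exact_mod_cast h2

lemma _root_.FunFld.IsOverWith.ord {Q : Place k K'} {P : Place k K} {e : ℕ} (h : IsOverWith Q P e) (x : K) :
    Q.ord (algebraMap K K' x) = e * P.ord x := by
  rw [Place.ord, Place.ord, h x, log_pow, nsmul_eq_mul, mul_neg]

lemma ramIdx_eq {Q : Place k K'} {P : Place k K} {e : ℕ} (h : IsOverWith Q P e) :
    ramIdx Q P = e := by
  classical
  have hov : IsOver Q P := ⟨e, h⟩
  rw [ramIdx, dif_pos hov]
  exact ((Nat.find_spec hov : IsOverWith Q P _).unique h).2

variable [IsScalarTower k K K'] [FiniteDimensional K K']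

/-- Every place has a unique place below it. -/
lemma exists_below (hK : IsFF k K) (Q : Place k K') :
    ∃ (P : Place k K) (e : ℕ), IsOverWith Q P e := by
  let O : ValuationSubring K := Q.O.comap (algebraMap K K')
  have hO : ∀ c : k, algebraMap k K c ∈ O := fun c => by
    show Q.1 (algebraMap K K' (algebraMap k K c)) ≤ 1
    rw [← IsScalarTower.algebraMap_apply]
    exact Q.2.1 c
  have hmem : ∀ {z : K}, z ∈ O.nonunits ↔ Q.1 (algebraMap K K' z) < 1 := fun {z} => by
    rw [ValuationSubring.mem_nonunits_iff_or]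
    show z = 0 ∨ ¬ Q.1 (algebraMap K K' z⁻¹) ≤ 1 ↔ _
    rcases eq_or_ne z 0 with rfl | hz
    · simp
    rw [or_iff_right hz, map_inv₀, map_inv₀, not_le, one_lt_inv₀ (zero_lt_iff.2 (val_ne_zero Q ?_))]
    exact (map_ne_zero _).2 hz
  have hx : ∃ x ∈ O.nonunits, x ≠ 0 := by
    by_contra hc
    push Not at hc
    have hall : ∀ x : K, Q.1 (algebraMap K K' x) ≤ 1 := fun x => by
      by_contra h
      have hx0 : x ≠ 0 := fun h0 => h (by simp [h0])
      refine inv_ne_zero hx0 (hc x⁻¹ (hmem.2 ?_))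
      rw [map_inv₀, map_inv₀]
      exact inv_lt_one_of_one_lt₀ (not_le.1 h)
    obtain ⟨t, ht0, ht⟩ := exists_val_eq Q 1
    obtain ⟨p, hp, hpt⟩ := (Algebra.IsIntegral.isIntegral (R := K) t)
    have h1 : Q.1 t ^ p.natDegree < Q.1 t ^ p.natDegree := by
      have h2 : t ^ p.natDegree =
          -∑ i ∈ Finset.range p.natDegree, algebraMap K K' (p.coeff i) * t ^ i := by
        have := hpt
        rw [← Polynomial.aeval_def, Polynomial.aeval_eq_sum_range, Finset.sum_range_succ,
          hp.coeff_natDegree, one_smul] at this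
        simp only [Algebra.smul_def] at this
        exact eq_neg_of_add_eq_zero_right this
      conv_lhs => rw [← map_pow, h2, Valuation.map_neg]
      refine Q.1.map_sum_lt (pow_ne_zero _ (val_ne_zero Q ht0)) fun i hi => ?_
      rw [map_mul, map_pow, ht]
      refine (mul_le_of_le_one_left zero_le (hall _)).trans_lt ?_
      rw [← exp_nsmul, ← exp_nsmul, exp_lt_exp]
      simpa using Finset.mem_range.1 hi
    exact lt_irrefl _ h1
  obtain ⟨P, hP1, hP2⟩ := exists_place_of_valuationSubring O hO hK hx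
  have h1 : ∀ z : K, z ≠ 0 → (P.1 z = 1 ↔ Q.1 (algebraMap K K' z) = 1) := fun z hz => by
    have hz' : algebraMap K K' z ≠ 0 := (map_ne_zero _).2 hz
    rcases lt_trichotomy (Q.1 (algebraMap K K' z)) 1 with h | h | h
    · exact iff_of_false (hP2 z (hmem.2 h)).ne h.ne
    · refine iff_of_true (le_antisymm (hP1 z h.le) ?_) h
      have h3 := hP1 z⁻¹ (show Q.1 (algebraMap K K' z⁻¹) ≤ 1 by rw [map_inv₀, map_inv₀, h, inv_one])
      rw [map_inv₀] at h3
      exact (inv_le_one₀ (zero_lt_iff.2 (val_ne_zero P hz))).1 h3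
    · refine iff_of_false ?_ h.ne'
      have h3 := hP2 z⁻¹ (hmem.2 (by rw [map_inv₀, map_inv₀]; exact inv_lt_one_of_one_lt₀ h))
      rw [map_inv₀] at h3
      intro h4
      rw [h4, inv_one] at h3
      exact lt_irrefl _ h3
  obtain ⟨t, ht0, ht⟩ := exists_val_eq P (-1)
  have ht' : algebraMap K K' t ≠ 0 := (map_ne_zero _).2 ht0
  have hkey : ∀ z : K, z ≠ 0 → Q.ord (algebraMap K K' z) = P.ord z * Q.ord (algebraMap K K' t) := by
    intro z hz
    have hpow : t ^ (P.ord z) ≠ 0 := zpow_ne_zero _ ht0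
    have h2 := (h1 (z / t ^ (P.ord z)) (div_ne_zero hz hpow)).1 (by
      rw [map_div₀, map_zpow₀, ht, val_eq_exp P hz, ← exp_zsmul, smul_eq_mul, mul_neg, mul_one]
      exact div_self exp_ne_zero)
    rw [map_div₀, map_zpow₀, map_div₀, map_zpow₀,
      div_eq_one_iff_eq (zpow_ne_zero _ (val_ne_zero Q ht'))] at h2
    rw [val_eq_exp Q ((map_ne_zero _).2 hz), val_eq_exp Q ht', ← exp_zsmul] at h2
    have h3 := congrArg log h2
    simp only [log_exp, smul_eq_mul] at h3
    linarith
  have hnn : 0 ≤ Q.ord (algebraMap K K' t) := by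
    by_contra h
    push Not at h
    have h2 : Q.1 (algebraMap K K' t⁻¹) < 1 := by
      rw [map_inv₀, val_lt_one_iff Q (inv_ne_zero ht'), ord_inv]; omega
    have h3 := hP2 _ (hmem.2 h2)
    rw [map_inv₀, ht, ← exp_neg, exp_lt_one'] at h3
    omega
  refine ⟨P, (Q.ord (algebraMap K K' t)).toNat, fun x => ?_⟩
  rcases eq_or_ne x 0 with rfl | hx0
  · have : (Q.ord (algebraMap K K' t)).toNat ≠ 0 := fun h => by
      obtain ⟨x, hx, hx0⟩ := hx
      have h4 := (val_lt_one_iff Q ((map_ne_zero _).2 hx0)).1 (hmem.1 hx)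
      rw [hkey x hx0, show Q.ord (algebraMap K K' t) = 0 by omega, mul_zero] at h4
      exact lt_irrefl _ h4
    rw [map_zero, map_zero, map_zero, zero_pow this]
  rw [val_eq_exp Q ((map_ne_zero _).2 hx0), val_eq_exp P hx0, hkey x hx0, ← exp_nsmul, nsmul_eq_mul,
    Int.toNat_of_nonneg hnn]
  congr 1; ring

omit [IsScalarTower k K K'] [FiniteDimensional K K'] in
lemma finrank_adjoin_map [IsScalarTower k K K'] (x : K) :
    Module.finrank k⟮algebraMap K K' x⟯ K' =
      Module.finrank k⟮x⟯ K * Module.finrank K K' := by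
  rw [Module.finrank_mul_finrank]
  have e : (k⟮x⟯).map (IsScalarTower.toAlgHom k K K') = k⟮algebraMap K K' x⟯ := by
    rw [adjoin_map, Set.image_singleton]
    rfl
  let φ : k⟮x⟯ ≃+* k⟮algebraMap K K' x⟯ :=
    ((k⟮x⟯.equivMap (IsScalarTower.toAlgHom k K K')).trans (equivOfEq e)).toRingEquiv
  exact (Algebra.finrank_eq_of_equiv_equiv φ (RingEquiv.refl K') (RingHom.ext fun a => rfl)).symm

lemma transcendental_map {x : K} (hx : Transcendental k x) :
    Transcendental k (algebraMap K K' x) :=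
  (transcendental_algebraMap_iff (algebraMap K K').injective).2 hx

lemma isFF_ext (hK : IsFF k K) : IsFF k K' := by
  obtain ⟨x, hx, hfin⟩ := hK
  refine ⟨algebraMap K K' x, transcendental_map hx, Module.finite_of_finrank_pos ?_⟩
  rw [finrank_adjoin_map]
  exact Nat.mul_pos Module.finrank_pos Module.finrank_pos

/-- A function whose only pole is `P`. -/
lemma exists_only_pole (hK : IsFunctionField k K) (P : Place k K) :
    ∃ (y : K) (m : ℕ), Transcendental k y ∧ 0 < m ∧ poles k y = Finsupp.single P (m : ℤ) := by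
  classical
  let n : ℕ := 2 * genus k K + 1
  have hdeg := one_le_deg hK.1 P
  have hn : (n : ℤ) ≤ (n : ℤ) * (P.deg : ℤ) :=
    le_mul_of_one_le_right (by positivity) (by exact_mod_cast hdeg)
  have h := ell_eq_of_deg_ge hK (D := Finsupp.single P (n : ℤ))
    (by rw [deg_single]; simp only [n] at hn ⊢; push_cast at hn ⊢; linarith)
  rw [deg_single] at h
  have hlt : ell (0 : Divisor k K) < ell (Finsupp.single P (n : ℤ)) := by
    rw [ell_zero hK]
    simp only [n] at hn h ⊢
    push_cast at hn h ⊢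
    omega
  obtain ⟨y, hy, hy'⟩ : ∃ y ∈ L (Finsupp.single P (n : ℤ)), y ∉ L (0 : Divisor k K) := by
    by_contra hc
    push Not at hc
    have := finite_L hK.1 (0 : Divisor k K)
    exact absurd (Submodule.finrank_mono hc) (not_le.2 hlt)
  have hy0 : y ≠ 0 := fun h => hy' (h ▸ zero_mem _)
  rw [mem_L_iff_ord hy0] at hy
  have htr : Transcendental k y := transcendental_of_not_const hK (by
    rintro ⟨c, rfl⟩
    exact hy' (by rw [L_zero hK]; exact Submodule.mem_one.2 ⟨c, rfl⟩))
  have hP : P.ord y < 0 := by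
    by_contra h
    refine hy' ((mem_L_iff_ord hy0).2 fun Q => ?_)
    rw [Finsupp.zero_apply, add_zero]
    by_cases hQ : Q = P
    · subst hQ; omega
    · simpa [Finsupp.single_eq_of_ne hQ] using hy Q
  refine ⟨y, (-P.ord y).toNat, htr, by omega, Finsupp.ext fun Q => ?_⟩
  rw [poles_apply hK.1, Finsupp.single_apply]
  split_ifs with hQ
  · subst hQ; omega
  · have := hy Q
    rw [Finsupp.single_eq_of_ne (Ne.symm hQ)] at this
    omega

/-- The fundamental equality `∑ e f = n`. -/
lemma finite_over_and_sum (hK : IsFunctionField k K) (P : Place k K) :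
    {Q : Place k K' | IsOver Q P}.Finite ∧
      ∀ Qs : Finset (Place k K'), (∀ Q, Q ∈ Qs ↔ IsOver Q P) →
        ∑ Q ∈ Qs, ramIdx Q P * Q.deg = Module.finrank K K' * P.deg := by
  classical
  obtain ⟨y, m, hy, hm, hpoles⟩ := exists_only_pole hK P
  have hF : IsFF k K' := isFF_ext hK.1
  have hPord : P.ord y = -(m : ℤ) := by
    have := DFunLike.congr_fun hpoles P
    rw [poles_apply hK.1, Finsupp.single_eq_same] at this
    omega
  have hcoef : ∀ Q : Place k K', poles k (algebraMap K K' y) Q =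
      if IsOver Q P then ((m * ramIdx Q P : ℕ) : ℤ) else 0 := fun Q => by
    rw [poles_apply hF]
    obtain ⟨R, e, he⟩ := exists_below hK.1 Q
    rw [he.ord]
    have h1 := DFunLike.congr_fun hpoles R
    rw [poles_apply hK.1] at h1
    split_ifs with hov
    · obtain ⟨e', he'⟩ := hov
      obtain ⟨rfl, rfl⟩ := he.unique he'
      rw [ramIdx_eq he', hPord]
      push_cast
      rw [max_eq_left (by have : (0 : ℤ) ≤ (e : ℤ) * m := (by positivity); linarith)]
      ring
    · have hne : R ≠ P := fun h => hov ⟨e, h ▸ he⟩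
      rw [Finsupp.single_eq_of_ne hne] at h1
      have h2 : 0 ≤ P.ord y ∨ 0 ≤ R.ord y := Or.inr (by omega)
      rcases h2 with h2 | h2
      · omega
      · rw [max_eq_right]; exact neg_nonpos.2 (mul_nonneg (Int.natCast_nonneg _) h2)
  have hsupp : ∀ Q, Q ∈ (poles k (algebraMap K K' y)).support ↔ IsOver Q P := fun Q => by
    rw [Finsupp.mem_support_iff, hcoef]
    split_ifs with hov
    · obtain ⟨e, he⟩ := id hov
      rw [ramIdx_eq he]
      exact iff_of_true (Nat.cast_ne_zero.2 (Nat.mul_pos hm he.pos).ne') hov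
    · simp [hov]
  refine ⟨(poles k (algebraMap K K' y)).support.finite_toSet.subset fun Q hQ => (hsupp Q).2 hQ,
    fun Qs hQs => ?_⟩
  have h := deg_poles hF (transcendental_map (K' := K') hy)
  rw [finrank_adjoin_map, deg_eq_sum (s := Qs) (fun Q hQ => (hQs Q).2 ((hsupp Q).1 hQ))] at h
  have h2 := deg_poles hK.1 hy
  rw [hpoles, deg_single] at h2
  have h3 : ((m * ∑ Q ∈ Qs, ramIdx Q P * Q.deg : ℕ) : ℤ) =
      ((m * (Module.finrank K K' * P.deg) : ℕ) : ℤ) := by
    rw [Finset.mul_sum, Nat.cast_sum]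
    refine Eq.trans (Finset.sum_congr rfl fun Q hQ => ?_) (h.trans ?_)
    · rw [hcoef, if_pos ((hQs Q).1 hQ)]; push_cast; ring
    · push_cast; rw [← h2]; ring
  exact Nat.eq_of_mul_eq_mul_left hm (by exact_mod_cast h3)

lemma finite_over (hK : IsFF k K) (P : Place k K) :
    {Q : Place k K' | IsOver Q P}.Finite := by
  obtain ⟨t, ht0, ht⟩ := exists_val_eq P (-1)
  refine (finite_support_ord (isFF_ext (K' := K') hK) (algebraMap K K' t)).subset ?_
  rintro Q ⟨e, he⟩
  show Q.ord _ ≠ 0
  rw [he.ord, ord_eq_of_val P ht]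
  have := he.pos
  simp; omega

lemma conorm_apply (hK : IsFF k K) (D : Divisor k K) {Q : Place k K'} {P : Place k K}
    {e : ℕ} (h : IsOverWith Q P e) : conorm K' D Q = e * D P := by
  classical
  rw [conorm, Finsupp.sum_apply, Finsupp.sum, Finset.sum_eq_single P]
  · rw [dif_pos (finite_over hK P), Finsupp.smul_apply, Finsupp.finsetSum_apply,
      Finset.sum_eq_single Q]
    · simp [ramIdx_eq h, mul_comm]
    · intro R _ hR
      simp [Finsupp.single_eq_of_ne (Ne.symm hR)]
    · intro hQ
      exact absurd ((finite_over hK P).mem_toFinset.2 ⟨e, h⟩) hQ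
  · intro R _ hR
    rw [dif_pos (finite_over hK R), Finsupp.smul_apply, Finsupp.finsetSum_apply,
      Finset.sum_eq_zero, smul_zero]
    intro Q' hQ'
    rw [Finsupp.smul_apply, Finsupp.single_eq_of_ne, smul_zero]
    rintro rfl
    obtain ⟨e', he'⟩ := (Set.Finite.mem_toFinset _).1 hQ'
    exact hR (he'.unique h).1
  · intro hP
    simp [Finsupp.notMem_support_iff.1 hP]

lemma deg_smul (D : Divisor k K) (n : ℤ) : (n • D).deg = n * D.deg := by
  rcases Int.eq_nat_or_neg n with ⟨l, rfl | rfl⟩
  · rw [natCast_zsmul, deg_nsmul]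
  · rw [neg_smul, natCast_zsmul, deg_neg, deg_nsmul, neg_mul]

lemma deg_conorm (hK : IsFunctionField k K) (D : Divisor k K) :
    (conorm K' D).deg = Module.finrank K K' * D.deg := by
  classical
  rw [conorm, Finsupp.sum, deg_sum, deg_eq_sum (Finset.Subset.refl D.support), Finset.mul_sum]
  refine Finset.sum_congr rfl fun P _ => ?_
  rw [dif_pos (finite_over hK.1 P),
    deg_smul, deg_sum]
  have := (finite_over_and_sum (K' := K') hK P).2 (finite_over hK.1 P).toFinset
    (fun Q => by simp [Set.Finite.mem_toFinset])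
  simp only [deg_smul, deg_single, one_mul]
  have h' : (∑ Q ∈ (finite_over (K' := K') hK.1 P).toFinset, (ramIdx Q P : ℤ) * Q.deg) =
      Module.finrank K K' * P.deg := by exact_mod_cast this
  rw [h']; ring

lemma div_map (hK : IsFF k K) (x : K) :
    div k (algebraMap K K' x) = conorm K' (div k x) := by
  refine Finsupp.ext fun Q => ?_
  obtain ⟨P, e, he⟩ := exists_below hK Q
  rw [conorm_apply hK _ he, div_apply hK, div_apply (isFF_ext hK), he.ord]

end Groth.Agent.FF
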