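/-
The integral closure of the ring of a place in a finite extension: valuative criterion, freeness.
-/
import Groth.Agent.L26.FF.Ext
import Mathlib.RingTheory.DiscreteValuationRing.Basic
import Mathlib.RingTheory.Valuation.LocalSubring

open WithZero

namespace Groth.Agent.FF

open FunFld

variable {k K K' : Type*} [Field k] [Field K] [Field K'] [Algebra k K] [Algebra K K'] [Algebra k K']

lemma isDiscreteValuationRing_O (P : Place k K) : IsDiscreteValuationRing P.O := by
  obtain ⟨t, ht0, ht⟩ := exists_val_eq P (-1)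
  let t' : P.O := ⟨t, show P.1 t ≤ 1 by rw [ht, exp_le_one']; omega⟩
  have hunit : ∀ a : P.O, P.1 (a : K) = 1 → IsUnit a := fun a ha => by
    have ha0 : (a : K) ≠ 0 := fun h => by rw [h, map_zero] at ha; exact zero_ne_one ha
    exact IsUnit.of_mul_eq_one ⟨(a : K)⁻¹, show P.1 _ ≤ 1 by rw [map_inv₀, ha, inv_one]⟩
      (Subtype.ext (mul_inv_cancel₀ ha0))
  refine IsDiscreteValuationRing.ofHasUnitMulPowIrreducibleFactorization
    ⟨t', ⟨fun h => ?_, fun a b hab => ?_⟩, fun {y} hy => ?_⟩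
  · obtain ⟨b, hb⟩ := h.exists_right_inv
    have h1 : P.1 t * P.1 (b : K) = 1 := by rw [← map_mul]; exact (congrArg (P.1 ∘ Subtype.val) hb).trans (map_one _)
    have h2 : P.1 t * P.1 (b : K) < 1 := mul_lt_one_of_lt_of_le (by rw [ht, exp_lt_one']; omega) b.2
    exact h2.ne h1
  · by_contra hc
    push Not at hc
    have h1 : ∀ a : P.O, ¬ IsUnit a → P.1 (a : K) ≤ exp (-1 : ℤ) := fun a ha => by
      refine (pow_one (P.1 (a : K))) ▸ pow_le_exp_neg ?_ 1
      exact lt_of_le_of_ne a.2 fun h => ha (hunit a h)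
    have h2 : P.1 t ≤ exp (-2 : ℤ) := by
      rw [show t = (a : K) * b from congrArg Subtype.val hab, map_mul]
      exact (mul_le_mul' (h1 a hc.1) (h1 b hc.2)).trans_eq (by rw [← exp_add]; norm_num)
    rw [ht, exp_le_exp] at h2
    omega
  · have hy0 : (y : K) ≠ 0 := fun h => hy (Subtype.ext h)
    obtain ⟨n, hn⟩ : ∃ n : ℕ, P.ord (y : K) = n :=
      ⟨_, (Int.toNat_of_nonneg ((val_le_one_iff P hy0).1 y.2)).symm⟩
    have hu : P.1 ((y : K) / t ^ n) = 1 := by
      rw [map_div₀, map_pow, ht, val_eq_exp P hy0, hn, ← exp_nsmul, ← exp_sub, exp_eq_one']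
      simp
    exact ⟨n, (hunit ⟨_, hu.le⟩ hu).unit, Subtype.ext (by
      show t ^ n * ((y : K) / t ^ n) = (y : K)
      rw [mul_div_cancel₀ _ (pow_ne_zero n ht0)])⟩

variable [IsScalarTower k K K'] [FiniteDimensional K K']

/-- Valuative criterion for integrality over the ring of a place. -/
lemma isIntegral_iff (hK : IsFF k K) (P : Place k K) [Algebra P.O K'] [IsScalarTower P.O K K']
    (z : K') : IsIntegral P.O z ↔ ∀ Q : Place k K', IsOver Q P → Q.1 z ≤ 1 := by
  have halg : ∀ a : P.O, algebraMap P.O K' a = algebraMap K K' (a : K) := fun a =>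
    IsScalarTower.algebraMap_apply P.O K K' a
  constructor
  · rintro hz Q ⟨e, he⟩
    let f : P.O →+* Q.O := ((algebraMap K K').comp P.O.subtype).codRestrict Q.O
      fun a => (he.le_one_iff _).2 a.2
    have h1 : IsIntegral Q.O z := by
      obtain ⟨p, hp, hp'⟩ := hz
      refine ⟨p.map f, hp.map f, ?_⟩
      rw [Polynomial.eval₂_map, show (algebraMap Q.O K').comp f = algebraMap P.O K' from
        RingHom.ext fun a => (halg a).symm]
      exact hp'
    obtain ⟨y, rfl⟩ := IsIntegrallyClosed.isIntegral_iff.1 h1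
    exact y.2
  · intro h
    by_contra hz
    let S : Subring K' := (integralClosure P.O K').toSubring
    have : IsIntegrallyClosedIn S K' :=
      inferInstanceAs (IsIntegrallyClosedIn (integralClosure P.O K') K')
    obtain ⟨V, hSV, hzV⟩ := S.exists_le_valuationSubring_of_isIntegrallyClosedIn (x := z) hz
    have hPV : ∀ a : K, P.1 a ≤ 1 → algebraMap K K' a ∈ V := fun a ha =>
      hSV ((halg ⟨a, ha⟩) ▸ (isIntegral_algebraMap : IsIntegral P.O (algebraMap P.O K' ⟨a, ha⟩)))
    have hkV : ∀ c : k, algebraMap k K' c ∈ V := fun c => by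
      rw [IsScalarTower.algebraMap_apply k K K']
      exact hPV _ (P.2.1 c)
    have hz0 : z ≠ 0 := fun h0 => hzV (h0 ▸ zero_mem V)
    have hzi : z⁻¹ ∈ V.nonunits :=
      V.mem_nonunits_iff_or.2 (Or.inr (by rwa [inv_inv]))
    obtain ⟨Q, hQ1, hQ2⟩ :=
      exists_place_of_valuationSubring V hkV (isFF_ext hK) ⟨z⁻¹, hzi, inv_ne_zero hz0⟩
    obtain ⟨P', e, he⟩ := exists_below hK Q
    have hP : P' = P := (eq_of_le fun a ha => (he.le_one_iff a).1 (hQ1 _ (hPV a ha))).symm
    subst hP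
    have h1 := hQ2 _ hzi
    rw [map_inv₀] at h1
    exact absurd h1 (not_lt.2 ((one_le_inv₀ (zero_lt_iff.2 (val_ne_zero Q hz0))).2 (h Q ⟨e, he⟩)))

/-- `⋂ balls` over a finite set of places modulo a smaller such intersection. -/
lemma relQ_ballInf (hK : IsFF k K) (S : Finset (Place k K)) (m n : Place k K → ℤ)
    (h : ∀ P, m P ≤ n P) :
    FiniteDimensional k (RelQ (⨅ P ∈ S, ball P (m P)) (⨅ P ∈ S, ball P (n P))) ∧
    (Module.finrank k (RelQ (⨅ P ∈ S, ball P (m P)) (⨅ P ∈ S, ball P (n P))) : ℤ) =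
      ∑ P ∈ S, (n P - m P) * P.deg := by
  classical
  obtain ⟨hfin, hdim⟩ := locProd_finrank hK S m n h
  let V : Submodule k K := ⨅ P ∈ S, ball P (n P)
  have hV : ∀ {z}, z ∈ V ↔ ∀ P ∈ S, P.1 z ≤ exp (n P) := by simp [V, Submodule.mem_iInf, mem_ball]
  let Φ : ↥V →ₗ[k] LocProd S m n := LinearMap.pi fun P =>
    (Submodule.mkQ _).comp (Submodule.inclusion (iInf₂_le P.1 P.2))
  have hsurj : Function.Surjective Φ := by
    intro w
    choose z hz using fun P : S => Submodule.Quotient.mk_surjective _ (w P)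
    let N : ℕ := S.sup fun P => (-m P).toNat
    obtain ⟨y, hy⟩ := approx S (fun P => if h : P ∈ S then (z ⟨P, h⟩ : K) else 0) N
    have hyP : ∀ P : S, P.1.1 (y - z P) ≤ exp (m P.1) := fun P => by
      have h1 := hy P.1 P.2
      rw [dif_pos P.2] at h1
      refine h1.trans (exp_le_exp.2 ?_)
      have h2 := Finset.le_sup (f := fun P => (-m P).toNat) P.2
      simp only [N] at *
      omega
    have hyV : y ∈ V := hV.2 fun P hP => by
      have h1 : P.1 (y - z ⟨P, hP⟩) ≤ exp (n P) := (hyP ⟨P, hP⟩).trans (exp_le_exp.2 (h P))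
      have := (P.1.map_add (y - z ⟨P, hP⟩) (z ⟨P, hP⟩ : K)).trans (max_le h1 (z ⟨P, hP⟩).2)
      rwa [sub_add_cancel] at this
    refine ⟨⟨y, hyV⟩, funext fun P => ?_⟩
    rw [← hz P]
    exact (Submodule.Quotient.eq _).2 (hyP P)
  have hker : LinearMap.ker Φ = Submodule.comap V.subtype (⨅ P ∈ S, ball P (m P)) := by
    ext ⟨y, hy⟩
    simp only [LinearMap.mem_ker, Submodule.mem_comap, Submodule.mem_iInf, Φ]
    exact ⟨fun h P hP => ((Submodule.Quotient.mk_eq_zero _).1 (congrFun h ⟨P, hP⟩) :),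
      fun h => funext fun P => (Submodule.Quotient.mk_eq_zero _).2 (h P.1 P.2)⟩
  obtain ⟨h1, h2⟩ := relQ_of_surj Φ hker hsurj
  exact ⟨h1, by rw [h2, hdim]⟩

lemma exists_residue_basis (hK : IsFF k K) (P : Place k K) :
    ∃ u : Fin P.deg → K, (∀ i, P.1 (u i) ≤ 1) ∧
      ∀ a, P.1 a ≤ 1 → ∃ c : Fin P.deg → k, P.1 (a - ∑ i, c i • u i) < 1 := by
  have := finite_residueField hK P
  let b := Module.finBasis k (IsLocalRing.ResidueField P.O)
  choose u hu using fun i => Ideal.Quotient.mk_surjective (b i)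
  refine ⟨fun i => (u i : K), fun i => (u i).2, fun a ha => ?_⟩
  refine ⟨fun i => b.repr (resMap P ⟨a, ha⟩) i, ?_⟩
  have h0 : resMap P (⟨a, ha⟩ - ∑ i, b.repr (resMap P ⟨a, ha⟩) i • u i) = 0 := by
    rw [map_sub, map_sum, sub_eq_zero]
    refine (b.sum_repr _).symm.trans (Finset.sum_congr rfl fun i _ => ?_)
    rw [map_smul, ← hu i]; rfl
  have h1 := (residue_eq_zero P _).1 h0
  convert h1 using 3
  show a - _ = ((⟨a, ha⟩ : P.O) - _ : K)
  rw [AddSubmonoidClass.coe_finsetSum]
  exact congrArg (a - ·) (Finset.sum_congr rfl fun i _ => Algebra.smul_def _ _)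

/-- A basis of `K'` over `K` spanning, over the ring of `P`, the elements integral above `P`. -/
lemma exists_integral_basis (hK : IsFunctionField k K) (P : Place k K) :
    ∃ z : Fin (Module.finrank K K') → K', (∀ i (Q : Place k K'), IsOver Q P → Q.1 (z i) ≤ 1) ∧
      LinearIndependent K z ∧
      ∀ r, (∀ Q : Place k K', IsOver Q P → Q.1 r ≤ 1) →
        ∃ c : Fin (Module.finrank K K') → K, (∀ i, P.1 (c i) ≤ 1) ∧ r = ∑ i, c i • z i := by
  classical
  set n := Module.finrank K K'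
  obtain ⟨hfinS, hsum⟩ := finite_over_and_sum (K' := K') hK P
  let Qs := hfinS.toFinset
  have hQs : ∀ Q, Q ∈ Qs ↔ IsOver Q P := fun Q => hfinS.mem_toFinset
  obtain ⟨t, ht0, ht⟩ := exists_val_eq P (-1)
  let R : Submodule k K' := ⨅ Q ∈ Qs, ball Q (0 : ℤ)
  let tR : Submodule k K' := ⨅ Q ∈ Qs, ball Q (-(ramIdx Q P : ℤ))
  have hR : ∀ {r}, r ∈ R ↔ ∀ Q : Place k K', IsOver Q P → Q.1 r ≤ 1 := by
    simp [R, Submodule.mem_iInf, mem_ball, hQs]
  have htR : ∀ {r}, r ∈ tR ↔ ∀ Q : Place k K', IsOver Q P → Q.1 r ≤ exp (-(ramIdx Q P : ℤ)) := by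
    simp [tR, Submodule.mem_iInf, mem_ball, hQs]
  have hsc : ∀ {a : K} {r : K'}, P.1 a ≤ 1 → r ∈ R → a • r ∈ R := fun {a r} ha hr => hR.2 fun Q hQ => by
    obtain ⟨e, he⟩ := id hQ
    rw [Algebra.smul_def, map_mul]
    exact Left.mul_le_one ((he.le_one_iff a).2 ha) (hR.1 hr Q hQ)
  have hsct : ∀ {a : K} {r : K'}, P.1 a < 1 → r ∈ R → a • r ∈ tR := fun {a r} ha hr =>
    htR.2 fun Q hQ => by
      obtain ⟨e, he⟩ := id hQ
      rw [Algebra.smul_def, map_mul, he a, ramIdx_eq he]
      refine (mul_le_mul' (pow_le_exp_neg ha e) (hR.1 hr Q hQ)).trans_eq ?_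
      rw [mul_one]
  have hsct' : ∀ {a : K} {r : K'}, P.1 a ≤ 1 → r ∈ tR → a • r ∈ tR := fun {a r} ha hr =>
    htR.2 fun Q hQ => by
      obtain ⟨e, he⟩ := id hQ
      rw [Algebra.smul_def, map_mul]
      exact (mul_le_of_le_one_left' ((he.le_one_iff a).2 ha)).trans (htR.1 hr Q hQ)
  let Ind : ∀ {m : ℕ}, (Fin m → K') → Prop := fun {m} z => (∀ i, z i ∈ R) ∧
    ∀ c : Fin m → K, (∀ i, P.1 (c i) ≤ 1) → ∑ i, c i • z i ∈ tR → ∀ i, P.1 (c i) < 1
  have hli : ∀ {m : ℕ} (z : Fin m → K'), Ind z → LinearIndependent K z := fun {m} z hz => by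
    refine Fintype.linearIndependent_iff.2 fun c hc i => ?_
    by_contra hci
    have hne : (Finset.univ : Finset (Fin m)).Nonempty := ⟨i, Finset.mem_univ i⟩
    obtain ⟨j, -, hj⟩ := Finset.exists_max_image _ (fun i => P.1 (c i)) hne
    have hcj : c j ≠ 0 := fun h => by
      have h1 := hj i (Finset.mem_univ i)
      rw [h, map_zero] at h1
      exact val_ne_zero P hci (le_antisymm h1 zero_le)
    refine (hz.2 (fun l => c l / c j) (fun l => ?_) ?_ j).ne (by simp [hcj])
    · rw [map_div₀]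
      exact div_le_one_of_le₀ (hj l (Finset.mem_univ l)) zero_le
    · rw [Finset.sum_congr rfl fun l _ => (by rw [div_eq_inv_mul, mul_smul] :
        (c l / c j) • z l = (c j)⁻¹ • c l • z l), ← Finset.smul_sum, hc, smul_zero]
      exact zero_mem _
  -- a family of maximal size
  let M := Nat.findGreatest (fun m => ∃ z : Fin m → K', Ind z) n
  obtain ⟨z, hz⟩ : ∃ z : Fin M → K', Ind z :=
    Nat.findGreatest_spec (P := fun m => ∃ z : Fin m → K', Ind z) (Nat.zero_le n)
      ⟨Fin.elim0, fun i => i.elim0, fun c _ _ i => i.elim0⟩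
  have hMn : M ≤ n := Nat.findGreatest_le n
  have hspan : ∀ r ∈ R, ∃ c : Fin M → K, (∀ i, P.1 (c i) ≤ 1) ∧ r - ∑ i, c i • z i ∈ tR := by
    intro r hr
    by_contra hc
    push Not at hc
    have hnew : Ind (Fin.cons r z) := by
      refine ⟨Fin.cases hr hz.1, fun c hc1 hc2 => ?_⟩
      rw [Fin.sum_univ_succ] at hc2
      simp only [Fin.cons_zero, Fin.cons_succ] at hc2
      have h0 : P.1 (c 0) < 1 := by
        refine lt_of_le_of_ne (hc1 0) fun h => ?_
        have hc0 : c 0 ≠ 0 := fun h0 => by rw [h0, map_zero] at h; exact zero_ne_one h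
        refine hc (fun i => -((c 0)⁻¹ * c i.succ)) (fun i => ?_) ?_
        · rw [Valuation.map_neg, map_mul, map_inv₀, h, inv_one, one_mul]; exact hc1 _
        · have h2 := hsct' (a := (c 0)⁻¹) (by rw [map_inv₀, h, inv_one]) hc2
          rw [smul_add, smul_smul, inv_mul_cancel₀ hc0, one_smul, Finset.smul_sum] at h2
          simpa [neg_smul, Finset.sum_neg_distrib, smul_smul] using h2
      intro i
      refine Fin.cases h0 (fun j => ?_) i
      refine hz.2 (fun l => c l.succ) (fun l => hc1 _) ?_ j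
      have := tR.sub_mem hc2 (hsct h0 hr)
      simpa using this
    have h1 := (hli _ hnew).fintype_card_le_finrank
    rw [Fintype.card_fin] at h1
    have h2 : M + 1 ≤ M :=
      Nat.le_findGreatest (P := fun m => ∃ z : Fin m → K', Ind z) h1 ⟨_, hnew⟩
    omega
  -- counting
  obtain ⟨u, hu, huspan⟩ := exists_residue_basis hK.1 P
  obtain ⟨hfinQ, hdimQ⟩ := relQ_ballInf (isFF_ext (K' := K') hK.1) Qs
    (fun Q => -(ramIdx Q P : ℤ)) (fun _ => 0) (fun Q => by simp)
  let w : Fin M × Fin P.deg → R := fun p => ⟨u p.2 • z p.1, hsc (hu _) (hz.1 _)⟩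
  let Ψ : (Fin M × Fin P.deg → k) →ₗ[k] RelQ tR R :=
    (Submodule.mkQ _).comp (Fintype.linearCombination k w)
  have hΨ : Function.Surjective Ψ := by
    intro q
    obtain ⟨⟨r, hr⟩, rfl⟩ := Submodule.Quotient.mk_surjective _ q
    obtain ⟨c, hc, hrc⟩ := hspan r hr
    choose d hd using fun i => huspan (c i) (hc i)
    refine ⟨fun p => d p.1 p.2, (Submodule.Quotient.eq _).2 ?_⟩
    show ((Fintype.linearCombination k w (fun p => d p.1 p.2) - ⟨r, hr⟩ : R) : K') ∈ tR
    have e1 : ((Fintype.linearCombination k w (fun p => d p.1 p.2) : R) : K') =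
        ∑ i, (∑ j, d i j • u j) • z i := by
      rw [Fintype.linearCombination_apply, AddSubmonoidClass.coe_finsetSum, Fintype.sum_prod_type]
      refine Finset.sum_congr rfl fun i _ => ?_
      rw [Finset.sum_smul]
      exact Finset.sum_congr rfl fun j _ => (smul_assoc _ _ _).symm
    have e2 : (∑ i, (∑ j, d i j • u j) • z i) - r =
        -(∑ i, (c i - ∑ j, d i j • u j) • z i) - (r - ∑ i, c i • z i) := by
      simp only [sub_smul, Finset.sum_sub_distrib]; abel
    rw [Submodule.coe_sub, e1, e2]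
    exact tR.sub_mem (tR.neg_mem (sum_mem fun i _ => hsct (hd i) (hz.1 i))) hrc
  have hle : Module.finrank k (RelQ tR R) ≤ M * P.deg := by
    have h := Ψ.finrank_range_le
    rw [LinearMap.range_eq_top.2 hΨ, finrank_top, Module.finrank_fintype_fun_eq_card,
      Fintype.card_prod, Fintype.card_fin, Fintype.card_fin] at h
    exact h
  have hMeq : M = n := by
    have h1 : (Module.finrank k (RelQ tR R) : ℤ) = (n * P.deg : ℕ) := by
      rw [hdimQ, ← hsum Qs hQs]
      push_cast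
      simp
    have h2 : n * P.deg ≤ M * P.deg := by
      rw [← Nat.cast_inj (R := ℤ) |>.1 h1]; exact hle
    exact le_antisymm hMn (Nat.le_of_mul_le_mul_right h2 (one_le_deg hK.1 P))
  revert z
  rw [hMeq]
  intro z hz hspan _ _ _
  refine ⟨z, fun i Q hQ => hR.1 (hz.1 i) Q hQ, hli z hz, fun r hr => ?_⟩
  have hli' := hli z hz
  let b : Module.Basis (Fin n) K K' :=
    basisOfLinearIndependentOfCardEqFinrank' z hli' (by simp [n])
  refine ⟨fun i => b.repr r i, fun i => ?_, ?_⟩
  swap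
  · conv_lhs => rw [← b.sum_repr r]
    simp [b]
  by_contra hi
  have hne : (Finset.univ : Finset (Fin n)).Nonempty := ⟨i, Finset.mem_univ i⟩
  obtain ⟨j, -, hj⟩ := Finset.exists_max_image _ (fun i => P.1 (b.repr r i)) hne
  have hcj : 1 < P.1 (b.repr r j) := (not_le.1 hi).trans_le (hj i (Finset.mem_univ i))
  set a := (b.repr r j)⁻¹ with ha
  have ha1 : P.1 a < 1 := by rw [ha, map_inv₀]; exact inv_lt_one_of_one_lt₀ hcj
  have h1 : P.1 (a * b.repr r j) < 1 := by
    refine hz.2 (fun l => a * b.repr r l) (fun l => ?_) ?_ j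
    · rw [ha, ← div_eq_inv_mul, map_div₀]
      exact div_le_one_of_le₀ (hj l (Finset.mem_univ l)) zero_le
    · have : ∑ l, (a * b.repr r l) • z l = a • r := by
        conv_rhs => rw [← b.sum_repr r, Finset.smul_sum]
        simp [b, smul_smul]
      rw [this]
      exact hsct ha1 (hR.2 hr)
  refine h1.ne ?_
  rw [ha, inv_mul_cancel₀, map_one]
  intro h0
  rw [h0, map_zero] at hcj
  exact not_lt_zero hcj

end Groth.Agent.FF
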