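/-
The order of a norm: `deg P · ord_P (N x) = ∑_{Q | P} deg Q · ord_Q x`.
-/
import Groth.Agent.L26.FF.IntClosure
import Mathlib.LinearAlgebra.FreeModule.Norm
import Mathlib.RingTheory.Localization.NormTrace
import Mathlib.RingTheory.DedekindDomain.IntegralClosure
import Mathlib.LinearAlgebra.FreeModule.PID

open WithZero

namespace Groth.Agent.FF

open FunFld

variable {k K K' : Type*} [Field k] [Field K] [Field K'] [Algebra k K] [Algebra K K'] [Algebra k K']

/-- `dim_k O_P / (a) = ord_P a · deg P`. -/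
lemma finrank_quot_span_O (hK : IsFF k K) (P : Place k K) (a : P.O) (ha : a ≠ 0) :
    FiniteDimensional k (P.O ⧸ Ideal.span {a}) ∧
      (Module.finrank k (P.O ⧸ Ideal.span {a}) : ℤ) = P.ord (a : K) * P.deg := by
  have ha0 : (a : K) ≠ 0 := fun h => ha (Subtype.ext h)
  have hle : (-P.ord (a : K)) ≤ 0 := neg_nonpos.2 ((val_le_one_iff P ha0).1 a.2)
  have := finite_residueField hK P
  obtain ⟨hfin, hdim⟩ := ball_quot' P hle
  let incl : P.O →ₗ[k] ↥(ball P (0 : ℤ)) :=
    { toFun := fun r => ⟨(r : K), show P.1 (r : K) ≤ exp (0 : ℤ) by rw [exp_zero]; exact r.2⟩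
      map_add' := fun _ _ => rfl
      map_smul' := fun c r => Subtype.ext (show algebraMap k K c * (r : K) = c • (r : K) from
        (Algebra.smul_def _ _).symm) }
  let f : P.O →ₗ[k] RelQ (ball P (-P.ord (a : K))) (ball P 0) := (Submodule.mkQ _).comp incl
  have hf : Function.Surjective f := fun q => by
    obtain ⟨⟨r, hr⟩, rfl⟩ := Submodule.Quotient.mk_surjective _ q
    exact ⟨⟨r, show P.1 r ≤ 1 from le_of_le_of_eq (show P.1 r ≤ exp (0 : ℤ) from hr) exp_zero⟩, rfl⟩
  have hker : LinearMap.ker f = (Ideal.span {a}).restrictScalars k := by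
    ext r
    rw [LinearMap.mem_ker, Submodule.restrictScalars_mem, Ideal.mem_span_singleton']
    refine (Submodule.Quotient.mk_eq_zero _).trans ⟨fun h => ?_, ?_⟩
    · change P.1 (r : K) ≤ exp (-P.ord (a : K)) at h
      refine ⟨⟨(r : K) / a, show P.1 _ ≤ 1 from ?_⟩, Subtype.ext (div_mul_cancel₀ _ ha0)⟩
      rw [map_div₀]
      exact div_le_one_of_le₀ (h.trans_eq (val_eq_exp P ha0).symm) zero_le
    · rintro ⟨s, rfl⟩
      show P.1 ((s : K) * a) ≤ exp (-P.ord (a : K))
      rw [map_mul, ← val_eq_exp P ha0]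
      exact mul_le_of_le_one_left' s.2
  let e : (P.O ⧸ Ideal.span {a}) ≃ₗ[k] RelQ (ball P (-P.ord (a : K))) (ball P 0) :=
    (Submodule.Quotient.restrictScalarsEquiv k (Ideal.span {a})).symm.trans
      ((Submodule.quotEquivOfEq _ _ hker.symm).trans (f.quotKerEquivOfSurjective hf))
  refine ⟨Module.Finite.equiv e.symm, ?_⟩
  rw [e.finrank_eq, hdim]
  ring

variable [IsScalarTower k K K'] [FiniteDimensional K K']

lemma ord_norm_of_integral (hK : IsFunctionField k K) (P : Place k K)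
    (Qs : Finset (Place k K')) (hQs : ∀ Q, Q ∈ Qs ↔ IsOver Q P) (x : K') (hx : x ≠ 0)
    (hint : ∀ Q ∈ Qs, Q.1 x ≤ 1) :
    (P.deg : ℤ) * P.ord (Algebra.norm K x) = ∑ Q ∈ Qs, (Q.deg : ℤ) * Q.ord x := by
  classical
  letI : Algebra P.O K' := ((algebraMap K K').comp P.O.subtype).toAlgebra
  haveI : IsScalarTower P.O K K' := IsScalarTower.of_algebraMap_eq' rfl
  haveI := isDiscreteValuationRing_O P
  obtain ⟨z, hz, -, hspan⟩ := exists_integral_basis (K' := K') hK P
  let R := integralClosure P.O K'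
  have hR : ∀ r : R, ∀ Q : Place k K', IsOver Q P → Q.1 (r : K') ≤ 1 :=
    fun r => (isIntegral_iff hK.1 P _).1 r.2
  have hfinR : Module.Finite P.O R := by
    let w : Fin (Module.finrank K K') → R := fun i => ⟨z i, (isIntegral_iff hK.1 P _).2 (hz i)⟩
    refine Module.Finite.of_surjective (Fintype.linearCombination P.O w) fun r => ?_
    obtain ⟨c, hc, hrc⟩ := hspan r (hR r)
    refine ⟨fun i => ⟨c i, hc i⟩, Subtype.ext ?_⟩
    rw [Fintype.linearCombination_apply, AddSubmonoidClass.coe_finsetSum, hrc]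
    exact Finset.sum_congr rfl fun i _ =>
      (IsScalarTower.algebraMap_smul K (⟨c i, hc i⟩ : P.O) (z i)).symm
  have : FaithfulSMul P.O K' := (faithfulSMul_iff_algebraMap_injective _ _).2
    ((algebraMap K K').injective.comp Subtype.val_injective)
  have htf : Module.IsTorsionFree P.O R := inferInstance
  have : Module.Free P.O R := Module.free_of_finite_type_torsion_free'
  let b := Module.Free.chooseBasis P.O R
  let r : R := ⟨x, (isIntegral_iff hK.1 P _).2 fun Q hQ => hint Q ((hQs Q).2 hQ)⟩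
  have hr : r ≠ 0 := fun h => hx (congrArg Subtype.val h)
  letI : Algebra k R := ((algebraMap P.O R).comp (algebraMap k P.O)).toAlgebra
  haveI : IsScalarTower k P.O R := IsScalarTower.of_algebraMap_eq' rfl
  -- the quotient as a product of local quotients
  obtain ⟨hfin, hdim⟩ := relQ_ballInf (isFF_ext (K' := K') hK.1) Qs (fun Q => -max (Q.ord x) 0)
    (fun _ => 0) (fun Q => by simp)
  let incl : R →ₗ[k] ↥(⨅ Q ∈ Qs, ball Q (0 : ℤ) : Submodule k K') :=
    { toFun := fun s => ⟨(s : K'), by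
        simp only [Submodule.mem_iInf, mem_ball, exp_zero]
        exact fun Q hQ => hR s Q ((hQs Q).1 hQ)⟩
      map_add' := fun _ _ => rfl
      map_smul' := fun c s => Subtype.ext (by
        show algebraMap K K' (algebraMap k K c) * (s : K') = c • (s : K')
        rw [Algebra.smul_def, IsScalarTower.algebraMap_apply k K K']) }
  let f : R →ₗ[k] RelQ (⨅ Q ∈ Qs, ball Q (-max (Q.ord x) 0) : Submodule k K')
      (⨅ Q ∈ Qs, ball Q (0 : ℤ)) := (Submodule.mkQ _).comp incl
  have hf : Function.Surjective f := fun q => by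
    obtain ⟨⟨s, hs⟩, rfl⟩ := Submodule.Quotient.mk_surjective _ q
    simp only [Submodule.mem_iInf, mem_ball, exp_zero] at hs
    exact ⟨⟨s, (isIntegral_iff hK.1 P _).2 fun Q hQ => hs Q ((hQs Q).2 hQ)⟩, rfl⟩
  have hox : ∀ Q ∈ Qs, max (Q.ord x) 0 = Q.ord x := fun Q hQ =>
    max_eq_left ((val_le_one_iff Q hx).1 (hint Q hQ))
  have hker : LinearMap.ker f = (Ideal.span {r}).restrictScalars k := by
    ext s
    rw [LinearMap.mem_ker, Submodule.restrictScalars_mem, Ideal.mem_span_singleton']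
    refine (Submodule.Quotient.mk_eq_zero _).trans ⟨fun h => ?_, ?_⟩
    · simp only [Submodule.mem_comap, Submodule.mem_iInf, mem_ball] at h
      refine ⟨⟨(s : K') / x, (isIntegral_iff hK.1 P _).2 fun Q hQ => ?_⟩,
        Subtype.ext (div_mul_cancel₀ _ hx)⟩
      have h1 := h Q ((hQs Q).2 hQ)
      rw [hox Q ((hQs Q).2 hQ), ← val_eq_exp Q hx] at h1
      rw [map_div₀]
      exact div_le_one_of_le₀ h1 zero_le
    · rintro ⟨u, rfl⟩
      simp only [Submodule.mem_comap, Submodule.mem_iInf, mem_ball]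
      intro Q hQ
      show Q.1 ((u : K') * x) ≤ _
      rw [hox Q hQ, ← val_eq_exp Q hx, map_mul]
      exact mul_le_of_le_one_left' (hR u Q ((hQs Q).1 hQ))
  let e : (R ⧸ Ideal.span {r}) ≃ₗ[k] RelQ (⨅ Q ∈ Qs, ball Q (-max (Q.ord x) 0) : Submodule k K')
      (⨅ Q ∈ Qs, ball Q (0 : ℤ)) :=
    (Submodule.Quotient.restrictScalarsEquiv k (Ideal.span {r})).symm.trans
      ((Submodule.quotEquivOfEq _ _ hker.symm).trans (f.quotKerEquivOfSurjective hf))
  -- Smith form
  have hne := Ideal.span_singleton_eq_bot.not.2 hr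
  let a := Ideal.smithCoeffs b _ hne
  have ha0 : ∀ i, a i ≠ 0 := Ideal.smithCoeffs_ne_zero b _ hne
  haveI : ∀ i, Module.Finite k (P.O ⧸ Ideal.span ({a i} : Set P.O)) :=
    fun i => (finrank_quot_span_O hK.1 P _ (ha0 i)).1
  haveI : ∀ i, Module.Free k (P.O ⧸ Ideal.span ({a i} : Set P.O)) :=
    fun i => Module.Free.of_divisionRing k _
  have hq : (Module.finrank k (R ⧸ Ideal.span {r}) : ℤ) = (∑ i, P.ord ((a i : P.O) : K)) * P.deg := by
    rw [Ideal.finrank_quotient_eq_sum k hne b, Nat.cast_sum, Finset.sum_mul]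
    exact Finset.sum_congr rfl fun i _ => (finrank_quot_span_O hK.1 P _ (ha0 i)).2
  obtain ⟨u, hu⟩ := associated_norm_prod_smith b hr
  -- the norm
  haveI : IsLocalization (Algebra.algebraMapSubmonoid R (nonZeroDivisors P.O)) K' :=
    IsIntegralClosure.isLocalization P.O K K' R
  have hnorm : Algebra.norm K x = ((Algebra.norm P.O r : P.O) : K) :=
    Algebra.norm_localization P.O (nonZeroDivisors P.O) (Sₘ := K') r
  have hu0 : P.ord ((u : P.O) : K) = 0 := by
    have h1 : ((u : P.O) : K) * ((u⁻¹ : P.Oˣ) : P.O) = 1 := by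
      exact_mod_cast congrArg (Subtype.val) u.mul_inv
    have h2 : ((u : P.O) : K) ≠ 0 := fun h => by rw [h, zero_mul] at h1; exact zero_ne_one h1
    refine (val_eq_one_iff P h2).1 (le_antisymm (u : P.O).2 ?_)
    calc (1 : WithZero (Multiplicative ℤ)) = P.1 (((u : P.O) : K) * ((u⁻¹ : P.Oˣ) : P.O)) := by
          rw [h1, map_one]
      _ ≤ P.1 ((u : P.O) : K) := by rw [map_mul]; exact mul_le_of_le_one_right' ((u⁻¹ : P.Oˣ) : P.O).2
  have hord : P.ord (Algebra.norm K x) = ∑ i, P.ord ((a i : P.O) : K) := by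
    have hnz : Algebra.norm K x ≠ 0 := (Algebra.norm_ne_zero_iff).2 hx
    have hne2 : ((Algebra.norm P.O r : P.O) : K) ≠ 0 := hnorm ▸ hnz
    have hu2 : ((u : P.O) : K) ≠ 0 := fun h => u.ne_zero (Subtype.ext h)
    have h1 : P.ord (((Algebra.norm P.O r : P.O) : K) * ((u : P.O) : K)) =
        P.ord ((∏ i, a i : P.O) : K) := congrArg (fun y : P.O => P.ord (y : K)) hu
    rw [ord_mul P hne2 hu2, hu0, add_zero, ← hnorm] at h1
    rw [h1, SubmonoidClass.coe_finsetProd]
    have : ∀ s : Finset (Module.Free.ChooseBasisIndex P.O R),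
        P.ord (∏ i ∈ s, ((a i : P.O) : K)) = ∑ i ∈ s, P.ord ((a i : P.O) : K) := by
      intro s
      induction s using Finset.induction_on with
      | empty => simp [Place.ord]
      | insert i s hi ih =>
        rw [Finset.prod_insert hi, Finset.sum_insert hi, ord_mul P, ih]
        · exact fun h => ha0 i (Subtype.ext h)
        · exact Finset.prod_ne_zero_iff.2 fun j _ h => ha0 j (Subtype.ext h)
    exact this _
  rw [hord, mul_comm, ← hq, e.finrank_eq, hdim]
  exact Finset.sum_congr rfl fun Q hQ => by rw [hox Q hQ]; ring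

lemma ord_norm (hK : IsFunctionField k K) (P : Place k K) (x : K')
    (Qs : Finset (Place k K')) (hQs : ∀ Q, Q ∈ Qs ↔ IsOver Q P) :
    (P.deg : ℤ) * P.ord (Algebra.norm K x) = ∑ Q ∈ Qs, (Q.deg : ℤ) * Q.ord x := by
  classical
  rcases eq_or_ne x 0 with rfl | hx
  · simp
  let N : ℕ := Qs.sup fun Q => (-Q.ord x).toNat
  obtain ⟨t, ht0, ht⟩ := exists_val_eq P (-(N : ℤ))
  have htord : P.ord t = N := by rw [ord_eq_of_val P ht, neg_neg]
  have htK : algebraMap K K' t ≠ 0 := (map_ne_zero _).2 ht0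
  have hy : algebraMap K K' t * x ≠ 0 := mul_ne_zero htK hx
  have he : ∀ Q ∈ Qs, Q.ord (algebraMap K K' t * x) = ramIdx Q P * N + Q.ord x := fun Q hQ => by
    obtain ⟨e, he⟩ := (hQs Q).1 hQ
    rw [ord_mul Q htK hx, he.ord, htord, ramIdx_eq he]
  have h := ord_norm_of_integral hK P Qs hQs _ hy fun Q hQ => by
    rw [val_le_one_iff Q hy, he Q hQ]
    obtain ⟨e, he'⟩ := (hQs Q).1 hQ
    have h1 : (1 : ℤ) ≤ e := by exact_mod_cast he'.pos
    have h2 := Finset.le_sup (f := fun Q => (-Q.ord x).toNat) hQ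
    rw [ramIdx_eq he']
    simp only [N] at *
    nlinarith [Int.self_le_toNat (-Q.ord x)]
  have hn : (P.deg : ℤ) * P.ord (t ^ Module.finrank K K') =
      ∑ Q ∈ Qs, (Q.deg : ℤ) * (ramIdx Q P * N) := by
    have h2 : (∑ Q ∈ Qs, (ramIdx Q P : ℤ) * Q.deg) = Module.finrank K K' * P.deg := by
      exact_mod_cast (finite_over_and_sum (K' := K') hK P).2 Qs hQs
    rw [Place.ord, map_pow, log_pow, nsmul_eq_mul, ← mul_neg, show -log (P.1 t) = P.ord t from rfl, htord]
    calc (P.deg : ℤ) * ((Module.finrank K K' : ℕ) * (N : ℤ))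
        = ((Module.finrank K K' : ℤ) * P.deg) * N := by push_cast; ring
      _ = _ := by rw [← h2, Finset.sum_mul]; exact Finset.sum_congr rfl fun _ _ => by ring
  rw [map_mul, Algebra.norm_algebraMap, ord_mul P (pow_ne_zero _ ht0)
    ((Algebra.norm_ne_zero_iff).2 hx), mul_add, hn,
    Finset.sum_congr rfl fun Q hQ => congrArg ((Q.deg : ℤ) * ·) (he Q hQ)] at h
  simp only [mul_add, Finset.sum_add_distrib] at h
  linarith

end Groth.Agent.FF
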