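/-
Galois extensions of function fields: transitivity on places, decomposition groups.
-/
import Groth.Agent.L26.FF.Norm
import Mathlib.FieldTheory.Galois.Basic
import Mathlib.RingTheory.Valuation.RamificationGroup
import Mathlib.RingTheory.Norm.Transitivity
import Mathlib.GroupTheory.GroupAction.Quotient

open WithZero
open scoped Pointwise

namespace Groth.Agent.FF

open FunFld

variable {k K K' : Type*} [Field k] [Field K] [Field K'] [Algebra k K] [Algebra K K'] [Algebra k K']
  [IsScalarTower k K K']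

/-- The image of a place under an automorphism: `(σ Q)(x) = Q(σ⁻¹ x)`. -/
def galPlace (σ : K' ≃ₐ[K] K') (Q : Place k K') : Place k K' :=
  ⟨Q.1.comap (σ.symm : K' →+* K'), fun c => by
    show Q.1 (σ.symm (algebraMap k K' c)) ≤ 1
    rw [IsScalarTower.algebraMap_apply k K K', AlgEquiv.commutes, ← IsScalarTower.algebraMap_apply]
    exact Q.2.1 c,
   fun y => (Q.2.2 y).elim fun x hx => ⟨σ x, by
    show Q.1 (σ.symm (σ x)) = y
    rw [AlgEquiv.symm_apply_apply, hx]⟩⟩

lemma galPlace_apply (σ : K' ≃ₐ[K] K') (Q : Place k K') (x : K') :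
    (galPlace σ Q).1 x = Q.1 (σ.symm x) := rfl

lemma galPlace_O (σ : K' ≃ₐ[K] K') (Q : Place k K') : (galPlace σ Q).O = σ • Q.O := by
  ext x
  show x ∈ (galPlace σ Q).O ↔ x ∈ ((σ • Q.O : ValuationSubring K') : Set K')
  rw [ValuationSubring.coe_pointwise_smul, Set.mem_smul_set_iff_inv_smul_mem]
  rfl

lemma place_ext_O {P Q : Place k K} (h : P.O = Q.O) : P = Q :=
  eq_of_le fun z hz => (h ▸ (show z ∈ P.O from hz) : z ∈ Q.O)

lemma galPlace_isOverWith (σ : K' ≃ₐ[K] K') {Q : Place k K'} {P : Place k K} {e : ℕ}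
    (h : IsOverWith Q P e) : IsOverWith (galPlace σ Q) P e := fun x => by
  rw [galPlace_apply, AlgEquiv.commutes, h x]

lemma galPlace_deg (σ : K' ≃ₐ[K] K') (Q : Place k K') : (galPlace σ Q).deg = Q.deg := by
  let e : (galPlace σ Q).O ≃+* Q.O :=
    { toFun := fun x => ⟨σ.symm x, x.2⟩
      invFun := fun x => ⟨σ x, show Q.1 (σ.symm (σ (x : K'))) ≤ 1 by
        rw [AlgEquiv.symm_apply_apply]; exact x.2⟩
      left_inv := fun x => Subtype.ext (σ.apply_symm_apply _)
      right_inv := fun x => Subtype.ext (σ.symm_apply_apply _)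
      map_mul' := fun a b => Subtype.ext (map_mul σ.symm _ _)
      map_add' := fun a b => Subtype.ext (map_add σ.symm _ _) }
  let E := IsLocalRing.ResidueField.mapEquiv e
  let L : IsLocalRing.ResidueField (galPlace σ Q).O ≃ₐ[k] IsLocalRing.ResidueField Q.O :=
    AlgEquiv.ofRingEquiv (f := E) fun c => by
      show IsLocalRing.residue Q.O (e (algebraMap k (galPlace σ Q).O c)) =
        IsLocalRing.residue Q.O (algebraMap k Q.O c)
      congr 1
      refine Subtype.ext ?_
      show σ.symm (algebraMap k K' c) = algebraMap k K' c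
      rw [IsScalarTower.algebraMap_apply k K K', AlgEquiv.commutes]
  exact L.toLinearEquiv.finrank_eq

variable [FiniteDimensional K K']

/-- The Galois group is transitive on the places over a given one. -/
lemma exists_galPlace_eq (hK : IsFF k K) [IsGalois K K'] {Q₁ Q₂ : Place k K'} {P : Place k K}
    (h1 : IsOver Q₁ P) (h2 : IsOver Q₂ P) : ∃ σ : K' ≃ₐ[K] K', galPlace σ Q₁ = Q₂ := by
  classical
  by_contra hne
  push Not at hne
  let S : Finset (Place k K') := (finite_over hK P).toFinset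
  have hS : ∀ {Q : Place k K'}, IsOver Q P → Q ∈ S := fun h => (finite_over hK P).mem_toFinset.2 h
  obtain ⟨x, hx⟩ := approx S (fun Q => if Q = Q₂ then 0 else 1) 1
  have hint : ∀ Q : Place k K', IsOver Q P → Q ≠ Q₂ → Q.1 x = 1 := fun Q hQ hne' => by
    have := hx Q (hS hQ)
    rw [if_neg hne'] at this
    have h3 := val_one_add_of_lt_one Q (this.trans_lt (exp_lt_one'.2 (by omega)))
    rwa [add_sub_cancel] at h3
  have hQ2 : Q₂.1 x < 1 := by
    have := hx Q₂ (hS h2)
    rw [if_pos rfl, sub_zero] at this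
    exact this.trans_lt (exp_lt_one'.2 (by omega))
  obtain ⟨e1, he1⟩ := id h1
  obtain ⟨e2, he2⟩ := id h2
  have hQ1 : ∀ σ : K' ≃ₐ[K] K', Q₁.1 (σ x) = 1 := fun σ => by
    have := hint (galPlace σ.symm Q₁) ⟨e1, galPlace_isOverWith _ he1⟩ (hne _)
    rwa [galPlace_apply, AlgEquiv.symm_symm] at this
  have hle : ∀ σ : K' ≃ₐ[K] K', Q₂.1 (σ x) ≤ 1 := fun σ => by
    have ho : IsOver (galPlace σ.symm Q₂) P := ⟨e2, galPlace_isOverWith _ he2⟩
    have e : Q₂.1 (σ x) = (galPlace σ.symm Q₂).1 x := by rw [galPlace_apply, AlgEquiv.symm_symm]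
    rw [e]
    rcases eq_or_ne (galPlace σ.symm Q₂) Q₂ with h | h
    · rw [h]; exact hQ2.le
    · exact (hint _ ho h).le
  have hN1 : Q₁.1 (algebraMap K K' (Algebra.norm K x)) = 1 := by
    rw [Algebra.norm_eq_prod_automorphisms, map_prod]
    exact Finset.prod_eq_one fun σ _ => hQ1 σ
  have hN2 : Q₂.1 (algebraMap K K' (Algebra.norm K x)) < 1 := by
    rw [Algebra.norm_eq_prod_automorphisms, map_prod,
      ← Finset.mul_prod_erase _ _ (Finset.mem_univ (1 : K' ≃ₐ[K] K'))]
    exact mul_lt_one_of_lt_of_le hQ2 (Finset.prod_le_one' fun σ _ => hle σ)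
  exact absurd hN1 ((he1.lt_one_iff _).2 ((he2.lt_one_iff _).1 hN2)).ne

/-- Orbit–stabilizer for the places over `P`. -/
lemma card_places_mul_card_decomposition (hK : IsFF k K) [IsGalois K K'] {Q : Place k K'}
    {P : Place k K} (h : IsOver Q P) :
    Nat.card {Q' : Place k K' // IsOver Q' P} * Nat.card ((Q.O).decompositionSubgroup K) =
      Module.finrank K K' := by
  obtain ⟨e, he⟩ := id h
  let f : MulAction.orbit (K' ≃ₐ[K] K') Q.O → {Q' : Place k K' // IsOver Q' P} := fun A =>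
    ⟨galPlace A.2.choose Q, ⟨e, galPlace_isOverWith _ he⟩⟩
  have hf : Function.Bijective f := by
    refine ⟨fun A B hAB => Subtype.ext ?_, fun Q' => ?_⟩
    · have h1 : (galPlace A.2.choose Q).O = (galPlace B.2.choose Q).O :=
        congrArg Place.O (congrArg Subtype.val hAB)
      rw [galPlace_O, galPlace_O] at h1
      exact (A.2.choose_spec.symm.trans h1).trans B.2.choose_spec
    · obtain ⟨σ, hσ⟩ := exists_galPlace_eq hK h Q'.2
      let A : MulAction.orbit (K' ≃ₐ[K] K') Q.O := ⟨σ • Q.O, ⟨σ, rfl⟩⟩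
      refine ⟨A, Subtype.ext (place_ext_O ?_)⟩
      show (galPlace A.2.choose Q).O = Q'.1.O
      rw [galPlace_O, ← hσ, galPlace_O]
      exact A.2.choose_spec
  rw [← Nat.card_congr (Equiv.ofBijective f hf), ← IsGalois.card_aut_eq_finrank,
    ← Nat.card_prod]
  exact Nat.card_congr (MulAction.orbitProdStabilizerEquivGroup (K' ≃ₐ[K] K') Q.O)

/-- All places over `P` share `e` and `f`. -/
lemma galois_over (hK : IsFF k K) [IsGalois K K'] {Q : Place k K'} {P : Place k K} {e : ℕ}
    (he : IsOverWith Q P e) {Q' : Place k K'} (h : IsOver Q' P) :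
    IsOverWith Q' P e ∧ Q'.deg = Q.deg := by
  obtain ⟨σ, rfl⟩ := exists_galPlace_eq hK ⟨e, he⟩ h
  exact ⟨galPlace_isOverWith σ he, galPlace_deg σ Q⟩

lemma card_decomposition_mul_deg (hK : IsFunctionField k K) [IsGalois K K'] {Q : Place k K'}
    {P : Place k K} {e : ℕ} (he : IsOverWith Q P e) :
    Nat.card ((Q.O).decompositionSubgroup K) * P.deg = e * Q.deg := by
  classical
  obtain ⟨hfin, hsum⟩ := finite_over_and_sum (K' := K') hK P
  have h1 := hsum hfin.toFinset (fun Q => hfin.mem_toFinset)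
  rw [Finset.sum_congr rfl fun Q' hQ' => (by
      obtain ⟨h1, h2⟩ := galois_over hK.1 he (hfin.mem_toFinset.1 hQ')
      rw [ramIdx_eq h1, h2] : ramIdx Q' P * Q'.deg = e * Q.deg),
    Finset.sum_const, smul_eq_mul, ← card_places_mul_card_decomposition hK.1 ⟨e, he⟩] at h1
  have h2 : Nat.card {Q' : Place k K' // IsOver Q' P} = hfin.toFinset.card := by
    rw [← Set.ncard_eq_toFinset_card _ hfin, ← Nat.card_coe_set_eq]; rfl
  have h3 : 0 < hfin.toFinset.card := Finset.card_pos.2 ⟨Q, hfin.mem_toFinset.2 ⟨e, he⟩⟩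
  rw [h2, mul_assoc] at h1
  exact (Nat.eq_of_mul_eq_mul_left h3 h1).symm

end Groth.Agent.FF
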