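/-
Algebraically closed constants, genus zero fields.
-/
import Groth.Agent.L26.FF.RR
import Mathlib.FieldTheory.IsAlgClosed.Basic
import Mathlib.FieldTheory.IntermediateField.Adjoin.Basic

open WithZero IntermediateField

namespace Groth.Agent.FF

open FunFld

variable {k K : Type*} [Field k] [Field K] [Algebra k K]

lemma deg_eq_one [IsAlgClosed k] (hK : IsFunctionField k K) (P : Place k K) : P.deg = 1 := by
  have := finite_residueField hK.1 P
  have : @Module.Finite k (IsLocalRing.ResidueField P.O) _ _ Algebra.toModule := this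
  have : Algebra.IsIntegral k (IsLocalRing.ResidueField P.O) := Algebra.IsIntegral.of_finite k _
  have hb := IsAlgClosed.algebraMap_bijective_of_isIntegral (k := k)
    (K := IsLocalRing.ResidueField P.O)
  exact ((LinearEquiv.ofBijective (Algebra.linearMap k (IsLocalRing.ResidueField P.O))
    hb).finrank_eq).symm.trans (Module.finrank_self k)

lemma residue_bijective_of_deg_one (P : Place k K) (h : P.deg = 1) :
    Function.Bijective (algebraMap k (IsLocalRing.ResidueField P.O)) :=
  have : FiniteDimensional k (IsLocalRing.ResidueField P.O) :=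
    Module.finite_of_finrank_pos (by
      show 0 < P.deg
      omega)
  ⟨RingHom.injective _, fun x => by
    obtain ⟨c, hc⟩ := exists_smul_eq_of_finrank_eq_one (K := k)
      (V := IsLocalRing.ResidueField P.O) h (one_ne_zero) x
    exact ⟨c, ((mul_one _).symm.trans (Algebra.smul_def c (1 : IsLocalRing.ResidueField P.O)).symm).trans hc⟩⟩

lemma exists_value (P : Place k K) (h : P.deg = 1) {z : K} (hz : P.1 z ≤ 1) :
    ∃ c : k, P.1 (z - algebraMap k K c) < 1 := by
  obtain ⟨c, hc⟩ := (residue_bijective_of_deg_one P h).2 (resMap P ⟨z, hz⟩)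
  refine ⟨c, (residue_eq_zero P ⟨z - algebraMap k K c, ?_⟩).1 ?_⟩
  · exact (P.1.map_sub _ _).trans (max_le hz (P.2.1 c))
  · have : (⟨z - algebraMap k K c, _⟩ : P.O) = ⟨z, hz⟩ - algebraMap k P.O c := Subtype.ext rfl
    rw [this, map_sub, AlgHom.commutes, ← hc, sub_self]

lemma exists_place_ne (hK : IsFunctionField k K) (P : Place k K) : ∃ R : Place k K, R ≠ P := by
  obtain ⟨x, hx⟩ := exists_transcendental hK
  obtain ⟨Q, hQ⟩ := exists_zero hK.1 hx
  obtain ⟨R, hR⟩ := exists_pole hK.1 hx
  by_cases h : Q = P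
  · exact ⟨R, fun h' => absurd (h'.trans h.symm ▸ hR) (not_lt.2 hQ.le)⟩
  · exact ⟨Q, h⟩

lemma single_le_iff {P : Place k K} {n : ℤ} {D : Divisor k K} (hD : 0 ≤ D) :
    Finsupp.single P n ≤ D ↔ n ≤ D P := by
  classical
  refine ⟨fun h => by simpa using h P, fun h Q => ?_⟩
  rw [Finsupp.single_apply]
  split_ifs with hQ
  · exact hQ ▸ h
  · exact hD Q

lemma eq_zero_of_deg_zero (hK : IsFunctionField k K) {E : Divisor k K} (h : 0 ≤ E)
    (hd : E.deg = 0) : E = 0 := by
  refine Finsupp.ext fun P => ?_
  by_contra hP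
  have hpos : 1 ≤ E P := Int.add_one_le_iff.2 (lt_of_le_of_ne (h P) (Ne.symm hP))
  have h1 := deg_mono ((single_le_iff h).2 hpos)
  rw [deg_single, hd] at h1
  have := one_le_deg hK.1 P
  omega

lemma exists_single_of_deg_one (hK : IsFunctionField k K) {E : Divisor k K} (h : 0 ≤ E)
    (hd : E.deg = 1) : ∃ P : Place k K, P.deg = 1 ∧ E = Finsupp.single P 1 := by
  obtain ⟨P, hP⟩ : ∃ P, E P ≠ 0 := by
    by_contra hc
    push Not at hc
    rw [Finsupp.ext hc (g := 0), deg_zero] at hd
    omega
  have hpos : 1 ≤ E P := Int.add_one_le_iff.2 (lt_of_le_of_ne (h P) (Ne.symm hP))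
  have h1 := (single_le_iff h).2 hpos
  have h2 := deg_mono h1
  rw [deg_single, hd] at h2
  have := one_le_deg hK.1 P
  refine ⟨P, by omega, ?_⟩
  have h3 := eq_zero_of_deg_zero hK (sub_nonneg.2 h1) (by rw [deg_sub, deg_single, hd]; omega)
  exact sub_eq_zero.1 h3

lemma poles_of_simple (hK : IsFunctionField k K) {x : K} {P : Place k K} (hord : P.ord x = -1)
    (hreg : ∀ Q, Q ≠ P → 0 ≤ Q.ord x) : poles k x = Finsupp.single P 1 := by
  classical
  refine Finsupp.ext fun Q => ?_
  rw [poles_apply hK.1, Finsupp.single_apply]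
  split_ifs with h
  · subst h; omega
  · have := hreg Q (Ne.symm h); omega

lemma adjoin_eq_top_of_simple_pole (hK : IsFunctionField k K) {x : K} {P : Place k K}
    (hP : P.deg = 1) (hord : P.ord x = -1) (hreg : ∀ Q, Q ≠ P → 0 ≤ Q.ord x) :
    Transcendental k x ∧ k⟮x⟯ = ⊤ := by
  have hx : Transcendental k x := transcendental_of_not_const hK (by
    rintro ⟨c, rfl⟩
    rw [ord_const] at hord
    omega)
  refine ⟨hx, ?_⟩
  have h := deg_poles hK.1 hx
  rw [poles_of_simple hK hord hreg, deg_single, hP] at h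
  have h1 : Module.finrank k⟮x⟯ K = 1 := by omega
  rwa [IntermediateField.finrank_eq_one_iff_eq_top] at h1

lemma genus_eq_zero_of_adjoin_eq_top (hK : IsFunctionField k K) {x : K} (h : k⟮x⟯ = ⊤)
    : genus k K = 0 := by
  have hx : Transcendental k x := by
    refine transcendental_of_not_const hK ?_
    rintro ⟨c, rfl⟩
    obtain ⟨y, hy⟩ := exists_transcendental hK
    have hy' : y ∈ k⟮(algebraMap k K c)⟯ := h ▸ mem_top
    rw [adjoin_simple_eq_bot_iff.2 (IntermediateField.algebraMap_mem ⊥ c), mem_bot] at hy'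
    exact not_const_of_transcendental hy hy'
  have hn : Module.finrank k⟮x⟯ K = 1 := IntermediateField.finrank_eq_one_iff_eq_top.2 h
  obtain ⟨N, hN⟩ := riemann hK
  have hlow : ∀ l : ℕ, (l : ℤ) + 1 ≤ ell (l • poles k x) := fun l => by
    have := finite_L hK.1 (l • poles k x)
    let T : Polynomial.degreeLT k (l + 1) →ₗ[k] L (l • poles k x) :=
      ((Polynomial.aeval x).toLinearMap.comp (Polynomial.degreeLT k (l + 1)).subtype).codRestrict _
        fun p P => by
          show P.1 (Polynomial.aeval x (p : Polynomial k)) ≤ _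
          have hp : (p : Polynomial k).natDegree < l + 1 := by
            by_cases h0 : (p : Polynomial k) = 0
            · simp [h0]
            · have := Polynomial.mem_degreeLT.1 p.2
              rw [Polynomial.degree_eq_natDegree h0] at this
              exact WithBot.coe_lt_coe.1 this
          rw [Polynomial.aeval_eq_sum_range' hp]
          refine P.1.map_sum_le fun j hj => ?_
          rw [Algebra.smul_def, map_mul, map_pow]
          refine (mul_le_mul' (P.2.1 _) (pow_le_pow_left₀ zero_le (val_le_poles hK.1 x P) j)).trans ?_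
          rw [one_mul, ← exp_nsmul, exp_le_exp, Finsupp.smul_apply]
          exact nsmul_le_nsmul_left (poles_nonneg x P) (Nat.lt_succ_iff.1 (Finset.mem_range.1 hj))
    have hT : Function.Injective T := fun p q hpq =>
      Subtype.ext (transcendental_iff_injective.1 hx (congrArg Subtype.val hpq))
    have := LinearMap.finrank_le_finrank_of_injective hT
    rw [(Polynomial.degreeLTEquiv k (l + 1)).finrank_eq, Module.finrank_fin_fun] at this
    exact_mod_cast this
  have h1 := hlow N.toNat
  have h2 := hN (N.toNat • poles k x) (by rw [deg_nsmul, deg_poles hK.1 hx, hn]; push_cast; omega)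
  rw [delta, deg_nsmul, deg_poles hK.1 hx, hn] at h2
  push_cast at h2
  omega

lemma exists_simple_pole_of_two_le_ell (hK : IsFunctionField k K) {D : Divisor k K}
    (hd : D.deg = 1) (hl : 2 ≤ ell D) :
    ∃ (x : K) (P : Place k K), P.deg = 1 ∧ P.ord x = -1 ∧ ∀ Q, Q ≠ P → 0 ≤ Q.ord x := by
  obtain ⟨z, hz, hz0⟩ := exists_ne_zero_of_ell_pos (D := D) (by omega)
  obtain ⟨P, hP, hE⟩ := exists_single_of_deg_one hK ((mem_L_iff_div hK.1 hz0).1 hz)
    (by rw [deg_add, deg_div hK.1, hd, zero_add])
  have he : ell (Finsupp.single P 1) = ell D := by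
    rw [← hE, add_comm, ell_add_div hK D hz0]
  by_contra hc
  push Not at hc
  have hle : L (Finsupp.single P 1) ≤ L (0 : Divisor k K) := by
    intro x hx
    rcases eq_or_ne x 0 with rfl | hx0
    · exact zero_mem _
    rw [mem_L_iff_ord hx0] at hx ⊢
    have hQ : ∀ Q, Q ≠ P → 0 ≤ Q.ord x := fun Q hQ => by
      simpa [Finsupp.single_eq_of_ne hQ] using hx Q
    intro Q
    simp only [Finsupp.zero_apply, add_zero]
    by_cases hQP : Q = P
    · subst hQP
      have := hx Q
      rw [Finsupp.single_eq_same] at this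
      by_contra hneg
      obtain ⟨R, hR, hR'⟩ := hc x Q hP (by omega)
      exact absurd (hQ R hR) (not_le.2 hR')
    · exact hQ Q hQP
  have := finite_L hK.1 (0 : Divisor k K)
  have := Submodule.finrank_mono hle
  rw [show Module.finrank k (L (0 : Divisor k K)) = 1 from ell_zero hK,
    show Module.finrank k (L (Finsupp.single P 1)) = ell D from he] at this
  omega

lemma ell_le_one_of_deg_le_one (hK : IsFunctionField k K) (hg : 0 < genus k K) {D : Divisor k K}
    (hd : D.deg ≤ 1) : ell D ≤ 1 := by
  by_contra hl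
  push Not at hl
  obtain ⟨z, hz, hz0⟩ := exists_ne_zero_of_ell_pos (D := D) (by omega)
  have h1 := deg_nonneg ((mem_L_iff_div hK.1 hz0).1 hz)
  rw [deg_add, deg_div hK.1, zero_add] at h1
  rcases eq_or_lt_of_le h1 with h | h
  · have h2 : div k z + D = 0 := eq_zero_of_deg_zero hK ((mem_L_iff_div hK.1 hz0).1 hz)
      (by rw [deg_add, deg_div hK.1]; omega)
    have h3 := ell_add_div hK D hz0
    rw [add_comm, h2, ell_zero hK] at h3
    omega
  · obtain ⟨x, P, hP, hord, hreg⟩ := exists_simple_pole_of_two_le_ell hK (D := D) (by omega) hl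
    have := genus_eq_zero_of_adjoin_eq_top hK (adjoin_eq_top_of_simple_pole hK hP hord hreg).2
    omega

/-- A function with a single simple pole. -/
lemma exists_coord (hK : IsFunctionField k K) (hg : genus k K = 0) {P : Place k K} (hP : P.deg = 1) :
    ∃ t : K, P.ord t = -1 ∧ ∀ Q, Q ≠ P → 0 ≤ Q.ord t := by
  have h1 := ell_eq_of_deg_ge hK (D := Finsupp.single P 1) (by rw [deg_single, hP, hg]; norm_num)
  rw [deg_single, hP, hg] at h1
  push_cast at h1
  by_contra hc
  push Not at hc
  have hle : L (Finsupp.single P 1) ≤ L (0 : Divisor k K) := by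
    intro x hx
    rcases eq_or_ne x 0 with rfl | hx0
    · exact zero_mem _
    rw [mem_L_iff_ord hx0] at hx ⊢
    have hQ : ∀ Q, Q ≠ P → 0 ≤ Q.ord x := fun Q hQ => by
      simpa [Finsupp.single_eq_of_ne hQ] using hx Q
    intro Q
    simp only [Finsupp.zero_apply, add_zero]
    by_cases hQP : Q = P
    · subst hQP
      have := hx Q
      rw [Finsupp.single_eq_same] at this
      by_contra hneg
      obtain ⟨R, hR, hR'⟩ := hc x (by omega)
      exact absurd (hQ R hR) (not_le.2 hR')
    · exact hQ Q hQP
  have := finite_L hK.1 (0 : Divisor k K)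
  have h2 : ell (Finsupp.single P 1 : Divisor k K) ≤ ell (0 : Divisor k K) :=
    Submodule.finrank_mono hle
  rw [ell_zero hK] at h2
  omega

end Groth.Agent.FF
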