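/-
Projective maps of a function field: ratios, the affine rings, conductors, local rings.
-/
import Groth.Agent.L26.FF.RR
import Groth.Agent.L26.FF.Closed
import Groth.Prelude.Def_W4bk4goldsch45
import Mathlib.FieldTheory.IntermediateField.Adjoin.Basic
import Mathlib.RingTheory.Polynomial.Basic
import Mathlib.Algebra.Polynomial.Roots

open WithZero

namespace Groth.Agent.FF

open FunFld

variable {k K : Type*} [Field k] [Field K] [Algebra k K]
variable {ι : Type*} [Fintype ι] [Nonempty ι] {φ : ι → K}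

section mapDiv

lemma mapDiv_apply (hK : IsFF k K) (φ : ι → K) (P : Place k K) :
    mapDiv k φ P = -Finset.univ.inf' Finset.univ_nonempty (fun i => P.ord (φ i)) := by
  classical
  have hfin : (Function.support fun P : Place k K =>
      -Finset.univ.inf' Finset.univ_nonempty (fun i => P.ord (φ i))).Finite := by
    refine (Set.finite_iUnion fun i => finite_support_ord hK (φ i)).subset fun P hP => ?_
    simp only [Function.mem_support, neg_ne_zero] at hP
    obtain ⟨i, -, hi⟩ := Finset.exists_mem_eq_inf' (Finset.univ_nonempty (α := ι)) (fun i => P.ord (φ i))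
    rw [hi] at hP
    exact Set.mem_iUnion.2 ⟨i, hP⟩
  rw [mapDiv, dif_pos hfin]
  rfl

lemma neg_mapDiv_le (hK : IsFF k K) (φ : ι → K) (P : Place k K) (i : ι) :
    -mapDiv k φ P ≤ P.ord (φ i) := by
  rw [mapDiv_apply hK, neg_neg]
  exact Finset.inf'_le _ (Finset.mem_univ i)

lemma exists_ord_eq (hK : IsFF k K) (φ : ι → K) (P : Place k K) :
    ∃ i, P.ord (φ i) = -mapDiv k φ P := by
  obtain ⟨i, -, hi⟩ := Finset.exists_mem_eq_inf' (Finset.univ_nonempty (α := ι)) (fun i => P.ord (φ i))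
  exact ⟨i, by rw [mapDiv_apply hK, neg_neg, hi]⟩

lemma minimal_iff (hK : IsFF k K) (hφ : ∀ i, φ i ≠ 0) (P : Place k K) (j : ι) :
    (∀ i, P.1 (φ i) ≤ P.1 (φ j)) ↔ P.ord (φ j) = -mapDiv k φ P := by
  constructor
  · intro h
    obtain ⟨i, hi⟩ := exists_ord_eq hK φ P
    have h1 := h i
    rw [val_eq_exp P (hφ i), val_eq_exp P (hφ j), exp_le_exp] at h1
    have := neg_mapDiv_le hK φ P j
    omega
  · intro h i
    rw [val_eq_exp P (hφ i), val_eq_exp P (hφ j), exp_le_exp]
    have := neg_mapDiv_le hK φ P i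
    omega

lemma exists_minimal (φ : ι → K) (P : Place k K) : ∃ j, ∀ i, P.1 (φ i) ≤ P.1 (φ j) := by
  obtain ⟨j, -, hj⟩ := Finset.exists_max_image _ (fun i => P.1 (φ i)) (Finset.univ_nonempty (α := ι))
  exact ⟨j, fun i => hj i (Finset.mem_univ i)⟩

lemma mapDiv_le_iff (hK : IsFF k K) {D : Divisor k K} (hφ : ∀ i, φ i ≠ 0) :
    mapDiv k φ ≤ D ↔ ∀ i, φ i ∈ L D := by
  refine ⟨fun h i => L_mono h ((mem_L_iff_ord (hφ i)).2 fun P => ?_), fun h P => ?_⟩
  · have := neg_mapDiv_le hK φ P i; omega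
  · obtain ⟨i, hi⟩ := exists_ord_eq hK φ P
    have := (mem_L_iff_ord (hφ i)).1 (h i) P
    omega

lemma span_le_L_mapDiv (hK : IsFF k K) (hφ : ∀ i, φ i ≠ 0) :
    Submodule.span k (Set.range φ) ≤ L (mapDiv k φ) :=
  Submodule.span_le.2 (Set.range_subset_iff.2 fun i => (mapDiv_le_iff hK hφ).1 le_rfl i)

end mapDiv

/-- The ratios `φ i / φ j`. -/
abbrev ratio (φ : ι → K) (j : ι) : ι → K := fun i => φ i / φ j

variable (k) in
/-- The coordinate ring of the affine piece `φ j ≠ 0`. -/
abbrev aff (φ : ι → K) (j : ι) : Subalgebra k K := Algebra.adjoin k (Set.range (ratio φ j))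

variable (k) in
/-- The divisor of poles of the affine piece `φ j ≠ 0`. -/
noncomputable def bdry (φ : ι → K) (j : ι) : Divisor k K := mapDiv k φ + div k (φ j)

lemma bdry_apply (hK : IsFF k K) (φ : ι → K) (j : ι) (P : Place k K) :
    bdry k φ j P = mapDiv k φ P + P.ord (φ j) := by
  rw [bdry, Finsupp.add_apply, div_apply hK]

lemma bdry_nonneg (hK : IsFF k K) (φ : ι → K) (j : ι) : 0 ≤ bdry k φ j := fun P => by
  have := neg_mapDiv_le hK φ P j
  rw [bdry_apply hK, Finsupp.zero_apply]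
  omega

lemma bdry_eq_zero_iff (hK : IsFF k K) (hφ : ∀ i, φ i ≠ 0) (j : ι) (P : Place k K) :
    bdry k φ j P = 0 ↔ ∀ i, P.1 (φ i) ≤ P.1 (φ j) := by
  rw [minimal_iff hK hφ, bdry_apply hK]; omega

lemma ord_ratio (hφ : ∀ i, φ i ≠ 0) (i j : ι) (P : Place k K) :
    P.ord (ratio φ j i) = P.ord (φ i) - P.ord (φ j) := by
  show P.ord (φ i / φ j) = _
  rw [div_eq_mul_inv, ord_mul P (hφ i) (inv_ne_zero (hφ j)), ord_inv, sub_eq_add_neg]

lemma ratio_mem_L (hK : IsFF k K) (hφ : ∀ i, φ i ≠ 0) (i j : ι) : ratio φ j i ∈ L (bdry k φ j) := by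
  refine (mem_L_iff_ord (div_ne_zero (hφ i) (hφ j))).2 fun P => ?_
  rw [ord_ratio hφ, bdry_apply hK]
  have := neg_mapDiv_le hK φ P i
  omega

/-- Regular functions away from the support of `E`. -/
def reg (E : Divisor k K) : Subalgebra k K where
  carrier := {z | ∀ Q : Place k K, E Q = 0 → Q.1 z ≤ 1}
  mul_mem' ha hb Q hQ := by rw [map_mul]; exact Left.mul_le_one (ha Q hQ) (hb Q hQ)
  add_mem' ha hb Q hQ := (Q.1.map_add _ _).trans (max_le (ha Q hQ) (hb Q hQ))
  algebraMap_mem' c Q _ := Q.2.1 c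

lemma mem_reg {E : Divisor k K} {z : K} : z ∈ reg E ↔ ∀ Q : Place k K, E Q = 0 → Q.1 z ≤ 1 := Iff.rfl

lemma aff_le_reg (hK : IsFF k K) (hφ : ∀ i, φ i ≠ 0) (j : ι) : aff k φ j ≤ reg (bdry k φ j) := by
  refine Algebra.adjoin_le ?_
  rintro _ ⟨i, rfl⟩ Q hQ
  have := ratio_mem_L hK hφ i j Q
  rwa [hQ, exp_zero] at this

lemma exists_L_of_mem_reg (hK : IsFF k K) {E : Divisor k K} (hE : 0 ≤ E) {z : K} (hz : z ∈ reg E) :
    ∃ l : ℕ, z ∈ L (l • E) := by
  classical
  rcases eq_or_ne z 0 with rfl | hz0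
  · exact ⟨0, zero_mem _⟩
  refine ⟨E.support.sup (fun Q => (-Q.ord z).toNat), (mem_L_iff_ord hz0).2 fun Q => ?_⟩
  rw [Finsupp.smul_apply, nsmul_eq_mul]
  rcases eq_or_ne (E Q) 0 with h | h
  · rw [h, mul_zero, add_zero]
    exact (val_le_one_iff Q hz0).1 (hz Q h)
  · have h1 : (1 : ℤ) ≤ E Q := by
      have := hE Q
      rw [Finsupp.zero_apply] at this
      omega
    have h2 := Finset.le_sup (f := fun Q => (-Q.ord z).toNat) (Finsupp.mem_support_iff.2 h)
    have h4 := le_mul_of_one_le_right (Int.natCast_nonneg (E.support.sup fun Q => (-Q.ord z).toNat)) h1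
    omega

/-- A combination of the ratios with exactly the poles `bdry`. -/
lemma exists_full_pole [IsAlgClosed k] (hK : IsFunctionField k K) (hφ : ∀ i, φ i ≠ 0) (j : ι) :
    ∃ x ∈ Submodule.span k (Set.range (ratio φ j)), x ∈ L (bdry k φ j) ∧
      ∀ Q : Place k K, bdry k φ j Q ≠ 0 → x ≠ 0 ∧ Q.ord x = -bdry k φ j Q := by
  classical
  set E := bdry k φ j with hE
  let e : ι ≃ Fin (Fintype.card ι) := Fintype.equivFin ι
  choose u hu0 hu using fun Q : Place k K => exists_val_eq Q (-E Q)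
  -- residues of the ratios at the places of `E`
  have hint : ∀ (Q : Place k K) i, Q.1 (u Q * ratio φ j i) ≤ 1 := fun Q i => by
    rw [map_mul, hu Q]
    refine (mul_le_mul' le_rfl (ratio_mem_L hK.1 hφ i j Q)).trans_eq ?_
    rw [← exp_add, ← exp_zero]; congr 1; simp [hE]
  choose a ha using fun (Q : Place k K) i => exists_value Q (deg_eq_one hK Q) (hint Q i)
  let p : Place k K → Polynomial k := fun Q => ∑ i, Polynomial.C (a Q i) * Polynomial.X ^ (e i : ℕ)
  have hp : ∀ Q ∈ E.support, p Q ≠ 0 := fun Q _ h => by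
    obtain ⟨i, hi⟩ := exists_ord_eq hK.1 φ Q
    have hco : (p Q).coeff (e i : ℕ) = a Q i := by
      simp only [p, Polynomial.finsetSum_coeff, Polynomial.coeff_C_mul, Polynomial.coeff_X_pow]
      rw [Finset.sum_eq_single i]
      · simp
      · intro l _ hl
        rw [if_neg (fun h => hl (e.injective (Fin.ext h.symm))), mul_zero]
      · simp
    rw [h, Polynomial.coeff_zero] at hco
    have h1 := ha Q i
    rw [← hco, map_zero, sub_zero, map_mul, hu Q,
      val_eq_exp Q (div_ne_zero (hφ i) (hφ j)), ← exp_add, exp_lt_one'] at h1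
    have h2 : Q.ord (ratio φ j i) = Q.ord (φ i) - Q.ord (φ j) := ord_ratio hφ i j Q
    simp only [hE, bdry_apply hK.1] at h1
    change _ + -Q.ord (ratio φ j i) < 0 at h1
    omega
  have hprod : (∏ Q ∈ E.support, p Q) ≠ 0 := Finset.prod_ne_zero_iff.2 hp
  obtain ⟨s, hs⟩ : ∃ s : k, (∏ Q ∈ E.support, p Q).eval s ≠ 0 :=
    (not_forall.1 fun h => hprod (Polynomial.zero_of_eval_zero _ h))
  let x := ∑ i, algebraMap k K (s ^ (e i : ℕ)) * ratio φ j i
  refine ⟨x, sum_mem fun i _ => ?_, ?_, fun Q hQ => ?_⟩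
  · rw [← Algebra.smul_def]
    exact Submodule.smul_mem _ _ (Submodule.subset_span ⟨i, rfl⟩)
  · refine sum_mem fun i _ => ?_
    rw [← Algebra.smul_def]
    exact Submodule.smul_mem _ _ (ratio_mem_L hK.1 hφ i j)
  have hev : (p Q).eval s ≠ 0 := fun h => hs (by
    rw [Polynomial.eval_prod]
    exact Finset.prod_eq_zero (Finsupp.mem_support_iff.2 hQ) h)
  have h1 : Q.1 (u Q * x - algebraMap k K ((p Q).eval s)) < 1 := by
    have e1 : u Q * x - algebraMap k K ((p Q).eval s) =
        ∑ i, algebraMap k K (s ^ (e i : ℕ)) * (u Q * ratio φ j i - algebraMap k K (a Q i)) := by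
      simp only [p, x, Polynomial.eval_finsetSum, Polynomial.eval_mul, Polynomial.eval_C,
        Polynomial.eval_pow, Polynomial.eval_X, map_sum, map_mul, Finset.mul_sum,
        ← Finset.sum_sub_distrib]
      exact Finset.sum_congr rfl fun i _ => by ring
    rw [e1]
    refine Q.1.map_sum_lt one_ne_zero fun i _ => ?_
    rw [map_mul]
    exact (mul_le_of_le_one_left' (Q.2.1 _)).trans_lt (ha Q i)
  have h2 : Q.1 (u Q * x) = 1 := by
    have h3 : Q.1 (u Q * x - algebraMap k K ((p Q).eval s)) < Q.1 (algebraMap k K ((p Q).eval s)) :=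
      h1.trans_eq (val_const Q hev).symm
    have h4 := Q.1.map_add_eq_of_lt_right h3
    rw [sub_add_cancel] at h4
    exact h4.trans (val_const Q hev)
  have hx : x ≠ 0 := fun h => by rw [h, mul_zero, map_zero] at h2; exact zero_ne_one h2
  rw [map_mul, hu Q, val_eq_exp Q hx, ← exp_add, exp_eq_one'] at h2
  exact ⟨hx, by omega⟩

/-- Regular functions form a finite module: multiplying a basis of `L((2g+1)E)` into `A` suffices. -/
lemma exists_conductor [IsAlgClosed k] (hK : IsFunctionField k K) (hφ : ∀ i, φ i ≠ 0) (j : ι)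
    (hE : bdry k φ j ≠ 0) (hbir : IntermediateField.adjoin k (Set.range (ratio φ j)) = ⊤) :
    ∃ c ∈ aff k φ j, c ≠ 0 ∧ ∀ z ∈ reg (bdry k φ j), c * z ∈ aff k φ j := by
  classical
  set E := bdry k φ j with hEdef
  set A := aff k φ j
  have hE0 : (0 : Divisor k K) ≤ E := bdry_nonneg hK.1 φ j
  obtain ⟨x, hxS, hxL, hx⟩ := exists_full_pole hK hφ j
  have hxA : x ∈ A := (Submodule.span_le.2 Algebra.subset_adjoin :
    Submodule.span k (Set.range (ratio φ j)) ≤ Subalgebra.toSubmodule A) hxS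
  obtain ⟨Q0, hQ0⟩ : ∃ Q, E Q ≠ 0 := by
    by_contra h
    push Not at h
    exact hE (Finsupp.ext fun Q => by simpa using h Q)
  have hx0 : x ≠ 0 := (hx Q0 hQ0).1
  have hd : 1 ≤ E.deg := by
    rcases eq_or_lt_of_le (deg_nonneg hE0) with h | h
    · exact absurd (eq_zero_of_deg_zero hK hE0 h.symm) hE
    · omega
  set l0 := 2 * genus k K + 1 with hl0
  -- a common denominator
  have := finite_L hK.1 (l0 • E)
  let b := Module.finBasis k (L (l0 • E))
  have hfrac : ∀ z : K, ∃ r ∈ A, ∃ s ∈ A, s ≠ 0 ∧ s * z = r := fun z => by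
    obtain ⟨r, hr, s, hs, hz⟩ := IntermediateField.mem_adjoin_iff_div.1
      (show z ∈ IntermediateField.adjoin k (Set.range (ratio φ j)) by rw [hbir]; trivial)
    rcases eq_or_ne s 0 with rfl | hs0
    · exact ⟨0, zero_mem _, 1, one_mem _, one_ne_zero, by rw [hz, div_zero, mul_zero]⟩
    · exact ⟨r, hr, s, hs, hs0, by rw [hz]; field_simp⟩
  choose r hr s hs hs0 hsr using fun i => hfrac (b i : K)
  let c := ∏ i, s i
  have hc : c ∈ A := prod_mem fun i _ => hs i
  have hbase : ∀ z ∈ L (l0 • E), c * z ∈ A := fun z hz => by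
    have e1 : z = ∑ i, (b.repr ⟨z, hz⟩ i) • (b i : K) := by
      conv_lhs => rw [show z = ((⟨z, hz⟩ : L (l0 • E)) : K) from rfl, ← b.sum_repr ⟨z, hz⟩]
      rw [AddSubmonoidClass.coe_finsetSum]
      rfl
    rw [e1, Finset.mul_sum]
    refine sum_mem fun i _ => ?_
    rw [mul_smul_comm]
    refine Subalgebra.smul_mem _ ?_ _
    show (∏ l, s l) * (b i : K) ∈ A
    rw [← Finset.mul_prod_erase _ _ (Finset.mem_univ i), mul_comm (s i), mul_assoc, hsr i]
    exact mul_mem (prod_mem fun l _ => hs l) (hr i)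
  -- the recursion `L((l+1)E) = x L(lE) + L(lE)`
  have key : ∀ l, l0 ≤ l → ∀ z ∈ L (l • E), c * z ∈ A := by
    refine fun l hl => Nat.le_induction hbase (fun l hl ih => ?_) l hl
    let μ : K →ₗ[k] K := LinearMap.mulLeft k x
    have hμ : Function.Injective μ := mul_right_injective₀ hx0
    let V := L (l • E)
    have hsup : V.map μ ⊔ V = L ((l + 1) • E) := by
      have hle : V.map μ ⊔ V ≤ L ((l + 1) • E) := by
        refine sup_le ?_ (L_mono (nsmul_le_nsmul_left hE0 (Nat.le_succ l)))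
        rintro _ ⟨v, hv, rfl⟩
        have := mem_L_mul hK hxL hv
        rwa [← succ_nsmul'] at this
      have := finite_L hK.1 ((l + 1) • E)
      have := finite_L hK.1 (l • E)
      have hinf : V.map μ ⊓ V ≤ (L ((l - 1) • E)).map μ := by
        rintro _ ⟨⟨v, hv, rfl⟩, hxv⟩
        refine ⟨v, ?_, rfl⟩
        rcases eq_or_ne v 0 with rfl | hv0
        · exact zero_mem _
        refine (mem_L_iff_ord hv0).2 fun Q => ?_
        have h1 := (mem_L_iff_ord hv0).1 hv Q
        rw [Finsupp.smul_apply, nsmul_eq_mul] at h1 ⊢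
        rcases eq_or_ne (E Q) 0 with h | h
        · rw [h, mul_zero] at h1 ⊢; exact h1
        have h2 := (mem_L_iff_ord (mul_ne_zero hx0 hv0)).1 (show x * v ∈ L (l • E) from hxv) Q
        rw [ord_mul Q hx0 hv0, show Q.ord x = -E Q from (hx Q h).2, Finsupp.smul_apply, nsmul_eq_mul] at h2
        have h3 : ((l - 1 : ℕ) : ℤ) * E Q = (l : ℤ) * E Q - E Q := by
          rw [Nat.cast_sub (by omega)]; push_cast; ring
        omega
      refine Submodule.eq_of_le_of_finrank_le hle ?_
      have h := Submodule.finrank_sup_add_finrank_inf_eq (V.map μ) V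
      have e2 : Module.finrank k (V.map μ) = ell (l • E) :=
        (Submodule.equivMapOfInjective μ hμ V).finrank_eq.symm
      have e3 : Module.finrank k ((L ((l - 1) • E)).map μ) = ell ((l - 1) • E) :=
        (Submodule.equivMapOfInjective μ hμ _).finrank_eq.symm
      have := finite_L hK.1 ((l - 1) • E)
      have e4 := Submodule.finrank_mono hinf
      rw [e2, show Module.finrank k V = ell (l • E) from rfl] at h
      have big : ∀ m : ℕ, 2 * genus k K ≤ m → (ell (m • E) : ℤ) = m * E.deg + 1 - genus k K := by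
        intro m hm
        have h1 : (2 * (genus k K : ℤ)) ≤ (m : ℤ) * E.deg := by
          have h3 := le_mul_of_one_le_right (Int.natCast_nonneg m) hd
          omega
        rw [ell_eq_of_deg_ge hK (by rw [deg_nsmul]; omega), deg_nsmul]
      have b1 := big (l + 1) (by omega)
      have b2 := big l (by omega)
      have b3 := big (l - 1) (by omega)
      rw [Nat.cast_sub (by omega)] at b3
      push_cast at b1 b3
      show ell ((l + 1) • E) ≤ _
      linarith
    intro z hz
    rw [← hsup, Submodule.mem_sup] at hz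
    obtain ⟨_, ⟨v, hv, rfl⟩, w, hw, rfl⟩ := hz
    rw [mul_add]
    refine add_mem ?_ (ih w hw)
    show c * (x * v) ∈ A
    rw [mul_left_comm]
    exact mul_mem hxA (ih v hv)
  refine ⟨c, hc, Finset.prod_ne_zero_iff.2 fun i _ => hs0 i, fun z hz => ?_⟩
  obtain ⟨l, hl⟩ := exists_L_of_mem_reg hK.1 hE0 hz
  exact key (max l l0) (le_max_right _ _) z (L_mono (nsmul_le_nsmul_left hE0 (le_max_left _ _)) hl)

end Groth.Agent.FF
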