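/-
Local rings of projective maps: independence of the chart, fibres, nonsingularity criteria.
-/
import Groth.Agent.L26.FF.Model
import Groth.Agent.L26.FF.Ext

open WithZero

namespace Groth.Agent.FF

open FunFld

variable {k K : Type*} [Field k] [Field K] [Algebra k K]
variable {ι : Type*} {φ : ι → K}

variable (k) in
/-- The local ring at `P` in the chart `j`. -/
def locAlg (φ : ι → K) (j : ι) (P : Place k K) : Subalgebra k K where
  carrier := {z | ∃ u ∈ aff k φ j, ∃ w ∈ aff k φ j, P.1 w = 1 ∧ z * w = u}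
  mul_mem' := by
    rintro a b ⟨u, hu, w, hw, hw1, h⟩ ⟨u', hu', w', hw', hw1', h'⟩
    exact ⟨u * u', mul_mem hu hu', w * w', mul_mem hw hw', by rw [map_mul, hw1, hw1', one_mul],
      by rw [← h, ← h']; ring⟩
  add_mem' := by
    rintro a b ⟨u, hu, w, hw, hw1, h⟩ ⟨u', hu', w', hw', hw1', h'⟩
    exact ⟨u * w' + u' * w, add_mem (mul_mem hu hw') (mul_mem hu' hw), w * w', mul_mem hw hw',
      by rw [map_mul, hw1, hw1', one_mul], by rw [← h, ← h']; ring⟩
  algebraMap_mem' c := ⟨_, Subalgebra.algebraMap_mem _ c, 1, one_mem _, map_one _, mul_one _⟩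

lemma aff_le_locAlg (φ : ι → K) (j : ι) (P : Place k K) : aff k φ j ≤ locAlg k φ j P :=
  fun z hz => ⟨z, hz, 1, one_mem _, map_one _, mul_one _⟩

lemma inv_mem_locAlg {j : ι} {P : Place k K} {z : K} (hz : z ∈ aff k φ j) (h1 : P.1 z = 1) :
    z⁻¹ ∈ locAlg k φ j P := by
  have hz0 : z ≠ 0 := fun h => by rw [h, map_zero] at h1; exact zero_ne_one h1
  exact ⟨1, one_mem _, z, hz, h1, inv_mul_cancel₀ hz0⟩

lemma div_mem_locAlg {j : ι} {P : Place k K} {z u : K} (hu : u ∈ locAlg k φ j P)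
    (hz : z ∈ locAlg k φ j P) (h1 : P.1 z = 1) : u / z ∈ locAlg k φ j P := by
  obtain ⟨v, hv, w, hw, hw1, hzw⟩ := hz
  have hv1 : P.1 v = 1 := by rw [← hzw, map_mul, h1, hw1, one_mul]
  have hv0 : v ≠ 0 := fun h => by rw [h, map_zero] at hv1; exact zero_ne_one hv1
  have hw0 : w ≠ 0 := fun h => by rw [h, map_zero] at hw1; exact zero_ne_one hw1
  have : u / z = u * (w * v⁻¹) := by rw [← hzw]; field_simp
  rw [this]
  exact mul_mem hu (mul_mem (aff_le_locAlg φ j P hw) (inv_mem_locAlg hv hv1))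

/-- The local ring does not depend on the chart. -/
lemma locAlg_le {j j' : ι} {P : Place k K} (hj0 : φ j ≠ 0) (hj'0 : φ j' ≠ 0)
    (hj : ∀ i, P.1 (φ i) ≤ P.1 (φ j)) (hj' : ∀ i, P.1 (φ i) ≤ P.1 (φ j')) :
    locAlg k φ j' P ≤ locAlg k φ j P := by
  have heq : P.1 (φ j') = P.1 (φ j) := le_antisymm (hj j') (hj' j)
  have h1 : P.1 (ratio φ j j') = 1 := by
    show P.1 (φ j' / φ j) = 1
    rw [map_div₀, heq, div_self (val_ne_zero P hj0)]
  have hA : aff k φ j' ≤ locAlg k φ j P := by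
    refine Algebra.adjoin_le ?_
    rintro _ ⟨i, rfl⟩
    have : ratio φ j' i = ratio φ j i / ratio φ j j' := by
      show φ i / φ j' = (φ i / φ j) / (φ j' / φ j)
      field_simp
    rw [SetLike.mem_coe, this]
    exact div_mem_locAlg (aff_le_locAlg φ j P (Algebra.subset_adjoin ⟨i, rfl⟩))
      (aff_le_locAlg φ j P (Algebra.subset_adjoin ⟨j', rfl⟩)) h1
  rintro z ⟨u, hu, w, hw, hw1, h⟩
  have hw0 : w ≠ 0 := fun h => by rw [h, map_zero] at hw1; exact zero_ne_one hw1
  rw [show z = u / w by rw [← h]; field_simp]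
  exact div_mem_locAlg (hA hu) (hA hw) hw1

lemma inLocRing_iff {j : ι} {P : Place k K} (hj0 : φ j ≠ 0) (hj : ∀ i, P.1 (φ i) ≤ P.1 (φ j))
    {z : K} : InLocRing φ P z ↔ z ∈ locAlg k φ j P := by
  refine ⟨fun ⟨j', hj'0, hj', h⟩ => locAlg_le hj0 hj'0 hj hj' h, fun h => ⟨j, hj0, hj, h⟩⟩

lemma aff_val_le {j : ι} {P : Place k K} (hj0 : φ j ≠ 0) (hj : ∀ i, P.1 (φ i) ≤ P.1 (φ j))
    {z : K} (hz : z ∈ aff k φ j) : P.1 z ≤ 1 := by
  suffices aff k φ j ≤ ({
      carrier := {z | P.1 z ≤ 1}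
      mul_mem' := fun {a b} ha hb => show P.1 (a * b) ≤ 1 by rw [map_mul]; exact Left.mul_le_one ha hb
      add_mem' := fun {a b} ha hb => (P.1.map_add a b).trans (max_le ha hb)
      algebraMap_mem' := P.2.1 } : Subalgebra k K) from this hz
  refine Algebra.adjoin_le ?_
  rintro _ ⟨i, rfl⟩
  show P.1 (φ i / φ j) ≤ 1
  rw [map_div₀]
  exact div_le_one_of_le₀ (hj i) zero_le

lemma locAlg_val_le {j : ι} {P : Place k K} (hj0 : φ j ≠ 0) (hj : ∀ i, P.1 (φ i) ≤ P.1 (φ j))
    {z : K} (hz : z ∈ locAlg k φ j P) : P.1 z ≤ 1 := by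
  obtain ⟨u, hu, w, hw, hw1, h⟩ := hz
  have := aff_val_le hj0 hj hu
  rwa [← h, map_mul, hw1, mul_one] at this

/-- `P` and `Q` agree on the ratios. -/
def Agree (φ : ι → K) (j : ι) (P Q : Place k K) : Prop :=
  ∀ i, ∃ c : k, P.1 (φ i / φ j - algebraMap k K c) < 1 ∧ Q.1 (φ i / φ j - algebraMap k K c) < 1

variable (k) in
/-- Functions with a common value at `P` and `Q`. -/
def agreeAlg (P Q : Place k K) : Subalgebra k K where
  carrier := {z | ∃ c : k, P.1 (z - algebraMap k K c) < 1 ∧ Q.1 (z - algebraMap k K c) < 1}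
  mul_mem' := by
    rintro a b ⟨c, hc, hc'⟩ ⟨d, hd, hd'⟩
    refine ⟨c * d, ?_⟩
    have e : a * b - algebraMap k K (c * d) =
        (a - algebraMap k K c) * ((b - algebraMap k K d) + algebraMap k K d) +
          algebraMap k K c * (b - algebraMap k K d) := by rw [map_mul]; ring
    have key : ∀ R : Place k K, R.1 (a - algebraMap k K c) < 1 → R.1 (b - algebraMap k K d) < 1 →
        R.1 (a * b - algebraMap k K (c * d)) < 1 := fun R h1 h2 => by
      rw [e]
      refine R.1.map_add_lt ?_ ?_ <;> rw [map_mul]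
      · exact mul_lt_one_of_lt_of_le h1 ((R.1.map_add _ _).trans (max_le h2.le (R.2.1 d)))
      · exact (mul_le_of_le_one_left' (R.2.1 c)).trans_lt h2
    exact ⟨key P hc hd, key Q hc' hd'⟩
  add_mem' := by
    rintro a b ⟨c, hc, hc'⟩ ⟨d, hd, hd'⟩
    refine ⟨c + d, ?_⟩
    rw [map_add, add_sub_add_comm]
    exact ⟨P.1.map_add_lt hc hd, Q.1.map_add_lt hc' hd'⟩
  algebraMap_mem' c := ⟨c, by simp, by simp⟩

lemma agree_lt_one {j : ι} {P Q : Place k K} (h : Agree φ j P Q) {z : K} (hz : z ∈ aff k φ j)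
    (hPz : P.1 z < 1) : Q.1 z < 1 := by
  have : aff k φ j ≤ agreeAlg k P Q :=
    Algebra.adjoin_le (by rintro _ ⟨i, rfl⟩; exact h i)
  obtain ⟨c, hc, hc'⟩ := this hz
  rcases eq_or_ne c 0 with rfl | hc0
  · simpa using hc'
  · exfalso
    have h1 : P.1 (algebraMap k K c) < 1 := by
      have := P.1.map_sub_lt hPz hc
      rwa [sub_sub_cancel] at this
    exact absurd (val_const P hc0) h1.ne

lemma agree_val_eq {j : ι} {P Q : Place k K} (h : Agree φ j P Q) {z : K} (hz : z ∈ aff k φ j)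
    (hPz : P.1 z = 1) : Q.1 z = 1 := by
  have : aff k φ j ≤ agreeAlg k P Q :=
    Algebra.adjoin_le (by rintro _ ⟨i, rfl⟩; exact h i)
  obtain ⟨c, hc, hc'⟩ := this hz
  rcases eq_or_ne c 0 with rfl | hc0
  · rw [map_zero, sub_zero] at hc
    exact absurd hPz hc.ne
  · have h3 : Q.1 (z - algebraMap k K c) < Q.1 (algebraMap k K c) :=
      hc'.trans_eq (val_const Q hc0).symm
    have h4 := Q.1.map_add_eq_of_lt_right h3
    rw [sub_add_cancel] at h4
    exact h4.trans (val_const Q hc0)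

section Finite

variable [Fintype ι] [Nonempty ι] [IsAlgClosed k]

lemma exists_poly_approx (hK : IsFunctionField k K) (P : Place k K) {t : K}
    (ht : P.1 t = exp (-1 : ℤ)) {z : K} (hz : P.1 z ≤ 1) (N : ℕ) :
    ∃ p ∈ Algebra.adjoin k ({t} : Set K), P.1 (z - p) ≤ exp (-(N : ℤ)) := by
  have ht0 : t ≠ 0 := fun h => by rw [h, map_zero] at ht; exact exp_ne_zero ht.symm
  induction N with
  | zero => exact ⟨0, zero_mem _, by simpa using hz⟩
  | succ N ih =>
    obtain ⟨p, hp, hpz⟩ := ih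
    have h1 : P.1 ((z - p) / t ^ N) ≤ 1 := by
      rw [map_div₀, map_pow, ht]
      refine div_le_one_of_le₀ (hpz.trans_eq ?_) zero_le
      rw [← exp_nsmul]; simp
    obtain ⟨c, hc⟩ := exists_value P (deg_eq_one hK P) h1
    have htA : t ∈ Algebra.adjoin k ({t} : Set K) := Algebra.subset_adjoin (Set.mem_singleton t)
    have hcA := Subalgebra.algebraMap_mem (Algebra.adjoin k ({t} : Set K)) c
    refine ⟨p + algebraMap k K c * t ^ N, add_mem hp (mul_mem hcA (pow_mem htA N)), ?_⟩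
    rw [show z - (p + algebraMap k K c * t ^ N) = ((z - p) / t ^ N - algebraMap k K c) * t ^ N by
      field_simp; ring, map_mul, map_pow, ht]
    refine (mul_le_mul' (lt_one_le_exp hc) le_rfl).trans_eq ?_
    rw [← exp_nsmul, ← exp_add]; congr 1; simp

/-- Elements vanishing to high order on the fibre lie in the local ring. -/
lemma exists_bound (hK : IsFunctionField k K) (hφ : ∀ i, φ i ≠ 0) (j : ι) (P : Place k K)
    (hj : ∀ i, P.1 (φ i) ≤ P.1 (φ j)) (hne : bdry k φ j ≠ 0)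
    (hbir : IntermediateField.adjoin k (Set.range (ratio φ j)) = ⊤) :
    ∃ N : ℕ, ∀ z : K, (∀ Q, bdry k φ j Q = 0 → Agree φ j P Q → Q.1 z ≤ exp (-(N : ℤ))) →
      z ∈ locAlg k φ j P := by
  classical
  obtain ⟨c, hcA, hc0, hc⟩ := exists_conductor hK hφ j hne hbir
  refine ⟨(div k c).support.sup fun Q => (Q.ord c).toNat, fun z hz => ?_⟩
  rcases eq_or_ne z 0 with rfl | hz0
  · exact zero_mem _
  set S := (div k c).support ∪ (div k z).support with hSdef
  have hfix : ∀ Q : Place k K, bdry k φ j Q = 0 → ¬ Agree φ j P Q →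
      ∃ a ∈ aff k φ j, P.1 a = 1 ∧ Q.1 a < 1 := by
    intro Q hQ hna
    simp only [Agree, not_forall, not_exists, not_and] at hna
    obtain ⟨i, hi⟩ := hna
    have hQi : Q.1 (φ i / φ j) ≤ 1 := by
      rw [map_div₀]
      exact div_le_one_of_le₀ ((bdry_eq_zero_iff hK.1 hφ j Q).1 hQ i) zero_le
    obtain ⟨d, hd⟩ := exists_value Q (deg_eq_one hK Q) hQi
    have hmem : φ i / φ j - algebraMap k K d ∈ aff k φ j :=
      sub_mem (Algebra.subset_adjoin ⟨i, rfl⟩) (Subalgebra.algebraMap_mem _ _)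
    exact ⟨_, hmem, le_antisymm (aff_val_le (hφ j) hj hmem) (not_lt.1 fun h => hi d h hd), hd⟩
  choose! a ha using hfix
  let M : ℕ := S.sup fun Q => (Q.ord c - Q.ord z).toNat
  let w : K := ∏ Q ∈ S.filter (fun Q => bdry k φ j Q = 0 ∧ ¬ Agree φ j P Q), a Q ^ M
  have hwA : w ∈ aff k φ j := prod_mem fun Q hQ =>
    pow_mem (ha Q (Finset.mem_filter.1 hQ).2.1 (Finset.mem_filter.1 hQ).2.2).1 M
  have hw1 : P.1 w = 1 := by
    rw [map_prod]
    exact Finset.prod_eq_one fun Q hQ => by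
      rw [map_pow, (ha Q (Finset.mem_filter.1 hQ).2.1 (Finset.mem_filter.1 hQ).2.2).2.1, one_pow]
  have hw0 : w ≠ 0 := fun h => by rw [h, map_zero] at hw1; exact zero_ne_one hw1
  have hreg : w * z / c ∈ reg (bdry k φ j) := fun Q hQ => by
    rw [map_div₀]
    refine div_le_one_of_le₀ ?_ zero_le
    by_cases hA : Agree φ j P Q
    · rw [map_mul, agree_val_eq hA hwA hw1, one_mul, val_eq_exp Q hc0]
      refine (hz Q hQ hA).trans (exp_le_exp.2 (neg_le_neg ?_))
      by_cases hQS : Q ∈ (div k c).support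
      · have := Finset.le_sup (f := fun Q => (Q.ord c).toNat) hQS
        omega
      · rw [Finsupp.notMem_support_iff, div_apply hK.1] at hQS
        omega
    · by_cases hQS : Q ∈ S
      · have hQf : Q ∈ S.filter (fun Q => bdry k φ j Q = 0 ∧ ¬ Agree φ j P Q) :=
          Finset.mem_filter.2 ⟨hQS, hQ, hA⟩
        have hw2 : Q.1 w ≤ exp (-(M : ℤ)) := by
          rw [map_prod, ← Finset.mul_prod_erase _ _ hQf]
          refine (mul_le_of_le_one_right' (Finset.prod_le_one' fun R hR => ?_)).trans ?_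
          · have hR' := (Finset.mem_filter.1 (Finset.mem_of_mem_erase hR)).2
            rw [map_pow]
            exact pow_le_one' (aff_le_reg hK.1 hφ j (ha R hR'.1 hR'.2).1 Q hQ) M
          · rw [map_pow]
            exact pow_le_exp_neg (ha Q hQ hA).2.2 M
        rw [map_mul, val_eq_exp Q hc0, val_eq_exp Q hz0]
        refine (mul_le_mul' hw2 le_rfl).trans ?_
        rw [← exp_add, exp_le_exp]
        have := Finset.le_sup (f := fun Q => (Q.ord c - Q.ord z).toNat) hQS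
        simp only [M]
        omega
      · simp only [hSdef, Finset.mem_union, not_or, Finsupp.notMem_support_iff, div_apply hK.1] at hQS
        have hwQ : Q.1 w ≤ 1 := aff_le_reg hK.1 hφ j hwA Q hQ
        rw [map_mul, val_eq_exp Q hz0, val_eq_exp Q hc0, hQS.1, hQS.2]
        simpa using hwQ
  have h2 := hc _ hreg
  rw [mul_div_cancel₀ _ hc0] at h2
  exact ⟨w * z, h2, w, hwA, hw1, mul_comm _ _⟩

lemma nonsingular_of (hK : IsFunctionField k K) (hφ : ∀ i, φ i ≠ 0) (j : ι) (P : Place k K)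
    (hj : ∀ i, P.1 (φ i) ≤ P.1 (φ j)) (hne : bdry k φ j ≠ 0)
    (hbir : IntermediateField.adjoin k (Set.range (ratio φ j)) = ⊤)
    (huniq : ∀ Q, bdry k φ j Q = 0 → Agree φ j P Q → Q = P)
    {t : K} (ht : t ∈ locAlg k φ j P) (ht1 : P.1 t = exp (-1 : ℤ)) : IsNonsingularAt φ P := by
  obtain ⟨N, hN⟩ := exists_bound hK hφ j P hj hne hbir
  intro z hz
  obtain ⟨p, hp, hzp⟩ := exists_poly_approx hK P ht1 hz N
  have h1 : z - p ∈ locAlg k φ j P := hN _ fun Q hQ hA => by rw [huniq Q hQ hA]; exact hzp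
  have h2 : p ∈ locAlg k φ j P := Algebra.adjoin_le (by simpa using ht) hp
  have h3 := add_mem h1 h2
  rw [sub_add_cancel] at h3
  exact (inLocRing_iff (hφ j) hj).2 h3

lemma uniq_of_nonsingular (hK : IsFunctionField k K) (hφ : ∀ i, φ i ≠ 0) (j : ι) (P : Place k K)
    (hj : ∀ i, P.1 (φ i) ≤ P.1 (φ j)) (hns : IsNonsingularAt φ P) (Q : Place k K)
    (hQ : bdry k φ j Q = 0) (hA : Agree φ j P Q) : Q = P := by
  refine (eq_of_le fun z hz => ?_).symm
  obtain ⟨u, hu, w, hw, hw1, h⟩ := (inLocRing_iff (hφ j) hj).1 (hns z hz)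
  have := aff_le_reg hK.1 hφ j hu Q hQ
  rwa [← h, map_mul, agree_val_eq hA hw hw1, mul_one] at this

end Finite

end Groth.Agent.FF
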