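/-
Embedding criteria for linear series.
-/
import Groth.Agent.L26.FF.LocRing
import Mathlib.LinearAlgebra.LinearIndependent.Basic

open WithZero

namespace Groth.Agent.FF

open FunFld

variable {k K : Type*} [Field k] [Field K] [Algebra k K]
variable {ι : Type*} {φ : ι → K}

lemma adjoin_ratio_le {j j' : ι} (hj'0 : φ j' ≠ 0) (hj0 : φ j ≠ 0) :
    IntermediateField.adjoin k (Set.range (ratio φ j)) ≤
      IntermediateField.adjoin k (Set.range (ratio φ j')) := by
  refine IntermediateField.adjoin_le_iff.2 ?_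
  rintro _ ⟨i, rfl⟩
  rw [show ratio φ j i = ratio φ j' i / ratio φ j' j by
    show φ i / φ j = (φ i / φ j') / (φ j / φ j'); field_simp]
  exact div_mem (IntermediateField.subset_adjoin _ _ ⟨i, rfl⟩)
    (IntermediateField.subset_adjoin _ _ ⟨j, rfl⟩)

lemma bir_congr {j : ι} (hφ : ∀ i, φ i ≠ 0) (hbir : IntermediateField.adjoin k (Set.range (ratio φ j)) = ⊤)
    (j' : ι) : IntermediateField.adjoin k (Set.range (ratio φ j')) = ⊤ :=
  top_le_iff.1 (hbir ▸ adjoin_ratio_le (hφ j') (hφ j))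

variable [Fintype ι] [Nonempty ι]

lemma bdry_ne_zero (hK : IsFunctionField k K) (hφ : LinearIndependent k φ) (hcard : 2 ≤ Fintype.card ι)
    (j : ι) : bdry k φ j ≠ 0 := by
  intro h
  have hne := hφ.ne_zero
  obtain ⟨i, hij⟩ := Fintype.exists_ne_of_one_lt_card (by omega) j
  have h1 := ratio_mem_L hK.1 hne i j
  rw [h, L_zero hK, Submodule.mem_one] at h1
  obtain ⟨c, hc⟩ := h1
  have h2 : φ i = c • φ j := by
    rw [Algebra.smul_def, hc]; exact (div_mul_cancel₀ _ (hne j)).symm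
  have h3 : Finsupp.single i 1 = Finsupp.single j c :=
    hφ (by rw [Finsupp.linearCombination_single, Finsupp.linearCombination_single, one_smul, h2])
  have h4 := DFunLike.congr_fun h3 i
  rw [Finsupp.single_eq_same, Finsupp.single_eq_of_ne hij] at h4
  exact one_ne_zero h4

lemma sameImage_iff (hK : IsFunctionField k K) (hφ : ∀ i, φ i ≠ 0) {j : ι} {P : Place k K}
    (hj : ∀ i, P.1 (φ i) ≤ P.1 (φ j)) (Q : Place k K) :
    SameImage φ P Q ↔ bdry k φ j Q = 0 ∧ Agree φ j P Q := by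
  refine ⟨fun ⟨j', hj'0, hP, hQ, h⟩ => ?_, fun ⟨hQ, h⟩ =>
    ⟨j, hφ j, hj, (bdry_eq_zero_iff hK.1 hφ j Q).1 hQ, h⟩⟩
  -- the ratio `φ j / φ j'` is a unit at both places
  obtain ⟨c, hc, hc'⟩ := h j
  have h1 : P.1 (φ j / φ j') = 1 := by
    rw [map_div₀, le_antisymm (hP j) (hj j'), div_self (val_ne_zero P hj'0)]
  have hc0 : c ≠ 0 := by
    rintro rfl
    rw [map_zero, sub_zero, h1] at hc
    exact lt_irrefl _ hc
  have h2 : Q.1 (φ j / φ j') = 1 := by
    have h3 := Q.1.map_add_eq_of_lt_right (hc'.trans_eq (val_const Q hc0).symm)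
    rw [sub_add_cancel] at h3
    exact h3.trans (val_const Q hc0)
  have heq : Q.1 (φ j) = Q.1 (φ j') := by
    rw [map_div₀, div_eq_one_iff_eq (val_ne_zero Q hj'0)] at h2; exact h2
  refine ⟨(bdry_eq_zero_iff hK.1 hφ j Q).2 fun i => (hQ i).trans_eq heq.symm, fun i => ?_⟩
  obtain ⟨d, hd, hd'⟩ := h i
  refine ⟨d / c, ?_⟩
  have e : φ i / φ j - algebraMap k K (d / c) =
      ((φ i / φ j' - algebraMap k K d) - algebraMap k K (d / c) * (φ j / φ j' - algebraMap k K c)) /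
        (φ j / φ j') := by
    have : algebraMap k K c ≠ 0 := (map_ne_zero _).2 hc0
    have := hφ j
    rw [map_div₀]
    field_simp
    ring
  have key : ∀ R : Place k K, R.1 (φ i / φ j' - algebraMap k K d) < 1 →
      R.1 (φ j / φ j' - algebraMap k K c) < 1 → R.1 (φ j / φ j') = 1 →
      R.1 (φ i / φ j - algebraMap k K (d / c)) < 1 := fun R ha hb hu => by
    rw [e, map_div₀, hu, div_one]
    refine R.1.map_sub_lt ha ?_
    rw [map_mul]
    exact (mul_le_of_le_one_left' (R.2.1 _)).trans_lt hb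
  exact ⟨key P hd hc h1, key Q hd' hc' h2⟩

lemma sameImage_iff_locRing (hK : IsFunctionField k K) [IsAlgClosed k] (hφ : ∀ i, φ i ≠ 0)
    (P Q : Place k K) :
    SameImage φ P Q ↔ ∀ z : K, InLocRing φ P z → (Q.1 z ≤ 1 ∧ (Q.1 z < 1 ↔ P.1 z < 1)) := by
  obtain ⟨j, hj⟩ := exists_minimal φ P
  rw [sameImage_iff hK hφ hj]
  constructor
  · rintro ⟨hQ, hA⟩ z hz
    obtain ⟨u, hu, w, hw, hw1, h⟩ := (inLocRing_iff (hφ j) hj).1 hz
    have hQw := agree_val_eq hA hw hw1
    have hQu : Q.1 z = Q.1 u := by rw [← h, map_mul, hQw, mul_one]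
    have hPu : P.1 z = P.1 u := by rw [← h, map_mul, hw1, mul_one]
    refine ⟨hQu ▸ aff_le_reg hK.1 hφ j hu Q hQ, ?_⟩
    rw [hQu, hPu]
    refine ⟨fun h1 => ?_, agree_lt_one hA hu⟩
    by_contra h2
    exact h1.ne (agree_val_eq hA hu (le_antisymm (aff_val_le (hφ j) hj hu) (not_lt.1 h2)))
  · intro h
    have hr : ∀ i, φ i / φ j ∈ aff k φ j := fun i => Algebra.subset_adjoin ⟨i, rfl⟩
    refine ⟨(bdry_eq_zero_iff hK.1 hφ j Q).2 fun i => ?_, fun i => ?_⟩
    · have h1 := (h _ ((inLocRing_iff (hφ j) hj).2 (aff_le_locAlg φ j P (hr i)))).1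
      rw [map_div₀, div_le_one₀ (zero_lt_iff.2 (val_ne_zero Q (hφ j)))] at h1
      exact h1
    · obtain ⟨c, hc⟩ := exists_value P (deg_eq_one hK P) (aff_val_le (hφ j) hj (hr i))
      refine ⟨c, hc, ((h _ ((inLocRing_iff (hφ j) hj).2 (aff_le_locAlg φ j P
        (sub_mem (hr i) (Subalgebra.algebraMap_mem _ c))))).2).2 hc⟩

lemma uniformizer_iff_span (hK : IsFunctionField k K) [IsAlgClosed k] {P : Place k K} {j : ι}
    (hj0 : φ j ≠ 0) (hj : ∀ i, P.1 (φ i) ≤ P.1 (φ j)) :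
    (∃ t ∈ locAlg k φ j P, P.1 t = exp (-1 : ℤ)) ↔
      ∃ t ∈ Submodule.span k (Set.range (ratio φ j)), P.1 t = exp (-1 : ℤ) := by
  have hsp : Submodule.span k (Set.range (ratio φ j)) ≤ Subalgebra.toSubmodule (aff k φ j) :=
    Submodule.span_le.2 Algebra.subset_adjoin
  refine ⟨?_, fun ⟨t, ht, ht1⟩ => ⟨t, aff_le_locAlg φ j P (hsp ht), ht1⟩⟩
  rintro ⟨t, ⟨u, hu, w, hw, hw1, h⟩, ht1⟩
  by_contra hc
  have h2 : ∀ s ∈ Submodule.span k (Set.range (ratio φ j)), P.1 s < 1 → P.1 s ≤ exp (-2 : ℤ) := by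
    intro s hs h1
    refine le_exp_sub_one (n := -1) (lt_of_le_of_ne (lt_one_le_exp h1) fun h => hc ⟨s, hs, h⟩)
  let T : Subalgebra k K :=
  { carrier := {z | ∃ c : k, P.1 (z - algebraMap k K c) ≤ exp (-2 : ℤ)}
    mul_mem' := by
      rintro a b ⟨c, hc⟩ ⟨d, hd⟩
      refine ⟨c * d, ?_⟩
      rw [show a * b - algebraMap k K (c * d) = (a - algebraMap k K c) * (b - algebraMap k K d) +
        (algebraMap k K c * (b - algebraMap k K d) + algebraMap k K d * (a - algebraMap k K c)) by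
          rw [map_mul]; ring]
      refine P.1.map_add_le ?_ (P.1.map_add_le ?_ ?_) <;> rw [map_mul]
      · exact (mul_le_mul' hc hd).trans (by rw [← exp_add, exp_le_exp]; norm_num)
      · exact (mul_le_of_le_one_left' (P.2.1 c)).trans hd
      · exact (mul_le_of_le_one_left' (P.2.1 d)).trans hc
    add_mem' := by
      rintro a b ⟨c, hc⟩ ⟨d, hd⟩
      refine ⟨c + d, ?_⟩
      rw [map_add, add_sub_add_comm]
      exact P.1.map_add_le hc hd
    algebraMap_mem' := fun c => ⟨c, by simp⟩ }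
  have hT : aff k φ j ≤ T := by
    refine Algebra.adjoin_le ?_
    rintro _ ⟨i, rfl⟩
    have hone : (1 : K) ∈ Submodule.span k (Set.range (ratio φ j)) :=
      Submodule.subset_span ⟨j, div_self hj0⟩
    obtain ⟨c, hc'⟩ := exists_value P (deg_eq_one hK P)
      (aff_val_le hj0 hj (Algebra.subset_adjoin (R := k) ⟨i, rfl⟩ : ratio φ j i ∈ aff k φ j))
    refine ⟨c, h2 _ (Submodule.sub_mem _ (Submodule.subset_span ⟨i, rfl⟩) ?_) hc'⟩
    rw [Algebra.algebraMap_eq_smul_one]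
    exact Submodule.smul_mem _ _ hone
  obtain ⟨c, hc'⟩ := hT hu
  have hu1 : P.1 u = exp (-1 : ℤ) := by rw [← h, map_mul, ht1, hw1, mul_one]
  rcases eq_or_ne c 0 with rfl | hc0
  · rw [map_zero, sub_zero, hu1, exp_le_exp] at hc'
    omega
  · have h3 := P.1.map_add_eq_of_lt_right (hc'.trans_lt ((exp_lt_one'.2 (by norm_num)).trans_eq
      (val_const P hc0).symm))
    rw [sub_add_cancel, hu1, val_const P hc0, exp_eq_one'] at h3
    omega

end Groth.Agent.FF
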