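/-
Powers of a linear series, invariance of local rings under change of basis.
-/
import Groth.Agent.L26.FF.Embed

open WithZero

namespace Groth.Agent.FF

open FunFld

variable {k K : Type*} [Field k] [Field K] [Algebra k K]
variable {ι ι' : Type*} {φ : ι → K} {φ' : ι' → K} [Fintype ι] [Nonempty ι] [Fintype ι'] [Nonempty ι']

omit [Fintype ι] [Nonempty ι] in
lemma div_mem_aff_of_mem_pow (j : ι) :
    ∀ (m : ℕ), ∀ z ∈ Submodule.span k (Set.range φ) ^ m, z / φ j ^ m ∈ aff k φ j := by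
  have h1 : ∀ z ∈ Submodule.span k (Set.range φ), z / φ j ∈ aff k φ j := by
    intro z hz
    refine Submodule.span_induction ?_ (by simp) ?_ ?_ hz
    · rintro _ ⟨i, rfl⟩
      exact Algebra.subset_adjoin ⟨i, rfl⟩
    · intro a b _ _ ha hb
      rw [add_div]; exact add_mem ha hb
    · intro c a _ ha
      rw [smul_div_assoc]; exact Subalgebra.smul_mem _ ha c
  intro m
  induction m with
  | zero =>
    intro z hz
    rw [pow_zero, Submodule.mem_one] at hz
    obtain ⟨c, rfl⟩ := hz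
    simpa using Subalgebra.algebraMap_mem (aff k φ j) c
  | succ m ih =>
    intro z hz
    rw [pow_succ] at hz
    refine Submodule.mul_induction_on hz ?_ ?_
    · intro a ha b hb
      rw [pow_succ, mul_div_mul_comm]
      exact mul_mem (ih a ha) (h1 b hb)
    · intro a b ha hb
      rw [add_div]; exact add_mem ha hb

lemma pow_le_L (hK : IsFunctionField k K) {W : Submodule k K} {D : Divisor k K} (h : W ≤ L D)
    (m : ℕ) : W ^ m ≤ L (m • D) := by
  induction m with
  | zero => rw [pow_zero, zero_smul, L_zero hK]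
  | succ m ih =>
    rw [pow_succ, succ_nsmul]
    exact Submodule.mul_le.2 fun a ha b hb => mem_L_mul hK (ih ha) (h hb)

omit [Nonempty ι] in
lemma val_le_of_mem_span {j : ι} {P : Place k K} (hj : ∀ i, P.1 (φ i) ≤ P.1 (φ j)) {z : K}
    (hz : z ∈ Submodule.span k (Set.range φ)) : P.1 z ≤ P.1 (φ j) := by
  obtain ⟨c, rfl⟩ := (Submodule.mem_span_range_iff_exists_fun k).1 hz
  refine P.1.map_sum_le fun i _ => ?_
  rw [Algebra.smul_def, map_mul]
  exact (mul_le_of_le_one_left' (P.2.1 _)).trans (hj i)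

lemma inLocRing_of_span_le (hle : Submodule.span k (Set.range φ') ≤ Submodule.span k (Set.range φ))
    {j : ι} {j' : ι'} {P : Place k K} (hj0 : φ j ≠ 0) (hj : ∀ i, P.1 (φ i) ≤ P.1 (φ j))
    (hj'0 : φ' j' ≠ 0) (heq : P.1 (φ' j') = P.1 (φ j)) {z : K} (hz : z ∈ locAlg k φ' j' P) :
    z ∈ locAlg k φ j P := by
  have hmem : ∀ i, φ' i / φ j ∈ locAlg k φ j P := fun i => by
    refine aff_le_locAlg φ j P ?_
    have := div_mem_aff_of_mem_pow j 1 (φ' i) (by
      rw [pow_one]; exact hle (Submodule.subset_span ⟨i, rfl⟩))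
    rwa [pow_one] at this
  have h1 : P.1 (φ' j' / φ j) = 1 := by rw [map_div₀, heq, div_self (val_ne_zero P hj0)]
  have hA : aff k φ' j' ≤ locAlg k φ j P := by
    refine Algebra.adjoin_le ?_
    rintro _ ⟨i, rfl⟩
    rw [SetLike.mem_coe, show ratio φ' j' i = (φ' i / φ j) / (φ' j' / φ j) by
      show φ' i / φ' j' = _; field_simp]
    exact div_mem_locAlg (hmem i) (hmem j') h1
  obtain ⟨u, hu, w, hw, hw1, h⟩ := hz
  have hw0 : w ≠ 0 := fun h => by rw [h, map_zero] at hw1; exact zero_ne_one hw1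
  rw [show z = u / w by rw [← h]; field_simp]
  exact div_mem_locAlg (hA hu) (hA hw) hw1

lemma exists_minimal_ne_zero (h : ∃ i, φ i ≠ 0) (P : Place k K) :
    ∃ j, φ j ≠ 0 ∧ ∀ i, P.1 (φ i) ≤ P.1 (φ j) := by
  obtain ⟨j, hj⟩ := exists_minimal φ P
  refine ⟨j, fun h0 => ?_, hj⟩
  obtain ⟨i, hi⟩ := h
  have h1 := hj i
  rw [h0, map_zero] at h1
  exact val_ne_zero P hi (le_antisymm h1 zero_le)

/-- Local rings only depend on the series. -/
lemma inLocRing_congr (heq : Submodule.span k (Set.range φ) = Submodule.span k (Set.range φ'))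
    (h0 : ∃ i, φ i ≠ 0) (P : Place k K) (z : K) : InLocRing φ P z ↔ InLocRing φ' P z := by
  have h0' : ∃ i, φ' i ≠ 0 := by
    by_contra hc
    push Not at hc
    obtain ⟨i, hi⟩ := h0
    have : φ i ∈ Submodule.span k (Set.range φ') := heq ▸ Submodule.subset_span ⟨i, rfl⟩
    rw [show Set.range φ' = {0} from Set.ext fun a => ⟨fun ⟨l, hl⟩ => by simp [← hl, hc],
      fun ha => ⟨Classical.arbitrary _, by simp [hc, Set.mem_singleton_iff.1 ha]⟩⟩,
      Submodule.span_zero_singleton, Submodule.mem_bot] at this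
    exact hi this
  obtain ⟨j, hj0, hj⟩ := exists_minimal_ne_zero h0 P
  obtain ⟨j', hj'0, hj'⟩ := exists_minimal_ne_zero h0' P
  have hv : P.1 (φ' j') = P.1 (φ j) :=
    le_antisymm (val_le_of_mem_span hj (heq ▸ Submodule.subset_span ⟨j', rfl⟩))
      (val_le_of_mem_span hj' (heq ▸ Submodule.subset_span ⟨j, rfl⟩))
  rw [inLocRing_iff hj0 hj, inLocRing_iff hj'0 hj']
  exact ⟨inLocRing_of_span_le heq.le hj'0 hj' hj0 hv.symm,
    inLocRing_of_span_le heq.ge hj0 hj hj'0 hv⟩

/-- A chart whose coordinate ring is the ring of regular functions is nonsingular. -/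
lemma nonsingular_of_reg_le (hK : IsFunctionField k K) (hφ : ∀ i, φ i ≠ 0) {j : ι} {P : Place k K}
    (hj : ∀ i, P.1 (φ i) ≤ P.1 (φ j)) (hne : bdry k φ j ≠ 0)
    (hreg : reg (bdry k φ j) ≤ aff k φ j) : IsNonsingularAt φ P := by
  classical
  set E := bdry k φ j
  obtain ⟨Pinf, hinf⟩ : ∃ Q, E Q ≠ 0 := by
    by_contra h
    push Not at h
    exact hne (Finsupp.ext fun Q => by simpa using h Q)
  have hEP : E P = 0 := (bdry_eq_zero_iff hK.1 hφ j P).2 hj
  intro z hz
  let S : Finset (Place k K) := (insert P (div k z).support).filter fun Q => E Q = 0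
  have hinfS : Pinf ∉ S := fun h => hinf (Finset.mem_filter.1 h).2
  obtain ⟨b, hb, hb'⟩ := strong_approximation hK Pinf S hinfS (fun Q => if Q = P then 1 else 0)
    (fun Q => if Q = P then 1 else max (-Q.ord z) 0)
  have hPS : P ∈ S := Finset.mem_filter.2 ⟨Finset.mem_insert_self _ _, hEP⟩
  have hbP : P.1 b = 1 := by
    have := hb P hPS
    rw [if_pos rfl, if_pos rfl] at this
    have h2 := P.1.map_add_eq_of_lt_right (y := (1 : K)) (this.trans_lt (by
      rw [map_one, exp_lt_one']; omega))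
    rwa [sub_add_cancel, map_one] at h2
  have hB : ∀ Q, E Q = 0 → Q.1 b ≤ 1 ∧ Q.1 (b * z) ≤ 1 := fun Q hQ => by
    rcases eq_or_ne Q P with rfl | hQP
    · exact ⟨hbP.le, by rw [map_mul, hbP, one_mul]; exact hz⟩
    by_cases hQS : Q ∈ S
    · have := hb Q hQS
      rw [if_neg hQP, if_neg hQP, sub_zero] at this
      refine ⟨by rw [this, exp_le_one']; simp, ?_⟩
      rcases eq_or_ne z 0 with rfl | hz0
      · simp
      rw [map_mul, this, val_eq_exp Q hz0, ← exp_add, exp_le_one']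
      omega
    · have h1 := hb' Q (fun h => hinf (h ▸ hQ)) hQS
      refine ⟨h1, ?_⟩
      rw [map_mul]
      refine Left.mul_le_one h1 ?_
      rcases eq_or_ne z 0 with rfl | hz0
      · simp
      refine ((val_eq_one_iff Q hz0).2 ?_).le
      by_contra h
      exact hQS (Finset.mem_filter.2 ⟨Finset.mem_insert_of_mem
        (Finsupp.mem_support_iff.2 (by rw [div_apply hK.1]; exact h)), hQ⟩)
  exact ⟨j, hφ j, hj, b * z, hreg fun Q hQ => (hB Q hQ).2, b, hreg fun Q hQ => (hB Q hQ).1, hbP,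
    mul_comm _ _⟩

omit [Fintype ι] [Nonempty ι] in
lemma bir_of_nonsingular (hφ : ∀ i, φ i ≠ 0) {P : Place k K} (h : IsNonsingularAt φ P) (j : ι) :
    IntermediateField.adjoin k (Set.range (ratio φ j)) = ⊤ := by
  rw [eq_top_iff]
  have hmem : ∀ z : K, P.1 z ≤ 1 → z ∈ IntermediateField.adjoin k (Set.range (ratio φ j)) := by
    intro z hz
    obtain ⟨j', hj'0, -, u, hu, w, hw, hw1, hzw⟩ := h z hz
    have hle : Algebra.adjoin k (Set.range (ratio φ j')) ≤
        (IntermediateField.adjoin k (Set.range (ratio φ j))).toSubalgebra := by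
      refine Algebra.adjoin_le ?_
      rintro _ ⟨i, rfl⟩
      show ratio φ j' i ∈ IntermediateField.adjoin k _
      rw [show ratio φ j' i = ratio φ j i / ratio φ j j' by
        have := hφ j
        show φ i / φ j' = (φ i / φ j) / (φ j' / φ j)
        field_simp]
      exact div_mem (IntermediateField.subset_adjoin _ _ ⟨i, rfl⟩)
        (IntermediateField.subset_adjoin _ _ ⟨j', rfl⟩)
    have hw0 : w ≠ 0 := fun h => by rw [h, map_zero] at hw1; exact zero_ne_one hw1
    rw [show z = u / w by rw [← hzw]; field_simp]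
    exact div_mem (hle hu) (hle hw)
  intro z _
  by_cases hz : P.1 z ≤ 1
  · exact hmem z hz
  · rw [← inv_inv z]
    exact inv_mem (hmem _ (by rw [map_inv₀]; exact (inv_lt_one_of_one_lt₀ (not_le.1 hz)).le))

/-- Conversely a nonsingular map has the regular functions as coordinate ring in every chart. -/
lemma reg_le_aff_of_nonsingular (hK : IsFunctionField k K) (hφ : ∀ i, φ i ≠ 0) (j : ι)
    (hns : ∀ P : Place k K, IsNonsingularAt φ P) : reg (bdry k φ j) ≤ aff k φ j := by
  intro z hz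
  set A := aff k φ j
  let I : Ideal A :=
  { carrier := {a : A | (a : K) * z ∈ A}
    add_mem' := fun {a b} ha hb => by
      show ((a + b : A) : K) * z ∈ A
      rw [AddMemClass.coe_add, add_mul]; exact add_mem ha hb
    zero_mem' := by
      show ((0 : A) : K) * z ∈ A
      rw [ZeroMemClass.coe_zero, zero_mul]; exact zero_mem A
    smul_mem' := fun c a ha => by
      show ((c * a : A) : K) * z ∈ A
      rw [MulMemClass.coe_mul, mul_assoc]; exact mul_mem c.2 ha }
  suffices I = ⊤ by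
    have h : ((1 : A) : K) * z ∈ A := show (1 : A) ∈ I from this ▸ Submodule.mem_top
    rwa [OneMemClass.coe_one, one_mul] at h
  by_contra hI
  obtain ⟨P0⟩ := nonempty_place hK
  -- a nonzero element of `I`
  obtain ⟨r, hr, s, hs, hzrs⟩ := IntermediateField.mem_adjoin_iff_div.1
    (show z ∈ IntermediateField.adjoin k (Set.range (ratio φ j)) by
      rw [bir_of_nonsingular hφ (hns P0) j]; trivial)
  have hex : ∃ a ∈ I, (a : K) ≠ 0 := by
    rcases eq_or_ne z 0 with hz0 | hz0
    · exact ⟨1, show ((1 : A) : K) * z ∈ A by rw [hz0, mul_zero]; exact zero_mem A, by simp⟩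
    have hs0 : s ≠ 0 := fun h => hz0 (by rw [hzrs, h, div_zero])
    exact ⟨⟨s, hs⟩, show s * z ∈ A by rwa [hzrs, mul_div_cancel₀ _ hs0], hs0⟩
  obtain ⟨V, hAV, hIV⟩ := Ideal.image_subset_nonunits_valuationSubring (A := A.toSubring) I hI
  obtain ⟨a, haI, ha0⟩ := hex
  obtain ⟨P, hP1, hP2⟩ := exists_place_of_valuationSubring V
    (fun c => hAV (A.algebraMap_mem c)) hK.1 ⟨a, hIV ⟨a, haI, rfl⟩, ha0⟩
  have hPj : ∀ i, P.1 (φ i) ≤ P.1 (φ j) := fun i => by
    have h := hP1 _ (hAV (Algebra.subset_adjoin ⟨i, rfl⟩ : ratio φ j i ∈ A))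
    rw [map_div₀, div_le_one₀ (zero_lt_iff.2 (val_ne_zero P (hφ j)))] at h
    exact h
  obtain ⟨u, hu, w, hw, hw1, h⟩ := (inLocRing_iff (hφ j) hPj).1
    (hns P z (hz P ((bdry_eq_zero_iff hK.1 hφ j P).2 hPj)))
  have hwI : (⟨w, hw⟩ : A) ∈ I := show w * z ∈ A by rw [mul_comm, h]; exact hu
  exact absurd hw1 (hP2 _ (hIV ⟨_, hwI, rfl⟩)).ne

end Groth.Agent.FF
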