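/-
Plane models: normal forms, the genus bound, equality for nonsingular models.
-/
import Groth.Agent.L26.FF.Powers
import Mathlib.FieldTheory.Minpoly.IsIntegrallyClosed
import Mathlib.RingTheory.Polynomial.UniqueFactorization
import Mathlib.RingTheory.AlgebraTower
import Mathlib.Algebra.Polynomial.Basis
import Mathlib.FieldTheory.IntermediateField.Adjoin.Algebra

open WithZero

namespace Groth.Agent.FF

open FunFld Polynomial

variable {k K : Type*} [Field k] [Field K] [Algebra k K]

/-- Coordinates `u, w` adapted to a divisor `D`: `u` has exactly the poles `D`. -/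
structure PlaneCoord (D : Divisor k K) (u w : K) : Prop where
  htr : Transcendental k u
  hD : 0 ≤ D
  full : ∀ Q : Place k K, D Q ≠ 0 → Q.ord u = -D Q
  mem_u : u ∈ L D
  mem_w : w ∈ L D
  gen : IntermediateField.adjoin k ({u, w} : Set K) = ⊤

variable {D : Divisor k K} {u w : K}

lemma PlaneCoord.finrank_eq (h : PlaneCoord D u w) (hK : IsFunctionField k K) :
    (Module.finrank (IntermediateField.adjoin k ({u} : Set K)) K : ℤ) = D.deg := by
  rw [← deg_poles hK.1 h.htr]
  congr 1
  refine Finsupp.ext fun Q => ?_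
  rw [poles_apply hK.1]
  have hu0 : u ≠ 0 := fun h0 => h.htr (h0 ▸ isAlgebraic_zero)
  have h1 := (mem_L_iff_ord hu0).1 h.mem_u Q
  have h2 := h.hD Q
  rw [Finsupp.zero_apply] at h2
  rcases eq_or_ne (D Q) 0 with he | he
  · omega
  · have := h.full Q he; omega

lemma PlaneCoord.u_ne_zero (h : PlaneCoord D u w) : u ≠ 0 := fun h0 => h.htr (h0 ▸ isAlgebraic_zero)

lemma linearIndependent_powers {x : K} (hx : Transcendental k x) :
    LinearIndependent k fun i : ℕ => x ^ i := by
  have h1 := (Polynomial.basisMonomials k).linearIndependent.map' (Polynomial.aeval x).toLinearMap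
    (LinearMap.ker_eq_bot.2 (transcendental_iff_injective.1 hx))
  have e : (fun i : ℕ => x ^ i) = ⇑(Polynomial.aeval x : k[X] →ₐ[k] K).toLinearMap ∘
      ⇑(Polynomial.basisMonomials k) := by
    funext i
    simp [Polynomial.coe_basisMonomials, Polynomial.aeval_monomial]
  rw [e]
  exact h1

/-- The number of monomials `u ^ a w ^ b`, `a + b ≤ m`, `b < d`. -/
lemma two_mul_sum_range (d m : ℕ) (h : d ≤ m + 1) :
    2 * ((∑ b ∈ Finset.range d, (m + 1 - b) : ℕ) : ℤ) = d * (2 * m + 3 - d) := by
  induction d with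
  | zero => simp
  | succ d ih =>
    rw [Finset.sum_range_succ, Nat.cast_add, mul_add, ih (by omega), Nat.cast_sub (by omega)]
    push_cast
    ring

section Indep

variable (h : PlaneCoord D u w) (hK : IsFunctionField k K)
include h hK

lemma PlaneCoord.finite : FiniteDimensional (IntermediateField.adjoin k ({u} : Set K)) K :=
  finite_over_adjoin hK.1 h.htr

lemma PlaneCoord.natDegree_minpoly :
    (minpoly (IntermediateField.adjoin k ({u} : Set K)) w).natDegree =
      Module.finrank (IntermediateField.adjoin k ({u} : Set K)) K := by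
  have := h.finite hK
  rw [← IntermediateField.adjoin.finrank (IsIntegral.of_finite _ w)]
  have e : IntermediateField.adjoin (IntermediateField.adjoin k ({u} : Set K)) ({w} : Set K) = ⊤ := by
    refine IntermediateField.restrictScalars_injective k ?_
    rw [IntermediateField.adjoin_adjoin_left, IntermediateField.restrictScalars_top, ← h.gen]
    rfl
  rw [e]
  exact IntermediateField.finrank_top'

/-- Monomials `u ^ a w ^ b` with `b < [K : k(u)]` are independent. -/
lemma PlaneCoord.indep :
    LinearIndependent k fun p : ℕ × Fin (Module.finrank (IntermediateField.adjoin k ({u} : Set K)) K) =>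
      u ^ p.1 * w ^ (p.2 : ℕ) := by
  set F := IntermediateField.adjoin k ({u} : Set K) with hF
  let g : F := ⟨u, IntermediateField.mem_adjoin_simple_self k u⟩
  have hg : Transcendental k g := fun hh => h.htr (hh.algebraMap (A := K))
  have h2 : LinearIndependent F fun i : Fin (Module.finrank F K) => w ^ (i : ℕ) := by
    have h1 := linearIndependent_pow (K := F) w
    rw [← h.natDegree_minpoly hK]
    exact h1
  have h3 := linearIndependent_smul (A := K) (linearIndependent_powers (K := F) hg) h2
  have e : (fun p : ℕ × Fin (Module.finrank F K) => g ^ p.1 • w ^ (p.2 : ℕ)) =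
      fun p : ℕ × Fin (Module.finrank F K) => u ^ p.1 * w ^ (p.2 : ℕ) := by
    funext p
    rw [Algebra.smul_def, map_pow]
    rfl
  rw [e] at h3
  exact h3

/-- `ℓ(mD)` is at least the number of monomials. -/
lemma PlaneCoord.card_le_ell {W : Submodule k K} (hW : W ≤ L D) (h1 : (1 : K) ∈ W) (hu : u ∈ W) (hw : w ∈ W)
    (m : ℕ) :
    (∑ b ∈ Finset.range (Module.finrank (IntermediateField.adjoin k ({u} : Set K)) K), (m + 1 - b))
      ≤ Module.finrank k ↥(W ^ m) := by
  set d := Module.finrank (IntermediateField.adjoin k ({u} : Set K)) K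
  let J := (b : Fin d) × Fin (m + 1 - b)
  have hli : LinearIndependent k fun p : J => u ^ (p.2 : ℕ) * w ^ (p.1 : ℕ) := by
    refine (h.indep hK).comp (fun p : J => ((p.2 : ℕ), p.1)) ?_
    rintro ⟨b, a⟩ ⟨b', a'⟩ he
    simp only [Prod.mk.injEq] at he
    obtain ⟨he1, rfl⟩ := he
    rw [Fin.ext he1]
  have hmem : ∀ p : J, u ^ (p.2 : ℕ) * w ^ (p.1 : ℕ) ∈ W ^ m := by
    rintro ⟨b, a⟩
    have hle : (a : ℕ) + b ≤ m := by have := a.2; omega
    have hm : u ^ (a : ℕ) * w ^ (b : ℕ) * 1 ^ (m - (a + b)) ∈ W ^ ((a : ℕ) + b) * W ^ (m - (a + b)) := by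
      rw [pow_add]
      exact Submodule.mul_mem_mul (Submodule.mul_mem_mul (Submodule.pow_mem_pow W hu _)
        (Submodule.pow_mem_pow W hw _)) (Submodule.pow_mem_pow W h1 _)
    rwa [one_pow, mul_one, ← pow_add, Nat.add_sub_cancel' hle] at hm
  have := finite_L hK.1 (m • D)
  have : FiniteDimensional k ↥(W ^ m) := Submodule.finiteDimensional_of_le (pow_le_L hK hW m)
  have h3 := LinearIndependent.fintype_card_le_finrank
    (b := fun p : J => (⟨_, hmem p⟩ : ↥(W ^ m))) (LinearIndependent.of_comp (W ^ m).subtype hli)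
  simpa [J, Fintype.card_sigma, Fin.sum_univ_eq_sum_range] using h3

lemma PlaneCoord.deg_pos : (1 : ℤ) ≤ D.deg := by
  have := h.finite hK
  rw [← h.finrank_eq hK]
  exact_mod_cast (Module.finrank_pos : 0 < Module.finrank (IntermediateField.adjoin k ({u} : Set K)) K)

lemma PlaneCoord.genus_le {W : Submodule k K} (hW : W ≤ L D) (h1 : (1 : K) ∈ W) (hu : u ∈ W) (hw : w ∈ W) :
    2 * (genus k K : ℤ) ≤ (D.deg - 1) * (D.deg - 2) ∧
      (2 * (genus k K : ℤ) = (D.deg - 1) * (D.deg - 2) →
        ∀ m : ℕ, 2 * (genus k K) + 1 ≤ m → D.deg ≤ m → W ^ m = L (m • D)) := by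
  have hd := h.deg_pos hK
  have hcount : ∀ m : ℕ, 2 * (genus k K) + 1 ≤ m → D.deg ≤ m →
      D.deg * (2 * m + 3 - D.deg) ≤ 2 * (Module.finrank k ↥(W ^ m) : ℤ) ∧
        (ell (m • D) : ℤ) = m * D.deg + 1 - genus k K := by
    intro m hm hm2
    refine ⟨?_, ?_⟩
    · have h3 := h.card_le_ell hK hW h1 hu hw m
      rw [← h.finrank_eq hK]
      rw [← two_mul_sum_range _ m (by have := h.finrank_eq hK; omega)]
      exact_mod_cast Nat.mul_le_mul_left 2 h3
    · have h4 := le_mul_of_one_le_right (Int.natCast_nonneg m) hd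
      rw [ell_eq_of_deg_ge hK (by rw [deg_nsmul]; omega), deg_nsmul]
  have hle : ∀ m : ℕ, Module.finrank k ↥(W ^ m) ≤ ell (m • D) := fun m => by
    have := finite_L hK.1 (m • D)
    exact Submodule.finrank_mono (pow_le_L hK hW m)
  refine ⟨?_, fun heq m hm hm2 => ?_⟩
  · obtain ⟨a, b⟩ := hcount (2 * genus k K + 1 + D.deg.toNat) (by omega) (by push_cast; omega)
    have c : (Module.finrank k ↥(W ^ (2 * genus k K + 1 + D.deg.toNat)) : ℤ) ≤
        (ell ((2 * genus k K + 1 + D.deg.toNat) • D) : ℤ) := by exact_mod_cast hle _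
    push_cast at a b c
    nlinarith
  · obtain ⟨a, b⟩ := hcount m hm hm2
    have := finite_L hK.1 (m • D)
    refine Submodule.eq_of_le_of_finrank_le (pow_le_L hK hW m) ?_
    have : (ell (m • D) : ℤ) ≤ Module.finrank k ↥(W ^ m) := by nlinarith
    exact_mod_cast this

end Indep

/-- `u ^ n` dominates at a pole. -/
lemma val_aeval_pole (Q : Place k K) {x : K} (hx : 1 < Q.1 x) {p : k[X]} (hp : p ≠ 0) :
    Q.1 (aeval x p) = Q.1 x ^ p.natDegree := by
  induction hn : p.natDegree generalizing p with
  | zero =>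
    rw [pow_zero, Polynomial.eq_C_of_natDegree_eq_zero hn, aeval_C]
    refine val_const Q fun h0 => hp ?_
    rw [Polynomial.eq_C_of_natDegree_eq_zero hn, h0, map_zero]
  | succ n ih =>
    have hd0 : p.divX ≠ 0 := fun h0 => by
      have := congrArg Polynomial.natDegree (p.divX_mul_X_add)
      rw [h0, zero_mul, zero_add, natDegree_C] at this
      omega
    have hdeg : p.divX.natDegree = n := by rw [natDegree_divX_eq_natDegree_tsub_one, hn]; omega
    conv_lhs => rw [← p.divX_mul_X_add]
    rw [map_add, map_mul, aeval_X, aeval_C]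
    have hbig : 1 < Q.1 (aeval x p.divX * x) := by
      rw [map_mul, ih hd0 hdeg]
      exact lt_of_lt_of_le hx (le_mul_of_one_le_left' (one_le_pow₀ hx.le))
    rw [Q.1.map_add_eq_of_lt_left ((Q.2.1 _).trans_lt hbig), map_mul, ih hd0 hdeg, pow_succ]

section Normal

variable {u w : K}

/-- Normal form in `k[u, w]`. -/
lemma normal_form (hK : IsFunctionField k K) (hu : Transcendental k u)
    (hgen : IntermediateField.adjoin k ({u, w} : Set K) = ⊤)
    (hint : ∀ Q : Place k K, Q.1 u ≤ 1 → Q.1 w ≤ 1) {z : K}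
    (hz : z ∈ Algebra.adjoin k ({u, w} : Set K)) :
    ∃ p : Fin (Module.finrank (IntermediateField.adjoin k ({u} : Set K)) K) → k[X],
      z = ∑ b, aeval u (p b) * w ^ (b : ℕ) := by
  classical
  set F := IntermediateField.adjoin k ({u} : Set K)
  set R := Algebra.adjoin k ({u} : Set K)
  have hfin : FiniteDimensional F K := finite_over_adjoin hK.1 hu
  -- integrality
  have hwint : IsIntegral R w := by
    by_contra hw
    let S : Subring K := (integralClosure R K).toSubring
    have : IsIntegrallyClosedIn S K := inferInstanceAs (IsIntegrallyClosedIn (integralClosure R K) K)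
    obtain ⟨V, hSV, hwV⟩ := S.exists_le_valuationSubring_of_isIntegrallyClosedIn (x := w) hw
    have hRV : ∀ a ∈ R, a ∈ V := fun a ha =>
      hSV (isIntegral_algebraMap : IsIntegral R (algebraMap R K ⟨a, ha⟩))
    have hw0 : w ≠ 0 := fun h0 => hwV (h0 ▸ zero_mem V)
    have hwi : w⁻¹ ∈ V.nonunits := V.mem_nonunits_iff_or.2 (Or.inr (by rwa [inv_inv]))
    obtain ⟨Q, hQ1, hQ2⟩ := exists_place_of_valuationSubring V
      (fun c => hRV _ (R.algebraMap_mem c)) hK.1 ⟨w⁻¹, hwi, inv_ne_zero hw0⟩
    have h1 := hQ2 _ hwi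
    rw [map_inv₀] at h1
    exact absurd h1 (not_lt.2 ((one_le_inv₀ (zero_lt_iff.2 (val_ne_zero Q hw0))).2
      (hint Q (hQ1 u (hRV u (Algebra.subset_adjoin rfl))))))
  haveI : IsIntegrallyClosed R := by
    have hr : R = (aeval u : k[X] →ₐ[k] K).range := Algebra.adjoin_singleton_eq_range_aeval k u
    let e : k[X] ≃ₐ[k] R :=
      (AlgEquiv.ofInjective (aeval u : k[X] →ₐ[k] K) (transcendental_iff_injective.1 hu)).trans
        (Subalgebra.equivOfEq _ _ hr.symm)
    exact IsIntegrallyClosed.of_equiv e.toRingEquiv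
  open scoped IntermediateField.algebraAdjoinAdjoin in
  have hdeg : (minpoly R w).natDegree = Module.finrank F K := by
    have hq : minpoly F w = (minpoly R w).map (algebraMap R F) :=
      minpoly.isIntegrallyClosed_eq_field_fractions' F hwint
    have e : IntermediateField.adjoin F ({w} : Set K) = ⊤ := by
      refine IntermediateField.restrictScalars_injective k ?_
      rw [IntermediateField.adjoin_adjoin_left, IntermediateField.restrictScalars_top, ← hgen]
      rfl
    rw [← (minpoly.monic hwint).natDegree_map (algebraMap R F), ← hq,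
      ← IntermediateField.adjoin.finrank (IsIntegral.of_finite _ w), e]
    exact IntermediateField.finrank_top'
  obtain ⟨P, hP⟩ : ∃ P : R[X], aeval w P = z := by
    have hle : Algebra.adjoin k ({u, w} : Set K) ≤
        ((aeval w : R[X] →ₐ[R] K).range).restrictScalars k := by
      refine Algebra.adjoin_le ?_
      rintro a (rfl | rfl)
      · exact ⟨Polynomial.C ⟨a, Algebra.subset_adjoin rfl⟩, aeval_C _ _⟩
      · exact ⟨Polynomial.X, aeval_X _⟩
    exact hle hz
  set P' := P %ₘ minpoly R w with hP'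
  have hP'w : aeval w P' = z := by
    rw [hP', Polynomial.aeval_modByMonic_eq_self_of_root (minpoly.aeval R w), hP]
  have hlt : P'.natDegree < Module.finrank F K := by
    rw [← hdeg]
    exact natDegree_modByMonic_lt _ (minpoly.monic hwint) (fun h1 => by
      have := congrArg Polynomial.natDegree h1
      rw [hdeg, natDegree_one] at this
      exact absurd this (Module.finrank_pos (R := F) (M := K)).ne')
  choose p hp using fun b : Fin (Module.finrank F K) =>
    show ∃ q : k[X], aeval u q = ((P'.coeff b : R) : K) by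
      have h1 := (P'.coeff b).2
      simp only [R, Algebra.adjoin_singleton_eq_range_aeval] at h1
      exact h1
  refine ⟨p, ?_⟩
  rw [← hP'w, aeval_eq_sum_range' hlt, ← Fin.sum_univ_eq_sum_range]
  exact Finset.sum_congr rfl fun b _ => by rw [Algebra.smul_def, hp b]; rfl

end Normal

lemma reg_eq_pow_of_aff (hK : IsFunctionField k K) (h : PlaneCoord D u w)
    (h0 : reg D ≤ Algebra.adjoin k ({u, w} : Set K))
    (h1 : ∀ (z : K) (m : ℕ), z ∈ L (m • D) → z / u ^ m ∈ Algebra.adjoin k ({u⁻¹, w / u} : Set K))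
    (m : ℕ) (z : K) (hz : z ∈ L (m • D)) :
    ∃ p : Fin (Module.finrank (IntermediateField.adjoin k ({u} : Set K)) K) → k[X],
      z = ∑ b, aeval u (p b) * w ^ (b : ℕ) ∧ ∀ b, p b ≠ 0 → (p b).natDegree + (b : ℕ) ≤ m := by
  classical
  set F := IntermediateField.adjoin k ({u} : Set K) with hF
  have hu0 := h.u_ne_zero
  have hzreg : z ∈ reg D := fun Q hQ => by
    have := hz Q
    rwa [Finsupp.smul_apply, hQ, smul_zero, exp_zero] at this
  have hint : ∀ Q : Place k K, Q.1 u ≤ 1 → Q.1 w ≤ 1 := fun Q hQ => by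
    rcases eq_or_ne (D Q) 0 with he | he
    · have := h.mem_w Q; rwa [he, exp_zero] at this
    · rw [val_le_one_iff Q hu0, h.full Q he] at hQ
      have h2 := h.hD Q
      rw [Finsupp.zero_apply] at h2
      omega
  obtain ⟨p, hp⟩ := normal_form hK h.htr h.gen hint (h0 hzreg)
  -- the chart at infinity
  have htr' : Transcendental k u⁻¹ := fun hh => h.htr (by simpa using hh.inv)
  have hgen' : IntermediateField.adjoin k ({u⁻¹, w / u} : Set K) = ⊤ := by
    rw [eq_top_iff, ← h.gen, IntermediateField.adjoin_le_iff]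
    have hu' : u ∈ IntermediateField.adjoin k ({u⁻¹, w / u} : Set K) := by
      rw [← inv_inv u]; exact inv_mem (IntermediateField.subset_adjoin _ _ (by simp))
    rintro a (rfl | rfl)
    · exact hu'
    · have hq : a / u ∈ IntermediateField.adjoin k ({u⁻¹, a / u} : Set K) :=
        IntermediateField.subset_adjoin _ _ (by simp)
      have := mul_mem hq hu'
      rwa [div_mul_cancel₀ a hu0] at this
  have hint' : ∀ Q : Place k K, Q.1 u⁻¹ ≤ 1 → Q.1 (w / u) ≤ 1 := fun Q hQ => by
    rw [map_inv₀, inv_le_one₀ (zero_lt_iff.2 (val_ne_zero Q hu0))] at hQ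
    rw [map_div₀]
    refine div_le_one_of_le₀ ((h.mem_w Q).trans ?_) zero_le
    rcases eq_or_ne (D Q) 0 with he | he
    · rwa [he, exp_zero]
    · rw [val_eq_exp Q hu0, h.full Q he, neg_neg]
  obtain ⟨r, hr⟩ := normal_form hK htr' hgen' hint' (h1 z m hz)
  have hFi : IntermediateField.adjoin k ({u⁻¹} : Set K) = F := adjoin_inv_eq
  have hn : Module.finrank (IntermediateField.adjoin k ({u⁻¹} : Set K)) K = Module.finrank F K :=
    finrank_adjoin_congr hFi
  refine ⟨p, hp, fun b hb => ?_⟩
  -- compare coefficients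
  let g : F := ⟨u, IntermediateField.mem_adjoin_simple_self k u⟩
  have hg0 : g ≠ 0 := fun hh => hu0 (congrArg Subtype.val hh)
  have hli : LinearIndependent F fun i : Fin (Module.finrank F K) => w ^ (i : ℕ) := by
    have h2 := linearIndependent_pow (K := F) w
    rw [← h.natDegree_minpoly hK]
    exact h2
  let c : Fin (Module.finrank F K) → F := fun i =>
    aeval g (p i) - aeval g⁻¹ (r (Fin.cast hn.symm i)) * g ^ ((m : ℤ) - (i : ℕ))
  have hmapF : ∀ (x : F) (q : k[X]), ((aeval x q : F) : K) = aeval (x : K) q := fun x q =>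
    (Polynomial.aeval_algHom_apply F.val x q).symm
  have hc : ∑ i, c i • w ^ (i : ℕ) = 0 := by
    have e1 : ∀ i : Fin (Module.finrank F K), c i • w ^ (i : ℕ) = aeval u (p i) * w ^ (i : ℕ) -
        u ^ m * (aeval u⁻¹ (r (Fin.cast hn.symm i)) * (w / u) ^ (i : ℕ)) := fun i => by
      rw [Algebra.smul_def, IntermediateField.algebraMap_apply, AddSubgroupClass.coe_sub,
        IntermediateField.coe_mul, hmapF, hmapF, sub_mul]
      congr 1
      have e2 : ((g ^ ((m : ℤ) - (i : ℕ)) : F) : K) = u ^ m / u ^ (i : ℕ) := by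
        rw [show ((g ^ ((m : ℤ) - (i : ℕ)) : F) : K) = u ^ ((m : ℤ) - (i : ℕ)) from map_zpow₀ F.val g _,
          zpow_sub₀ hu0, zpow_natCast, zpow_natCast]
      rw [e2, IntermediateField.coe_inv, div_pow, show (g : K) = u from rfl]
      field_simp
    rw [Finset.sum_congr rfl fun i _ => e1 i, Finset.sum_sub_distrib, ← hp, ← Finset.mul_sum,
      sub_eq_zero]
    conv_lhs => rw [← mul_div_cancel₀ z (pow_ne_zero m hu0), hr]
    congr 1
    exact Fintype.sum_equiv (finCongr hn) _ _ fun i => by simp
  have hcb := Fintype.linearIndependent_iff.1 hli c hc b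
  rw [sub_eq_zero] at hcb
  have hcbK : aeval u (p b) = aeval u⁻¹ (r (Fin.cast hn.symm b)) * u ^ ((m : ℤ) - (b : ℕ)) := by
    have := congrArg Subtype.val hcb
    rw [IntermediateField.coe_mul, hmapF, hmapF, IntermediateField.coe_inv] at this
    rw [this]
    congr 1
  obtain ⟨Q, hQ⟩ := exists_pole hK.1 h.htr
  have hle : Q.1 (aeval u⁻¹ (r (Fin.cast hn.symm b))) ≤ 1 := by
    induction r (Fin.cast hn.symm b) using Polynomial.induction_on' with
    | add a c ha hc => rw [map_add]; exact Q.1.map_add_le ha hc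
    | monomial n a =>
      rw [aeval_monomial, map_mul, map_pow, map_inv₀]
      exact Left.mul_le_one (Q.2.1 a) (pow_le_one' (inv_le_one_of_one_le₀ hQ.le) n)
  have hval := congrArg Q.1 hcbK
  rw [val_aeval_pole Q hQ hb, map_mul, map_zpow₀] at hval
  have hle2 : Q.1 u ^ ((p b).natDegree : ℤ) ≤ Q.1 u ^ ((m : ℤ) - (b : ℕ)) := by
    rw [zpow_natCast, hval]
    exact mul_le_of_le_one_left' hle
  rw [zpow_le_zpow_iff_right₀ hQ] at hle2
  omega

end Groth.Agent.FF
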