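/-
The genus of a plane model.
-/
import Groth.Agent.L26.FF.PlaneModel

open WithZero

namespace Groth.Agent.FF

open FunFld Polynomial

variable {k K : Type*} [Field k] [Field K] [Algebra k K]

lemma plane_ne_zero {a b : K} (ha : a ≠ 0) (hb : b ≠ 0) : ∀ i, (![(1 : K), a, b]) i ≠ 0 := by
  intro i; fin_cases i <;> simp [ha, hb]

lemma range_plane (a b : K) : Set.range ![(1 : K), a, b] = {1, a, b} := by
  ext z
  simp [eq_comm]
  tauto

lemma mapDiv_eq_of_span (hK : IsFunctionField k K) {ι ι' : Type*} [Fintype ι] [Nonempty ι] [Fintype ι']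
    [Nonempty ι'] {φ : ι → K} {φ' : ι' → K} (h : ∀ i, φ i ≠ 0) (h' : ∀ i, φ' i ≠ 0)
    (heq : Submodule.span k (Set.range φ) = Submodule.span k (Set.range φ')) :
    mapDiv k φ = mapDiv k φ' :=
  le_antisymm
    ((mapDiv_le_iff hK.1 h).2 fun i =>
      span_le_L_mapDiv hK.1 h' (heq ▸ Submodule.subset_span ⟨i, rfl⟩))
    ((mapDiv_le_iff hK.1 h').2 fun i =>
      span_le_L_mapDiv hK.1 h (heq ▸ Submodule.subset_span ⟨i, rfl⟩))

/-- Replace zero coordinates by `1`. -/
noncomputable def nz (x : K) : K := @ite K (x = 0) (Classical.dec _) 1 x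

lemma nz_ne_zero (x : K) : nz x ≠ 0 := by
  classical
  simp only [nz]; split_ifs <;> simp_all

lemma plane_normalize (hK : IsFunctionField k K) (x y : K)
    (hxy : IntermediateField.adjoin k ({x, y} : Set K) = ⊤) :
    IntermediateField.adjoin k ({nz x, nz y} : Set K) = ⊤ ∧
    Submodule.span k (Set.range ![(1 : K), x, y]) = Submodule.span k (Set.range ![(1 : K), nz x, nz y]) ∧
    mapDiv k ![(1 : K), x, y] = mapDiv k ![(1 : K), nz x, nz y] := by
  classical
  have hmem : ∀ (z : K) (S : Submodule k K), (1 : K) ∈ S → (nz z ∈ S ↔ z ∈ S) := fun z S h1 => by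
    simp only [nz]
    split_ifs with h
    · simp [h, h1, S.zero_mem]
    · rfl
  refine ⟨?_, ?_, Finsupp.ext fun P => ?_⟩
  · rw [eq_top_iff, ← hxy, IntermediateField.adjoin_le_iff]
    rintro z (rfl | rfl)
    all_goals
      rcases eq_or_ne z 0 with h | h
      · rw [h]; exact zero_mem _
      · exact IntermediateField.subset_adjoin _ _ (by simp [nz, h])
  · rw [range_plane, range_plane]
    apply le_antisymm <;> rw [Submodule.span_le]
    · rintro z (rfl | rfl | rfl)
      · exact Submodule.subset_span (by simp)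
      all_goals exact (hmem _ _ (Submodule.subset_span (by simp))).1 (Submodule.subset_span (by simp))
    · rintro z (rfl | rfl | rfl)
      · exact Submodule.subset_span (by simp)
      all_goals exact (hmem _ _ (Submodule.subset_span (by simp))).2 (Submodule.subset_span (by simp))
  · rw [mapDiv_apply hK.1, mapDiv_apply hK.1]
    congr 1
    refine Finset.inf'_congr _ rfl fun i _ => ?_
    fin_cases i <;> simp [nz] <;> split_ifs with h <;> simp [h, Place.ord]

variable [IsAlgClosed k]

lemma exists_planeCoord (hK : IsFunctionField k K) {a b : K} (ha : a ≠ 0) (hb : b ≠ 0)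
    (hgen : IntermediateField.adjoin k ({a, b} : Set K) = ⊤) :
    ∃ u w : K, u ≠ 0 ∧ w ≠ 0 ∧ PlaneCoord (mapDiv k ![(1 : K), a, b]) u w ∧
      Submodule.span k (Set.range ![(1 : K), u, w]) = Submodule.span k (Set.range ![(1 : K), a, b]) := by
  classical
  have hne := plane_ne_zero ha hb
  set φ := ![(1 : K), a, b]
  set D := mapDiv k φ with hDdef
  have hW := span_le_L_mapDiv hK.1 hne (φ := φ)
  have hD0 : 0 ≤ D := fun P => by
    have := neg_mapDiv_le hK.1 φ P 0
    rw [show φ 0 = 1 from rfl, show P.ord (1 : K) = 0 by simp [Place.ord]] at this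
    rw [Finsupp.zero_apply]; simp only [D]; omega
  have hE : bdry k φ 0 = D := by
    rw [bdry, show φ 0 = 1 from rfl, ← map_one (algebraMap k K), div_const hK.1, add_zero]
  obtain ⟨x, hxS, hxL, hx⟩ := exists_full_pole hK hne 0
  rw [hE] at hxL hx
  have hrange : Set.range (ratio φ 0) = Set.range φ := by
    congr 1; funext i; exact div_one _
  rw [hrange] at hxS
  have hDne : D ≠ 0 := fun h => by
    obtain ⟨z, hz⟩ := exists_transcendental hK
    have hc : ∀ i, φ i ∈ (⊥ : IntermediateField k K) := fun i => by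
      have h1 : φ i ∈ L D := hW (Submodule.subset_span ⟨i, rfl⟩)
      rw [h, L_zero hK, Submodule.mem_one] at h1
      exact IntermediateField.mem_bot.2 h1
    have : z ∈ (⊥ : IntermediateField k K) := by
      have hle : IntermediateField.adjoin k ({a, b} : Set K) ≤ ⊥ := by
        rw [IntermediateField.adjoin_le_iff]
        rintro c (rfl | rfl)
        exacts [hc 1, hc 2]
      exact hle (hgen ▸ IntermediateField.mem_top)
    obtain ⟨c, rfl⟩ := IntermediateField.mem_bot.1 this
    exact hz (isAlgebraic_algebraMap c)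
  obtain ⟨Q, hQ⟩ : ∃ Q, D Q ≠ 0 := by
    by_contra h
    push Not at h
    exact hDne (Finsupp.ext fun Q => by simpa using h Q)
  have hx0 : x ≠ 0 := (hx Q hQ).1
  have htr : Transcendental k x := fun h => by
    have := ord_algebraic h Q
    rw [(hx Q hQ).2] at this
    omega
  have hfull : ∀ Q, D Q ≠ 0 → Q.ord x = -D Q := fun Q h => (hx Q h).2
  obtain ⟨c, hc⟩ := (Submodule.mem_span_range_iff_exists_fun k).1 hxS
  rw [Fin.sum_univ_three] at hc
  change c 0 • (1 : K) + c 1 • a + c 2 • b = x at hc
  have key : ∀ w, w = a ∨ w = b → a ∈ Submodule.span k {1, x, w} → b ∈ Submodule.span k {1, x, w} →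
      PlaneCoord D x w ∧ Submodule.span k (Set.range ![(1 : K), x, w]) = Submodule.span k (Set.range φ) := by
    intro w hw hia hib
    have hwφ : w ∈ Set.range φ := by
      rcases hw with rfl | rfl
      exacts [⟨1, rfl⟩, ⟨2, rfl⟩]
    have hsp : Submodule.span k (Set.range ![(1 : K), x, w]) = Submodule.span k (Set.range φ) := by
      rw [range_plane]
      refine le_antisymm ?_ ?_ <;> rw [Submodule.span_le]
      · rintro z (rfl | rfl | rfl)
        exacts [Submodule.subset_span ⟨0, rfl⟩, hxS, Submodule.subset_span hwφ]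
      · rintro _ ⟨i, rfl⟩
        fin_cases i
        exacts [Submodule.subset_span (by simp [φ]), hia, hib]
    refine ⟨⟨htr, hD0, hfull, hxL, hW (Submodule.subset_span hwφ), ?_⟩, hsp⟩
    rw [eq_top_iff, ← hgen, IntermediateField.adjoin_le_iff]
    have hle : Submodule.span k ({1, x, w} : Set K) ≤
        Subalgebra.toSubmodule (IntermediateField.adjoin k ({x, w} : Set K)).toSubalgebra := by
      rw [Submodule.span_le]
      rintro z (rfl | rfl | rfl)
      exacts [(IntermediateField.adjoin k ({x, w} : Set K)).one_mem, IntermediateField.subset_adjoin _ _ (by simp),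
        IntermediateField.subset_adjoin _ _ (by simp)]
    rintro z (rfl | rfl)
    exacts [hle hia, hle hib]
  rcases eq_or_ne (c 2) 0 with h2 | h2
  · have h1 : c 1 ≠ 0 := fun h1 => by
      rw [h1, h2, zero_smul, zero_smul, add_zero, add_zero, ← Algebra.algebraMap_eq_smul_one] at hc
      exact htr (hc ▸ isAlgebraic_algebraMap (c 0))
    rw [h2, zero_smul, add_zero] at hc
    have hia : a ∈ Submodule.span k ({1, x, b} : Set K) := by
      rw [show a = (c 1)⁻¹ • (x - c 0 • (1 : K)) by
        rw [← hc, add_sub_cancel_left, smul_smul, inv_mul_cancel₀ h1, one_smul]]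
      exact Submodule.smul_mem _ _ (Submodule.sub_mem _ (Submodule.subset_span (by simp))
        (Submodule.smul_mem _ _ (Submodule.subset_span (by simp))))
    exact ⟨x, b, hx0, hb, key b (Or.inr rfl) hia (Submodule.subset_span (by simp))⟩
  · have hib : b ∈ Submodule.span k ({1, x, a} : Set K) := by
      rw [show b = (c 2)⁻¹ • (x - c 0 • (1 : K) - c 1 • a) by
        rw [← hc, show c 0 • (1 : K) + c 1 • a + c 2 • b - c 0 • (1 : K) - c 1 • a = c 2 • b by abel,
          smul_smul, inv_mul_cancel₀ h2, one_smul]]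
      exact Submodule.smul_mem _ _ (Submodule.sub_mem _ (Submodule.sub_mem _ (Submodule.subset_span (by simp))
        (Submodule.smul_mem _ _ (Submodule.subset_span (by simp))))
        (Submodule.smul_mem _ _ (Submodule.subset_span (by simp))))
    exact ⟨x, a, hx0, ha, key a (Or.inl rfl) (Submodule.subset_span (by simp)) hib⟩

/-- The genus bound and the case of equality. -/
theorem plane_genus (hK : IsFunctionField k K) (x y : K)
    (hxy : IntermediateField.adjoin k ({x, y} : Set K) = ⊤) :
    (1 ≤ (mapDiv k ![(1 : K), x, y]).deg) ∧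
    (2 * (genus k K : ℤ) ≤
      ((mapDiv k ![(1 : K), x, y]).deg - 1) * ((mapDiv k ![(1 : K), x, y]).deg - 2)) ∧
    (2 * (genus k K : ℤ) =
        ((mapDiv k ![(1 : K), x, y]).deg - 1) * ((mapDiv k ![(1 : K), x, y]).deg - 2) ↔
      ∀ P : Place k K, IsNonsingularAt ![(1 : K), x, y] P) := by
  classical
  obtain ⟨hgen, hspan0, hdiv⟩ := plane_normalize hK x y hxy
  have hns : ∀ P : Place k K, IsNonsingularAt ![(1 : K), x, y] P ↔
      IsNonsingularAt ![(1 : K), nz x, nz y] P := fun P =>
    forall₂_congr fun z _ => inLocRing_congr hspan0 ⟨0, by simp⟩ P z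
  simp only [hns, hdiv]
  clear hns hdiv hspan0 hxy
  have ha := nz_ne_zero x
  have hb := nz_ne_zero y
  generalize nz x = a at hgen ha ⊢
  generalize nz y = b at hgen hb ⊢
  obtain ⟨u, w, hu0, hw0, hC, hsp⟩ := exists_planeCoord hK ha hb hgen
  have hne := plane_ne_zero ha hb
  set φ := ![(1 : K), a, b]
  set D := mapDiv k φ
  set W := Submodule.span k (Set.range φ) with hWdef
  have hW : W ≤ L D := span_le_L_mapDiv hK.1 hne
  have h1W : (1 : K) ∈ W := Submodule.subset_span ⟨0, rfl⟩
  have huW : u ∈ W := hsp ▸ Submodule.subset_span ⟨1, rfl⟩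
  have hwW : w ∈ W := hsp ▸ Submodule.subset_span ⟨2, rfl⟩
  obtain ⟨hle, heqW⟩ := hC.genus_le hK hW h1W huW hwW
  have hd1 := hC.deg_pos hK
  refine ⟨hd1, hle, fun heq P => ?_, fun hns => ?_⟩
  · obtain ⟨j, hj⟩ := exists_minimal φ P
    have hbne : bdry k φ j ≠ 0 := fun h => by
      have hdeg : (bdry k φ j).deg = D.deg := by rw [bdry, deg_add, deg_div hK.1, add_zero]
      rw [h, deg_zero] at hdeg
      omega
    refine nonsingular_of_reg_le hK hne hj hbne fun z hz => ?_
    obtain ⟨l, hl⟩ := exists_L_of_mem_reg hK.1 (bdry_nonneg hK.1 φ j) hz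
    set m := l + (2 * genus k K + 1) + D.deg.toNat
    have hmem : z * φ j ^ m ∈ L (m • D) := by
      have hl' : z ∈ L (m • bdry k φ j) :=
        L_mono (nsmul_le_nsmul_left (bdry_nonneg hK.1 φ j) (by omega)) hl
      intro Q
      have h1 := hl' Q
      rw [map_mul, map_pow, val_eq_exp Q (hne j), ← exp_nsmul]
      refine (mul_le_mul' h1 le_rfl).trans_eq ?_
      rw [← exp_add]; congr 1
      rw [Finsupp.smul_apply, Finsupp.smul_apply, bdry_apply hK.1]
      simp only [nsmul_eq_mul, D]
      ring
    rw [← heqW heq m (by omega) (by omega)] at hmem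
    have h2 := div_mem_aff_of_mem_pow (φ := φ) j m _ hmem
    rwa [mul_div_cancel_right₀ _ (pow_ne_zero m (hne j))] at h2
  · refine le_antisymm hle ?_
    set ψ := ![(1 : K), u, w]
    have hneψ := plane_ne_zero hu0 hw0
    have hnsψ : ∀ P : Place k K, IsNonsingularAt ψ P := fun P z hz =>
      (inLocRing_congr hsp ⟨0, by simp [ψ]⟩ P z).2 (hns P z hz)
    have hDψ : mapDiv k ψ = D := mapDiv_eq_of_span hK hneψ hne hsp
    have h0 : reg D ≤ Algebra.adjoin k ({u, w} : Set K) := by
      have he : bdry k ψ 0 = D := by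
        rw [bdry, hDψ, show ψ 0 = 1 from rfl, ← map_one (algebraMap k K), div_const hK.1, add_zero]
      intro z hz
      refine (Algebra.adjoin_le ?_ : aff k ψ 0 ≤ _) (reg_le_aff_of_nonsingular hK hneψ 0 hnsψ (he ▸ hz))
      rintro _ ⟨i, rfl⟩
      fin_cases i
      · simp [ψ, ratio]
      · simpa [ψ, ratio] using Algebra.subset_adjoin (R := k) (s := ({u, w} : Set K)) (Set.mem_insert u _)
      · simpa [ψ, ratio] using Algebra.subset_adjoin (R := k) (s := ({u, w} : Set K))
          (Set.mem_insert_of_mem u rfl)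
    have h1 : ∀ (z : K) (m : ℕ), z ∈ L (m • D) →
        z / u ^ m ∈ Algebra.adjoin k ({u⁻¹, w / u} : Set K) := fun z m hz => by
      have hz' : z / u ^ m ∈ reg (bdry k ψ 1) := fun Q hQ => by
        rw [bdry_apply hK.1, hDψ, show ψ 1 = u from rfl] at hQ
        rw [map_div₀, map_pow]
        refine div_le_one_of_le₀ ((hz Q).trans_eq ?_) zero_le
        rw [val_eq_exp Q hu0, ← exp_nsmul, Finsupp.smul_apply]
        simp only [nsmul_eq_mul]
        congr 1
        rw [show -Q.ord u = D Q by omega]
      refine (Algebra.adjoin_le ?_ : aff k ψ 1 ≤ _) (reg_le_aff_of_nonsingular hK hneψ 1 hnsψ hz')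
      rintro _ ⟨i, rfl⟩
      fin_cases i
      · simpa [ψ, ratio] using Algebra.subset_adjoin (R := k) (s := ({u⁻¹, w / u} : Set K))
          (Set.mem_insert u⁻¹ _)
      · simp [ψ, ratio, div_self hu0]
      · simpa [ψ, ratio] using Algebra.subset_adjoin (R := k) (s := ({u⁻¹, w / u} : Set K))
          (Set.mem_insert_of_mem u⁻¹ rfl)
    set F := IntermediateField.adjoin k ({u} : Set K) with hF
    set d := Module.finrank F K
    have hdD : (d : ℤ) = D.deg := hC.finrank_eq hK
    set m := 2 * genus k K + 1 + d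
    let J := (b : Fin d) × Fin (m + 1 - b)
    let S := Submodule.span k (Set.range fun p : J => u ^ (p.2 : ℕ) * w ^ (p.1 : ℕ))
    have hsub : L (m • D) ≤ S := fun z hz => by
      obtain ⟨p, rfl, hp⟩ := reg_eq_pow_of_aff hK hC h0 h1 m z hz
      refine sum_mem fun b _ => ?_
      rcases eq_or_ne (p b) 0 with hb | hb
      · rw [hb, map_zero, zero_mul]; exact zero_mem _
      have := hp b hb
      rw [aeval_eq_sum_range' (show (p b).natDegree < m + 1 - b by omega), Finset.sum_mul]
      refine sum_mem fun i hi => ?_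
      rw [smul_mul_assoc]
      exact Submodule.smul_mem _ _ (Submodule.subset_span ⟨⟨b, ⟨i, Finset.mem_range.1 hi⟩⟩, rfl⟩)
    have : FiniteDimensional k S := FiniteDimensional.span_of_finite k (Set.finite_range _)
    have hcard : ell (m • D) ≤ ∑ b ∈ Finset.range d, (m + 1 - b) := by
      refine (Submodule.finrank_mono hsub).trans ((finrank_range_le_card _).trans_eq ?_)
      simp [J, Fintype.card_sigma, Fin.sum_univ_eq_sum_range]
    have hell : (ell (m • D) : ℤ) = m * D.deg + 1 - genus k K := by
      have h4 := le_mul_of_one_le_right (Int.natCast_nonneg m) hd1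
      rw [ell_eq_of_deg_ge hK (by rw [deg_nsmul]; omega), deg_nsmul]
    have h5 : (2 * ell (m • D) : ℤ) ≤ d * (2 * m + 3 - d) := by
      rw [← two_mul_sum_range d m (by omega)]
      exact_mod_cast Nat.mul_le_mul_left 2 hcard
    rw [hell, hdD] at h5
    nlinarith

end Groth.Agent.FF
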