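/-
Linear series: vanishing profiles, weights, compatibility.
-/
import Groth.Agent.L26.FF.Closed

open WithZero

namespace Groth.Agent.FF

open FunFld

variable {k K : Type*} [Field k] [Field K] [Algebra k K]

/-- `dim V(-nP)`. -/
noncomputable def prof (D : Divisor k K) (V : Submodule k K) (P : Place k K) (n : ℤ) : ℕ :=
  Module.finrank k ↥(V ⊓ L (D - Finsupp.single P n))

/-- `∑_{n=1}^d dim V(-nP)`. -/
noncomputable def wt (D : Divisor k K) (V : Submodule k K) (P : Place k K) (d : ℕ) : ℕ :=
  ∑ n ∈ Finset.range d, prof D V P ((n : ℤ) + 1)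

/-- A linear series `g^r_d`. -/
structure Ser (D : Divisor k K) (V : Submodule k K) (d r : ℕ) : Prop where
  hK : IsFunctionField k K
  hD : D.deg = d
  hV : V ≤ L D
  hr : Module.finrank k V = r + 1

namespace Ser

variable {D : Divisor k K} {V : Submodule k K} {d r : ℕ} (S : Ser D V d r)
include S

lemma finite : FiniteDimensional k V :=
  have := finite_L S.hK.1 D
  Submodule.finiteDimensional_of_le S.hV

lemma sub_single_anti (P : Place k K) {m n : ℤ} (h : m ≤ n) :
    D - Finsupp.single P n ≤ D - Finsupp.single P m := by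
  classical
  intro Q
  simp only [Finsupp.sub_apply, Finsupp.single_apply]
  split_ifs <;> omega

lemma prof_anti (P : Place k K) {m n : ℤ} (h : m ≤ n) : prof D V P n ≤ prof D V P m := by
  have := S.finite
  have : FiniteDimensional k ↥(V ⊓ L (D - Finsupp.single P m)) :=
    Submodule.finiteDimensional_of_le inf_le_left
  exact Submodule.finrank_mono (inf_le_inf_left V (L_mono (S.sub_single_anti P h)))

lemma prof_zero (P : Place k K) : prof D V P 0 = r + 1 := by
  rw [prof, Finsupp.single_zero, sub_zero, inf_eq_left.2 S.hV, S.hr]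

lemma r_le : r ≤ d := by
  have := finite_L S.hK.1 D
  have h1 := Submodule.finrank_mono S.hV
  obtain ⟨z, hz, hz0⟩ := exists_ne_zero_of_ell_pos (D := D) (by rw [ell]; have := S.hr; omega)
  have h2 := ell_le_deg_add_one S.hK ((mem_L_iff_div S.hK.1 hz0).1 hz)
  rw [deg_add, deg_div S.hK.1, zero_add, S.hD, add_comm, ell_add_div S.hK D hz0] at h2
  simp only [ell] at h2
  have := S.hr
  omega

variable [IsAlgClosed k]

lemma prof_eq_zero (P : Place k K) {n : ℤ} (h : (d : ℤ) < n) : prof D V P n = 0 := by
  have : L (D - Finsupp.single P n) = (⊥ : Submodule k K) :=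
    L_eq_bot_of_deg_neg S.hK.1 (by rw [deg_sub, deg_single, S.hD, deg_eq_one S.hK]; omega)
  rw [prof, this, inf_bot_eq, finrank_bot]

lemma prof_step (P : Place k K) (n : ℤ) : prof D V P n ≤ prof D V P (n + 1) + 1 := by
  have := S.finite
  have hle := L_mono (S.sub_single_anti P (show n ≤ n + 1 by omega))
  have := finite_L S.hK.1 (D - Finsupp.single P n)
  have h1 := ell_sub_le S.hK.1 (S.sub_single_anti P (show n ≤ n + 1 by omega))
  rw [deg_sub, deg_sub, deg_single, deg_single, deg_eq_one S.hK] at h1
  have : FiniteDimensional k ↥(V ⊓ L (D - Finsupp.single P n)) :=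
    Submodule.finiteDimensional_of_le inf_le_left
  have : FiniteDimensional k ↥(L (D - Finsupp.single P (n + 1))) := finite_L S.hK.1 _
  have h2 := Submodule.finrank_sup_add_finrank_inf_eq (V ⊓ L (D - Finsupp.single P n))
    (L (D - Finsupp.single P (n + 1)))
  rw [inf_assoc, inf_eq_right.2 hle] at h2
  have h3 := Submodule.finrank_mono (sup_le (inf_le_right : V ⊓ L (D - Finsupp.single P n) ≤ _) hle)
  simp only [prof, ell] at *
  push_cast at h1
  omega

lemma inf_pair_le {P Q : Place k K} (h : P ≠ Q) (a b : ℤ) :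
    prof D V P a + prof D V Q b ≤
      r + 1 + ell (D - Finsupp.single P a - Finsupp.single Q b) := by
  classical
  have := S.finite
  have : FiniteDimensional k ↥(V ⊓ L (D - Finsupp.single P a)) :=
    Submodule.finiteDimensional_of_le inf_le_left
  have : FiniteDimensional k ↥(V ⊓ L (D - Finsupp.single Q b)) :=
    Submodule.finiteDimensional_of_le inf_le_left
  have := finite_L S.hK.1 (D - Finsupp.single P a - Finsupp.single Q b)
  have h1 := Submodule.finrank_sup_add_finrank_inf_eq (V ⊓ L (D - Finsupp.single P a))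
    (V ⊓ L (D - Finsupp.single Q b))
  have h2 := Submodule.finrank_mono (sup_le (inf_le_left : V ⊓ L (D - Finsupp.single P a) ≤ V)
    (inf_le_left : V ⊓ L (D - Finsupp.single Q b) ≤ V))
  have h3 : (V ⊓ L (D - Finsupp.single P a)) ⊓ (V ⊓ L (D - Finsupp.single Q b)) ≤
      L (D - Finsupp.single P a - Finsupp.single Q b) := by
    rintro x ⟨⟨-, hxP⟩, -, hxQ⟩ R
    simp only [Finsupp.sub_apply, Finsupp.single_apply]
    by_cases hP : P = R
    · subst hP
      simpa [Finsupp.single_apply, Ne.symm h] using hxP P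
    · simpa [Finsupp.single_apply, hP] using hxQ R
  have h4 := Submodule.finrank_mono h3
  have h5 := S.hr
  simp only [prof, ell]
  omega

lemma ell_pair {P Q : Place k K} (a b : ℤ) (h : (d : ℤ) < a + b) :
    ell (D - Finsupp.single P a - Finsupp.single Q b) = 0 := by
  rw [ell, L_eq_bot_of_deg_neg S.hK.1, finrank_bot]
  rw [deg_sub, deg_sub, deg_single, deg_single, S.hD, deg_eq_one S.hK, deg_eq_one S.hK]
  omega

lemma prof_pair_le {P Q : Place k K} (h : P ≠ Q) {a b : ℤ} (hab : (d : ℤ) < a + b) :
    prof D V P a + prof D V Q b ≤ r + 1 := by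
  simpa [S.ell_pair a b hab] using S.inf_pair_le h a b

lemma prof_cast_ge (P : Place k K) (n : ℕ) : r + 1 ≤ prof D V P n + n := by
  induction n with
  | zero => simp [S.prof_zero P]
  | succ n ih => have := S.prof_step P n; push_cast; omega

lemma wt_pair_le {P Q : Place k K} (h : P ≠ Q) : wt D V P d + wt D V Q d ≤ (r + 1) * d := by
  rw [wt, wt, ← Finset.sum_range_reflect (fun n => prof D V Q ((n : ℤ) + 1)) d,
    ← Finset.sum_add_distrib]
  refine (Finset.sum_le_card_nsmul _ _ (r + 1) fun n hn => ?_).trans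
    (by rw [Finset.card_range, smul_eq_mul, mul_comm])
  have := Finset.mem_range.1 hn
  exact S.prof_pair_le h (by omega)

lemma two_wt_ge_of_cusp (P : Place k K) (c : ℕ) (hc : c ≤ r)
    (hcusp : c = 0 ∨ r ≤ prof D V P 2) : r * (r + 1) + 2 * c ≤ 2 * wt D V P d := by
  have hr := S.r_le
  rcases hcusp with rfl | hcusp
  · have key : ∀ m, m ≤ r → m * (2 * r + 1) ≤
        2 * (∑ n ∈ Finset.range m, prof D V P ((n : ℤ) + 1)) + m * m := by
      intro m hm
      induction m with
      | zero => simp
      | succ m ih =>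
        rw [Finset.sum_range_succ]
        have := ih (by omega)
        have := S.prof_cast_ge P (m + 1)
        push_cast at this
        nlinarith
    have h1 := key r le_rfl
    have h2 : ∑ n ∈ Finset.range r, prof D V P ((n : ℤ) + 1) ≤ wt D V P d :=
      Finset.sum_le_sum_of_subset (Finset.range_mono hr)
    nlinarith
  · rcases Nat.eq_zero_or_pos r with hr0 | hrpos
    · subst hr0; have : c = 0 := by omega
      subst this; simp
    have hd : r + 1 ≤ d := by
      by_contra hlt
      have hd : d = r := by omega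
      have := finite_L S.hK.1 (D - Finsupp.single P 2)
      have h1 : prof D V P 2 ≤ ell (D - Finsupp.single P 2) := Submodule.finrank_mono inf_le_right
      obtain ⟨z, hz, hz0⟩ := exists_ne_zero_of_ell_pos (D := D - Finsupp.single P 2) (by omega)
      have h2 := ell_le_deg_add_one S.hK ((mem_L_iff_div S.hK.1 hz0).1 hz)
      rw [deg_add, deg_div S.hK.1, add_comm (FunFld.div k z), ell_add_div S.hK _ hz0, deg_sub,
        deg_single, S.hD, deg_eq_one S.hK] at h2
      omega
    have key : ∀ m, m ≤ r → (∀ n, n ≤ m → r + 2 ≤ prof D V P ((n : ℤ) + 2) + (n + 2)) := by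
      intro m _ n _
      induction n with
      | zero => simpa using hcusp
      | succ n ih =>
        have := ih (by omega)
        have := S.prof_step P ((n : ℤ) + 2)
        rw [show ((n + 1 : ℕ) : ℤ) + 2 = (n : ℤ) + 2 + 1 by push_cast; ring]
        omega
    have key2 : ∀ m, m ≤ r → 2 * r + m * (2 * r + 1) ≤
        2 * (∑ n ∈ Finset.range (m + 1), prof D V P ((n : ℤ) + 1)) + m * m := by
      intro m hm
      induction m with
      | zero =>
        have h1 := S.prof_anti P (show (1 : ℤ) ≤ 2 by norm_num)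
        simp; omega
      | succ m ih =>
        rw [Finset.sum_range_succ]
        have := ih (by omega)
        have := key m (by omega) m le_rfl
        rw [show ((m + 1 : ℕ) : ℤ) + 1 = (m : ℤ) + 2 by push_cast; ring]
        nlinarith
    have h1 := key2 r le_rfl
    have h2 : ∑ n ∈ Finset.range (r + 1), prof D V P ((n : ℤ) + 1) ≤ wt D V P d :=
      Finset.sum_le_sum_of_subset (Finset.range_mono hd)
    nlinarith

lemma two_wt_ge (P : Place k K) : r * (r + 1) ≤ 2 * wt D V P d := by
  simpa using S.two_wt_ge_of_cusp P 0 (Nat.zero_le _) (Or.inl rfl)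

/-- A basis adapted to the vanishing orders at `P`. -/
lemma exists_adapted (P : Place k K) :
    ∃ (g : Fin (r + 1) → K) (m : Fin (r + 1) → ℕ), Function.Injective m ∧ (∀ i, g i ∈ V) ∧
      (∀ i, g i ≠ 0) ∧ (∀ i, P.ord (g i) + D P = m i) ∧ LinearIndependent k g ∧
      ∑ i, m i = wt D V P d := by
  classical
  let u : ℕ → ℕ := fun n => prof D V P n - prof D V P ((n : ℤ) + 1)
  have hu : ∀ n : ℕ, u n ≤ 1 := fun n => by have := S.prof_step P n; simp only [u]; omega
  have hup : ∀ n : ℕ, prof D V P n = prof D V P ((n : ℤ) + 1) + u n := fun n => by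
    have := S.prof_anti P (show (n : ℤ) ≤ (n : ℤ) + 1 by omega); simp only [u]; omega
  have t1 : ∀ m : ℕ, ∑ n ∈ Finset.range m, u n + prof D V P m = r + 1 := fun m => by
    induction m with
    | zero => simp [S.prof_zero P]
    | succ m ih => rw [Finset.sum_range_succ]; have := hup m; push_cast; omega
  have t2 : ∀ m : ℕ, ∑ n ∈ Finset.range m, n * u n + m * prof D V P m =
      ∑ n ∈ Finset.range m, prof D V P ((n : ℤ) + 1) + (∑ n ∈ Finset.range m, u n) * 0 +
        0 * m := fun m => by
    induction m with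
    | zero => simp
    | succ m ih =>
      rw [Finset.sum_range_succ, Finset.sum_range_succ, hup m] at *
      push_cast
      nlinarith
  let Sset := (Finset.range (d + 1)).filter fun n => u n = 1
  have hend : prof D V P ((d + 1 : ℕ) : ℤ) = 0 := S.prof_eq_zero P (by push_cast; omega)
  have hsum : ∀ f : ℕ → ℕ, ∑ n ∈ Sset, f n = ∑ n ∈ Finset.range (d + 1), f n * u n := fun f => by
    rw [Finset.sum_filter]
    refine Finset.sum_congr rfl fun n _ => ?_
    have := hu n
    split_ifs with h
    · rw [h, mul_one]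
    · rw [show u n = 0 by omega, mul_zero]
  have hcard : Sset.card = r + 1 := by
    rw [Finset.card_eq_sum_ones, hsum]
    have := t1 (d + 1)
    simp only [one_mul]
    omega
  have hw : ∑ n ∈ Sset, n = wt D V P d := by
    rw [hsum]
    have := t2 (d + 1)
    rw [Finset.sum_range_succ (fun n => prof D V P ((n : ℤ) + 1)), hend] at this
    rw [show prof D V P ((d : ℤ) + 1) = 0 from S.prof_eq_zero P (by omega)] at this
    simp only [wt]
    omega
  have hex : ∀ n ∈ Sset, ∃ x : K, x ∈ V ∧ x ≠ 0 ∧ P.ord x + D P = n := fun n hn => by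
    have h1 := (Finset.mem_filter.1 hn).2
    have h2 : ¬ (V ⊓ L (D - Finsupp.single P (n : ℤ)) ≤ V ⊓ L (D - Finsupp.single P ((n : ℤ) + 1))) := by
      intro hle
      have := S.finite
      have : FiniteDimensional k ↥(V ⊓ L (D - Finsupp.single P ((n : ℤ) + 1))) :=
        Submodule.finiteDimensional_of_le inf_le_left
      have := Submodule.finrank_mono hle
      simp only [u, prof] at h1 ⊢
      omega
    obtain ⟨x, ⟨hxV, hx⟩, hx'⟩ := SetLike.not_le_iff_exists.1 h2
    have hx0 : x ≠ 0 := fun h => hx' (h ▸ zero_mem _)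
    refine ⟨x, hxV, hx0, ?_⟩
    have hx'' : ¬ x ∈ L (D - Finsupp.single P ((n : ℤ) + 1)) := fun h => hx' ⟨hxV, h⟩
    rw [SetLike.mem_coe, mem_L_iff_ord hx0] at hx
    rw [mem_L_iff_ord hx0] at hx''
    push Not at hx''
    obtain ⟨R, hR⟩ := hx''
    have hRx := hx R
    have hPx := hx P
    by_cases hRP : R = P
    · subst hRP
      simp only [Finsupp.sub_apply, Finsupp.single_eq_same] at hR hPx
      omega
    · simp [Finsupp.single_eq_of_ne hRP] at hR hRx
      omega
  choose x hx using hex
  let e : Fin (r + 1) ≃ Sset := ((Finset.equivFin Sset).trans (finCongr hcard)).symm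
  refine ⟨fun i => x _ (e i).2, fun i => (e i : ℕ), Subtype.val_injective.comp e.injective,
    fun i => (hx _ _).1, fun i => (hx _ _).2.1, fun i => (hx _ _).2.2, ?_, ?_⟩
  · rw [Fintype.linearIndependent_iff]
    intro c hc i
    by_contra hi
    let T := Finset.univ.filter fun j => c j ≠ 0
    obtain ⟨j, hjT, hj⟩ := Finset.exists_min_image T (fun j => ((e j : ℕ))) ⟨i, by simp [T, hi]⟩
    have hcj : c j ≠ 0 := (Finset.mem_filter.1 hjT).2
    have h1 : ∀ l, l ≠ j → P.1 (c l • x _ (e l).2) < P.1 (c j • x _ (e j).2) := fun l hl => by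
      by_cases hcl : c l = 0
      · rw [hcl, zero_smul, map_zero]
        exact zero_lt_iff.2 (val_ne_zero P (smul_ne_zero hcj (hx _ _).2.1))
      · rw [Algebra.smul_def, Algebra.smul_def, map_mul, map_mul, val_const P hcl, val_const P hcj,
          one_mul, one_mul, val_eq_exp P (hx _ _).2.1, val_eq_exp P (hx _ _).2.1, exp_lt_exp]
        have h3 : (e j : ℕ) < (e l : ℕ) := lt_of_le_of_ne (hj l (by simp [T, hcl]))
          fun h => hl (e.injective (Subtype.ext h)).symm
        have := (hx _ (e j).2).2.2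
        have := (hx _ (e l).2).2.2
        omega
    have h2 := P.1.map_sum_eq_of_lt (s := Finset.univ) (f := fun l => c l • x _ (e l).2)
      (Finset.mem_univ j) (fun l hl => h1 l (by simpa using hl))
    rw [hc, map_zero] at h2
    exact val_ne_zero P (smul_ne_zero hcj (hx _ _).2.1) h2.symm
  · rw [← hw, ← Finset.sum_coe_sort Sset]
    exact e.sum_comp fun n : Sset => (n : ℕ)

end Ser

lemma wt_compat {KY KZ : Type*} [Field KY] [Algebra k KY] [Field KZ] [Algebra k KZ]
    {d r : ℕ} {DY : Divisor k KY} {VY : Submodule k KY} {DZ : Divisor k KZ}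
    {VZ : Submodule k KZ} {P : Place k KY} {Q : Place k KZ}
    (hcomp : ∀ n : ℕ, n ≤ d + 1 →
      prof DY VY P (n : ℤ) + prof DZ VZ Q ((d : ℤ) + 1 - n) = r + 1) :
    wt DY VY P d + wt DZ VZ Q d = (r + 1) * d := by
  rw [wt, wt, ← Finset.sum_range_reflect (fun n => prof DZ VZ Q ((n : ℤ) + 1)) d,
    ← Finset.sum_add_distrib]
  rw [Finset.sum_congr rfl fun n hn => ?_, Finset.sum_const, Finset.card_range, smul_eq_mul, mul_comm]
  have hn' := Finset.mem_range.1 hn
  have := hcomp (n + 1) (by omega)
  rw [show ((d - 1 - n : ℕ) : ℤ) + 1 = (d : ℤ) + 1 - ((n + 1 : ℕ) : ℤ) by omega]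
  push_cast at this ⊢
  exact this

end Groth.Agent.FF
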