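/-
`ℓ(D) + ℓ(E) ≤ ℓ(D+E) + 1`, Clifford's inequality, pole number semigroups.
-/
import Groth.Agent.L26.FF.Series

open WithZero

namespace Groth.Agent.FF

open FunFld

variable {k K : Type*} [Field k] [Field K] [Algebra k K]

lemma linearIndependent_of_ord_injective (P : Place k K) {ι : Type*} [Finite ι] {x : ι → K}
    (h0 : ∀ i, x i ≠ 0) (hinj : Function.Injective fun i => P.ord (x i)) :
    LinearIndependent k x := by
  classical
  have : Fintype ι := Fintype.ofFinite ι
  rw [Fintype.linearIndependent_iff]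
  intro c hc i
  by_contra hi
  let T := Finset.univ.filter fun j => c j ≠ 0
  obtain ⟨j, hjT, hj⟩ := Finset.exists_min_image T (fun j => P.ord (x j)) ⟨i, by simp [T, hi]⟩
  have hcj : c j ≠ 0 := (Finset.mem_filter.1 hjT).2
  have h2 := P.1.map_sum_eq_of_lt (s := Finset.univ) (f := fun l => c l • x l) (Finset.mem_univ j)
    (fun l hl => by
      have hl' : l ≠ j := by simpa using hl
      by_cases hcl : c l = 0
      · rw [hcl, zero_smul, map_zero]
        exact zero_lt_iff.2 (val_ne_zero P (smul_ne_zero hcj (h0 j)))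
      · rw [Algebra.smul_def, Algebra.smul_def, map_mul, map_mul, val_const P hcl, val_const P hcj,
          one_mul, one_mul, val_eq_exp P (h0 l), val_eq_exp P (h0 j), exp_lt_exp]
        have h3 := hj l (by simp [T, hcl])
        have h4 : P.ord (x l) ≠ P.ord (x j) := fun h => hl' (hinj h)
        omega)
  rw [hc, map_zero] at h2
  exact val_ne_zero P (smul_ne_zero hcj (h0 j)) h2.symm

lemma deg_nonneg_of_ell_pos (hK : IsFunctionField k K) {D : Divisor k K} (h : 0 < ell D) :
    0 ≤ D.deg := by
  obtain ⟨z, hz, hz0⟩ := exists_ne_zero_of_ell_pos h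
  have := deg_nonneg ((mem_L_iff_div hK.1 hz0).1 hz)
  rw [deg_add, deg_div hK.1] at this
  omega

lemma ser_L (hK : IsFunctionField k K) {D : Divisor k K} (h : 0 < ell D) :
    Ser D (L D) D.deg.toNat (ell D - 1) :=
  ⟨hK, (Int.toNat_of_nonneg (deg_nonneg_of_ell_pos hK h)).symm, le_rfl, by
    show ell D = _; omega⟩

lemma ell_add_ge [IsAlgClosed k] (hK : IsFunctionField k K) {D E : Divisor k K} (hD : 0 < ell D)
    (hE : 0 < ell E) : ell D + ell E ≤ ell (D + E) + 1 := by
  classical
  obtain ⟨P⟩ := nonempty_place hK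
  obtain ⟨f, mf, hmf, hf, hf0, hfo, -, -⟩ := (ser_L hK hD).exists_adapted P
  obtain ⟨g, mg, hmg, hg, hg0, hgo, -, -⟩ := (ser_L hK hE).exists_adapted P
  let A : Finset ℤ := Finset.univ.image fun i => (mf i : ℤ) - D P
  let B : Finset ℤ := Finset.univ.image fun i => (mg i : ℤ) - E P
  have hA : A.card = ell D - 1 + 1 := by
    rw [Finset.card_image_of_injective _ (fun i j h => hmf (by simpa using h)), Finset.card_univ,
      Fintype.card_fin]
  have hB : B.card = ell E - 1 + 1 := by
    rw [Finset.card_image_of_injective _ (fun i j h => hmg (by simpa using h)), Finset.card_univ,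
      Fintype.card_fin]
  obtain ⟨a, haA, ha⟩ := A.exists_max_image id (Finset.card_pos.1 (by omega))
  obtain ⟨b, hbB, hb⟩ := B.exists_min_image id (Finset.card_pos.1 (by omega))
  let C : Finset ℤ := A.image (· + b) ∪ (B.erase b).image (a + ·)
  have hC : C.card = ell D + ell E - 1 := by
    rw [Finset.card_union_of_disjoint]
    · rw [Finset.card_image_of_injective A (add_left_injective b),
        Finset.card_image_of_injective (B.erase b) (add_right_injective a),
        Finset.card_erase_of_mem hbB, hA, hB]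
      omega
    · rw [Finset.disjoint_left]
      simp only [Finset.mem_image, Finset.mem_erase]
      rintro _ ⟨x, hx, rfl⟩ ⟨y, ⟨hy, hyB⟩, h⟩
      have := ha x hx
      have := hb y hyB
      simp only [id] at *
      omega
  have hw : ∀ c : C, ∃ z : K, z ∈ L (D + E) ∧ z ≠ 0 ∧ P.ord z = c := by
    rintro ⟨c, hc⟩
    obtain ⟨i, j, rfl⟩ : ∃ i j, c = ((mf i : ℤ) - D P) + ((mg j : ℤ) - E P) := by
      simp only [C, Finset.mem_union, Finset.mem_image, Finset.mem_erase] at hc
      rcases hc with ⟨x, hx, rfl⟩ | ⟨y, ⟨-, hy⟩, rfl⟩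
      · obtain ⟨i, -, rfl⟩ := Finset.mem_image.1 hx
        obtain ⟨j, -, hj⟩ := Finset.mem_image.1 hbB
        exact ⟨i, j, by rw [hj]⟩
      · obtain ⟨i, -, hi⟩ := Finset.mem_image.1 haA
        obtain ⟨j, -, rfl⟩ := Finset.mem_image.1 hy
        exact ⟨i, j, by rw [hi]⟩
    refine ⟨f i * g j, mem_L_mul hK (hf i) (hg j), mul_ne_zero (hf0 i) (hg0 j), ?_⟩
    show P.ord (f i * g j) = (mf i : ℤ) - D P + ((mg j : ℤ) - E P)
    rw [ord_mul P (hf0 i) (hg0 j)]
    have := hfo i
    have := hgo j
    omega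
  choose z hz hz0 hzord using hw
  have := finite_L hK.1 (D + E)
  have li : LinearIndependent k fun c : C => (⟨z c, hz c⟩ : L (D + E)) :=
    LinearIndependent.of_comp (L (D + E)).subtype
      (linearIndependent_of_ord_injective P hz0 fun c c' h => Subtype.ext (by
        rw [← hzord c, ← hzord c']; exact h))
  have h := li.fintype_card_le_finrank
  rw [Fintype.card_coe, hC] at h
  simp only [ell] at *
  omega

lemma clifford [IsAlgClosed k] (hK : IsFunctionField k K) {D : Divisor k K} (h0 : 0 ≤ D.deg)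
    (h : D.deg ≤ 2 * (genus k K : ℤ) - 2) : 2 * (ell D : ℤ) ≤ D.deg + 2 := by
  obtain ⟨C, hC⟩ := exists_isCanonical hK
  have hrr := riemann_roch hK hC D
  rcases Nat.eq_zero_or_pos (ell D) with h1 | h1
  · omega
  rcases Nat.eq_zero_or_pos (ell (C - D)) with h2 | h2
  · omega
  have h3 := ell_add_ge hK h1 h2
  rw [add_sub_cancel, (ell_canonical hK hC).1] at h3
  omega

/-- `n` is a gap at `P`. -/
lemma gap_iff (hK : IsFunctionField k K) (P : Place k K) {n : ℕ} (hn : 1 ≤ n) :
    L (Finsupp.single P (n : ℤ)) = L (Finsupp.single P ((n : ℤ) - 1)) ↔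
      ¬ ∃ z ∈ L (Finsupp.single P (n : ℤ)), z ≠ 0 ∧ P.ord z = -(n : ℤ) := by
  classical
  constructor
  · rintro h ⟨z, hz, hz0, hord⟩
    rw [h, mem_L_iff_ord hz0] at hz
    have := hz P
    rw [Finsupp.single_eq_same] at this
    omega
  · intro h
    refine le_antisymm (fun z hz => ?_) (L_mono fun Q => by
      simp only [Finsupp.single_apply]; split_ifs <;> omega)
    rcases eq_or_ne z 0 with rfl | hz0
    · exact zero_mem _
    have hne : P.ord z ≠ -(n : ℤ) := fun h' => h ⟨z, hz, hz0, h'⟩
    rw [mem_L_iff_ord hz0] at hz ⊢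
    intro Q
    have h1 := hz Q
    simp only [Finsupp.single_apply] at h1 ⊢
    split_ifs at h1 ⊢ with hQ
    · subst hQ; omega
    · exact h1

lemma ell_single_step (hK : IsFunctionField k K) [IsAlgClosed k] (P : Place k K) (n : ℤ) :
    ell (Finsupp.single P n) = ell (Finsupp.single P (n - 1) : Divisor k K) +
      (if L (Finsupp.single P n) = (L (Finsupp.single P (n - 1)) : Submodule k K) then 0 else 1) := by
  classical
  have hle : (Finsupp.single P (n - 1) : Divisor k K) ≤ Finsupp.single P n := fun Q => by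
    simp only [Finsupp.single_apply]; split_ifs <;> omega
  have h2 := ell_sub_le hK.1 hle
  rw [deg_single, deg_single, deg_eq_one hK] at h2
  have := finite_L hK.1 (Finsupp.single P n)
  split_ifs with h
  · simp only [ell]; rw [h, add_zero]
  · have h3 := Submodule.finrank_lt_finrank_of_lt (lt_of_le_of_ne (L_mono hle) (Ne.symm h))
    simp only [ell] at *
    push_cast at h2
    omega

lemma ell_single_eq (hK : IsFunctionField k K) [IsAlgClosed k] (P : Place k K) (n : ℕ) :
    ell (Finsupp.single P (n : ℤ)) + Set.ncard {m : ℕ | 1 ≤ m ∧ m ≤ n ∧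
      L (Finsupp.single P (m : ℤ)) = (L (Finsupp.single P ((m : ℤ) - 1)) : Submodule k K)} =
      n + 1 := by
  classical
  have e : ∀ n : ℕ, {m : ℕ | 1 ≤ m ∧ m ≤ n ∧
      L (Finsupp.single P (m : ℤ)) = (L (Finsupp.single P ((m : ℤ) - 1)) : Submodule k K)} =
      ↑((Finset.Icc 1 n).filter fun m : ℕ =>
        L (Finsupp.single P (m : ℤ)) = (L (Finsupp.single P ((m : ℤ) - 1)) : Submodule k K)) := fun n => by
    ext m; simp [and_assoc]
  rw [e, Set.ncard_coe_finset]
  induction n with
  | zero => simp [ell_zero hK]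
  | succ n ih =>
    rw [ell_single_step hK P ((n + 1 : ℕ) : ℤ), show ((n + 1 : ℕ) : ℤ) - 1 = (n : ℤ) by push_cast; ring,
      show Finset.Icc 1 (n + 1) = insert (n + 1) (Finset.Icc 1 n) by ext x; simp; omega,
      Finset.filter_insert]
    rw [show ((n + 1 : ℕ) : ℤ) - 1 = (n : ℤ) by push_cast; ring]
    split_ifs with h
    · rw [Finset.card_insert_of_notMem (by simp)]; omega
    · omega

end Groth.Agent.FF
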