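/-
Genus one: functions with poles at one rational place.
-/
import Groth.Agent.L26.FF.Clifford

open WithZero IntermediateField

namespace Groth.Agent.FF

open FunFld

variable {k K : Type*} [Field k] [Field K] [Algebra k K]

lemma ell_single_g1 (hK : IsFunctionField k K) (hg : genus k K = 1) {P : Place k K}
    (hP : P.deg = 1) (n : ℕ) (hn : 1 ≤ n) : ell (Finsupp.single P (n : ℤ)) = n := by
  have := ell_eq_of_deg_ge hK (D := Finsupp.single P (n : ℤ))
    (by rw [deg_single, hP, hg]; omega)
  rw [deg_single, hP, hg] at this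
  omega

lemma exists_exact_pole (hK : IsFunctionField k K) (hg : genus k K = 1) {P : Place k K}
    (hP : P.deg = 1) (n : ℕ) (hn : 2 ≤ n) :
    ∃ z ∈ L (Finsupp.single P (n : ℤ)), z ≠ 0 ∧ P.ord z = -(n : ℤ) := by
  by_contra h
  have h' := (gap_iff hK P (by omega)).2 h
  have h1 := ell_single_g1 hK hg hP n (by omega)
  have h2 := ell_single_g1 hK hg hP (n - 1) (by omega)
  rw [show (((n - 1 : ℕ)) : ℤ) = (n : ℤ) - 1 by omega] at h2
  simp only [ell] at h1 h2
  rw [h'] at h1
  omega

lemma ord_pow (P : Place k K) {x : K} (hx : x ≠ 0) (n : ℕ) : P.ord (x ^ n) = n * P.ord x := by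
  induction n with
  | zero =>
    rw [pow_zero]
    have : P.ord (1 : K) = 0 := (val_eq_one_iff P one_ne_zero).1 (map_one _)
    simp [this]
  | succ n ih => rw [pow_succ, ord_mul P (pow_ne_zero n hx) hx, ih]; push_cast; ring

lemma basis_two_three (hK : IsFunctionField k K) (hg : genus k K = 1) {P : Place k K}
    (hP : P.deg = 1) {f g : K} (hf : f ∈ L (Finsupp.single P 2)) (hf2 : P.ord f = -2)
    (hg' : g ∈ L (Finsupp.single P 3)) (hg3 : P.ord g = -3) (n : ℕ) (hn : 2 ≤ n) :
    LinearIndependent k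
        (Sum.elim (fun i : Fin (n / 2 + 1) => f ^ (i : ℕ))
          (fun i : Fin ((n - 1) / 2) => f ^ (i : ℕ) * g)) ∧
      Submodule.span k (Set.range
        (Sum.elim (fun i : Fin (n / 2 + 1) => f ^ (i : ℕ))
          (fun i : Fin ((n - 1) / 2) => f ^ (i : ℕ) * g))) = L (Finsupp.single P (n : ℤ)) := by
  classical
  have hf0 : f ≠ 0 := fun h => by rw [h, ord_zero] at hf2; omega
  have hg0 : g ≠ 0 := fun h => by rw [h, ord_zero] at hg3; omega
  have e1 : ∀ i : ℕ, P.ord (f ^ i) = -2 * i := fun i => by rw [ord_pow P hf0, hf2]; ring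
  have e2 : ∀ i : ℕ, P.ord (f ^ i * g) = -2 * i - 3 := fun i => by
    rw [ord_mul P (pow_ne_zero i hf0) hg0, e1, hg3]; ring
  have hli := linearIndependent_of_ord_injective P
    (x := Sum.elim (fun i : Fin (n / 2 + 1) => f ^ (i : ℕ))
      (fun i : Fin ((n - 1) / 2) => f ^ (i : ℕ) * g)) (k := k)
    (by rintro (i | i) <;> simp [hf0, hg0])
    (by
      rintro (i | i) (j | j) h <;> simp only [Sum.elim_inl, Sum.elim_inr, e1, e2] at h
      · exact congrArg Sum.inl (Fin.ext (by omega))
      · omega
      · omega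
      · exact congrArg Sum.inr (Fin.ext (by omega)))
  refine ⟨hli, ?_⟩
  have hpow : ∀ i : ℕ, f ^ i ∈ L (Finsupp.single P (2 * i : ℤ)) := fun i => by
    induction i with
    | zero => simp [L_zero hK]
    | succ i ih =>
      rw [pow_succ]
      have := mem_L_mul hK ih hf
      rwa [← Finsupp.single_add, show (2 * (i : ℤ) + 2) = 2 * ((i + 1 : ℕ) : ℤ) by push_cast; ring] at this
  have hle : Submodule.span k (Set.range (Sum.elim (fun i : Fin (n / 2 + 1) => f ^ (i : ℕ))
      (fun i : Fin ((n - 1) / 2) => f ^ (i : ℕ) * g))) ≤ L (Finsupp.single P (n : ℤ)) := by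
    rw [Submodule.span_le]
    rintro _ ⟨i | i, rfl⟩
    · exact L_mono (fun Q => by simp only [Finsupp.single_apply]; split_ifs <;> omega) (hpow i)
    · have := mem_L_mul hK (hpow i) hg'
      rw [← Finsupp.single_add] at this
      exact L_mono (fun Q => by simp only [Finsupp.single_apply]; split_ifs <;> omega) this
  have := finite_L hK.1 (Finsupp.single P (n : ℤ))
  refine Submodule.eq_of_le_of_finrank_le hle ?_
  rw [finrank_span_eq_card hli]
  have h := ell_single_g1 hK hg hP n (by omega)
  simp only [ell] at h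
  rw [h, Fintype.card_sum, Fintype.card_fin, Fintype.card_fin]
  omega

end Groth.Agent.FF
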