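/-
The dimension criterion for embeddings by linear series.
-/
import Groth.Agent.L26.FF.Embed

open WithZero

namespace Groth.Agent.FF

open FunFld

variable {k K : Type*} [Field k] [Field K] [Algebra k K]
variable {ι : Type*} {φ : ι → K} [Fintype ι] [Nonempty ι]

variable (k) in
/-- The space of ratios. -/
abbrev ratioSpan (φ : ι → K) (j : ι) : Submodule k K := Submodule.span k (Set.range (ratio φ j))

/-- For every place there is a section vanishing at `P` but not more at `Q`. -/
def Crit (φ : ι → K) (j : ι) (P : Place k K) : Prop :=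
  ∀ Q : Place k K, ∃ w ∈ ratioSpan k φ j ⊓ L (bdry k φ j - Finsupp.single P 1),
    w ∉ L (bdry k φ j - Finsupp.single P 1 - Finsupp.single Q 1)

lemma ratioSpan_le_L (hK : IsFF k K) (hφ : ∀ i, φ i ≠ 0) (j : ι) :
    ratioSpan k φ j ≤ L (bdry k φ j) :=
  Submodule.span_le.2 (by rintro _ ⟨i, rfl⟩; exact ratio_mem_L hK hφ i j)

lemma mem_L_sub_single {E : Divisor k K} {P : Place k K} {w : K} (hw : w ∈ L E)
    (hP : P.1 w ≤ exp (E P - 1)) : w ∈ L (E - Finsupp.single P 1) := by
  classical
  intro Q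
  rw [Finsupp.sub_apply, Finsupp.single_apply]
  split_ifs with h
  · subst h; exact hP
  · rw [sub_zero]; exact hw Q

lemma crit_iff [IsAlgClosed k] (hK : IsFunctionField k K) (hφ : ∀ i, φ i ≠ 0) {j : ι}
    {P : Place k K} (hj : ∀ i, P.1 (φ i) ≤ P.1 (φ j)) :
    Crit φ j P ↔ (∀ Q, bdry k φ j Q = 0 → Agree φ j P Q → Q = P) ∧
      ∃ t ∈ ratioSpan k φ j, P.1 t = exp (-1 : ℤ) := by
  classical
  have hEP : bdry k φ j P = 0 := (bdry_eq_zero_iff hK.1 hφ j P).2 hj
  have hW := ratioSpan_le_L hK.1 hφ j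
  constructor
  · intro h
    refine ⟨fun Q hQ hA => ?_, ?_⟩
    · by_contra hne
      obtain ⟨w, ⟨hwW, hwP⟩, hw⟩ := h Q
      refine hw (mem_L_sub_single hwP ?_)
      have h1 := hwP P
      rw [Finsupp.sub_apply, hEP, Finsupp.single_eq_same, zero_sub] at h1
      have hwA : w ∈ aff k φ j := (Submodule.span_le.2 Algebra.subset_adjoin :
        ratioSpan k φ j ≤ Subalgebra.toSubmodule (aff k φ j)) hwW
      have := agree_lt_one hA hwA (h1.trans_lt (exp_lt_one'.2 (by omega)))
      rw [Finsupp.sub_apply, hQ, Finsupp.single_eq_of_ne hne, sub_zero]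
      simpa using lt_one_le_exp this
    · obtain ⟨w, ⟨hwW, hwP⟩, hw⟩ := h P
      refine ⟨w, hwW, ?_⟩
      have h1 := hwP P
      rw [Finsupp.sub_apply, hEP, Finsupp.single_eq_same, zero_sub] at h1
      refine le_antisymm h1 (not_lt.1 fun h2 => hw (mem_L_sub_single hwP ?_))
      rw [Finsupp.sub_apply, hEP, Finsupp.single_eq_same]
      exact le_exp_sub_one h2
  · rintro ⟨huniq, t, ht, ht1⟩ Q
    rcases eq_or_ne Q P with rfl | hne
    · refine ⟨t, ⟨ht, mem_L_sub_single (hW ht) ?_⟩, fun h => ?_⟩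
      · rw [hEP, zero_sub, ht1]
      · have h1 := h Q
        rw [Finsupp.sub_apply, Finsupp.sub_apply, hEP, Finsupp.single_eq_same, ht1, exp_le_exp] at h1
        omega
    -- a ratio whose variation `w` works
    suffices ∃ i, ∃ c : k, P.1 (φ i / φ j - algebraMap k K c) < 1 ∧
        ¬ Q.1 (φ i / φ j - algebraMap k K c) ≤ exp (bdry k φ j Q - 1) by
      obtain ⟨i, c, hc, hQ⟩ := this
      have hmem : φ i / φ j - algebraMap k K c ∈ ratioSpan k φ j := by
        refine Submodule.sub_mem _ (Submodule.subset_span ⟨i, rfl⟩) ?_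
        rw [Algebra.algebraMap_eq_smul_one]
        exact Submodule.smul_mem _ _ (Submodule.subset_span ⟨j, div_self (hφ j)⟩)
      refine ⟨_, ⟨hmem, mem_L_sub_single (hW hmem) ?_⟩, fun h => hQ ?_⟩
      · rw [hEP, zero_sub]; exact lt_one_le_exp hc
      · have h1 := h Q
        rwa [Finsupp.sub_apply, Finsupp.sub_apply, Finsupp.single_eq_of_ne hne,
          Finsupp.single_eq_same, sub_zero] at h1
    have hval : ∀ i, P.1 (φ i / φ j) ≤ 1 := fun i =>
      aff_val_le (hφ j) hj (Algebra.subset_adjoin ⟨i, rfl⟩)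
    rcases eq_or_ne (bdry k φ j Q) 0 with hQ | hQ
    · have hnA : ¬ Agree φ j P Q := fun h => hne (huniq Q hQ h)
      simp only [Agree, not_forall, not_exists, not_and] at hnA
      obtain ⟨i, hi⟩ := hnA
      obtain ⟨c, hc⟩ := exists_value P (deg_eq_one hK P) (hval i)
      refine ⟨i, c, hc, fun h => hi c hc (h.trans_lt ?_)⟩
      rw [hQ, exp_lt_one']; omega
    · obtain ⟨i, hi⟩ := exists_ord_eq hK.1 φ Q
      obtain ⟨c, hc⟩ := exists_value P (deg_eq_one hK P) (hval i)
      refine ⟨i, c, hc, fun h => ?_⟩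
      have hr0 : φ i / φ j ≠ 0 := div_ne_zero (hφ i) (hφ j)
      have hb := bdry_nonneg hK.1 φ j Q
      rw [Finsupp.zero_apply] at hb
      have hord : Q.ord (φ i / φ j) = -bdry k φ j Q := by
        rw [show φ i / φ j = ratio φ j i from rfl, ord_ratio hφ, hi, bdry_apply hK.1]; ring
      have h1 : Q.1 (φ i / φ j) = exp (bdry k φ j Q) := by
        rw [val_eq_exp Q hr0, hord, neg_neg]
      have h2 : Q.1 (φ i / φ j) ≤ exp (bdry k φ j Q - 1) := by
        have h3 := Q.1.map_add_le h ((Q.2.1 c).trans (by rw [← exp_zero, exp_le_exp]; omega))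
        rwa [sub_add_cancel] at h3
      rw [h1, exp_le_exp] at h2
      omega

lemma crit_bir [IsAlgClosed k] (hK : IsFunctionField k K) (hφ : ∀ i, φ i ≠ 0) {j : ι}
    {P : Place k K} (hj : ∀ i, P.1 (φ i) ≤ P.1 (φ j)) (hne : bdry k φ j ≠ 0) (h : Crit φ j P) :
    IntermediateField.adjoin k (Set.range (ratio φ j)) = ⊤ := by
  classical
  obtain ⟨huniq, t, htW, ht⟩ := (crit_iff hK hφ hj).1 h
  set F := IntermediateField.adjoin k (Set.range (ratio φ j))
  have hWF : ∀ {z}, z ∈ ratioSpan k φ j → z ∈ F := fun {z} hz =>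
    (Submodule.span_le.2 (IntermediateField.subset_adjoin _ _) :
      ratioSpan k φ j ≤ Subalgebra.toSubmodule F.toSubalgebra) hz
  have ht0 : t ≠ 0 := fun h => by rw [h, map_zero] at ht; exact exp_ne_zero ht.symm
  let tF : F := ⟨t, hWF htW⟩
  have htr : Transcendental k t :=
    transcendental_of_val_lt_one P ht0 (by rw [ht, exp_lt_one']; omega)
  have htrF : Transcendental k tF := fun h => htr (h.algebraMap (A := K))
  have := finite_over_adjoin hK.1 (show Transcendental k (algebraMap F K tF) from htr)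
  have hpos : 0 < Module.finrank (IntermediateField.adjoin k ({tF} : Set F)) F * Module.finrank F K := by
    rw [← finrank_adjoin_map (k := k) (K := F) (K' := K) tF]
    exact Module.finrank_pos
  have hfin : FiniteDimensional F K := Module.finite_of_finrank_pos (Nat.pos_of_mul_pos_left hpos)
  have hF : IsFunctionField k F := by
    refine ⟨⟨tF, htrF, Module.finite_of_finrank_pos (Nat.pos_of_mul_pos_right hpos)⟩, fun y hy => ?_⟩
    obtain ⟨c, hc⟩ := hK.2 (y : K) (hy.algebraMap (A := K))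
    exact ⟨c, Subtype.ext hc⟩
  obtain ⟨P0, e, he⟩ := exists_below (K := F) (K' := K) hF.1 P
  have hover : ∀ Q : Place k K, IsOver Q P0 → Q = P := by
    rintro Q ⟨e', he'⟩
    have hle : ∀ z : F, Q.1 (z : K) ≤ 1 ↔ P.1 (z : K) ≤ 1 := fun z =>
      (he'.le_one_iff z).trans (he.le_one_iff z).symm
    have hlt : ∀ z : F, Q.1 (z : K) < 1 ↔ P.1 (z : K) < 1 := fun z =>
      (he'.lt_one_iff z).trans (he.lt_one_iff z).symm
    have hr : ∀ i, φ i / φ j ∈ F := fun i => IntermediateField.subset_adjoin _ _ ⟨i, rfl⟩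
    have hval : ∀ i, P.1 (φ i / φ j) ≤ 1 := fun i =>
      aff_val_le (hφ j) hj (Algebra.subset_adjoin ⟨i, rfl⟩)
    refine huniq Q ((bdry_eq_zero_iff hK.1 hφ j Q).2 fun i => ?_) fun i => ?_
    · have h1 := (hle ⟨_, hr i⟩).2 (hval i)
      rw [map_div₀, div_le_one₀ (zero_lt_iff.2 (val_ne_zero Q (hφ j)))] at h1
      exact h1
    · obtain ⟨c, hc⟩ := exists_value P (deg_eq_one hK P) (hval i)
      exact ⟨c, hc, (hlt ⟨_, sub_mem (hr i) (F.algebraMap_mem c)⟩).2 hc⟩
  have he1 : e = 1 := by
    have h1 := he.ord tF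
    rw [show P.ord (algebraMap F K tF) = 1 by
      rw [show (algebraMap F K tF) = t from rfl, ord_eq_of_val P ht]; norm_num] at h1
    rcases Int.eq_one_or_neg_one_of_mul_eq_one' h1.symm with h | h <;> omega
  obtain ⟨-, hsum⟩ := finite_over_and_sum (K' := K) hF P0
  have h2 := hsum {P} fun Q => by
    rw [Finset.mem_singleton]
    exact ⟨fun h => h ▸ ⟨e, he⟩, hover Q⟩
  rw [Finset.sum_singleton, ramIdx_eq he, he1, deg_eq_one hK P, one_mul] at h2
  exact IntermediateField.finrank_eq_one_iff_eq_top.1 (Nat.eq_one_of_mul_eq_one_right h2.symm)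

lemma nonsingular_of_crit [IsAlgClosed k] (hK : IsFunctionField k K) (hφ : ∀ i, φ i ≠ 0) {j : ι}
    {P : Place k K} (hj : ∀ i, P.1 (φ i) ≤ P.1 (φ j)) (hne : bdry k φ j ≠ 0) (h : Crit φ j P) :
    IsNonsingularAt φ P := by
  obtain ⟨huniq, t, htW, ht⟩ := (crit_iff hK hφ hj).1 h
  obtain ⟨t', ht', ht1'⟩ := (uniformizer_iff_span hK (hφ j) hj).2 ⟨t, htW, ht⟩
  exact nonsingular_of hK hφ j P hj hne (crit_bir hK hφ hj hne h) huniq ht' ht1'

lemma crit_of_nonsingular [IsAlgClosed k] (hK : IsFunctionField k K) (hφ : ∀ i, φ i ≠ 0) {j : ι}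
    {P : Place k K} (hj : ∀ i, P.1 (φ i) ≤ P.1 (φ j)) (h : IsNonsingularAt φ P) :
    Crit φ j P := by
  refine (crit_iff hK hφ hj).2 ⟨uniq_of_nonsingular hK hφ j P hj h, ?_⟩
  obtain ⟨s, -, hs⟩ := exists_val_eq P (-1)
  exact (uniformizer_iff_span hK (hφ j) hj).1
    ⟨s, (inLocRing_iff (hφ j) hj).1 (h s (by rw [hs, exp_le_one']; omega)), hs⟩

/-- Multiplication by `φ j`. -/
lemma map_ratioSpan (hφ : ∀ i, φ i ≠ 0) (hK : IsFF k K) (j : ι) (F : Divisor k K) :
    (ratioSpan k φ j ⊓ L (bdry k φ j - F)).map (LinearMap.mulLeft k (φ j)) =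
      Submodule.span k (Set.range φ) ⊓ L (mapDiv k φ - F) := by
  have hspan : (ratioSpan k φ j).map (LinearMap.mulLeft k (φ j)) = Submodule.span k (Set.range φ) := by
    rw [Submodule.map_span, ← Set.range_comp]
    congr 2
    funext i
    exact mul_div_cancel₀ _ (hφ j)
  rw [Submodule.map_inf _ (mul_right_injective₀ (hφ j)), hspan]
  congr 1
  ext z
  have key : ∀ Q : Place k K, Q.1 (φ j) * exp ((bdry k φ j - F) Q) = exp ((mapDiv k φ - F) Q) :=
    fun Q => by
      rw [val_eq_exp Q (hφ j), ← exp_add, Finsupp.sub_apply, Finsupp.sub_apply, bdry_apply hK]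
      congr 1; ring
  constructor
  · rintro ⟨w, hw, rfl⟩ Q
    show Q.1 (φ j * w) ≤ _
    rw [map_mul, ← key]
    exact mul_le_mul' le_rfl (hw Q)
  · intro hz
    refine ⟨z / φ j, fun Q => ?_, mul_div_cancel₀ _ (hφ j)⟩
    rw [map_div₀, div_le_iff₀ (zero_lt_iff.2 (val_ne_zero Q (hφ j))), mul_comm, key]
    exact hz Q

lemma finrank_sub_single [IsAlgClosed k] (hK : IsFunctionField k K) (W : Submodule k K)
    [FiniteDimensional k W] (D : Divisor k K) (hW : W ≤ L D) (Q : Place k K) :
    (∃ w ∈ W, w ∉ L (D - Finsupp.single Q 1)) ↔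
      Module.finrank k ↥(W ⊓ L (D - Finsupp.single Q 1)) + 1 = Module.finrank k W := by
  classical
  constructor
  · rintro ⟨w, hw, hwn⟩
    have hw0 : w ≠ 0 := fun h => hwn (h ▸ zero_mem _)
    have hwQ : Q.1 w = exp (D Q) :=
      le_antisymm (hW hw Q) (not_lt.1 fun h => hwn (mem_L_sub_single (hW hw) (le_exp_sub_one h)))
    have hsup : (W ⊓ L (D - Finsupp.single Q 1)) ⊔ Submodule.span k {w} = W := by
      refine le_antisymm (sup_le inf_le_left
        (Submodule.span_le.2 (Set.singleton_subset_iff.2 hw))) fun z hz => ?_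
      have h1 : Q.1 (z / w) ≤ 1 := by
        rw [map_div₀, hwQ]; exact div_le_one_of_le₀ (hW hz Q) zero_le
      obtain ⟨c, hc⟩ := exists_value Q (deg_eq_one hK Q) h1
      refine Submodule.mem_sup.2 ⟨z - c • w, ⟨W.sub_mem hz (W.smul_mem c hw), ?_⟩, c • w,
        Submodule.smul_mem _ _ (Submodule.mem_span_singleton_self w), sub_add_cancel _ _⟩
      refine mem_L_sub_single (hW (W.sub_mem hz (W.smul_mem c hw))) (le_exp_sub_one ?_)
      rw [show z - c • w = (z / w - algebraMap k K c) * w by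
        rw [Algebra.smul_def, sub_mul, div_mul_cancel₀ _ hw0], map_mul, hwQ]
      calc _ < 1 * exp (D Q) := mul_lt_mul_of_pos_right hc exp_pos
        _ = _ := one_mul _
    have hinf : (W ⊓ L (D - Finsupp.single Q 1)) ⊓ Submodule.span k {w} = ⊥ := by
      rw [eq_bot_iff]
      rintro z ⟨⟨-, hz⟩, hzw⟩
      obtain ⟨c, rfl⟩ := Submodule.mem_span_singleton.1 hzw
      rcases eq_or_ne c 0 with rfl | hc
      · simp
      · refine absurd ?_ hwn
        have := Submodule.smul_mem (L (D - Finsupp.single Q 1)) c⁻¹ hz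
        rwa [smul_smul, inv_mul_cancel₀ hc, one_smul] at this
    have h := Submodule.finrank_sup_add_finrank_inf_eq (W ⊓ L (D - Finsupp.single Q 1))
      (Submodule.span k {w})
    rw [hinf, finrank_bot, add_zero, hsup, finrank_span_singleton hw0] at h
    exact h.symm
  · intro h
    by_contra hc
    push Not at hc
    rw [inf_eq_left.2 hc] at h
    omega

/-- The criterion as a dimension count. -/
lemma crit_iff_finrank [IsAlgClosed k] (hK : IsFunctionField k K) (hφ : ∀ i, φ i ≠ 0) {j : ι}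
    {P : Place k K} (hj : ∀ i, P.1 (φ i) ≤ P.1 (φ j)) :
    Crit φ j P ↔ ∀ Q : Place k K,
      Module.finrank k ↥(Submodule.span k (Set.range φ) ⊓
          L (mapDiv k φ - Finsupp.single P 1 - Finsupp.single Q 1)) + 2 =
        Module.finrank k ↥(Submodule.span k (Set.range φ)) := by
  classical
  let μ := LinearMap.mulLeft k (φ j)
  have hμ : Function.Injective μ := mul_right_injective₀ (hφ j)
  have hfin : ∀ F, Module.finrank k ↥(Submodule.span k (Set.range φ) ⊓ L (mapDiv k φ - F)) =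
      Module.finrank k ↥(ratioSpan k φ j ⊓ L (bdry k φ j - F)) := fun F => by
    rw [← map_ratioSpan hφ hK.1 j F]
    exact (Submodule.equivMapOfInjective μ hμ _).finrank_eq.symm
  have hW := ratioSpan_le_L hK.1 hφ j
  haveI : FiniteDimensional k (ratioSpan k φ j) := FiniteDimensional.span_of_finite k (Set.finite_range _)
  set W1 := ratioSpan k φ j ⊓ L (bdry k φ j - Finsupp.single P 1) with hW1
  haveI : FiniteDimensional k W1 := Submodule.finiteDimensional_of_le inf_le_left
  have h0 : Module.finrank k ↥(Submodule.span k (Set.range φ)) = Module.finrank k W1 + 1 := by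
    have h1 := hfin 0
    rw [sub_zero, sub_zero, inf_eq_left.2 (span_le_L_mapDiv hK.1 hφ), inf_eq_left.2 hW] at h1
    rw [h1, ← (finrank_sub_single hK _ _ hW P).1 ⟨1, Submodule.subset_span ⟨j, div_self (hφ j)⟩, fun h => ?_⟩]
    have := h P
    rw [Finsupp.sub_apply, (bdry_eq_zero_iff hK.1 hφ j P).2 hj, Finsupp.single_eq_same, map_one,
      ← exp_zero, exp_le_exp] at this
    omega
  refine forall_congr' fun Q => ?_
  rw [h0, show mapDiv k φ - Finsupp.single P 1 - Finsupp.single Q 1 =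
    mapDiv k φ - (Finsupp.single P 1 + Finsupp.single Q 1) by abel, hfin,
    show bdry k φ j - (Finsupp.single P 1 + Finsupp.single Q 1) =
      (bdry k φ j - Finsupp.single P 1) - Finsupp.single Q 1 by abel]
  have hle : L (bdry k φ j - Finsupp.single P 1 - Finsupp.single Q 1) ≤
      L (bdry k φ j - Finsupp.single P 1) :=
    L_mono (sub_le_self _ fun R => by rw [Finsupp.single_apply]; split_ifs <;> simp)
  rw [show ratioSpan k φ j ⊓ L (bdry k φ j - Finsupp.single P 1 - Finsupp.single Q 1) =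
    W1 ⊓ L (bdry k φ j - Finsupp.single P 1 - Finsupp.single Q 1) by
      rw [hW1, inf_assoc, inf_eq_right.2 hle]]
  exact (finrank_sub_single hK W1 _ inf_le_right Q).trans (by omega)

end Groth.Agent.FF

namespace Groth.Agent.FF

open FunFld

variable {k K : Type*} [Field k] [Field K] [Algebra k K]
variable {ι : Type*} {φ : ι → K} [Fintype ι] [Nonempty ι]

/-- A complete very ample series gives a nonsingular model. -/
lemma nonsingular_of_ell [IsAlgClosed k] (hK : IsFunctionField k K) (hφ : LinearIndependent k φ)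
    {D : Divisor k K} (hspan : Submodule.span k (Set.range φ) = L D)
    (h1 : ∀ P : Place k K, ell (D - Finsupp.single P 1) < ell D)
    (h2 : ∀ P Q : Place k K, ell (D - Finsupp.single P 1 - Finsupp.single Q 1) + 2 = ell D)
    (P : Place k K) : IsNonsingularAt φ P := by
  classical
  have hne := hφ.ne_zero
  have hD : mapDiv k φ = D := by
    refine le_antisymm ((mapDiv_le_iff hK.1 hne).2 fun i => hspan ▸ Submodule.subset_span ⟨i, rfl⟩)
      fun Q => ?_
    by_contra hlt
    have hle : L D ≤ L (D - Finsupp.single Q 1) := by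
      rw [← hspan, Submodule.span_le]
      rintro _ ⟨i, rfl⟩
      have hmem : φ i ∈ L D := hspan ▸ Submodule.subset_span ⟨i, rfl⟩
      refine mem_L_sub_single hmem ?_
      rw [val_le_exp_iff Q (hne i)]
      have := neg_mapDiv_le hK.1 φ Q i
      omega
    have := finite_L hK.1 (D - Finsupp.single Q 1)
    exact absurd (Submodule.finrank_mono hle) (not_le.2 (h1 Q))
  obtain ⟨j, hj⟩ := exists_minimal φ P
  have hcard : 2 ≤ Fintype.card ι := by
    rw [← finrank_span_eq_card hφ, hspan]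
    exact (Nat.le_add_left 2 _).trans_eq (h2 P P)
  refine nonsingular_of_crit hK hne hj (bdry_ne_zero hK hφ hcard j)
    ((crit_iff_finrank hK hne hj).2 fun Q => ?_)
  have hle : L (D - Finsupp.single P 1 - Finsupp.single Q 1) ≤ L D :=
    L_mono fun R => by
      simp only [Finsupp.sub_apply, Finsupp.single_apply]
      split_ifs <;> omega
  rw [hspan, hD, inf_eq_right.2 hle]
  exact h2 P Q

end Groth.Agent.FF
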