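/-
Derivations and total Hasse derivatives at a place with a uniformizer.
-/
import Groth.Agent.L26.FF.Criterion
import Groth.Prelude.Def_W4bk4goldsch45p2
import Mathlib.RingTheory.PowerSeries.Substitution
import Mathlib.RingTheory.PowerSeries.Derivative

open WithZero
open scoped PowerSeries

namespace Groth.Agent.FF

open FunFld

variable {k K : Type*} [Field k] [IsAlgClosed k] [Field K] [Algebra k K]

/-- The valuation ring is a localization of a finitely generated algebra. -/
lemma exists_local_generators (hK : IsFunctionField k K) (P : Place k K) :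
    ∃ G : Finset K, (∀ g ∈ G, P.1 g ≤ 1) ∧ ∀ z, P.1 z ≤ 1 →
      ∃ u ∈ Algebra.adjoin k (G : Set K), ∃ w ∈ Algebra.adjoin k (G : Set K), P.1 w = 1 ∧ z * w = u := by
  classical
  have hd : ∀ R : Place k K, (R.deg : ℤ) = 1 := fun R => by rw [deg_eq_one hK R, Nat.cast_one]
  obtain ⟨D, hdeg⟩ : ∃ D : Divisor k K, D.deg = 2 * genus k K + 1 :=
    ⟨Finsupp.single P ((2 * genus k K + 1 : ℕ) : ℤ), by rw [deg_single, hd]; push_cast; ring⟩
  have e0 := ell_eq_of_deg_ge hK (D := D) (by omega)
  have := finite_L hK.1 D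
  let b := Module.finBasis k (L D)
  have hpos : 0 < Module.finrank k (L D) := by
    show 0 < ell D
    omega
  haveI : Nonempty (Fin (Module.finrank k (L D))) := ⟨⟨0, hpos⟩⟩
  set φ : Fin (Module.finrank k (L D)) → K := fun i => (b i : K)
  have hφ : LinearIndependent k φ := b.linearIndependent.map' (L D).subtype (Submodule.ker_subtype _)
  have hspan : Submodule.span k (Set.range φ) = L D := by
    rw [show φ = (L D).subtype ∘ b from rfl, Set.range_comp, ← Submodule.map_span, b.span_eq,
      Submodule.map_subtype_top]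
  have hns : IsNonsingularAt φ P := by
    refine nonsingular_of_ell hK hφ hspan (fun R => ?_) (fun R S => ?_) P
    · have e1 := ell_eq_of_deg_ge hK (D := D - Finsupp.single R 1)
        (by rw [deg_sub, deg_single, hd]; omega)
      rw [deg_sub, deg_single, hd] at e1
      omega
    · have e2 := ell_eq_of_deg_ge hK (D := D - Finsupp.single R 1 - Finsupp.single S 1)
        (by rw [deg_sub, deg_sub, deg_single, deg_single, hd, hd]; omega)
      rw [deg_sub, deg_sub, deg_single, deg_single, hd, hd] at e2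
      omega
  obtain ⟨j, hj⟩ := exists_minimal φ P
  refine ⟨Finset.univ.image (ratio φ j), ?_, fun z hz => ?_⟩
  · simp only [Finset.mem_image, Finset.mem_univ, true_and, forall_exists_index,
      forall_apply_eq_imp_iff]
    exact fun i => aff_val_le (hφ.ne_zero j) hj (Algebra.subset_adjoin ⟨i, rfl⟩)
  · rw [Finset.coe_image, Finset.coe_univ, Set.image_univ]
    exact (inLocRing_iff (hφ.ne_zero j) hj).1 (hns z hz)

/-- `δ` is a derivation of the ring of `P` modulo that ring. -/
def QuasiDer (P : Place k K) (δ : K →ₗ[k] K) : Prop :=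
  ∀ a b : K, P.1 a ≤ 1 → P.1 b ≤ 1 → P.1 (δ (a * b) - a * δ b - b * δ a) ≤ 1

variable {P : Place k K} {δ : K →ₗ[k] K}

lemma QuasiDer.one (h : QuasiDer P δ) : P.1 (δ 1) ≤ 1 := by
  have h1 := h 1 1 (map_one _).le (map_one _).le
  rwa [one_mul, one_mul, sub_self, zero_sub, Valuation.map_neg] at h1

/-- Elements of the ring of `P` where `δ` is bounded by `M`. -/
def QuasiDer.bdd (h : QuasiDer P δ) {M : ℤ} (hM : 0 ≤ M) : Subalgebra k K where
  carrier := {a | P.1 a ≤ 1 ∧ P.1 (δ a) ≤ exp M}
  mul_mem' := by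
    rintro a b ⟨ha, ha'⟩ ⟨hb, hb'⟩
    refine ⟨by rw [map_mul]; exact Left.mul_le_one ha hb, ?_⟩
    rw [show δ (a * b) = (δ (a * b) - a * δ b - b * δ a) + (a * δ b + b * δ a) by ring]
    refine P.1.map_add_le ((h a b ha hb).trans (by rw [← exp_zero, exp_le_exp]; omega))
      (P.1.map_add_le ?_ ?_) <;> rw [map_mul]
    · exact (mul_le_of_le_one_left' ha).trans hb'
    · exact (mul_le_of_le_one_left' hb).trans ha'
  add_mem' := by
    rintro a b ⟨ha, ha'⟩ ⟨hb, hb'⟩
    exact ⟨P.1.map_add_le ha hb, by rw [map_add]; exact P.1.map_add_le ha' hb'⟩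
  algebraMap_mem' c := ⟨P.2.1 c, by
    rw [Algebra.algebraMap_eq_smul_one, map_smul, Algebra.smul_def, map_mul]
    exact (Left.mul_le_one (P.2.1 c) h.one).trans (by rw [← exp_zero, exp_le_exp]; omega)⟩

lemma QuasiDer.exists_bound (hK : IsFunctionField k K) (h : QuasiDer P δ) :
    ∃ M : ℕ, ∀ z, P.1 z ≤ 1 → P.1 (δ z) ≤ exp (M : ℤ) := by
  classical
  obtain ⟨G, hG, hGz⟩ := exists_local_generators hK P
  let M : ℕ := G.sup fun g => (log (P.1 (δ g))).toNat
  have hle : Algebra.adjoin k (G : Set K) ≤ h.bdd (Int.natCast_nonneg M) := by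
    refine Algebra.adjoin_le fun g hg => ⟨hG g hg, le_exp_log.trans (exp_le_exp.2 ?_)⟩
    have := Finset.le_sup (f := fun g => (log (P.1 (δ g))).toNat) hg
    simp only [M]
    omega
  refine ⟨M, fun z hz => ?_⟩
  obtain ⟨u, hu, w, hw, hw1, hzw⟩ := hGz z hz
  have e : δ z * w = δ u - z * δ w - (δ (z * w) - z * δ w - w * δ z) := by rw [hzw]; ring
  have h1 : P.1 (δ z * w) ≤ exp (M : ℤ) := by
    rw [e]
    refine P.1.map_sub_le (P.1.map_sub_le (hle hu).2 ?_)
      ((h z w hz (hle hw).1).trans (by rw [← exp_zero, exp_le_exp]; omega))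
    rw [map_mul]
    exact (mul_le_of_le_one_left' hz).trans (hle hw).2
  rwa [map_mul, hw1, mul_one] at h1

lemma QuasiDer.integral (hK : IsFunctionField k K) (h : QuasiDer P δ) {t : K}
    (ht : P.1 t = exp (-1 : ℤ)) (hδt : P.1 (δ t) ≤ 1) {z : K} (hz : P.1 z ≤ 1) : P.1 (δ z) ≤ 1 := by
  obtain ⟨M, hM⟩ := h.exists_bound hK
  obtain ⟨p, hp, hzp⟩ := exists_poly_approx hK P ht hz M
  have ht1 : P.1 t ≤ 1 := by rw [ht, exp_le_one']; norm_num
  have hle : Algebra.adjoin k ({t} : Set K) ≤ h.bdd (le_refl (0 : ℤ)) :=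
    Algebra.adjoin_le (Set.singleton_subset_iff.2 ⟨ht1, by rw [exp_zero]; exact hδt⟩)
  have htA : t ∈ Algebra.adjoin k ({t} : Set K) := Algebra.subset_adjoin (Set.mem_singleton t)
  have hpow : t ^ M ∈ Algebra.adjoin k ({t} : Set K) := pow_mem htA M
  have ht0 : t ≠ 0 := fun h0 => by rw [h0, map_zero] at ht; exact exp_ne_zero ht.symm
  set w := (z - p) / t ^ M
  have hw : P.1 w ≤ 1 := by
    rw [map_div₀, map_pow, ht, ← exp_nsmul]
    exact div_le_one_of_le₀ (hzp.trans_eq (by simp)) zero_le
  have e : δ z = δ p + ((δ (t ^ M * w) - t ^ M * δ w - w * δ (t ^ M)) + (t ^ M * δ w + w * δ (t ^ M))) := by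
    have : z = p + t ^ M * w := by simp only [w]; field_simp; ring
    conv_lhs => rw [this, map_add]
    ring
  have h2 : ∀ {a : K}, a ∈ Algebra.adjoin k ({t} : Set K) → P.1 (δ a) ≤ 1 := fun ha =>
    (hle ha).2.trans_eq exp_zero
  rw [e]
  refine P.1.map_add_le (h2 hp) (P.1.map_add_le (h _ _ (hle hpow).1 hw) (P.1.map_add_le ?_ ?_))
  · rw [map_mul, map_pow, ht, ← exp_nsmul]
    refine (mul_le_mul' le_rfl (hM w hw)).trans_eq ?_
    rw [← exp_add, exp_eq_one']; simp
  · rw [map_mul]
    exact Left.mul_le_one hw (h2 hpow)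

/-- A derivation killing a uniformizer vanishes. -/
lemma deriv_eq_zero (hK : IsFunctionField k K) (hleib : ∀ a b : K, δ (a * b) = a * δ b + b * δ a) {t : K}
    (ht : P.1 t = exp (-1 : ℤ)) (hδt : δ t = 0) : δ = 0 := by
  have hq : QuasiDer P δ := fun a b _ _ => by
    rw [hleib a b, show a * δ b + b * δ a - a * δ b - b * δ a = 0 by ring, map_zero]
    exact zero_le
  have ht0 : t ≠ 0 := fun h0 => by rw [h0, map_zero] at ht; exact exp_ne_zero ht.symm
  let S : Subalgebra k K :=
  { carrier := {a | δ a = 0}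
    mul_mem' := fun {a b} ha hb => by
      show δ (a * b) = 0
      rw [hleib, show δ b = 0 from hb, show δ a = 0 from ha, mul_zero, mul_zero, add_zero]
    add_mem' := fun {a b} ha hb => by
      show δ (a + b) = 0
      rw [map_add, show δ b = 0 from hb, show δ a = 0 from ha, add_zero]
    algebraMap_mem' := fun c => by
      show δ (algebraMap k K c) = 0
      have h1 : δ 1 = 0 := by
        have := hleib 1 1
        rw [one_mul, one_mul] at this
        exact left_eq_add.1 this
      rw [Algebra.algebraMap_eq_smul_one, map_smul, h1, smul_zero] }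
  have hS : Algebra.adjoin k ({t} : Set K) ≤ S := Algebra.adjoin_le (Set.singleton_subset_iff.2 hδt)
  have key : ∀ z, P.1 z ≤ 1 → δ z = 0 := fun z hz => by
    by_contra hne
    obtain ⟨n, hn⟩ : ∃ n : ℕ, (P.ord (δ z)).toNat < n := ⟨_, Nat.lt_succ_self _⟩
    obtain ⟨p, hp, hzp⟩ := exists_poly_approx hK P ht hz n
    set w := (z - p) / t ^ n
    have htA : t ∈ Algebra.adjoin k ({t} : Set K) := Algebra.subset_adjoin (Set.mem_singleton t)
    have hw : P.1 w ≤ 1 := by
      rw [map_div₀, map_pow, ht, ← exp_nsmul]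
      exact div_le_one_of_le₀ (hzp.trans_eq (by simp)) zero_le
    have e : δ z = t ^ n * δ w := by
      have : z = p + t ^ n * w := by simp only [w]; field_simp; ring
      rw [this, map_add, show δ p = 0 from hS hp, zero_add, hleib,
        show δ (t ^ n) = 0 from hS (pow_mem htA n), mul_zero, add_zero]
    have h1 : P.1 (δ z) ≤ exp (-(n : ℤ)) := by
      rw [e, map_mul, map_pow, ht, ← exp_nsmul]
      refine (mul_le_mul' le_rfl (hq.integral hK ht (by rw [hδt, map_zero]; exact zero_le) hw)).trans_eq ?_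
      simp
    rw [val_le_exp_iff P hne] at h1
    omega
  refine LinearMap.ext fun z => ?_
  rw [LinearMap.zero_apply]
  rcases le_total (P.1 z) 1 with hz | hz
  · exact key z hz
  rcases eq_or_ne z 0 with rfl | hz0
  · exact map_zero δ
  have h1 := hleib z z⁻¹
  rw [mul_inv_cancel₀ hz0, key z⁻¹ (by rw [map_inv₀]; exact inv_le_one_of_one_le₀ hz), key 1 (map_one _).le,
    mul_zero, zero_add] at h1
  exact (mul_eq_zero.1 h1.symm).resolve_left (inv_ne_zero hz0)

section Twisted

variable {t : K}

variable (k) in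
/-- Derivations are determined by their value at `s`. -/
def DetBy (s : K) : Prop :=
  ∀ δ : K →ₗ[k] K, (∀ a b : K, δ (a * b) = a * δ b + b * δ a) → δ s = 0 → δ = 0

lemma detBy_uniformizer (hK : IsFunctionField k K) (ht : P.1 t = exp (-1 : ℤ)) : DetBy k t :=
  fun _ h h0 => deriv_eq_zero hK h ht h0

lemma leibniz_coeff_one {G : K →ₐ[k] K⟦X⟧} (hG : ∀ a, PowerSeries.constantCoeff (G a) = a) (a b : K) :
    LocRes.hasseD G 1 (a * b) = a * LocRes.hasseD G 1 b + b * LocRes.hasseD G 1 a := by
  simp only [LocRes.hasseD, map_mul, PowerSeries.coeff_one_mul, hG]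
  ring

/-- The variable of a total Hasse derivative determines derivations. -/
lemma detBy_family (hK : IsFunctionField k K) {s : K} {G : K →ₐ[k] K⟦X⟧} (hG : LocRes.IsHasseFamily s G) :
    DetBy k s := by
  intro δ hδ hs
  obtain ⟨P⟩ := nonempty_place hK
  obtain ⟨t, -, ht⟩ := exists_val_eq P (-1)
  let d : K →ₗ[k] K := ((PowerSeries.coeff (R := K) 1).restrictScalars k).comp G.toLinearMap
  have hd : ∀ a b : K, d (a * b) = a * d b + b * d a := leibniz_coeff_one hG.2
  have hds : d s = 1 := by
    show PowerSeries.coeff 1 (G s) = 1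
    rw [hG.1]; simp
  let ε : K →ₗ[k] K := (LinearMap.mulLeft k (d t)).comp δ - (LinearMap.mulLeft k (δ t)).comp d
  have hε : ε = 0 := deriv_eq_zero hK (fun a b => by
    simp only [ε, LinearMap.sub_apply, LinearMap.comp_apply, LinearMap.mulLeft_apply, hδ, hd]
    ring) ht (by simp only [ε, LinearMap.sub_apply, LinearMap.comp_apply, LinearMap.mulLeft_apply]; ring)
  have h1 := LinearMap.congr_fun hε s
  simp only [ε, LinearMap.sub_apply, LinearMap.comp_apply, LinearMap.mulLeft_apply, hs, hds,
    mul_zero, mul_one, zero_sub, LinearMap.zero_apply, neg_eq_zero] at h1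
  exact deriv_eq_zero hK hδ ht h1

/-- A twisted derivation into power series killing the variable vanishes. -/
lemma twisted_eq_zero (hdet : DetBy k t) (E : K →ₗ[k] K⟦X⟧) (U V : K → K⟦X⟧)
    (hU : ∀ a, PowerSeries.constantCoeff (U a) = a) (hV : ∀ a, PowerSeries.constantCoeff (V a) = a)
    (hleib : ∀ a b, E (a * b) = U a * E b + V b * E a) (hEt : E t = 0) : E = 0 := by
  have key : ∀ j, ∀ z, PowerSeries.coeff j (E z) = 0 := by
    intro j
    induction j using Nat.strong_induction_on with
    | _ j ih =>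
      let δ : K →ₗ[k] K := ((PowerSeries.coeff (R := K) j).restrictScalars k).comp E
      have hmul : ∀ (F : K⟦X⟧) (b : K), PowerSeries.coeff j (F * E b) =
          PowerSeries.constantCoeff F * PowerSeries.coeff j (E b) := fun F b => by
        rw [PowerSeries.coeff_mul, Finset.sum_eq_single (0, j)]
        · rw [PowerSeries.coeff_zero_eq_constantCoeff]
        · rintro ⟨p, q⟩ hpq hne
          rw [Finset.HasAntidiagonal.mem_antidiagonal] at hpq
          have hq : q < j := by
            rcases Nat.eq_zero_or_pos p with hp | hp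
            · exact absurd (by subst hp; simp_all) hne
            · omega
          rw [ih q hq, mul_zero]
        · intro h
          exact absurd (Finset.HasAntidiagonal.mem_antidiagonal.2 (zero_add j)) h
      have hδ : δ = 0 := hdet δ (fun a b => by
        show PowerSeries.coeff j (E (a * b)) = _
        rw [hleib, map_add, hmul, hmul, hU, hV]
        rfl) (show PowerSeries.coeff j (E t) = 0 by rw [hEt, map_zero])
      exact fun z => LinearMap.congr_fun hδ z
  exact LinearMap.ext fun z => PowerSeries.ext fun j => by rw [key j z, LinearMap.zero_apply, map_zero]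

/-- A family is determined by its value at the variable. -/
lemma hom_ext_variable (hdet : DetBy k t) (H G : K →ₐ[k] K⟦X⟧)
    (hH : ∀ a, PowerSeries.constantCoeff (H a) = a) (hG : ∀ a, PowerSeries.constantCoeff (G a) = a)
    (h : H t = G t) : H = G := by
  have := twisted_eq_zero hdet (H.toLinearMap - G.toLinearMap) (fun a => H a) (fun a => G a) hH hG
    (fun a b => by simp [map_mul]; ring) (by simp [h])
  exact AlgHom.ext fun z => sub_eq_zero.1 (LinearMap.congr_fun this z)

end Twisted

section Family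

variable {t : K} {H : K →ₐ[k] K⟦X⟧}

lemma hasseD_zero {s : K} (hH : LocRes.IsHasseFamily s H) (y : K) : LocRes.hasseD H 0 y = y := by
  rw [LocRes.hasseD, PowerSeries.coeff_zero_eq_constantCoeff]
  exact hH.2 y

omit [IsAlgClosed k] in
lemma hasseD_mul (H : K →ₐ[k] K⟦X⟧) (j : ℕ) (a b : K) :
    LocRes.hasseD H j (a * b) =
      ∑ p ∈ Finset.HasAntidiagonal.antidiagonal j, LocRes.hasseD H p.1 a * LocRes.hasseD H p.2 b := by
  simp only [LocRes.hasseD, map_mul, PowerSeries.coeff_mul]

lemma hasseD_self (hH : LocRes.IsHasseFamily t H) (j : ℕ) :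
    LocRes.hasseD H j t = if j = 0 then t else if j = 1 then 1 else 0 := by
  rw [LocRes.hasseD, hH.1, map_add, PowerSeries.coeff_C, PowerSeries.coeff_X]
  split_ifs <;> simp_all

/-- Hasse derivatives preserve the ring of `P`. -/
lemma hasseD_integral (hK : IsFunctionField k K) (ht : P.1 t = exp (-1 : ℤ)) (hH : LocRes.IsHasseFamily t H)
    (j : ℕ) {z : K} (hz : P.1 z ≤ 1) : P.1 (LocRes.hasseD H j z) ≤ 1 := by
  induction j using Nat.strong_induction_on generalizing z with
  | _ j ih =>
    rcases Nat.eq_zero_or_pos j with rfl | hj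
    · rwa [hasseD_zero hH]
    let δ : K →ₗ[k] K := ((PowerSeries.coeff (R := K) j).restrictScalars k).comp H.toLinearMap
    have hq : QuasiDer P δ := by
      intro a b ha hb
      show P.1 (LocRes.hasseD H j (a * b) - a * LocRes.hasseD H j b - b * LocRes.hasseD H j a) ≤ 1
      rw [hasseD_mul]
      have h0 : ((0, j) : ℕ × ℕ) ∈ Finset.HasAntidiagonal.antidiagonal j := by simp
      have h1 : ((j, 0) : ℕ × ℕ) ∈ (Finset.HasAntidiagonal.antidiagonal j).erase (0, j) := by
        simp [Nat.pos_iff_ne_zero.1 hj]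
      rw [← Finset.add_sum_erase _ _ h0, ← Finset.add_sum_erase _ _ h1, hasseD_zero hH, hasseD_zero hH]
      refine (le_of_eq (congrArg P.1 (by ring : _ = ∑ p ∈ ((Finset.HasAntidiagonal.antidiagonal j).erase (0, j)).erase (j, 0),
        LocRes.hasseD H p.1 a * LocRes.hasseD H p.2 b))).trans (P.1.map_sum_le fun p hp => ?_)
      simp only [Finset.mem_erase, Finset.HasAntidiagonal.mem_antidiagonal, ne_eq, Prod.ext_iff] at hp
      rw [map_mul]
      exact Left.mul_le_one (ih p.1 (by omega) ha) (ih p.2 (by omega) hb)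
    exact hq.integral hK ht (show P.1 (LocRes.hasseD H j t) ≤ 1 by
      rw [hasseD_self hH, if_neg hj.ne']; split_ifs <;> simp) hz

/-- `D₁ ∘ D_j = (j + 1) D_{j+1}`. -/
lemma hasseD_one_hasseD (hdet : DetBy k t) (hH : LocRes.IsHasseFamily t H)
    (j : ℕ) (y : K) :
    LocRes.hasseD H 1 (LocRes.hasseD H j y) = ((j + 1 : ℕ) : K) * LocRes.hasseD H (j + 1) y := by
  let Δ : K⟦X⟧ → K⟦X⟧ := fun F => PowerSeries.mk fun i => LocRes.hasseD H 1 (PowerSeries.coeff i F)
  have h1 : ∀ a b : K, LocRes.hasseD H 1 (a * b) = a * LocRes.hasseD H 1 b + b * LocRes.hasseD H 1 a := by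
    intro a b
    rw [hasseD_mul, Finset.Nat.antidiagonal_succ, Finset.sum_cons]
    simp [hasseD_zero hH, -LocRes.hasseD_apply]
    ring
  have hΔmul : ∀ F G, Δ (F * G) = F * Δ G + G * Δ F := fun F G => by
    refine PowerSeries.ext fun i => ?_
    rw [mul_comm G (Δ F), map_add, PowerSeries.coeff_mul, PowerSeries.coeff_mul]
    simp only [Δ, PowerSeries.coeff_mk, PowerSeries.coeff_mul]
    simp only [LocRes.hasseD, map_sum, ← Finset.sum_add_distrib]
    refine Finset.sum_congr rfl fun p _ => ?_
    exact (h1 _ _).trans (by simp only [LocRes.hasseD]; ring)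
  let E : K →ₗ[k] K⟦X⟧ :=
  { toFun := fun z => Δ (H z) - PowerSeries.derivative K (H z)
    map_add' := fun a b => by
      refine PowerSeries.ext fun i => ?_
      simp only [Δ, map_add, map_sub, PowerSeries.coeff_mk, LocRes.hasseD, PowerSeries.coeff_derivative]
      ring
    map_smul' := fun c a => by
      refine PowerSeries.ext fun i => ?_
      have hpre : ∀ (j : ℕ) (x : K),
          PowerSeries.coeff j (H (c • x)) = c • PowerSeries.coeff j (H x) := fun j x => by
        rw [map_smul, PowerSeries.coeff_smul]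
      simp only [RingHom.id_apply, Δ, map_sub, PowerSeries.coeff_mk, LocRes.hasseD,
        PowerSeries.coeff_derivative, PowerSeries.coeff_smul, hpre, smul_sub, smul_mul_assoc] }
  have hE := twisted_eq_zero hdet E (fun a => H a) (fun a => H a) hH.2 hH.2 (fun a b => by
      show Δ (H (a * b)) - PowerSeries.derivative K (H (a * b)) = _
      rw [map_mul, hΔmul, (PowerSeries.derivative K).leibniz, smul_eq_mul, smul_eq_mul]
      show _ = H a * (Δ (H b) - PowerSeries.derivative K (H b)) + H b * (Δ (H a) - PowerSeries.derivative K (H a))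
      ring) (by
      show Δ (H t) - PowerSeries.derivative K (H t) = 0
      refine PowerSeries.ext fun i => ?_
      have hc : PowerSeries.coeff i (H t) = if i = 0 then t else if i = 1 then 1 else 0 :=
        hasseD_self hH i
      have hc' : PowerSeries.coeff (i + 1) (H t) = if i + 1 = 0 then t else if i + 1 = 1 then 1 else 0 :=
        hasseD_self hH (i + 1)
      have hone : LocRes.hasseD H 1 (1 : K) = 0 := by simp [LocRes.hasseD]
      have hz : LocRes.hasseD H 1 (0 : K) = 0 := by simp [LocRes.hasseD]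
      simp only [Δ, map_sub, map_zero, PowerSeries.coeff_mk, PowerSeries.coeff_derivative, hc, hc']
      rcases i with _ | _ | i
      · simp [hasseD_self hH, -LocRes.hasseD_apply]
      · simp [hone, -LocRes.hasseD_apply]
      · simp [hz, -LocRes.hasseD_apply])
  have := congrArg (PowerSeries.coeff j) (LinearMap.congr_fun hE y)
  change PowerSeries.coeff j (Δ (H y) - PowerSeries.derivative K (H y)) = _ at this
  rw [map_sub, LinearMap.zero_apply, map_zero, sub_eq_zero, PowerSeries.coeff_derivative] at this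
  simp only [Δ, PowerSeries.coeff_mk] at this
  simp only [LocRes.hasseD] at this ⊢
  rw [this]
  push_cast
  ring

/-- Change of variable. -/
lemma hasse_subst (hdet : DetBy k t) (hH : LocRes.IsHasseFamily t H)
    (G : K →ₐ[k] K⟦X⟧) (hG : ∀ a, PowerSeries.constantCoeff (G a) = a) (z : K) :
    G z = (H z).subst (G t - PowerSeries.C t) := by
  set g : K⟦X⟧ := G t - PowerSeries.C t
  have hg0 : PowerSeries.constantCoeff g = 0 := by simp [g, hG t]
  have hg : PowerSeries.HasSubst g := PowerSeries.HasSubst.of_constantCoeff_zero' hg0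
  let G' : K →ₐ[k] K⟦X⟧ := ((PowerSeries.substAlgHom (R := K) hg).restrictScalars k).comp H
  have hG' : ∀ a, G' a = (H a).subst g := fun a => by
    show PowerSeries.substAlgHom (R := K) hg (H a) = _
    rw [PowerSeries.coe_substAlgHom]
  have hc : ∀ F : K⟦X⟧, PowerSeries.constantCoeff (F.subst g) = PowerSeries.constantCoeff F := fun F => by
    rw [← PowerSeries.coeff_zero_eq_constantCoeff, PowerSeries.coeff_subst' hg,
      finsum_eq_single _ 0 (fun d hd => by
        rw [PowerSeries.coeff_zero_eq_constantCoeff, map_pow, hg0, zero_pow hd, smul_zero])]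
    simp
  rw [← hG']
  congr 1
  refine hom_ext_variable hdet G G' hG (fun a => by rw [hG', hc, hH.2]) ?_
  rw [hG', hH.1, PowerSeries.subst_add hg, PowerSeries.subst_X hg]
  have : (PowerSeries.C t : K⟦X⟧).subst g = PowerSeries.C t := by
    rw [show (PowerSeries.C t : K⟦X⟧) = algebraMap K K⟦X⟧ t from rfl,
      ← PowerSeries.coe_substAlgHom hg, AlgHom.commutes]
  rw [this]
  simp [g]

lemma hasseD_one_chain (hdet : DetBy k t) (hH : LocRes.IsHasseFamily t H)
    {s : K} {G : K →ₐ[k] K⟦X⟧} (hG : LocRes.IsHasseFamily s G) (z : K) :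
    LocRes.hasseD G 1 z = LocRes.hasseD G 1 t * LocRes.hasseD H 1 z := by
  have h := congrArg (PowerSeries.coeff 1) (hasse_subst hdet hH G hG.2 z)
  have hg0 : PowerSeries.constantCoeff (G t - PowerSeries.C t) = 0 := by simp [hG.2 t]
  rw [PowerSeries.coeff_subst' (PowerSeries.HasSubst.of_constantCoeff_zero' hg0),
    finsum_eq_single _ 1 (fun d hd => by
      rcases Nat.eq_zero_or_pos d with rfl | hd0
      · simp
      · have h2 : PowerSeries.coeff 1 ((G t - PowerSeries.C t) ^ d) = 0 := by
          refine PowerSeries.coeff_of_lt_order _ (lt_of_lt_of_le ?_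
            (PowerSeries.le_order_pow_of_constantCoeff_eq_zero d hg0))
          exact_mod_cast (show 1 < d by omega)
        rw [h2, smul_eq_mul, mul_zero])] at h
  simp only [LocRes.hasseD, smul_eq_mul, pow_one, map_sub, PowerSeries.coeff_C, one_ne_zero,
    if_false, sub_zero] at h ⊢
  rw [h, mul_comm]

/-- Existence of a family in any variable with nonvanishing first derivative. -/
lemma exists_family (hdet : DetBy k t) (hH : LocRes.IsHasseFamily t H) {u : K}
    (hu : LocRes.hasseD H 1 u ≠ 0) : ∃ G : K →ₐ[k] K⟦X⟧, LocRes.IsHasseFamily u G := by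
  set g : K⟦X⟧ := H u - PowerSeries.C u
  have hg0 : PowerSeries.constantCoeff g = 0 := by simp [g, hH.2 u]
  have hg1 : PowerSeries.coeff 1 g = LocRes.hasseD H 1 u := by simp [g, PowerSeries.coeff_C]
  haveI : Invertible (PowerSeries.coeff 1 g) := invertibleOfNonzero (hg1 ▸ hu)
  set r := PowerSeries.substInv g
  have hr0 : PowerSeries.constantCoeff r = 0 := PowerSeries.constantCoeff_substInv g
  have hr : PowerSeries.HasSubst r := PowerSeries.HasSubst.of_constantCoeff_zero' hr0
  let G : K →ₐ[k] K⟦X⟧ := ((PowerSeries.substAlgHom (R := K) hr).restrictScalars k).comp H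
  have hG : ∀ a, G a = (H a).subst r := fun a => by
    show PowerSeries.substAlgHom (R := K) hr (H a) = _
    rw [PowerSeries.coe_substAlgHom]
  have hC : (PowerSeries.C u : K⟦X⟧).subst r = PowerSeries.C u := by
    rw [show (PowerSeries.C u : K⟦X⟧) = algebraMap K K⟦X⟧ u from rfl,
      ← PowerSeries.coe_substAlgHom hr, AlgHom.commutes]
  refine ⟨G, ?_, fun a => ?_⟩
  · rw [hG, show H u = PowerSeries.C u + g by simp [g], PowerSeries.subst_add hr, hC,
      PowerSeries.subst_substInv_right g hg0]
  · rw [hG, ← PowerSeries.coeff_zero_eq_constantCoeff, PowerSeries.coeff_subst' hr,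
      finsum_eq_single _ 0 (fun d hd => by
        rw [PowerSeries.coeff_zero_eq_constantCoeff, map_pow, hr0, zero_pow hd, smul_zero])]
    rw [pow_zero, PowerSeries.coeff_zero_eq_constantCoeff, map_one, smul_eq_mul, mul_one]
    exact hH.2 a

end Family

section Taylor

variable {t : K} {H : K →ₐ[k] K⟦X⟧}

lemma residue_bijective (hK : IsFunctionField k K) (P : Place k K) :
    Function.Bijective (Algebra.ofId k (IsLocalRing.ResidueField P.O)) :=
  residue_bijective_of_deg_one P (deg_eq_one hK P)

/-- The value at `P` in the constant field. -/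
noncomputable def valAt (hK : IsFunctionField k K) (P : Place k K) : P.O →ₐ[k] k :=
  ((AlgEquiv.ofBijective _ (residue_bijective hK P)).symm.toAlgHom).comp (resMap P)

lemma val_sub_valAt_lt (hK : IsFunctionField k K) (z : P.O) :
    P.1 ((z : K) - algebraMap k K (valAt hK P z)) < 1 := by
  refine (residue_eq_zero P (z - algebraMap k P.O (valAt hK P z))).1 ?_
  rw [map_sub, AlgHom.commutes, sub_eq_zero]
  exact ((AlgEquiv.ofBijective _ (residue_bijective hK P)).apply_symm_apply _).symm

lemma valAt_eq_zero_iff (hK : IsFunctionField k K) (z : P.O) : valAt hK P z = 0 ↔ P.1 (z : K) < 1 := by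
  rw [← residue_eq_zero P z]
  exact map_eq_zero_iff (AlgEquiv.ofBijective _ (residue_bijective hK P)).symm (AlgEquiv.injective _)

lemma evalP_eq (hK : IsFunctionField k K) {z : K} (hz : P.1 z ≤ 1) :
    evalP P z = algebraMap k (IsLocalRing.ResidueField P.O) (valAt hK P ⟨z, hz⟩) := by
  rw [evalP, dif_pos hz]
  exact ((AlgEquiv.ofBijective _ (residue_bijective hK P)).apply_symm_apply _).symm

/-- The Taylor expansion at `P`. -/
noncomputable def tay (hK : IsFunctionField k K) (ht : P.1 t = exp (-1 : ℤ)) (hH : LocRes.IsHasseFamily t H) :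
    P.O →ₐ[k] k⟦X⟧ :=
  let f : P.O → ℕ → P.O := fun z j => ⟨LocRes.hasseD H j z, hasseD_integral hK ht hH j z.2⟩
  AlgHom.ofLinearMap
    { toFun := fun z => PowerSeries.mk fun j => valAt hK P (f z j)
      map_add' := fun a b => PowerSeries.ext fun j => by
        rw [map_add, PowerSeries.coeff_mk, PowerSeries.coeff_mk, PowerSeries.coeff_mk, ← map_add]
        exact congrArg (valAt hK P) (Subtype.ext (by simp [f, LocRes.hasseD]))
      map_smul' := fun c a => PowerSeries.ext fun j => by
        simp only [PowerSeries.coeff_mk, RingHom.id_apply, PowerSeries.coeff_smul, ← map_smul]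
        refine congrArg (valAt hK P) (Subtype.ext ?_)
        show LocRes.hasseD H j (algebraMap k K c * (a : K)) = algebraMap k K c * LocRes.hasseD H j a
        simp only [LocRes.hasseD, ← Algebra.smul_def, map_smul, PowerSeries.coeff_smul] }
    (PowerSeries.ext fun j => by
      show PowerSeries.coeff j (PowerSeries.mk fun j => valAt hK P (f 1 j)) = _
      rw [PowerSeries.coeff_mk, PowerSeries.coeff_one]
      split_ifs with h
      · subst h
        rw [show f 1 0 = 1 from Subtype.ext (hasseD_zero hH 1), map_one]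
      · rw [show f 1 j = 0 from Subtype.ext (by simp [f, LocRes.hasseD, h]), map_zero])
    (fun a b => PowerSeries.ext fun j => by
      show PowerSeries.coeff j (PowerSeries.mk fun j => valAt hK P (f (a * b) j)) =
        PowerSeries.coeff j ((PowerSeries.mk fun j => valAt hK P (f a j)) *
          PowerSeries.mk fun j => valAt hK P (f b j))
      simp only [PowerSeries.coeff_mul, PowerSeries.coeff_mk, ← map_mul, ← map_sum]
      refine congrArg (valAt hK P) (Subtype.ext ?_)
      rw [AddSubmonoidClass.coe_finsetSum]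
      exact hasseD_mul H j a b)

lemma coeff_tay (hK : IsFunctionField k K) (ht : P.1 t = exp (-1 : ℤ)) (hH : LocRes.IsHasseFamily t H)
    (z : P.O) (j : ℕ) :
    PowerSeries.coeff j (tay hK ht hH z) =
      valAt hK P ⟨LocRes.hasseD H j (z : K), hasseD_integral hK ht hH j z.2⟩ := by
  simp [tay, -LocRes.hasseD_apply]

lemma tay_t (hK : IsFunctionField k K) (ht : P.1 t = exp (-1 : ℤ)) (hH : LocRes.IsHasseFamily t H) :
    tay hK ht hH ⟨t, show P.1 t ≤ 1 by rw [ht, exp_le_one']; norm_num⟩ = PowerSeries.X := by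
  refine PowerSeries.ext fun j => ?_
  rw [coeff_tay, PowerSeries.coeff_X]
  split_ifs with h
  · subst h
    refine Eq.trans (congrArg (valAt hK P) (Subtype.ext ?_ : _ = (1 : P.O))) (map_one _)
    exact (hasseD_self hH 1).trans (by simp)
  · rw [valAt_eq_zero_iff]
    show P.1 (LocRes.hasseD H j t) < 1
    rw [hasseD_self hH, if_neg h]
    split_ifs
    · rw [ht, exp_lt_one']; norm_num
    · simp

/-- The order is read off the Taylor expansion. -/
lemma tay_order (hK : IsFunctionField k K) (ht : P.1 t = exp (-1 : ℤ)) (hH : LocRes.IsHasseFamily t H)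
    (z : P.O) (a : ℕ) (ha : P.1 (z : K) = exp (-(a : ℤ))) :
    (∀ i < a, PowerSeries.coeff i (tay hK ht hH z) = 0) ∧ PowerSeries.coeff a (tay hK ht hH z) ≠ 0 := by
  have ht0 : t ≠ 0 := fun h0 => by rw [h0, map_zero] at ht; exact exp_ne_zero ht.symm
  set u : K := (z : K) / t ^ a with hu
  have hu1 : P.1 u = 1 := by
    rw [hu, map_div₀, map_pow, ht, ha, ← exp_nsmul, ← exp_sub, exp_eq_one']
    simp
  have e : z = ⟨t, show P.1 t ≤ 1 by rw [ht, exp_le_one']; norm_num⟩ ^ a * ⟨u, hu1.le⟩ := by
    refine Subtype.ext ?_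
    show (z : K) = t ^ a * u
    rw [hu, mul_div_cancel₀ _ (pow_ne_zero a ht0)]
  rw [e, map_mul, map_pow, tay_t]
  refine ⟨fun i hi => by rw [PowerSeries.coeff_X_pow_mul', if_neg (by omega)], ?_⟩
  rw [PowerSeries.coeff_X_pow_mul', if_pos le_rfl, Nat.sub_self, coeff_tay, ne_eq, valAt_eq_zero_iff]
  show ¬ P.1 (LocRes.hasseD H 0 u) < 1
  rw [hasseD_zero hH, hu1]
  exact lt_irrefl _

lemma val_le_exp_neg_iff (hK : IsFunctionField k K) (ht : P.1 t = exp (-1 : ℤ)) (hH : LocRes.IsHasseFamily t H)
    (z : P.O) (a : ℕ) :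
    P.1 (z : K) ≤ exp (-(a : ℤ)) ↔ ∀ i < a, PowerSeries.coeff i (tay hK ht hH z) = 0 := by
  rcases eq_or_ne (z : K) 0 with h | h
  · have hz : z = 0 := Subtype.ext h
    subst hz
    simp
  · obtain ⟨b, hb⟩ : ∃ b : ℕ, P.ord (z : K) = b :=
      ⟨_, (Int.toNat_of_nonneg ((val_le_one_iff P h).1 z.2)).symm⟩
    have hz : P.1 (z : K) = exp (-(b : ℤ)) := by rw [val_eq_exp P h, hb]
    obtain ⟨h1, h2⟩ := tay_order hK ht hH z b hz
    rw [hz, exp_le_exp]
    constructor
    · exact fun hab i hi => h1 i (by omega)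
    · intro hall
      by_contra hc
      exact h2 (hall b (by omega))

end Taylor

end Groth.Agent.FF
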