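/-
Jump sequences of columns and Wronskian determinants.
-/
import Groth.Agent.L26.FF.Hasse
import Mathlib.LinearAlgebra.Matrix.Block
import Mathlib.LinearAlgebra.Matrix.NonsingularInverse
import Mathlib.LinearAlgebra.Dimension.Finite

open WithZero
open scoped PowerSeries

namespace Groth.Agent.FF

open FunFld

section Jumps

variable {R : Type*} [Field R] {m : ℕ}

/-- The span of the first `j` columns. -/
def colSpan (c : ℕ → Fin m → R) (j : ℕ) : Submodule R (Fin m → R) :=
  Submodule.span R (c '' Set.Iio j)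

lemma colSpan_succ (c : ℕ → Fin m → R) (j : ℕ) :
    colSpan c (j + 1) = colSpan c j ⊔ Submodule.span R {c j} := by
  rw [colSpan, colSpan, ← Submodule.span_union]
  congr 1
  rw [show Set.Iio (j + 1) = Set.Iio j ∪ {j} by ext x; simp, Set.image_union, Set.image_singleton]

lemma colSpan_mono (c : ℕ → Fin m → R) {a b : ℕ} (h : a ≤ b) : colSpan c a ≤ colSpan c b :=
  Submodule.span_mono (Set.image_mono (Set.Iio_subset_Iio h))

lemma mem_colSpan (c : ℕ → Fin m → R) {a b : ℕ} (h : a < b) : c a ∈ colSpan c b :=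
  Submodule.subset_span ⟨a, h, rfl⟩

lemma colSpan_zero (c : ℕ → Fin m → R) : colSpan c 0 = ⊥ := by simp [colSpan]

lemma isJump_iff (c : ℕ → Fin m → R) (j : ℕ) : IsJump R c j ↔ c j ∉ colSpan c j := Iff.rfl

open scoped Classical in
/-- The jumps below `j`. -/
noncomputable def jumpsBelow (c : ℕ → Fin m → R) (j : ℕ) : Finset ℕ :=
  (Finset.range j).filter fun l => IsJump R c l

lemma colSpan_eq_jumps (c : ℕ → Fin m → R) (j : ℕ) :
    colSpan c j = Submodule.span R (c '' (jumpsBelow c j : Set ℕ)) := by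
  classical
  induction j with
  | zero => simp [colSpan, jumpsBelow]
  | succ j ih =>
    rw [colSpan_succ]
    by_cases h : IsJump R c j
    · have e : jumpsBelow c (j + 1) = insert j (jumpsBelow c j) := by
        simp only [jumpsBelow, Finset.range_add_one, Finset.filter_insert, if_pos h]
      rw [e, Finset.coe_insert, Set.image_insert_eq, Submodule.span_insert, ← ih, sup_comm]
    · have e : jumpsBelow c (j + 1) = jumpsBelow c j := by
        simp only [jumpsBelow, Finset.range_add_one, Finset.filter_insert, if_neg h]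
      rw [e, ← ih, sup_eq_left, Submodule.span_singleton_le_iff_mem]
      exact not_not.1 h

lemma finrank_colSpan (c : ℕ → Fin m → R) (j : ℕ) :
    Module.finrank R (colSpan c j) = (jumpsBelow c j).card := by
  classical
  induction j with
  | zero => rw [colSpan_zero, finrank_bot]; simp [jumpsBelow]
  | succ j ih =>
    rw [colSpan_succ]
    by_cases h : IsJump R c j
    · have e : jumpsBelow c (j + 1) = insert j (jumpsBelow c j) := by
        simp only [jumpsBelow, Finset.range_add_one, Finset.filter_insert, if_pos h]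
      have hj : j ∉ jumpsBelow c j := by simp [jumpsBelow]
      rw [e, Finset.card_insert_of_notMem hj, ← ih]
      have hc0 : c j ≠ 0 := fun h0 => h (show c j ∈ colSpan c j by rw [h0]; exact zero_mem _)
      have h2 := Submodule.finrank_sup_add_finrank_inf_eq (colSpan c j) (Submodule.span R {c j})
      have h3 : colSpan c j ⊓ Submodule.span R {c j} = ⊥ := by
        rw [eq_bot_iff]
        rintro x ⟨hx, hx'⟩
        obtain ⟨a, rfl⟩ := Submodule.mem_span_singleton.1 hx'
        rcases eq_or_ne a 0 with rfl | ha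
        · simp
        · exact absurd (by
            have := (colSpan c j).smul_mem a⁻¹ hx
            rwa [smul_smul, inv_mul_cancel₀ ha, one_smul] at this) h
      rw [h3, finrank_bot, add_zero, finrank_span_singleton hc0] at h2
      exact h2
    · have e : jumpsBelow c (j + 1) = jumpsBelow c j := by
        simp only [jumpsBelow, Finset.range_add_one, Finset.filter_insert, if_neg h]
      rw [e, ← ih]
      rw [sup_eq_left.2 ((Submodule.span_singleton_le_iff_mem (c j) (colSpan c j)).2 (not_not.1 h))]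

lemma card_jumps_le (c : ℕ → Fin m → R) (s : Finset ℕ) (hs : ∀ l ∈ s, IsJump R c l) : s.card ≤ m := by
  classical
  have hle : s ⊆ jumpsBelow c (s.sup id + 1) := fun l hl => by
    simp only [jumpsBelow, Finset.mem_filter, Finset.mem_range]
    exact ⟨Nat.lt_succ_of_le (Finset.le_sup (f := id) hl), hs l hl⟩
  refine (Finset.card_le_card hle).trans ?_
  rw [← finrank_colSpan]
  exact (Submodule.finrank_le _).trans_eq (Module.finrank_fin_fun R)

/-- Spanning columns have exactly `m` jumps. -/
lemma exists_jumps (c : ℕ → Fin m → R) (h : Submodule.span R (Set.range c) = ⊤) :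
    ∃ s : Finset ℕ, s.card = m ∧ (∀ l, l ∈ s ↔ IsJump R c l) := by
  classical
  obtain ⟨j, hj⟩ : ∃ j, colSpan c j = ⊤ := by
    have h1 : ⊤ ≤ ⨆ j, colSpan c j := by
      rw [← h, Submodule.span_le]
      rintro _ ⟨l, rfl⟩
      exact Submodule.mem_iSup_of_mem (l + 1) (mem_colSpan c (Nat.lt_succ_self l))
    have hfg : (⊤ : Submodule R (Fin m → R)).FG := Module.Finite.fg_top
    obtain ⟨t, ht⟩ := hfg
    have hm : ∀ x ∈ t, ∃ j, x ∈ colSpan c j := fun x _ =>
      (Submodule.mem_iSup_of_directed _ (Monotone.directed_le fun a b => colSpan_mono c)).1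
        (h1 Submodule.mem_top)
    choose! f hf using hm
    refine ⟨t.sup f, top_le_iff.1 (ht ▸ Submodule.span_le.2 fun x hx =>
      colSpan_mono c (Finset.le_sup hx) (hf x hx))⟩
  refine ⟨jumpsBelow c j, ?_, fun l => ⟨fun hl => (Finset.mem_filter.1 hl).2, fun hl => ?_⟩⟩
  · rw [← finrank_colSpan, hj, finrank_top, Module.finrank_fin_fun]
  · refine Finset.mem_filter.2 ⟨Finset.mem_range.2 (not_le.1 fun hle => hl ?_), hl⟩
    exact colSpan_mono c hle (hj ▸ Submodule.mem_top)

/-- Columns changed triangularly have the same spans. -/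
lemma colSpan_transfer {c c' : ℕ → Fin m → R} {d : ℕ → R} (hd : ∀ j, d j ≠ 0)
    (h : ∀ j, c' j - d j • c j ∈ colSpan c j) (j : ℕ) : colSpan c' j = colSpan c j := by
  induction j with
  | zero => rw [colSpan_zero, colSpan_zero]
  | succ j ih =>
    rw [colSpan_succ, colSpan_succ, ih]
    refine le_antisymm (sup_le le_sup_left ?_) (sup_le le_sup_left ?_)
    · rw [Submodule.span_singleton_le_iff_mem, ← sub_add_cancel (c' j) (d j • c j)]
      exact add_mem (Submodule.mem_sup_left (h j))
        (Submodule.mem_sup_right (Submodule.smul_mem _ _ (Submodule.mem_span_singleton_self _)))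
    · rw [Submodule.span_singleton_le_iff_mem]
      have e : c j = (d j)⁻¹ • (c' j - (c' j - d j • c j)) := by
        rw [sub_sub_cancel, smul_smul, inv_mul_cancel₀ (hd j), one_smul]
      rw [e]
      exact Submodule.smul_mem _ _ (sub_mem (Submodule.mem_sup_right (Submodule.mem_span_singleton_self _))
        (Submodule.mem_sup_left (h j)))

lemma isJump_transfer {c c' : ℕ → Fin m → R} {d : ℕ → R} (hd : ∀ j, d j ≠ 0)
    (h : ∀ j, c' j - d j • c j ∈ colSpan c j) (j : ℕ) : IsJump R c' j ↔ IsJump R c j := by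
  rw [isJump_iff, isJump_iff, colSpan_transfer hd h]
  refine not_congr ⟨fun h1 => ?_, fun h1 => ?_⟩
  · have h2 := sub_mem h1 (h j)
    rw [sub_sub_cancel] at h2
    have := (colSpan c j).smul_mem (d j)⁻¹ h2
    rwa [smul_smul, inv_mul_cancel₀ (hd j), one_smul] at this
  · rw [← sub_add_cancel (c' j) (d j • c j)]
    exact add_mem (h j) (Submodule.smul_mem _ _ h1)

/-- The matrix with columns `c (σ l)`. -/
def colMat (c : ℕ → Fin m → R) (σ : Fin m → ℕ) : Matrix (Fin m) (Fin m) R :=
  Matrix.of fun i l => c (σ l) i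

lemma det_colMat_ne_zero {c : ℕ → Fin m → R} {σ : Fin m → ℕ} (hσ : StrictMono σ)
    (hj : ∀ l, IsJump R c (σ l)) : (colMat c σ).det ≠ 0 := by
  have hli : LinearIndependent R fun l => c (σ l) := by
    have key : ∀ (a : Fin m → R), ∑ l, a l • c (σ l) = 0 → ∀ l, a l = 0 := by
      classical
      intro a ha
      by_contra hne
      push Not at hne
      obtain ⟨l, hl⟩ := hne
      obtain ⟨t, ht, htmax⟩ := Finset.exists_max_image
        (Finset.univ.filter fun l => a l ≠ 0) id ⟨l, by simp [hl]⟩
      rw [Finset.mem_filter] at ht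
      refine hj t ?_
      have e : c (σ t) = -(a t)⁻¹ • ∑ l ∈ Finset.univ.erase t, a l • c (σ l) := by
        rw [← Finset.add_sum_erase _ _ (Finset.mem_univ t), add_eq_zero_iff_eq_neg] at ha
        rw [neg_smul, ← smul_neg, ← ha, smul_smul, inv_mul_cancel₀ ht.2, one_smul]
      rw [show c (σ t) ∈ Submodule.span R (c '' Set.Iio (σ t)) ↔ c (σ t) ∈ colSpan c (σ t) from Iff.rfl, e]
      refine Submodule.smul_mem _ _ (sum_mem fun l hl' => ?_)
      by_cases h0 : a l = 0
      · rw [h0, zero_smul]; exact zero_mem _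
      · have hlt : l < t := lt_of_le_of_ne (htmax l (by simp [h0])) (Finset.ne_of_mem_erase hl')
        exact Submodule.smul_mem _ _ (mem_colSpan c (hσ hlt))
    exact Fintype.linearIndependent_iff.2 key
  rw [← Matrix.det_transpose]
  exact (Matrix.linearIndependent_rows_iff_isUnit.1 hli).map
    (Matrix.detMonoidHom (n := Fin m) (R := R)) |>.ne_zero

lemma isJump_of_det {c : ℕ → Fin m → R} {σ : Fin m → ℕ} (hσ : StrictMono σ)
    (hdet : (colMat c σ).det ≠ 0) (s : Finset ℕ) (hs : ∀ l, l ∈ s ↔ IsJump R c l) (l : Fin m) :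
    (s.filter (· ≤ σ l)).card ≥ (l : ℕ) + 1 := by
  classical
  have hsub : ((Finset.univ : Finset (Fin m)).filter (· ≤ l)).card ≤
      Module.finrank R (colSpan c (σ l + 1)) := by
    have hli : LinearIndependent R fun l => c (σ l) :=
      Matrix.linearIndependent_cols_of_det_ne_zero hdet
    let f : {p : Fin m // p ≤ l} → colSpan c (σ l + 1) := fun p =>
      ⟨c (σ p.1), mem_colSpan c (Nat.lt_succ_of_le (hσ.monotone p.2))⟩
    have hf : LinearIndependent R f :=
      LinearIndependent.of_comp (colSpan c (σ l + 1)).subtype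
        (hli.comp (fun p : {p : Fin m // p ≤ l} => p.1) Subtype.val_injective)
    have := hf.fintype_card_le_finrank
    rwa [Fintype.card_subtype] at this
  rw [finrank_colSpan] at hsub
  have e : jumpsBelow c (σ l + 1) = s.filter (· ≤ σ l) := by
    ext x
    simp [jumpsBelow, hs, Nat.lt_succ_iff, and_comm]
  rw [e] at hsub
  have h2 : ((Finset.univ : Finset (Fin m)).filter (· ≤ l)).card = (l : ℕ) + 1 := by
    rw [show ((Finset.univ : Finset (Fin m)).filter (· ≤ l)) = Finset.Iic l by ext; simp, Fin.card_Iic]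
  omega

/-- The determinant under a triangular change. -/
lemma det_transfer {c c' : ℕ → Fin m → R} {d : ℕ → R} {σ : Fin m → ℕ} (hσ : StrictMono σ)
    (hall : ∀ j, IsJump R c j ↔ j ∈ Set.range σ) (h : ∀ l, c' (σ l) - d (σ l) • c (σ l) ∈ colSpan c (σ l)) :
    (colMat c' σ).det = (∏ l, d (σ l)) * (colMat c σ).det := by
  classical
  have hmem : ∀ l, colSpan c (σ l) = Submodule.span R ((fun p => c (σ p)) '' {p | p < l}) := by
    intro l
    rw [colSpan_eq_jumps]
    congr 1
    ext x
    simp only [Set.mem_image, Finset.mem_coe, jumpsBelow, Finset.mem_filter, Finset.mem_range,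
      Set.mem_ofPred_eq]
    constructor
    · rintro ⟨y, ⟨hy, hy'⟩, rfl⟩
      obtain ⟨p, rfl⟩ := (hall y).1 hy'
      exact ⟨p, hσ.lt_iff_lt.1 hy, rfl⟩
    · rintro ⟨p, hp, rfl⟩
      exact ⟨σ p, ⟨hσ hp, (hall _).2 ⟨p, rfl⟩⟩, rfl⟩
  have hT : ∀ l, ∃ T : Fin m → R, (∀ p, l < p → T p = 0) ∧ T l = d (σ l) ∧
      c' (σ l) = ∑ p, T p • c (σ p) := by
    intro l
    have h1 := h l
    rw [hmem, Finsupp.mem_span_image_iff_linearCombination] at h1
    obtain ⟨f, hf, hfe⟩ := h1
    refine ⟨fun p => f p + (if p = l then d (σ l) else 0), fun p hp => ?_, ?_, ?_⟩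
    · have : f p = 0 := by
        by_contra hne
        have := hf (Finsupp.mem_support_iff.2 hne)
        exact absurd hp (not_lt.2 (le_of_lt (this : p < l)))
      show f p + _ = 0
      rw [this, if_neg hp.ne', add_zero]
    · have : f l = 0 := by
        by_contra hne
        exact lt_irrefl l (hf (Finsupp.mem_support_iff.2 hne) :)
      show f l + _ = d (σ l)
      rw [this, if_pos rfl, zero_add]
    · simp only [add_smul, ite_smul, zero_smul, Finset.sum_add_distrib, Finset.sum_ite_eq',
        Finset.mem_univ, if_true]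
      rw [Finsupp.linearCombination_apply, Finsupp.sum_fintype _ _ (by simp)] at hfe
      rw [hfe, sub_add_cancel]
  choose T hT0 hT1 hT2 using hT
  let U : Matrix (Fin m) (Fin m) R := Matrix.of fun p l => T l p
  have e : colMat c' σ = colMat c σ * U := by
    ext i l
    rw [Matrix.mul_apply]
    show c' (σ l) i = _
    rw [hT2 l, Finset.sum_apply]
    exact Finset.sum_congr rfl fun p _ => by simp [colMat, U, mul_comm]
  rw [e, Matrix.det_mul, Matrix.det_of_isUpperTriangular (M := U) (fun p l hpl => hT0 l p hpl), mul_comm]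
  congr 1
  exact Finset.prod_congr rfl fun l _ => hT1 l

end Jumps

section Wronskian

variable {k K : Type*} [Field k] [Field K] [Algebra k K] {n : ℕ}

/-- The index sequence of the columns of `wrMat`. -/
def colIdx (I : Fin n → ℕ) : Fin (n + 1) → ℕ := Fin.cases 0 fun l => I l + 1

lemma colIdx_strictMono {I : Fin n → ℕ} (hI : StrictMono I) : StrictMono (colIdx I) := by
  intro a b hab
  revert hab
  refine Fin.cases ?_ (fun a => ?_) a <;> refine Fin.cases ?_ (fun b => ?_) b
  · simp
  · intro; simp [colIdx]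
  · intro h; exact absurd h (by simp)
  · intro h
    show I a + 1 < I b + 1
    exact Nat.succ_lt_succ (hI (by simpa using h))

lemma wrMat_eq (τ : K →ₐ[k] K) (H : K →ₐ[k] K⟦X⟧) (φ : Fin (n + 1) → K) (I : Fin n → ℕ) :
    wrMat τ H φ I = colMat (hcol τ H φ) (colIdx I) := by
  ext i c
  refine Fin.cases ?_ (fun l => ?_) c <;> rfl

lemma jump_set {c : ℕ → Fin (n + 1) → K} {J : Fin n → ℕ} (hc0 : c 0 ≠ 0) (hJ : IsOrders K c J) (j : ℕ) :
    IsJump K c j ↔ j ∈ Set.range (colIdx J) := by
  rcases j with _ | j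
  · refine iff_of_true ?_ ⟨0, rfl⟩
    rw [isJump_iff, colSpan_zero, Submodule.mem_bot]
    exact hc0
  · rw [← hJ.2 j]
    constructor
    · rintro ⟨l, rfl⟩; exact ⟨l.succ, rfl⟩
    · rintro ⟨l, hl⟩
      revert hl
      refine Fin.cases ?_ (fun l => ?_) l
      · intro h; exact absurd h (by simp [colIdx])
      · intro h; exact ⟨l, Nat.succ_injective h⟩

lemma det_wrMat_ne_zero (τ : K →ₐ[k] K) (H : K →ₐ[k] K⟦X⟧) {φ : Fin (n + 1) → K}
    (hφ : φ ≠ 0) {J : Fin n → ℕ} (hJ : IsOrders K (hcol τ H φ) J) : (wrMat τ H φ J).det ≠ 0 := by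
  rw [wrMat_eq]
  refine det_colMat_ne_zero (colIdx_strictMono hJ.1) fun l => (jump_set ?_ hJ _).2 ⟨l, rfl⟩
  intro h
  refine hφ (funext fun i => (map_eq_zero_iff τ τ.toRingHom.injective).1 (congrFun h i))

lemma isOrders_of_det {c : ℕ → Fin (n + 1) → K} {J J' : Fin n → ℕ} (hc0 : c 0 ≠ 0)
    (hJ : IsOrders K c J) (hJ' : StrictMono J') (hdet : (colMat c (colIdx J')).det ≠ 0) (l : Fin n) :
    J l ≤ J' l := by
  classical
  set s := Finset.univ.image (colIdx J)
  have hs : ∀ x, x ∈ s ↔ IsJump K c x := fun x => by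
    rw [jump_set hc0 hJ]; simp [s]
  have h := isJump_of_det (colIdx_strictMono hJ') hdet s hs l.succ
  by_contra hlt
  push Not at hlt
  have hsub : s.filter (· ≤ colIdx J' l.succ) ⊆
      (Finset.univ.filter (· < l.succ)).image (colIdx J) := fun x hx => by
    simp only [s, Finset.mem_filter, Finset.mem_image, Finset.mem_univ, true_and] at hx ⊢
    obtain ⟨⟨p, rfl⟩, hp⟩ := hx
    refine ⟨p, (colIdx_strictMono hJ.1).lt_iff_lt.1 (lt_of_le_of_lt hp ?_), rfl⟩
    show J' l + 1 < J l + 1
    omega
  have h2 := (Finset.card_le_card hsub).trans Finset.card_image_le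
  rw [show Finset.univ.filter (· < l.succ) = Finset.Iio l.succ by ext; simp, Fin.card_Iio] at h2
  omega

/-- Transfer of orders and Wronskians along a triangular change of columns. -/
lemma wr_transfer {c c' : ℕ → Fin (n + 1) → K} (hc0 : c 0 ≠ 0) {d : ℕ → K} (hd : ∀ j, d j ≠ 0)
    (h : ∀ j, c' j - d j • c j ∈ colSpan c j) :
    (∀ J : Fin n → ℕ, IsOrders K c' J ↔ IsOrders K c J) ∧
    ∀ J : Fin n → ℕ, IsOrders K c J →
      (colMat c' (colIdx J)).det = (d 0 * ∏ l, d (J l + 1)) * (colMat c (colIdx J)).det := by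
  refine ⟨fun J => ?_, fun J hJ => ?_⟩
  · simp only [IsOrders, isJump_transfer hd h]
  · rw [det_transfer (colIdx_strictMono hJ.1) (jump_set hc0 hJ) fun l => h _, Fin.prod_univ_succ]
    rfl

lemma sum_col_eq_zero {τ : K →ₐ[k] K} {H : K →ₐ[k] K⟦X⟧} {φ : Fin (n + 1) → K}
    (hindep : LinearIndependent K fun i => H (φ i)) : Submodule.span K (Set.range (hcol τ H φ)) = ⊤ := by
  by_contra hne
  obtain ⟨f, hf0, hf⟩ := Submodule.exists_le_ker_of_lt_top _ (lt_top_iff_ne_top.2 hne)
  refine hf0 (LinearMap.ext fun v => ?_)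
  have hcoef : ∀ v : Fin (n + 1) → K, f v = ∑ i, v i * f (Pi.single i 1) := fun v => by
    conv_lhs => rw [← Finset.univ_sum_single v]
    rw [map_sum]
    exact Finset.sum_congr rfl fun i _ => by
      rw [← smul_eq_mul, ← map_smul, ← Pi.single_smul, smul_eq_mul, mul_one]
  have hzero : ∑ i, f (Pi.single i 1) • H (φ i) = 0 := by
    refine PowerSeries.ext fun j => ?_
    have h1 : f (hcol τ H φ (j + 1)) = 0 := hf (Submodule.subset_span ⟨j + 1, rfl⟩)
    rw [hcoef] at h1
    rw [map_sum, map_zero, ← h1]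
    exact Finset.sum_congr rfl fun i _ => by
      rw [PowerSeries.coeff_smul, smul_eq_mul, mul_comm]; rfl
  have := Fintype.linearIndependent_iff.1 hindep _ hzero
  rw [LinearMap.zero_apply, hcoef]
  exact Finset.sum_eq_zero fun i _ => by rw [this i, mul_zero]

end Wronskian

end Groth.Agent.FF
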