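/-
Independence of Hasse expansions, behaviour under scaling and change of variable.
-/
import Groth.Agent.L26.FF.Orders

open WithZero
open scoped PowerSeries

namespace Groth.Agent.FF

open FunFld

variable {k K : Type*} [Field k] [IsAlgClosed k] [Field K] [Algebra k K]

lemma exists_place_notMem (hK : IsFunctionField k K) (S : Finset (Place k K)) : ∃ P, P ∉ S := by
  classical
  obtain ⟨x, hx⟩ := exists_transcendental hK
  have htr : ∀ c : k, Transcendental k (x - algebraMap k K c) := fun c h =>
    hx (by simpa using h.add (isAlgebraic_algebraMap c))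
  choose Z hZ using fun c : k => exists_zero hK.1 (htr c)
  by_contra h
  push Not at h
  have hinj : Function.Injective fun c => (⟨Z c, h (Z c)⟩ : {P // P ∈ S}) := by
    intro a b hab
    by_contra hne
    have e : Z a = Z b := congrArg Subtype.val hab
    have h1 := (Z a).1.map_sub_lt (hZ a) (e ▸ hZ b)
    rw [sub_sub_sub_cancel_left, ← map_sub, val_const (Z a) (sub_ne_zero.2 (Ne.symm hne))] at h1
    exact lt_irrefl _ h1
  exact not_finite_iff_infinite.2 inferInstance (Finite.of_injective _ hinj : Finite k)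

section Local

variable {P : Place k K} {t : K} {H : K →ₐ[k] K⟦X⟧}

/-- Independence over the residue field of the value sequences of independent integral functions. -/
lemma indep_tay (hK : IsFunctionField k K) (ht : P.1 t = exp (-1 : ℤ)) (hH : LocRes.IsHasseFamily t H)
    {ι : Type*} [Fintype ι] {φ : ι → K} (hφ : LinearIndependent k φ) (hint : ∀ i, P.1 (φ i) ≤ 1) :
    LinearIndependent k fun i => tay hK ht hH ⟨φ i, hint i⟩ := by
  refine Fintype.linearIndependent_iff.2 fun a ha => Fintype.linearIndependent_iff.1 hφ a ?_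
  have h1 : tay hK ht hH (∑ i, a i • (⟨φ i, hint i⟩ : P.O)) = 0 := by
    rw [map_sum]
    simpa only [map_smul] using ha
  set z : P.O := ∑ i, a i • (⟨φ i, hint i⟩ : P.O) with hz
  have hz0 : (z : K) = ∑ i, a i • φ i := by
    rw [hz, AddSubmonoidClass.coe_finsetSum]
    exact Finset.sum_congr rfl fun i _ => (Algebra.smul_def (a i) (φ i)).symm
  rw [← hz0]
  by_contra hne
  obtain ⟨b, hb⟩ : ∃ b : ℕ, P.ord (z : K) = b :=
    ⟨_, (Int.toNat_of_nonneg ((val_le_one_iff P hne).1 z.2)).symm⟩
  refine (tay_order hK ht hH z b (by rw [val_eq_exp P hne, hb])).2 ?_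
  rw [h1, map_zero]

lemma indep_evalP (hK : IsFunctionField k K) (ht : P.1 t = exp (-1 : ℤ)) (hH : LocRes.IsHasseFamily t H)
    {ι : Type*} [Fintype ι] {φ : ι → K} (hφ : LinearIndependent k φ) (hint : ∀ i, P.1 (φ i) ≤ 1) :
    LinearIndependent (IsLocalRing.ResidueField P.O)
      (fun i => fun j : ℕ => evalP P (LocRes.hasseD H j (φ i))) := by
  refine Fintype.linearIndependent_iff.2 fun a ha i => ?_
  choose c hc using fun i => (residue_bijective hK P).2 (a i)
  have h1 : ∑ i, c i • tay hK ht hH ⟨φ i, hint i⟩ = 0 := by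
    refine PowerSeries.ext fun j => (residue_bijective hK P).1 ?_
    have h2 := congrFun ha j
    simp only [Finset.sum_apply, Pi.smul_apply, smul_eq_mul, Pi.zero_apply] at h2
    rw [map_sum, map_sum, map_zero, map_zero, ← h2]
    refine Finset.sum_congr rfl fun i _ => ?_
    rw [evalP_eq hK (hasseD_integral hK ht hH j (hint i)), PowerSeries.coeff_smul, coeff_tay,
      smul_eq_mul, map_mul, hc]
    rfl
  rw [← hc i, Fintype.linearIndependent_iff.1 (indep_tay hK ht hH hφ hint) c h1 i, map_zero]

end Local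

/-- The rows of the Hasse expansions are independent. -/
lemma indep_hasse (hK : IsFunctionField k K) {ι : Type*} [Fintype ι] {φ : ι → K}
    (hφ : LinearIndependent k φ) {s : K} {H : K →ₐ[k] K⟦X⟧} (hH : LocRes.IsHasseFamily s H) :
    LinearIndependent K fun i => H (φ i) := by
  classical
  obtain ⟨P, hP⟩ := exists_place_notMem hK (Finset.univ.biUnion fun i => (div k (φ i)).support)
  have hint : ∀ i, P.1 (φ i) ≤ 1 := fun i => by
    refine ((val_eq_one_iff P (hφ.ne_zero i)).2 ?_).le
    by_contra h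
    exact hP (Finset.mem_biUnion.2 ⟨i, Finset.mem_univ i,
      Finsupp.mem_support_iff.2 (by rw [div_apply hK.1]; exact h)⟩)
  obtain ⟨t, ht0, ht⟩ := exists_val_eq P (-1)
  have hd1 : LocRes.hasseD H 1 t ≠ 0 := fun h0 => by
    let δ : K →ₗ[k] K := ((PowerSeries.coeff (R := K) 1).restrictScalars k).comp H.toLinearMap
    have hδ : δ = 0 := deriv_eq_zero hK (leibniz_coeff_one hH.2) ht h0
    have h1 : PowerSeries.coeff 1 (H s) = 0 := LinearMap.congr_fun hδ s
    rw [hH.1] at h1
    simp at h1
  obtain ⟨G, hG⟩ := exists_family (detBy_family hK hH) hH hd1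
  have hGdet := detBy_uniformizer hK ht
  set g : K⟦X⟧ := H t - PowerSeries.C t
  have hg0 : PowerSeries.constantCoeff g = 0 := by simp [g, hH.2 t]
  have hg1 : PowerSeries.coeff 1 g = LocRes.hasseD H 1 t := by simp [g, PowerSeries.coeff_C]
  have hg : PowerSeries.HasSubst g := PowerSeries.HasSubst.of_constantCoeff_zero' hg0
  haveI : Invertible (PowerSeries.coeff 1 g) := invertibleOfNonzero (hg1 ▸ hd1)
  have hinj : Function.Injective (PowerSeries.substAlgHom (R := K) hg).toLinearMap := by
    intro a b hab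
    have hr := PowerSeries.HasSubst.substInv g
    have h1 := congrArg (PowerSeries.subst (PowerSeries.substInv g)) hab
    simp only [AlgHom.toLinearMap_apply, PowerSeries.coe_substAlgHom] at h1
    rwa [PowerSeries.subst_comp_subst_apply hg hr, PowerSeries.subst_comp_subst_apply hg hr,
      PowerSeries.subst_substInv_right g hg0, PowerSeries.X_subst, PowerSeries.X_subst] at h1
  have hG2 : LinearIndependent K fun i => G (φ i) := by
    refine Fintype.linearIndependent_iff.2 fun a ha => ?_
    by_contra hne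
    push Not at hne
    obtain ⟨i0, hi0⟩ := hne
    obtain ⟨j, -, hj⟩ := Finset.exists_max_image Finset.univ (fun i => P.1 (a i)) ⟨i0, Finset.mem_univ i0⟩
    have hj0 : a j ≠ 0 := fun h0 => by
      have h1 := hj i0 (Finset.mem_univ i0)
      simp only [h0, map_zero] at h1
      exact val_ne_zero P hi0 (le_antisymm h1 zero_le)
    have hb : ∀ i, P.1 (a i / a j) ≤ 1 := fun i => by
      rw [map_div₀]
      exact div_le_one_of_le₀ (hj i (Finset.mem_univ i)) zero_le
    have h0 : ∑ i, valAt hK P ⟨a i / a j, hb i⟩ • tay hK ht hG ⟨φ i, hint i⟩ = 0 := by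
      refine PowerSeries.ext fun l => ?_
      simp only [map_sum, PowerSeries.coeff_smul, coeff_tay, map_zero, smul_eq_mul, ← map_mul]
      rw [← map_sum, ← map_zero (valAt hK P)]
      refine congrArg _ (Subtype.ext ?_)
      rw [AddSubmonoidClass.coe_finsetSum]
      show ∑ i, a i / a j * LocRes.hasseD G l (φ i) = 0
      have h1 := congrArg (PowerSeries.coeff l) ha
      simp only [map_sum, PowerSeries.coeff_smul, smul_eq_mul, map_zero] at h1
      simp only [div_mul_eq_mul_div, ← Finset.sum_div, LocRes.hasseD]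
      rw [h1, zero_div]
    have := Fintype.linearIndependent_iff.1 (indep_tay hK ht hG hφ hint) _ h0 j
    rw [valAt_eq_zero_iff] at this
    simp only [div_self hj0, map_one, lt_self_iff_false] at this
  have := hG2.map' _ (LinearMap.ker_eq_bot.2 hinj)
  have e : (fun i => H (φ i)) = ⇑(PowerSeries.substAlgHom (R := K) hg).toLinearMap ∘
      fun i => G (φ i) := by
    funext i
    simp only [Function.comp_apply, AlgHom.toLinearMap_apply, PowerSeries.coe_substAlgHom]
    exact hasse_subst hGdet hG H hH.2 (φ i)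
  rw [e]
  exact this

section Change

variable {n : ℕ}

lemma exists_orders (hK : IsFunctionField k K) {φ : Fin (n + 1) → K} (hφ : LinearIndependent k φ)
    (τ : K →ₐ[k] K) {s : K} {H : K →ₐ[k] K⟦X⟧} (hH : LocRes.IsHasseFamily s H) :
    ∃ J : Fin n → ℕ, IsOrders K (hcol τ H φ) J := by
  classical
  have hspan := sum_col_eq_zero (τ := τ) (indep_hasse hK hφ hH)
  obtain ⟨S, hS, hSj⟩ := exists_jumps _ hspan
  have h0 : (0 : ℕ) ∈ S := by
    rw [hSj, isJump_iff, colSpan_zero, Submodule.mem_bot]
    intro h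
    exact hφ.ne_zero 0 ((map_eq_zero_iff τ τ.toRingHom.injective).1 (congrFun h 0))
  set T := (S.erase 0).image (fun l => l - 1) with hT
  have hTc : T.card = n := by
    rw [hT, Finset.card_image_of_injOn, Finset.card_erase_of_mem h0, hS]
    · simp
    · intro a ha b hb hab
      simp only [Finset.coe_erase, Set.mem_sdiff, Finset.mem_coe, Set.mem_singleton_iff] at ha hb
      simp only at hab
      omega
  refine ⟨T.orderEmbOfFin hTc, (T.orderEmbOfFin hTc).strictMono, fun j => ?_⟩
  rw [Finset.range_orderEmbOfFin, Finset.mem_coe, ← hSj, hT, Finset.mem_image]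
  constructor
  · rintro ⟨l, hl, rfl⟩
    rw [Finset.mem_erase] at hl
    rw [show l - 1 + 1 = l by omega]
    exact hl.2
  · exact fun h => ⟨j + 1, Finset.mem_erase.2 ⟨Nat.succ_ne_zero j, h⟩, rfl⟩

lemma hcol_zero_ne (τ : K →ₐ[k] K) (H : K →ₐ[k] K⟦X⟧) {φ : Fin (n + 1) → K} (hφ : φ ≠ 0) :
    hcol τ H φ 0 ≠ 0 := fun h =>
  hφ (funext fun i => (map_eq_zero_iff τ τ.toRingHom.injective).1 (congrFun h i))

/-- Scaling. -/
lemma scale_triangular (τ : K →ₐ[k] K) {s : K} {H : K →ₐ[k] K⟦X⟧} (hH : LocRes.IsHasseFamily s H)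
    (φ : Fin (n + 1) → K) (y : K) (j : ℕ) :
    hcol τ H (y • φ) j - (if j = 0 then τ y else y) • hcol τ H φ j ∈ colSpan (hcol τ H φ) j := by
  rcases j with _ | j
  · have e : hcol τ H (y • φ) 0 - (if (0 : ℕ) = 0 then τ y else y) • hcol τ H φ 0 = 0 := by
      ext i; simp [hcol]
    rw [e]; exact zero_mem _
  · rw [if_neg (Nat.succ_ne_zero j)]
    have e : hcol τ H (y • φ) (j + 1) - y • hcol τ H φ (j + 1) =
        ∑ p ∈ (Finset.HasAntidiagonal.antidiagonal j).erase (0, j),
          LocRes.hasseD H p.1 y • hcol τ H φ (p.2 + 1) := by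
      ext i
      rw [Pi.sub_apply, Finset.sum_apply]
      show LocRes.hasseD H j (y * φ i) - y * LocRes.hasseD H j (φ i) = _
      rw [hasseD_mul, ← Finset.add_sum_erase _ _ (show (0, j) ∈ Finset.HasAntidiagonal.antidiagonal j by simp),
        hasseD_zero hH, add_sub_cancel_left]
      rfl
    rw [e]
    refine sum_mem fun p hp => Submodule.smul_mem _ _ (mem_colSpan _ ?_)
    simp only [Finset.mem_erase, Finset.HasAntidiagonal.mem_antidiagonal, ne_eq, Prod.ext_iff] at hp
    omega

/-- Change of variable. -/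
lemma variable_triangular (hK : IsFunctionField k K) (τ : K →ₐ[k] K) {s t : K} {Hs Ht : K →ₐ[k] K⟦X⟧}
    (hHs : LocRes.IsHasseFamily s Hs) (hHt : LocRes.IsHasseFamily t Ht) (φ : Fin (n + 1) → K) (j : ℕ) :
    hcol τ Ht φ j - LocRes.hasseD Ht 1 s ^ (j - 1) • hcol τ Hs φ j ∈ colSpan (hcol τ Hs φ) j := by
  rcases j with _ | j
  · have e : hcol τ Ht φ 0 - LocRes.hasseD Ht 1 s ^ (0 - 1) • hcol τ Hs φ 0 = 0 := by
      ext i; simp [hcol]
    rw [e]; exact zero_mem _
  · set g : K⟦X⟧ := Ht s - PowerSeries.C s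
    have hg0 : PowerSeries.constantCoeff g = 0 := by simp [g, hHt.2 s]
    have hg1 : PowerSeries.coeff 1 g = LocRes.hasseD Ht 1 s := by simp [g, PowerSeries.coeff_C]
    have hexp : ∀ z, LocRes.hasseD Ht j z = ∑ d ∈ Finset.range (j + 1),
        PowerSeries.coeff j (g ^ d) * LocRes.hasseD Hs d z := by
      intro z
      show PowerSeries.coeff j (Ht z) = _
      rw [hasse_subst (detBy_family hK hHs) hHs Ht hHt.2 z,
        PowerSeries.coeff_subst' (PowerSeries.HasSubst.of_constantCoeff_zero' hg0),
        finsum_eq_finsetSum_of_support_subset _ (s := Finset.range (j + 1))]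
      · exact Finset.sum_congr rfl fun d _ => by rw [smul_eq_mul, mul_comm]; rfl
      · intro d hd
        simp only [Function.mem_support, ne_eq] at hd
        rw [Finset.coe_range, Set.mem_Iio]
        by_contra hlt
        refine hd ?_
        rw [smul_eq_mul, show PowerSeries.coeff j (g ^ d) = 0 from ?_, mul_zero]
        refine PowerSeries.coeff_of_lt_order _ (lt_of_lt_of_le ?_
          (PowerSeries.le_order_pow_of_constantCoeff_eq_zero d hg0))
        exact_mod_cast (show j < d by omega)
    have htop : PowerSeries.coeff j (g ^ j) = LocRes.hasseD Ht 1 s ^ j := by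
      rw [← hg1]
      obtain ⟨q, hq⟩ : PowerSeries.X ∣ g := PowerSeries.X_dvd_iff.2 hg0
      rw [hq, mul_pow, PowerSeries.coeff_X_pow_mul' (q ^ j) j j, if_pos le_rfl, Nat.sub_self,
        PowerSeries.coeff_zero_eq_constantCoeff, map_pow, PowerSeries.coeff_succ_X_mul,
        PowerSeries.coeff_zero_eq_constantCoeff]
    have e : hcol τ Ht φ (j + 1) - LocRes.hasseD Ht 1 s ^ (j + 1 - 1) • hcol τ Hs φ (j + 1) =
        ∑ d ∈ Finset.range j, PowerSeries.coeff j (g ^ d) • hcol τ Hs φ (d + 1) := by
      ext i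
      rw [Pi.sub_apply, Finset.sum_apply, Nat.add_sub_cancel]
      show LocRes.hasseD Ht j (φ i) - LocRes.hasseD Ht 1 s ^ j * LocRes.hasseD Hs j (φ i) = _
      rw [hexp, Finset.sum_range_succ, htop, add_sub_cancel_right]
      rfl
    rw [e]
    exact sum_mem fun d hd => Submodule.smul_mem _ _
      (mem_colSpan _ (Nat.succ_lt_succ (Finset.mem_range.1 hd)))

lemma hasseD_one_ne_zero (hK : IsFunctionField k K) {s t : K} {Hs Ht : K →ₐ[k] K⟦X⟧}
    (hHs : LocRes.IsHasseFamily s Hs) (hHt : LocRes.IsHasseFamily t Ht) : LocRes.hasseD Ht 1 s ≠ 0 := by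
  intro h
  have h1 := hasseD_one_chain (detBy_family hK hHs) hHs hHt t
  rw [h, zero_mul] at h1
  simp [LocRes.hasseD, hHt.1] at h1

end Change

end Groth.Agent.FF
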