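/-
Orders at a place, fixed places, binomial determinants.
-/
import Groth.Agent.L26.FF.Wronski
import Groth.Agent.L26.FF.Clifford
import Mathlib.LinearAlgebra.Vandermonde

open WithZero
open scoped PowerSeries

namespace Groth.Agent.FF

open FunFld

section Binom

variable {R : Type*} [Field R]

/-- Shifting all exponents by the first one bounds the jumps of binomial columns. -/
lemma exists_binom_index {n : ℕ} (a : Fin (n + 1) → ℕ) (ha : StrictMono a) :
    ∃ I : Fin (n + 1) → ℕ, StrictMono I ∧ (∀ l, I l + a 0 ≤ a l) ∧ (binomMat R a I).det ≠ 0 := by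
  classical
  let c : ℕ → Fin (n + 1) → R := fun j r => (((a r).choose j : ℕ) : R)
  let c' : ℕ → Fin (n + 1) → R := fun j r => (((a r - a 0).choose j : ℕ) : R)
  have h : ∀ j, c j - (1 : R) • c' j ∈ colSpan c' j := fun j => by
    have e : c j - (1 : R) • c' j = ∑ p ∈ (Finset.HasAntidiagonal.antidiagonal j).erase (0, j),
        (((a 0).choose p.1 : ℕ) : R) • c' p.2 := by
      ext r
      rw [Pi.sub_apply, Finset.sum_apply, one_smul]
      show (((a r).choose j : ℕ) : R) - (((a r - a 0).choose j : ℕ) : R) = _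
      rw [show a r = a 0 + (a r - a 0) by have := ha.monotone (Fin.zero_le r); omega,
        Nat.add_choose_eq, Nat.add_sub_cancel_left, Nat.cast_sum,
        ← Finset.add_sum_erase _ _ (show (0, j) ∈ Finset.HasAntidiagonal.antidiagonal j by simp)]
      simp [c', smul_eq_mul]
    rw [e]
    refine sum_mem fun p hp => Submodule.smul_mem _ _ (mem_colSpan _ ?_)
    simp only [Finset.mem_erase, Finset.HasAntidiagonal.mem_antidiagonal, ne_eq, Prod.ext_iff] at hp
    omega
  set σ : Fin (n + 1) → ℕ := fun r => a r - a 0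
  have hσ : StrictMono σ := fun r s hrs => by
    have h1 := ha hrs
    have h2 := ha.monotone (Fin.zero_le r)
    simp only [σ]
    omega
  have hdet' : (colMat c' σ).det ≠ 0 := by
    rw [← Matrix.det_transpose, Matrix.det_of_isUpperTriangular (M := (colMat c' σ).transpose)]
    · simp [colMat, c', σ]
    · intro p l hpl
      show (((a l - a 0).choose (σ p) : ℕ) : R) = 0
      rw [Nat.choose_eq_zero_of_lt (show a l - a 0 < σ p from hσ hpl), Nat.cast_zero]
  -- jumps
  have hspan : Submodule.span R (Set.range c') = ⊤ := by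
    rw [eq_top_iff, ← (Matrix.linearIndependent_cols_of_det_ne_zero hdet').span_eq_top_of_card_eq_finrank' (by simp)]
    exact Submodule.span_mono (Set.range_subset_iff.2 fun l => ⟨σ l, rfl⟩)
  obtain ⟨s, hs, hsj⟩ := exists_jumps c' hspan
  refine ⟨s.orderEmbOfFin hs, (s.orderEmbOfFin hs).strictMono, fun l => ?_, ?_⟩
  · have h1 := isJump_of_det hσ hdet' s hsj l
    have h2 : s.orderEmbOfFin hs l ≤ σ l := by
      by_contra hlt
      push Not at hlt
      have hsub : s.filter (· ≤ σ l) ⊆ (Finset.Iio l).image (s.orderEmbOfFin hs) := fun x hx => by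
        simp only [Finset.mem_filter] at hx
        obtain ⟨p, rfl⟩ : x ∈ Set.range (s.orderEmbOfFin hs) := by
          rw [Finset.range_orderEmbOfFin]; exact hx.1
        exact Finset.mem_image_of_mem _ (Finset.mem_Iio.2
          ((s.orderEmbOfFin hs).lt_iff_lt.1 (lt_of_le_of_lt hx.2 hlt)))
      have h3 := (Finset.card_le_card hsub).trans Finset.card_image_le
      rw [Fin.card_Iio] at h3
      omega
    have := ha.monotone (Fin.zero_le l)
    simp only [σ] at h2
    omega
  · have hj : ∀ l, IsJump R c (s.orderEmbOfFin hs l) := fun l =>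
      (isJump_transfer (d := fun _ => 1) (fun _ => one_ne_zero) h _).2 ((hsj _).1 (Finset.orderEmbOfFin_mem s hs l))
    exact det_colMat_ne_zero (c := c) (s.orderEmbOfFin hs).strictMono hj

/-- Binomial determinants with consecutive lower indices. -/
lemma det_binom_consecutive {m : ℕ} (a : Fin m → ℕ) (ha : Function.Injective a) (B : ℕ)
    (hB : ∀ r, a r ≤ B) (hm : m ≤ B + 1) (hchar : ∀ p : ℕ, p.Prime → (p : R) = 0 → B < p) :
    (binomMat R a fun s : Fin m => (s : ℕ)).det ≠ 0 := by
  have hne : ∀ b : ℕ, 0 < b → b ≤ B → (b : R) ≠ 0 := by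
    intro b hb hbB h
    obtain ⟨p, hp⟩ := CharP.exists R
    rcases CharP.char_is_prime_or_zero R p with hpp | rfl
    · have hdvd := (CharP.cast_eq_zero_iff R p b).1 h
      have := hchar p hpp (CharP.cast_eq_zero R p)
      have := Nat.le_of_dvd hb hdvd
      omega
    · have := (CharP.cast_eq_zero_iff R 0 b).1 h
      rw [zero_dvd_iff] at this
      omega
  have hinj : Function.Injective fun r => ((a r : ℕ) : R) := by
    intro r s h
    refine ha ?_
    by_contra hne'
    rcases lt_or_gt_of_ne hne' with hlt | hlt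
    · refine hne (a s - a r) (by omega) (by have := hB s; omega) ?_
      rw [Nat.cast_sub hlt.le, sub_eq_zero]
      exact h.symm
    · refine hne (a r - a s) (by omega) (by have := hB r; omega) ?_
      rw [Nat.cast_sub hlt.le, sub_eq_zero]
      exact h
  have hfac : ∀ s : Fin m, ((s : ℕ).factorial : R) ≠ 0 := fun s => by
    have : ∀ b ≤ B, (b.factorial : R) ≠ 0 := fun b hb => by
      induction b with
      | zero => simp
      | succ b ih =>
        rw [Nat.factorial_succ, Nat.cast_mul]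
        exact mul_ne_zero (hne _ (Nat.succ_pos b) hb) (ih (by omega))
    exact this _ (by have := s.2; omega)
  have h1 := Matrix.det_eval_matrixOfPolynomials_eq_det_vandermonde (fun r => ((a r : ℕ) : R))
    (fun s : Fin m => descPochhammer R s) (fun s => descPochhammer_natDegree (R := R) s)
    (fun s => monic_descPochhammer R s)
  have e : (Matrix.of fun r s => (descPochhammer R (s : Fin m)).eval ((a r : ℕ) : R)) =
      Matrix.of (fun r s : Fin m => ((s : ℕ).factorial : R) * binomMat R a (fun s => (s : ℕ)) r s) := by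
    ext r s
    simp only [Matrix.of_apply, binomMat]
    rw [descPochhammer_eval_eq_descFactorial, Nat.descFactorial_eq_factorial_mul_choose, Nat.cast_mul]
  rw [e, Matrix.det_mul_row] at h1
  intro h0
  rw [h0, mul_zero] at h1
  exact Matrix.det_vandermonde_ne_zero_iff.2 hinj h1

end Binom

variable {k K : Type*} [Field k] [IsAlgClosed k] [Field K] [Algebra k K] {n : ℕ}
variable {P : Place k K} {t : K} {H : K →ₐ[k] K⟦X⟧}

lemma jump_exists_order (hK : IsFunctionField k K) (ht : P.1 t = exp (-1 : ℤ)) (hH : LocRes.IsHasseFamily t H)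
    (φ : Fin (n + 1) → K) (hnorm : ∀ i, P.1 (φ i) ≤ 1) {j : ℕ}
    (h : IsJump (IsLocalRing.ResidueField P.O) (hcolAt P H φ) (j + 1)) :
    1 ≤ j ∧ ∃ f ∈ Submodule.span k (Set.range φ), P.1 f = exp (-(j : ℤ)) := by
  have hcol0 : hcolAt P H φ 1 = hcolAt P H φ 0 := funext fun i => by
    show evalP P (LocRes.hasseD H 0 (φ i)) = evalP P (φ i)
    rw [hasseD_zero hH]
  have hj : 1 ≤ j := by
    by_contra h0
    rw [show j = 0 by omega] at h
    refine h ?_
    show hcolAt P H φ 1 ∈ colSpan (hcolAt P H φ) 1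
    rw [hcol0]
    exact mem_colSpan _ Nat.zero_lt_one
  refine ⟨hj, ?_⟩
  obtain ⟨f, hf, hfU⟩ := Submodule.exists_dual_map_eq_bot_of_notMem (show hcolAt P H φ (j + 1) ∉ colSpan (hcolAt P H φ) (j + 1) from h) inferInstance
  -- coefficients in `k`
  choose b hb using fun i => (residue_bijective hK P).2 (f (Pi.single i 1))
  have hfv : ∀ v, f v = ∑ i, v i * f (Pi.single i 1) := fun v => by
    conv_lhs => rw [← Finset.univ_sum_single v]
    rw [map_sum]
    exact Finset.sum_congr rfl fun i _ => by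
      rw [← smul_eq_mul, ← map_smul, ← Pi.single_smul, smul_eq_mul, mul_one]
  set z : P.O := ∑ i, b i • (⟨φ i, hnorm i⟩ : P.O) with hz
  have hz0 : (z : K) = ∑ i, b i • φ i := by
    rw [hz, AddSubmonoidClass.coe_finsetSum]
    exact Finset.sum_congr rfl fun i _ => (Algebra.smul_def (b i) (φ i)).symm
  have hcoef : ∀ q, algebraMap k (IsLocalRing.ResidueField P.O) (PowerSeries.coeff q (tay hK ht hH z)) =
      f (hcolAt P H φ (q + 1)) := fun q => by
    rw [hfv, hz, map_sum, map_sum, map_sum]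
    refine Finset.sum_congr rfl fun i _ => ?_
    rw [map_smul, PowerSeries.coeff_smul, coeff_tay, smul_eq_mul, map_mul, mul_comm, ← hb i]
    congr 1
    exact (evalP_eq hK (hasseD_integral hK ht hH q (hnorm i))).symm
  have hlow : ∀ q < j, PowerSeries.coeff q (tay hK ht hH z) = 0 := fun q hq =>
    (residue_bijective hK P).1 (by
      show algebraMap k _ _ = algebraMap k _ _
      rw [hcoef, map_zero]
      have : f (hcolAt P H φ (q + 1)) ∈ Submodule.map f (colSpan (hcolAt P H φ) (j + 1)) :=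
        ⟨_, mem_colSpan _ (by omega), rfl⟩
      rwa [hfU, Submodule.mem_bot] at this)
  refine ⟨z, hz0 ▸ sum_mem fun i _ => Submodule.smul_mem _ _ (Submodule.subset_span ⟨i, rfl⟩), ?_⟩
  refine le_antisymm ((val_le_exp_neg_iff hK ht hH z j).2 hlow) (not_lt.1 fun hlt => hf ?_)
  have h1 : P.1 (z : K) ≤ exp (-((j + 1 : ℕ) : ℤ)) :=
    (le_exp_sub_one hlt).trans_eq (by congr 1; push_cast; ring)
  rw [← hcoef j, (val_le_exp_neg_iff hK ht hH z (j + 1)).1 h1 j (by omega), map_zero]

/-- An adapted basis. -/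
lemma adapted_basis (hK : IsFunctionField k K) {φ : Fin (n + 1) → K} (hφ : LinearIndependent k φ)
    (heff : (1 : K) ∈ Submodule.span k (Set.range φ)) (hnorm : ∀ i, P.1 (φ i) ≤ 1)
    (ht : P.1 t = exp (-1 : ℤ)) (hH : LocRes.IsHasseFamily t H) {J' : Fin n → ℕ}
    (hJ' : IsOrders (IsLocalRing.ResidueField P.O) (hcolAt P H φ) J') :
    (∀ l, 1 ≤ J' l) ∧
    (∃ φ' : Fin (n + 1) → K, LinearIndependent k φ' ∧
      Submodule.span k (Set.range φ') = Submodule.span k (Set.range φ) ∧
      P.1 (φ' 0) = 1 ∧ evalP P (φ' 0) = 1 ∧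
      ∀ l : Fin n, P.1 (φ' l.succ) = exp (-(J' l : ℤ)) ∧ evalP P (φ' l.succ / t ^ J' l) = 1) ∧
    ∀ j : ℕ, (j = 0 ∨ j ∈ Set.range J') ↔
      ∃ f ∈ Submodule.span k (Set.range φ), P.1 f = exp (-(j : ℤ)) := by
  classical
  have ht0 : t ≠ 0 := fun h0 => by rw [h0, map_zero] at ht; exact exp_ne_zero ht.symm
  have hmain := fun l => jump_exists_order hK ht hH φ hnorm ((hJ'.2 (J' l)).1 ⟨l, rfl⟩)
  choose h1 g hg hgv using hmain
  have hscale : ∀ l, ∃ c : k, c ≠ 0 ∧ evalP P ((c • g l) / t ^ J' l) = 1 := fun l => by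
    have hu : P.1 (g l / t ^ J' l) = 1 := by
      rw [map_div₀, map_pow, hgv, ht, ← exp_nsmul, ← exp_sub, exp_eq_one']; simp
    have hv : valAt hK P ⟨_, hu.le⟩ ≠ 0 := fun h => by
      rw [valAt_eq_zero_iff] at h
      exact h.ne hu
    refine ⟨(valAt hK P ⟨_, hu.le⟩)⁻¹, inv_ne_zero hv, ?_⟩
    set c := (valAt hK P ⟨_, hu.le⟩)⁻¹ with hc
    have hint : P.1 (c • g l / t ^ J' l) ≤ 1 := by
      rw [smul_div_assoc, Algebra.smul_def, map_mul]
      exact Left.mul_le_one (P.2.1 _) hu.le
    rw [evalP_eq hK hint]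
    have e : (⟨_, hint⟩ : P.O) = c • (⟨_, hu.le⟩ : P.O) := Subtype.ext (by
      show c • g l / t ^ J' l = algebraMap k K c * (g l / t ^ J' l)
      rw [smul_div_assoc, Algebra.smul_def])
    rw [e, map_smul, smul_eq_mul, hc, inv_mul_cancel₀ hv, map_one]
  choose c hc hce using hscale
  let φ' : Fin (n + 1) → K := Fin.cons 1 fun l => c l • g l
  have hval : ∀ l : Fin n, P.1 (φ' l.succ) = exp (-(J' l : ℤ)) := fun l => by
    show P.1 (c l • g l) = _
    rw [Algebra.smul_def, map_mul, val_const P (hc l), one_mul, hgv]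
  have hne : ∀ i, φ' i ≠ 0 := Fin.cases (one_ne_zero) fun l h => exp_ne_zero
    ((hval l).symm.trans (by rw [h, map_zero]))
  have hord : ∀ l : Fin n, P.ord (φ' l.succ) = (J' l : ℤ) := fun l => by
    rw [ord_eq_of_val P (hval l), neg_neg]
  have hord0 : P.ord (φ' 0) = 0 := (val_eq_one_iff P one_ne_zero).1 (map_one _)
  have hinj : Function.Injective fun i => P.ord (φ' i) := by
    intro a b
    rcases Fin.eq_zero_or_eq_succ a with rfl | ⟨a, rfl⟩ <;>
      rcases Fin.eq_zero_or_eq_succ b with rfl | ⟨b, rfl⟩ <;>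
      simp only [hord, hord0] <;> intro h
    · trivial
    · have := h1 b; omega
    · have := h1 a; omega
    · rw [hJ'.1.injective (show J' a = J' b by omega)]
  have hli := linearIndependent_of_ord_injective P hne hinj
  have hmem : ∀ i, φ' i ∈ Submodule.span k (Set.range φ) :=
    Fin.cases heff fun l => Submodule.smul_mem _ _ (hg l)
  have hspan : Submodule.span k (Set.range φ') = Submodule.span k (Set.range φ) := by
    haveI : FiniteDimensional k (Submodule.span k (Set.range φ)) :=
      FiniteDimensional.span_of_finite k (Set.finite_range _)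
    refine Submodule.eq_of_le_of_finrank_le (Submodule.span_le.2 (Set.range_subset_iff.2 hmem)) ?_
    rw [finrank_span_eq_card hφ, finrank_span_eq_card hli]
  refine ⟨h1, ⟨φ', hli, hspan, map_one _, ?_, fun l => ⟨hval l, hce l⟩⟩, fun j => ⟨?_, ?_⟩⟩
  · show evalP P (1 : K) = 1
    rw [evalP_eq hK (map_one P.1).le, show (⟨(1 : K), _⟩ : P.O) = 1 from rfl, map_one, map_one]
  · rintro (rfl | ⟨l, rfl⟩)
    · exact ⟨1, heff, by simp⟩
    · exact ⟨g l, hg l, hgv l⟩
  · rintro ⟨f, hf, hfv⟩
    by_contra hnot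
    push Not at hnot
    have hf0 : f ≠ 0 := fun h => exp_ne_zero (hfv.symm.trans (by rw [h, map_zero]))
    let x : Fin (n + 1) ⊕ Unit → K := Sum.elim φ' fun _ => f
    have hordf : P.ord f = j := by rw [ord_eq_of_val P hfv, neg_neg]
    have hx : LinearIndependent k x := by
      refine linearIndependent_of_ord_injective P (Sum.rec hne fun _ => hf0) ?_
      rintro (a | a) (b | b) h
      · exact congrArg Sum.inl (hinj h)
      · exfalso
        simp only [x, Sum.elim_inl, Sum.elim_inr, hordf] at h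
        revert h
        refine Fin.cases ?_ (fun l => ?_) a
        · rw [hord0]; intro h; exact hnot.1 (by omega)
        · rw [hord]; intro h; exact hnot.2 ⟨l, by omega⟩
      · exfalso
        simp only [x, Sum.elim_inl, Sum.elim_inr, hordf] at h
        revert h
        refine Fin.cases ?_ (fun l => ?_) b
        · rw [hord0]; intro h; exact hnot.1 (by omega)
        · rw [hord]; intro h; exact hnot.2 ⟨l, by omega⟩
      · rfl
    haveI : FiniteDimensional k (Submodule.span k (Set.range φ)) :=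
      FiniteDimensional.span_of_finite k (Set.finite_range _)
    have hle : Submodule.span k (Set.range x) ≤ Submodule.span k (Set.range φ) :=
      Submodule.span_le.2 (Set.range_subset_iff.2 (Sum.rec hmem fun _ => hf))
    have := Submodule.finrank_mono hle
    rw [finrank_span_eq_card hx, finrank_span_eq_card hφ] at this
    simp at this

section Fixed

variable {τ : K →ₐ[k] K}

lemma fixed_le_one (hK : IsFunctionField k K) (hP : IsFixedPt τ P) {z : K} (hz : P.1 z ≤ 1) :
    P.1 (τ z) ≤ 1 := by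
  obtain ⟨c, hc⟩ := exists_value P (deg_eq_one hK P) hz
  rw [show τ z = τ (z - algebraMap k K c) + algebraMap k K c by rw [map_sub, τ.commutes, sub_add_cancel]]
  exact P.1.map_add_le (hP _ hc).le (P.2.1 c)

/-- `τ` shifts orders by at least `e` when it sends `t` into `m^e`. -/
lemma fixed_pow (hK : IsFunctionField k K) (hP : IsFixedPt τ P) {e : ℕ} (ht : P.1 t = exp (-1 : ℤ))
    (he : P.1 (τ t) ≤ exp (-(e : ℤ))) {z : K} (j : ℕ) (hz : P.1 z ≤ exp (-(j : ℤ))) :
    P.1 (τ z) ≤ exp (-((e * j : ℕ) : ℤ)) := by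
  have ht0 : t ≠ 0 := fun h0 => by rw [h0, map_zero] at ht; exact exp_ne_zero ht.symm
  have hu : P.1 (z / t ^ j) ≤ 1 := by
    rw [map_div₀, map_pow, ht]
    refine div_le_one_of_le₀ (hz.trans_eq ?_) zero_le
    rw [← exp_nsmul]; simp
  rw [show z = t ^ j * (z / t ^ j) by rw [mul_div_cancel₀ _ (pow_ne_zero j ht0)], map_mul, map_pow,
    map_mul, map_pow]
  refine (mul_le_mul' (pow_le_pow_left₀ zero_le he j) (fixed_le_one hK hP hu)).trans_eq ?_
  rw [mul_one, ← exp_nsmul]
  congr 1
  simp [mul_comm]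

end Fixed

/-- Hasse derivatives of `t ^ J · u` modulo higher order. -/
lemma hasseD_leading (hK : IsFunctionField k K) (ht : P.1 t = exp (-1 : ℤ)) (hH : LocRes.IsHasseFamily t H)
    {f : K} (J i : ℕ) (hu : P.1 (f / t ^ J) ≤ 1) :
    P.1 (LocRes.hasseD H i f * t ^ i / t ^ J - (J.choose i : ℕ) * (f / t ^ J)) < 1 ∧
    P.1 (LocRes.hasseD H i f * t ^ i / t ^ J) ≤ 1 := by
  have ht0 : t ≠ 0 := fun h0 => by rw [h0, map_zero] at ht; exact exp_ne_zero ht.symm
  set u := f / t ^ J with hudef
  have hf : f = t ^ J * u := by rw [hudef, mul_div_cancel₀ _ (pow_ne_zero J ht0)]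
  have hpow : ∀ p, LocRes.hasseD H p (t ^ J) * t ^ p = ((J.choose p : ℕ) : K) * t ^ J := by
    intro p
    have e : LocRes.hasseD H p (t ^ J) = ((J.choose p : ℕ) : K) * t ^ (J - p) := by
      show PowerSeries.coeff p (H (t ^ J)) = _
      rw [map_pow, hH.1, show (PowerSeries.C t + PowerSeries.X : K⟦X⟧) =
        ((Polynomial.X + Polynomial.C t : Polynomial K) : K⟦X⟧) by simp [add_comm],
        ← Polynomial.coe_pow, Polynomial.coeff_coe, Polynomial.coeff_X_add_C_pow, mul_comm]
    rcases Nat.lt_or_ge J p with h | h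
    · rw [e, Nat.choose_eq_zero_of_lt h, Nat.cast_zero, zero_mul, zero_mul, zero_mul]
    · rw [e, mul_assoc, ← pow_add, Nat.sub_add_cancel h]
  have hnat : ∀ b : ℕ, P.1 (b : K) ≤ 1 := fun b => by
    rw [← map_natCast (algebraMap k K)]; exact P.2.1 _
  have e : LocRes.hasseD H i f * t ^ i / t ^ J =
      ∑ p ∈ Finset.HasAntidiagonal.antidiagonal i, ((J.choose p.1 : ℕ) : K) * LocRes.hasseD H p.2 u * t ^ p.2 := by
    rw [hf, hasseD_mul, Finset.sum_mul, Finset.sum_div]
    refine Finset.sum_congr rfl fun p hp => ?_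
    rw [Finset.HasAntidiagonal.mem_antidiagonal] at hp
    rw [← hp, pow_add, show LocRes.hasseD H p.1 (t ^ J) * LocRes.hasseD H p.2 u * (t ^ p.1 * t ^ p.2) =
      (LocRes.hasseD H p.1 (t ^ J) * t ^ p.1) * LocRes.hasseD H p.2 u * t ^ p.2 by ring, hpow]
    field_simp
  have hterm : ∀ p ∈ Finset.HasAntidiagonal.antidiagonal i,
      P.1 (((J.choose p.1 : ℕ) : K) * LocRes.hasseD H p.2 u * t ^ p.2) ≤ 1 := fun p _ => by
    rw [map_mul, map_mul, map_pow, ht]
    exact Left.mul_le_one (Left.mul_le_one (hnat _) (hasseD_integral hK ht hH _ hu))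
      (pow_le_one' (by rw [exp_le_one']; norm_num) _)
  refine ⟨?_, e ▸ P.1.map_sum_le hterm⟩
  rw [e, ← Finset.add_sum_erase _ _ (show (i, 0) ∈ Finset.HasAntidiagonal.antidiagonal i by simp),
    hasseD_zero hH, pow_zero, mul_one, add_sub_cancel_left]
  refine P.1.map_sum_lt one_ne_zero fun p hp => ?_
  rw [Finset.mem_erase, Finset.HasAntidiagonal.mem_antidiagonal, ne_eq, Prod.ext_iff] at hp
  rw [map_mul, map_mul, map_pow, ht]
  refine (mul_le_of_le_one_left' (Left.mul_le_one (hnat _) (hasseD_integral hK ht hH _ hu))).trans_lt ?_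
  exact pow_lt_one₀ zero_le (by rw [exp_lt_one']; norm_num) (by omega)

omit [IsAlgClosed k] in
lemma det_change_basis (τ : K →ₐ[k] K) (H : K →ₐ[k] K⟦X⟧) {φ φ' : Fin (n + 1) → K}
    (A : Matrix (Fin (n + 1)) (Fin (n + 1)) k) (hA : ∀ i, φ' i = ∑ j, A i j • φ j) (I : Fin n → ℕ) :
    (wrMat τ H φ' I).det = algebraMap k K A.det * (wrMat τ H φ I).det := by
  have hlin : ∀ (f : K →ₗ[k] K) i, f (φ' i) = ∑ l, algebraMap k K (A i l) * f (φ l) := fun f i => by
    rw [hA i, map_sum]
    exact Finset.sum_congr rfl fun l _ => (map_smul f (A i l) (φ l)).trans (Algebra.smul_def _ _)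
  rw [RingHom.map_det, ← Matrix.det_mul]
  congr 1
  refine Matrix.ext fun i c => ?_
  rw [Matrix.mul_apply]
  refine Fin.cases ?_ (fun l => ?_) c
  · exact hlin τ.toLinearMap i
  · exact hlin (((PowerSeries.coeff (R := K) (I l)).restrictScalars k).comp H.toLinearMap) i

/-- The Wronskian at a fixed place. -/
lemma wr_at_fixed {τ : K →ₐ[k] K} (hK : IsFunctionField k K) (hP : IsFixedPt τ P) {φ : Fin (n + 1) → K}
    (hφ : LinearIndependent k φ) (heff : (1 : K) ∈ Submodule.span k (Set.range φ))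
    (hnorm : ∀ i, P.1 (φ i) ≤ 1) (ht : P.1 t = exp (-1 : ℤ)) (hH : LocRes.IsHasseFamily t H)
    {J : Fin n → ℕ} (hJ : IsOrders (IsLocalRing.ResidueField P.O) (hcolAt P H φ) J) (I : Fin n → ℕ) :
    P.1 (wrMat τ H φ I).det ≤ exp (-(∑ l, ((J l : ℤ) - I l))) ∧
    (((∀ l, 0 < I l) ∨ IsStrongFixedPt τ P) →
      (P.1 (wrMat τ H φ I).det = exp (-(∑ l, ((J l : ℤ) - I l))) ↔ (binomMat k J I).det ≠ 0)) := by
  classical
  have ht0 : t ≠ 0 := fun h0 => by rw [h0, map_zero] at ht; exact exp_ne_zero ht.symm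
  obtain ⟨h1, ⟨φ', hφ', hspan, hv0, he0, hvl⟩, -⟩ := adapted_basis hK hφ heff hnorm ht hH hJ
  have hex : ∀ i, ∃ a : Fin (n + 1) → k, ∑ j, a j • φ j = φ' i := fun i =>
    (Submodule.mem_span_range_iff_exists_fun k).1 (hspan ▸ Submodule.subset_span ⟨i, rfl⟩)
  choose A hA using hex
  have hAdet : (Matrix.of A).det ≠ 0 := by
    intro h0
    obtain ⟨v, hv, hv'⟩ := Matrix.exists_vecMul_eq_zero_iff.2 h0
    refine hv (funext (Fintype.linearIndependent_iff.1 hφ' v ?_))
    simp only [← hA, Finset.smul_sum, smul_smul]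
    rw [Finset.sum_comm]
    refine Finset.sum_eq_zero fun j _ => ?_
    rw [← Finset.sum_smul]
    have := congrFun hv' j
    simp only [Matrix.vecMul, dotProduct, Matrix.of_apply, Pi.zero_apply] at this
    rw [this, zero_smul]
  have hdet := det_change_basis τ H (Matrix.of A) (fun i => (hA i).symm) I
  have hvdet : P.1 (wrMat τ H φ' I).det = P.1 (wrMat τ H φ I).det := by
    rw [hdet, map_mul, val_const P hAdet, one_mul]
  rw [← hvdet]
  -- the normalised matrix
  let a : Fin (n + 1) → ℕ := Fin.cases 0 J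
  let b : Fin (n + 1) → ℕ := Fin.cases 0 I
  have hu : ∀ i, P.1 (φ' i / t ^ a i) ≤ 1 := by
    refine Fin.cases ?_ fun l => ?_
    · simpa [a] using hv0.le
    · show P.1 (φ' l.succ / t ^ J l) ≤ 1
      rw [map_div₀, map_pow, (hvl l).1, ht, ← exp_nsmul, ← exp_sub, exp_le_one']
      simp
  have hval1 : ∀ i, P.1 (φ' i / t ^ a i - 1) < 1 := fun i => by
    have he : evalP P (φ' i / t ^ a i) = 1 := by
      refine Fin.cases ?_ (fun l => ?_) i
      · simpa [a] using he0
      · exact (hvl l).2
    have hval : valAt hK P ⟨_, hu i⟩ = 1 := (residue_bijective hK P).1 (by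
      show algebraMap k _ _ = algebraMap k _ _
      rw [← evalP_eq hK (hu i), he, map_one])
    have := val_sub_valAt_lt hK ⟨_, hu i⟩
    rwa [hval, map_one] at this
  have htau : ∀ (e : ℕ), 1 ≤ e → P.1 (τ t) ≤ exp (-(e : ℤ)) → ∀ i, P.1 (τ (φ' i) / t ^ a i) ≤
      exp (-(((e - 1) * a i : ℕ) : ℤ)) := fun e he0 he i => by
    have hz : P.1 (φ' i) ≤ exp (-(a i : ℤ)) := by
      refine Fin.cases ?_ (fun l => ?_) i
      · simpa [a] using hv0.le
      · exact (hvl l).1.le
    have h2 := fixed_pow hK hP ht he (a i) hz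
    rw [map_div₀, map_pow, ht, ← exp_nsmul, div_le_iff₀ exp_pos, ← exp_add]
    refine h2.trans (exp_le_exp.2 ?_)
    simp only [nsmul_eq_mul, mul_neg, mul_one]
    rw [Nat.cast_mul, Nat.cast_mul, Nat.cast_sub he0]; push_cast; linarith
  let M : Matrix (Fin (n + 1)) (Fin (n + 1)) K := Matrix.of fun i c => wrMat τ H φ' I i c * t ^ b c / t ^ a i
  have hM0 : ∀ i, M i 0 = τ (φ' i) / t ^ a i := fun i => by
    show τ (φ' i) * t ^ b 0 / t ^ a i = _
    simp [b]
  have hMl : ∀ i (l : Fin n), M i l.succ = LocRes.hasseD H (I l) (φ' i) * t ^ I l / t ^ a i := fun i l => rfl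
  have htt : P.1 t < 1 := by rw [ht, exp_lt_one']; norm_num
  have hMint : ∀ i c, P.1 (M i c) ≤ 1 := fun i => Fin.cases (by
      rw [hM0]
      exact (htau 1 le_rfl (lt_one_le_exp (hP t htt)) i).trans (by simp))
    fun l => by rw [hMl]; exact (hasseD_leading hK ht hH (a i) (I l) (hu i)).2
  let M' : Matrix (Fin (n + 1)) (Fin (n + 1)) P.O := Matrix.of fun i c => ⟨M i c, hMint i c⟩
  have hMdet : ((M'.det : P.O) : K) = M.det := RingHom.map_det (P.O.subtype) M'
  have hscale : (wrMat τ H φ' I).det * t ^ (∑ l, I l) = M.det * t ^ (∑ l, J l) := by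
    have e : M = Matrix.of fun i c => (t ^ a i)⁻¹ * (Matrix.of (fun i c => t ^ b c * wrMat τ H φ' I i c)) i c := by
      ext i c
      simp only [M, Matrix.of_apply]
      ring
    rw [e, Matrix.det_mul_column, Matrix.det_mul_row, Finset.prod_inv_distrib, Finset.prod_pow_eq_pow_sum,
      Finset.prod_pow_eq_pow_sum, Fin.sum_univ_succ a, Fin.sum_univ_succ b]
    simp only [a, b, Fin.cases_zero, Fin.cases_succ, zero_add]
    field_simp
  have hkey : P.1 (wrMat τ H φ' I).det = P.1 M.det * exp (-(∑ l, ((J l : ℤ) - I l))) := by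
    have h2 := congrArg P.1 hscale
    rw [map_mul, map_mul, map_pow, map_pow, ht, ← exp_nsmul, ← exp_nsmul] at h2
    rw [← mul_left_inj' (exp_ne_zero (a := ((∑ l, I l) • (-1 : ℤ)))), h2, mul_assoc, ← exp_add]
    congr 2
    simp only [nsmul_eq_mul, Finset.sum_sub_distrib, Nat.cast_sum]
    ring
  have hMle : P.1 M.det ≤ 1 := hMdet ▸ M'.det.2
  refine ⟨by rw [hkey]; exact mul_le_of_le_one_left' hMle, fun hcase => ?_⟩
  rw [hkey, mul_eq_right₀ exp_ne_zero]
  -- the residue matrix
  let N : Matrix (Fin (n + 1)) (Fin (n + 1)) k := M'.map (valAt hK P)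
  have hNdet : N.det = valAt hK P M'.det := (RingHom.map_det (valAt hK P).toRingHom M').symm
  have hiff : P.1 M.det = 1 ↔ N.det ≠ 0 := by
    rw [hNdet, ne_eq, valAt_eq_zero_iff, hMdet, not_lt]
    exact ⟨fun h => h.ge, fun h => le_antisymm hMle h⟩
  rw [hiff]
  have hN : ∀ i c (q : k), P.1 (M i c - algebraMap k K q) < 1 → N i c = q := fun i c q hq => by
    have h2 := val_sub_valAt_lt hK (M' i c)
    have h3 := P.1.map_sub_lt hq h2
    change P.1 ((M i c - algebraMap k K q) - (M i c - algebraMap k K (valAt hK P (M' i c)))) < 1 at h3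
    rw [sub_sub_sub_cancel_left, ← map_sub] at h3
    by_contra hne
    exact absurd (val_const P (sub_ne_zero.2 hne)) h3.ne
  have hNl : ∀ i (l : Fin n), N i l.succ = ((a i).choose (I l) : k) := fun i l => by
    refine hN i l.succ _ ?_
    have h2 := (hasseD_leading hK ht hH (a i) (I l) (hu i)).1
    have h3 : P.1 (((a i).choose (I l) : K) * (φ' i / t ^ a i - 1)) < 1 := by
      rw [map_mul]
      refine (mul_le_of_le_one_left' ?_).trans_lt (hval1 i)
      rw [← map_natCast (algebraMap k K)]; exact P.2.1 _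
    rw [hMl, map_natCast]
    convert P.1.map_add_lt h2 h3 using 2
    ring
  have hN00 : N 0 0 = 1 := by
    refine hN 0 0 1 ?_
    rw [hM0, map_one]
    have h0 : P.1 (φ' 0 - 1) < 1 := by simpa [a] using hval1 0
    have := hP _ h0
    rw [map_sub, map_one] at this
    simpa [a] using this
  have hdetN : N.det = (binomMat k J I).det := by
    rcases hcase with hpos | hstrong
    · rw [Matrix.det_succ_row_zero, Fin.sum_univ_succ, hN00, Finset.sum_eq_zero, add_zero]
      · simp only [Fin.val_zero, pow_zero, one_mul]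
        congr 1
        ext i l
        simpa [a, binomMat] using hNl i.succ l
      · intro l _
        rw [hNl 0 l, show a 0 = 0 from rfl, Nat.choose_eq_zero_of_lt (hpos l)]
        simp
    · have hcol : ∀ l : Fin n, N l.succ 0 = 0 := fun l => by
        refine hN l.succ 0 0 ?_
        rw [hM0, map_zero, sub_zero]
        refine (htau 2 (by norm_num) (hstrong t htt) l.succ).trans_lt (exp_lt_one'.2 ?_)
        have := h1 l
        simp [a]
        omega
      rw [Matrix.det_succ_column_zero, Fin.sum_univ_succ, hN00, Finset.sum_eq_zero, add_zero]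
      · simp only [Fin.val_zero, pow_zero, one_mul]
        congr 1
        ext i l
        simpa [a, binomMat] using hNl i.succ l
      · intro l _
        rw [hcol l]
        simp
  rw [hdetN]

end Groth.Agent.FF
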