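/-
Existence of orders at a place, degree bounds, points of order one.
-/
import Groth.Agent.L26.FF.OrdersAt
import Groth.Agent.L26.FF.Model
import Groth.Agent.L26.FF.RR

open WithZero
open scoped PowerSeries

namespace Groth.Agent.FF

open FunFld

lemma exists_isOrders {R : Type*} [Field R] {n : ℕ} {c : ℕ → Fin (n + 1) → R} (h0 : c 0 ≠ 0)
    (hspan : Submodule.span R (Set.range c) = ⊤) : ∃ J : Fin n → ℕ, IsOrders R c J := by
  classical
  obtain ⟨S, hS, hSj⟩ := exists_jumps c hspan
  have h0S : (0 : ℕ) ∈ S := by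
    rw [hSj, isJump_iff, colSpan_zero, Submodule.mem_bot]
    exact h0
  set T := (S.erase 0).image (fun l => l - 1) with hT
  have hTc : T.card = n := by
    rw [hT, Finset.card_image_of_injOn, Finset.card_erase_of_mem h0S, hS]
    · simp
    · intro a ha b hb hab
      simp only [Finset.coe_erase, Set.mem_sdiff, Finset.mem_coe, Set.mem_singleton_iff] at ha hb
      simp only at hab
      omega
  refine ⟨T.orderEmbOfFin hTc, (T.orderEmbOfFin hTc).strictMono, fun j => ?_⟩
  rw [Finset.range_orderEmbOfFin, Finset.mem_coe, ← hSj, hT, Finset.mem_image]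
  constructor
  · rintro ⟨l, hl, rfl⟩
    rw [Finset.mem_erase] at hl
    rw [show l - 1 + 1 = l by omega]
    exact hl.2
  · exact fun h => ⟨j + 1, Finset.mem_erase.2 ⟨Nat.succ_ne_zero j, h⟩, rfl⟩

variable {k K : Type*} [Field k] [IsAlgClosed k] [Field K] [Algebra k K] {n : ℕ}
variable {P : Place k K} {t : K} {H : K →ₐ[k] K⟦X⟧}

lemma exists_ordersAt (hK : IsFunctionField k K) (ht : P.1 t = exp (-1 : ℤ))
    (hH : LocRes.IsHasseFamily t H) {φ : Fin (n + 1) → K} (hφ : LinearIndependent k φ)
    (heff : (1 : K) ∈ Submodule.span k (Set.range φ)) (hnorm : ∀ i, P.1 (φ i) ≤ 1) :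
    ∃ J : Fin n → ℕ, IsOrders (IsLocalRing.ResidueField P.O) (hcolAt P H φ) J := by
  classical
  refine exists_isOrders (fun h => ?_) ?_
  · obtain ⟨c, hc⟩ := (Submodule.mem_span_range_iff_exists_fun k).1 heff
    have h1 : P.1 (1 : K) < 1 := by
      rw [← hc]
      refine P.1.map_sum_lt one_ne_zero fun i _ => ?_
      rw [Algebra.smul_def, map_mul]
      refine (mul_le_of_le_one_left' (P.2.1 _)).trans_lt ?_
      have h2 : evalP P (φ i) = 0 := congrFun h i
      rw [evalP_eq hK (hnorm i), map_eq_zero, valAt_eq_zero_iff] at h2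
      exact h2
    rw [map_one] at h1
    exact lt_irrefl _ h1
  · by_contra hne
    obtain ⟨f, hf0, hf⟩ := Submodule.exists_le_ker_of_lt_top _ (lt_top_iff_ne_top.2 hne)
    refine hf0 (LinearMap.ext fun v => ?_)
    have hcoef : ∀ v : Fin (n + 1) → IsLocalRing.ResidueField P.O,
        f v = ∑ i, v i * f (Pi.single i 1) := fun v => by
      conv_lhs => rw [← Finset.univ_sum_single v]
      rw [map_sum]
      exact Finset.sum_congr rfl fun i _ => by
        rw [← smul_eq_mul, ← map_smul, ← Pi.single_smul, smul_eq_mul, mul_one]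
    have hz : ∑ i, f (Pi.single i 1) • (fun j : ℕ => evalP P (LocRes.hasseD H j (φ i))) = 0 := by
      funext j
      simp only [Finset.sum_apply, Pi.smul_apply, smul_eq_mul, Pi.zero_apply]
      have h2 : f (hcolAt P H φ (j + 1)) = 0 := hf (Submodule.subset_span ⟨j + 1, rfl⟩)
      rw [hcoef] at h2
      rw [← h2]
      exact Finset.sum_congr rfl fun i _ => mul_comm _ _
    have h3 := Fintype.linearIndependent_iff.1 (indep_evalP hK ht hH hφ hnorm) _ hz
    rw [hcoef, LinearMap.zero_apply]
    exact Finset.sum_eq_zero fun i _ => by rw [h3 i, mul_zero]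

omit [IsAlgClosed k] in
lemma mapDiv_smul (hK : IsFF k K) {φ : Fin (n + 1) → K} (hφ : ∀ i, φ i ≠ 0) {y : K} (hy : y ≠ 0) :
    mapDiv k (y • φ) = mapDiv k φ - div k y := by
  refine Finsupp.ext fun P => ?_
  obtain ⟨i, hi⟩ := exists_ord_eq hK φ P
  obtain ⟨j, hj⟩ := exists_ord_eq hK (y • φ) P
  have h1 := neg_mapDiv_le hK (y • φ) P i
  have h2 := neg_mapDiv_le hK φ P j
  rw [Pi.smul_apply, smul_eq_mul, ord_mul P hy (hφ _)] at h1 hj
  rw [Finsupp.sub_apply, div_apply hK]
  omega

/-- Orders at a place are at most the degree. -/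
lemma order_le_deg (hK : IsFunctionField k K) {φ : Fin (n + 1) → K} (hφ : ∀ i, φ i ≠ 0)
    (heff : (1 : K) ∈ Submodule.span k (Set.range φ))
    {f : K} (hf : f ∈ Submodule.span k (Set.range φ)) {j : ℕ} (hfv : P.1 f = exp (-(j : ℤ))) :
    (j : ℤ) ≤ (mapDiv k φ).deg := by
  have hle := span_le_L_mapDiv hK.1 hφ
  have h0 : f ≠ 0 := fun h => exp_ne_zero (hfv.symm.trans (by rw [h, map_zero]))
  have hD := (mem_L_iff_div hK.1 h0).1 (hle hf)
  have h1 := (mem_L_iff_div hK.1 one_ne_zero).1 (hle heff)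
  rw [show div k (1 : K) = 0 by simpa using div_const hK.1 (1 : k), zero_add] at h1
  have h2 : Finsupp.single P (j : ℤ) ≤ div k f + mapDiv k φ := fun Q => by
    classical
    have hQ := hD Q
    rw [Finsupp.zero_apply] at hQ
    rw [Finsupp.single_apply]
    split_ifs with hPQ
    · subst hPQ
      have hP0 := h1 P
      rw [Finsupp.zero_apply] at hP0
      rw [Finsupp.add_apply, div_apply hK.1, ord_eq_of_val P hfv]
      omega
    · exact hQ
  have h3 := deg_mono h2
  rw [deg_single, deg_add, deg_div hK.1, deg_eq_one hK P] at h3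
  simpa using h3

lemma ell_single_one (hK : IsFunctionField k K) (hg : 0 < genus k K) (P : Place k K) :
    ell (Finsupp.single P (1 : ℤ)) = 1 := by
  classical
  have hpos : (0 : Divisor k K) ≤ Finsupp.single P 1 := fun Q => by
    rw [Finsupp.zero_apply, Finsupp.single_apply]; split_ifs <;> omega
  have h1 : 1 ≤ ell (Finsupp.single P (1 : ℤ)) := (ell_zero hK).symm.trans_le (ell_mono hK.1 hpos)
  by_contra hne
  have hgrow : ∀ m : ℕ, m + 1 ≤ ell (Finsupp.single P (m : ℤ)) := fun m => by
    induction m with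
    | zero => simp [ell_zero hK]
    | succ m ih =>
      have h2 := ell_add_ge hK (D := Finsupp.single P (m : ℤ)) (E := Finsupp.single P (1 : ℤ))
        (by omega) (by omega)
      rw [← Finsupp.single_add, show (m : ℤ) + 1 = ((m + 1 : ℕ) : ℤ) by push_cast; ring] at h2
      omega
  have h3 := ell_eq_of_deg_ge hK (D := Finsupp.single P ((2 * genus k K : ℕ) : ℤ))
    (by rw [deg_single, deg_eq_one hK P]; push_cast; omega)
  rw [deg_single, deg_eq_one hK P] at h3
  have h4 := hgrow (2 * genus k K)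
  push_cast at h3 h4
  omega

end Groth.Agent.FF
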