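/-
Expansions over an algebraically closed constant field, orders of differentials, pullback of maps,
the Weierstrass divisor.
-/
import Groth.Agent.L26.FF.OrdersUse
import Groth.Agent.L26.FF.GenusOne
import Groth.Agent.L26.FF.Galois
import Groth.Agent.L26.Res.Residue

open WithZero
open scoped LaurentSeries PowerSeries

namespace Groth.Agent.FF

open FunFld

universe u v

section Geometric

variable {k : Type u} {K : Type v} [Field k] [IsAlgClosed k] [Field K] [Algebra k K]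

lemma isGeometric_algClosed : IsGeometric k K := by
  intro k' _ _ hfin
  have hbij : Function.Bijective (algebraMap k k') :=
    IsAlgClosed.algebraMap_bijective_of_isIntegral
  let e : k ≃ₐ[k] k' := AlgEquiv.ofBijective (Algebra.ofId k k') hbij
  let e' : TensorProduct k k' K ≃ₐ[k] K :=
    (Algebra.TensorProduct.congr e.symm (AlgEquiv.refl (R := k) (A₁ := K))).trans
      (Algebra.TensorProduct.lid k K)
  exact MulEquiv.isField (Field.toIsField K) e'.toMulEquiv

end Geometric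

section Pullback

variable {k K K' : Type*} [Field k] [Field K] [Field K'] [Algebra k K] [Algebra K K'] [Algebra k K']
  [IsScalarTower k K K'] [FiniteDimensional K K']

lemma mapDiv_map (hK : IsFF k K) {n : ℕ} (φ : Fin (n + 1) → K) :
    mapDiv k (algebraMap K K' ∘ φ) = conorm K' (mapDiv k φ) := by
  refine Finsupp.ext fun Q => ?_
  obtain ⟨P, e, he⟩ := exists_below hK Q
  obtain ⟨i, hi⟩ := exists_ord_eq hK φ P
  obtain ⟨j, hj⟩ := exists_ord_eq (isFF_ext hK) (algebraMap K K' ∘ φ) Q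
  have h1 := neg_mapDiv_le (isFF_ext hK) (algebraMap K K' ∘ φ) Q i
  have h2 := neg_mapDiv_le hK φ P j
  simp only [Function.comp_apply, he.ord] at h1 hj
  rw [conorm_apply hK _ he]
  rw [hi] at h1
  have h3 : (e : ℤ) * -mapDiv k φ P ≤ e * P.ord (φ j) := mul_le_mul_of_nonneg_left h2 (Int.natCast_nonneg _)
  linarith

end Pullback

variable {k : Type u} {K : Type v} [Field k] [IsAlgClosed k] [Field K] [Algebra k K]

lemma finrank_fieldRange_comp (hK : IsFunctionField k K) (τ : K →ₐ[k] K) :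
    FiniteDimensional τ.fieldRange K := by
  obtain ⟨x, hx, -⟩ := hK.1
  have htx : Transcendental k (τ x) := fun h =>
    hx ((isAlgebraic_algHom_iff τ τ.toRingHom.injective).1 h)
  have := finite_over_adjoin hK.1 htx
  have hle : IntermediateField.adjoin k ({τ x} : Set K) ≤ τ.fieldRange :=
    IntermediateField.adjoin_simple_le_iff.2 ⟨x, rfl⟩
  let : Algebra (IntermediateField.adjoin k ({τ x} : Set K)) τ.fieldRange :=
    (IntermediateField.inclusion hle).toRingHom.toAlgebra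
  have : IsScalarTower (IntermediateField.adjoin k ({τ x} : Set K)) τ.fieldRange K :=
    IsScalarTower.of_algebraMap_eq fun _ => rfl
  exact FiniteDimensional.right (IntermediateField.adjoin k ({τ x} : Set K)) τ.fieldRange K

/-- `K` as an algebra over itself through an endomorphism. -/
def Pull (_τ : K →ₐ[k] K) : Type v := K

noncomputable instance (τ : K →ₐ[k] K) : Field (Pull τ) := inferInstanceAs (Field K)

noncomputable instance (τ : K →ₐ[k] K) : Algebra k (Pull τ) := inferInstanceAs (Algebra k K)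

noncomputable instance (τ : K →ₐ[k] K) : Algebra K (Pull τ) := τ.toRingHom.toAlgebra

instance (τ : K →ₐ[k] K) : IsScalarTower k K (Pull τ) :=
  IsScalarTower.of_algebraMap_eq fun c => (τ.commutes c).symm

/-- The degree of a pulled back map. -/
lemma deg_mapDiv_comp (hK : IsFunctionField k K) (τ : K →ₐ[k] K) {n : ℕ} (φ : Fin (n + 1) → K) :
    (mapDiv k (τ ∘ φ)).deg = Module.finrank τ.fieldRange K * (mapDiv k φ).deg := by
  have hfin := finrank_fieldRange_comp hK τ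
  let e : K ≃+* τ.fieldRange := (AlgEquiv.ofInjectiveField τ).toRingEquiv
  let i : Pull τ ≃+* K := RingEquiv.refl K
  have hrank : Module.finrank K (Pull τ) = Module.finrank τ.fieldRange K := by
    have := Algebra.finrank_eq_of_equiv_equiv e i (RingHom.ext fun z => rfl)
    exact this
  have : Module.Finite K (Pull τ) := by
    have hp : 0 < Module.finrank K (Pull τ) := hrank ▸ Module.finrank_pos
    exact Module.finite_of_finrank_pos hp
  have h := deg_conorm (K' := Pull τ) hK (mapDiv k φ)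
  rw [← mapDiv_map hK.1, hrank] at h
  exact h

lemma exists_expansion (hK : IsFunctionField k K) (P : Place k K) {t : K} {H : K →ₐ[k] K⟦X⟧}
    (ht : P.1 t = exp (-1 : ℤ)) (hH : LocRes.IsHasseFamily t H) :
    ∃ Φ : K →ₐ[k] k⸨X⸩, LocRes.IsExpansionAt P.1 Φ := by
  let ofP : k⟦X⟧ →ₐ[k] k⸨X⸩ :=
    { HahnSeries.ofPowerSeries ℤ k with commutes' := fun c => by rw [HahnSeries.algebraMap_apply']; rfl }
  let ψ : P.O →ₐ[k] k⸨X⸩ := ofP.comp (tay hK ht hH)
  have hval : ∀ (z : P.O) (a : ℕ), P.1 (z : K) = exp (-(a : ℤ)) → Valued.v (ψ z) = exp (-(a : ℤ)) := by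
    intro z a ha
    obtain ⟨h1, h2⟩ := tay_order hK ht hH z a ha
    have hco : ∀ i : ℕ, (ψ z).coeff (i : ℤ) = PowerSeries.coeff i (tay hK ht hH z) := fun i => by
      show ((tay hK ht hH z : k⟦X⟧) : k⸨X⸩).coeff i = _
      rw [PowerSeries.coeff_coe, if_neg (by omega), Int.natAbs_natCast]
    have hlow : ∀ i : ℤ, i < a → (ψ z).coeff i = 0 := fun i hi => by
      show ((tay hK ht hH z : k⟦X⟧) : k⸨X⸩).coeff i = _
      rw [PowerSeries.coeff_coe]
      split_ifs with h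
      · rfl
      · exact h1 _ (by omega)
    refine le_antisymm ((LaurentSeries.valuation_le_iff_coeff_lt_eq_zero k).2 hlow) (not_lt.1 fun hlt => h2 ?_)
    rw [← hco a]
    exact (LaurentSeries.valuation_le_iff_coeff_lt_eq_zero k).1
      ((le_exp_sub_one hlt).trans_eq (show exp (-(a : ℤ) - 1) = exp (-((a : ℤ) + 1)) by congr 1; ring)) a (by omega)
  have hval' : ∀ z : P.O, Valued.v (ψ z) = P.1 (z : K) := fun z => by
    rcases eq_or_ne (z : K) 0 with h | h
    · rw [show z = 0 from Subtype.ext h, map_zero, map_zero, ZeroMemClass.coe_zero, map_zero]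
    · obtain ⟨a, ha⟩ : ∃ a : ℕ, P.ord (z : K) = a :=
        ⟨_, (Int.toNat_of_nonneg ((val_le_one_iff P h).1 z.2)).symm⟩
      rw [hval z a (by rw [val_eq_exp P h, ha]), val_eq_exp P h, ha]
  have hinj : Function.Injective ψ := (injective_iff_map_eq_zero ψ).2 fun z hz => by
    have := hval' z
    rw [hz, map_zero, eq_comm, Valuation.zero_iff] at this
    exact Subtype.ext this
  haveI : IsScalarTower k P.O K := IsScalarTower.of_algebraMap_eq' rfl
  let Φ : K →ₐ[k] k⸨X⸩ := IsFractionRing.liftAlgHom (A := P.O) (K := K) hinj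
  have hΦ : ∀ z : P.O, Φ (z : K) = ψ z := fun z => IsFractionRing.lift_algebraMap hinj z
  refine ⟨Φ, fun f => ?_, fun a => ⟨algebraMap k K a, P.2.1 a, ?_⟩, t, ht⟩
  · rcases le_total (P.1 f) 1 with h | h
    · rw [show f = ((⟨f, h⟩ : P.O) : K) from rfl, hΦ, hval']
    · have h' : P.1 f⁻¹ ≤ 1 := by rw [map_inv₀]; exact inv_le_one_of_one_le₀ h
      have := hval' ⟨f⁻¹, h'⟩
      rw [← hΦ, map_inv₀, map_inv₀] at this
      simpa using this
  · rw [LocRes.map_algebraMap]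
    simp

lemma D_expansion (hK : IsFunctionField k K) {P : Place k K} {t s : K} {H : K →ₐ[k] K⟦X⟧}
    (ht : P.1 t = exp (-1 : ℤ)) (hH : LocRes.IsHasseFamily t H)
    {Φ : K →ₐ[k] k⸨X⸩} (hΦ : LocRes.IsExpansionAt P.1 Φ) :
    Φ (LocRes.hasseD H 1 s) * LocRes.D k (Φ t) = LocRes.D k (Φ s) := by
  have hg : IsGeometric k K := isGeometric_algClosed
  have hDt : KaehlerDifferential.D k K t ≠ 0 :=
    ((Res.vDiff_ne_zero_iff hK hg hΦ 1 t).1 (by rw [Res.vDiff_uniformizer hΦ ht]; exact one_ne_zero)).2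
  let δ : Derivation k K K :=
    Derivation.mk' (((PowerSeries.coeff (R := K) 1).restrictScalars k).comp H.toLinearMap)
      fun a b => leibniz_coeff_one hH.2 a b
  obtain ⟨c, hc⟩ := Res.exists_smul_D hK hg hDt s
  have h1 := congrArg δ.liftKaehlerDifferential hc
  rw [map_smul, Derivation.liftKaehlerDifferential_comp_D, Derivation.liftKaehlerDifferential_comp_D] at h1
  have ht1 : δ t = 1 := by
    show PowerSeries.coeff 1 (H t) = 1
    rw [hH.1]; simp
  rw [ht1, smul_eq_mul, mul_one] at h1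
  rw [show LocRes.hasseD H 1 s = c from h1.symm]
  exact Res.D_map_smul Φ hc

/-- The order of `u ds` through an expansion. -/
lemma ordDiff_eq (hK : IsFunctionField k K) {P : Place k K} {t s : K} {H : K →ₐ[k] K⟦X⟧}
    (ht : P.1 t = exp (-1 : ℤ)) (hH : LocRes.IsHasseFamily t H)
    {Φ : K →ₐ[k] k⸨X⸩} (hΦ : LocRes.IsExpansionAt P.1 Φ) :
    LocRes.ordDiff Φ 1 s = P.ord (LocRes.hasseD H 1 s) := by
  rw [LocRes.ordDiff, Place.ord, LocRes.vDiff, map_one, one_mul, ← D_expansion hK ht hH hΦ, map_mul,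
    hΦ.1, show Valued.v (LocRes.D k (Φ t)) = 1 from ?_, mul_one]
  have := Res.vDiff_uniformizer hΦ ht
  rwa [LocRes.vDiff, map_one, one_mul] at this

lemma exists_local (hK : IsFunctionField k K) {s : K} {H : K →ₐ[k] K⟦X⟧}
    (hH : LocRes.IsHasseFamily s H) (P : Place k K) :
    ∃ (t : K) (Ht : K →ₐ[k] K⟦X⟧), P.1 t = exp (-1 : ℤ) ∧ LocRes.IsHasseFamily t Ht := by
  obtain ⟨t, -, ht⟩ := exists_val_eq P (-1)
  have hd : LocRes.hasseD H 1 t ≠ 0 := fun h0 => by
    let δ : K →ₗ[k] K := ((PowerSeries.coeff (R := K) 1).restrictScalars k).comp H.toLinearMap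
    have hδ : δ = 0 := deriv_eq_zero hK (leibniz_coeff_one hH.2) ht h0
    have h1 : PowerSeries.coeff 1 (H s) = 0 := LinearMap.congr_fun hδ s
    rw [hH.1] at h1
    simp at h1
  obtain ⟨Ht, hHt⟩ := exists_family (detBy_family hK hH) hH hd
  exact ⟨t, Ht, ht, hHt⟩

lemma exists_expansions (hK : IsFunctionField k K) {s : K} {H : K →ₐ[k] K⟦X⟧}
    (hH : LocRes.IsHasseFamily s H) :
    ∃ Φ : Place k K → (K →ₐ[k] k⸨X⸩), ∀ P, LocRes.IsExpansionAt P.1 (Φ P) := by
  choose t Ht ht hHt using exists_local hK hH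
  choose Φ hΦ using fun P => exists_expansion hK P (ht P) (hHt P)
  exact ⟨Φ, hΦ⟩

lemma D_ne_zero_of_family (hK : IsFunctionField k K) {s : K} {H : K →ₐ[k] K⟦X⟧}
    (hH : LocRes.IsHasseFamily s H) : KaehlerDifferential.D k K s ≠ 0 := fun h => by
  let δ : Derivation k K K :=
    Derivation.mk' (((PowerSeries.coeff (R := K) 1).restrictScalars k).comp H.toLinearMap)
      fun a b => leibniz_coeff_one hH.2 a b
  have h1 := congrArg δ.liftKaehlerDifferential h
  rw [Derivation.liftKaehlerDifferential_comp_D, map_zero] at h1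
  have h2 : PowerSeries.coeff 1 (H s) = 0 := h1
  rw [hH.1] at h2
  simp at h2

/-- `div ds` is canonical. -/
lemma divDiff_spec (hK : IsFunctionField k K) {Φ : Place k K → (K →ₐ[k] k⸨X⸩)}
    (hΦ : ∀ P, LocRes.IsExpansionAt P.1 (Φ P)) {s : K} (hs : KaehlerDifferential.D k K s ≠ 0) :
    (∀ P, divDiff Φ 1 s P = LocRes.ordDiff (Φ P) 1 s) ∧
    (divDiff Φ 1 s).deg = 2 * (genus k K : ℤ) - 2 ∧ IsCanonical k K (divDiff Φ 1 s) := by
  have hg : IsGeometric k K := isGeometric_algClosed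
  obtain ⟨-, h0, C, hC, hdiv⟩ := Res.resW_spec (F := fun _ => k) hK hg Φ hΦ one_ne_zero hs
  have hfin := Res.ordDiff_finite (F := fun _ => k) hK hg Φ hΦ one_ne_zero hs
  have e : divDiff Φ 1 s = C := Finsupp.ext fun P => by
    rw [divDiff, dif_pos hfin, hC]; rfl
  rw [e]
  exact ⟨hC, (ell_canonical hK ⟨_, h0, hdiv⟩).2, _, h0, hdiv⟩

section WDiv

variable {n : ℕ} {φ : Fin (n + 1) → K} {τ : K →ₐ[k] K} {J : Fin n → ℕ} {s t y : K}
  {H Ht : K →ₐ[k] K⟦X⟧}

lemma det_scale (hH : LocRes.IsHasseFamily s H) (hφ : φ ≠ 0)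
    (hJ : IsOrders K (hcol τ H φ) J) (hy : y ≠ 0) :
    IsOrders K (hcol τ H (y • φ)) J ∧
      (wrMat τ H (y • φ) J).det = τ y * y ^ n * (wrMat τ H φ J).det := by
  have hd : ∀ j : ℕ, (if j = 0 then τ y else y) ≠ 0 := fun j => by
    split_ifs
    · exact (map_ne_zero τ).2 hy
    · exact hy
  obtain ⟨h1, h2⟩ := wr_transfer (hcol_zero_ne τ H hφ) hd (scale_triangular τ hH φ y)
  refine ⟨(h1 J).2 hJ, ?_⟩
  rw [wrMat_eq, wrMat_eq, h2 J hJ]
  simp

lemma det_variable (hK : IsFunctionField k K) (hH : LocRes.IsHasseFamily s H)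
    (hHt : LocRes.IsHasseFamily t Ht) (hφ : φ ≠ 0) (hJ : IsOrders K (hcol τ H φ) J) :
    IsOrders K (hcol τ Ht φ) J ∧
      (wrMat τ Ht φ J).det = LocRes.hasseD Ht 1 s ^ (∑ l, J l) * (wrMat τ H φ J).det := by
  obtain ⟨h1, h2⟩ := wr_transfer (hcol_zero_ne τ H hφ)
    (fun j => pow_ne_zero (j - 1) (hasseD_one_ne_zero hK hH hHt)) (variable_triangular hK τ hH hHt φ)
  refine ⟨(h1 J).2 hJ, ?_⟩
  rw [wrMat_eq, wrMat_eq, h2 J hJ, ← Finset.prod_pow_eq_pow_sum]
  simp

/-- The coefficient of the Weierstrass divisor, read in a local parameter. -/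
lemma wDiv_apply (hK : IsFunctionField k K) {Φ : Place k K → (K →ₐ[k] k⸨X⸩)}
    (hΦ : ∀ P, LocRes.IsExpansionAt P.1 (Φ P)) (hφ : LinearIndependent k φ)
    (hH : LocRes.IsHasseFamily s H) (hJ : IsOrders K (hcol τ H φ) J) {P : Place k K}
    (ht : P.1 t = exp (-1 : ℤ)) (hHt : LocRes.IsHasseFamily t Ht) (hy : y ≠ 0) :
    wDiv τ H Φ s φ J P = P.ord (wrMat τ Ht (y • φ) J).det + mapDiv k (τ ∘ (y • φ)) P +
      n * mapDiv k (y • φ) P := by
  have hφ0 : φ ≠ 0 := fun h => hφ.ne_zero 0 (congrFun h 0)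
  obtain ⟨hJt, e1⟩ := det_variable hK hH hHt hφ0 hJ
  obtain ⟨hJy, e2⟩ := det_scale hHt hφ0 hJt hy
  have hdet := det_wrMat_ne_zero τ H hφ0 hJ
  have hδ := hasseD_one_ne_zero hK hH hHt
  have hτy : τ y ≠ 0 := (map_ne_zero τ).2 hy
  have hτφ : ∀ i, (⇑τ ∘ φ) i ≠ 0 := fun i => (map_ne_zero τ).2 (hφ.ne_zero i)
  have ec : ⇑τ ∘ (y • φ) = τ y • (⇑τ ∘ φ) := funext fun i => map_mul τ _ _
  rw [ec, mapDiv_smul hK.1 hτφ hτy, mapDiv_smul hK.1 hφ.ne_zero hy, e2, e1]
  simp only [wDiv, Finsupp.add_apply, Finsupp.smul_apply, Finsupp.sub_apply, div_apply hK.1,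
    (divDiff_spec hK hΦ (D_ne_zero_of_family hK hH)).1, ordDiff_eq hK ht hHt (hΦ P), smul_eq_mul]
  rw [ord_mul P (mul_ne_zero hτy (pow_ne_zero n hy)) (mul_ne_zero (pow_ne_zero _ hδ) hdet),
    ord_mul P hτy (pow_ne_zero n hy), ord_mul P (pow_ne_zero _ hδ) hdet, ord_pow P hy, ord_pow P hδ]
  push_cast
  ring

/-- Normalisation at a place. -/
lemma exists_normalised (hK : IsFunctionField k K) (hφ : LinearIndependent k φ) (P : Place k K) :
    ∃ y : K, y ≠ 0 ∧ LinearIndependent k (y • φ) ∧ (1 : K) ∈ Submodule.span k (Set.range (y • φ)) ∧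
      (∀ i, P.1 ((y • φ) i) ≤ 1) ∧ mapDiv k (y • φ) P = 0 ∧ ∃ j, (y • φ) j = 1 := by
  obtain ⟨j, hj⟩ := exists_minimal φ P
  have hy : (φ j)⁻¹ ≠ 0 := inv_ne_zero (hφ.ne_zero j)
  refine ⟨_, hy, hφ.map' (LinearMap.mulLeft k (φ j)⁻¹) (LinearMap.ker_eq_bot.2 (mul_right_injective₀ hy)),
    Submodule.subset_span ⟨j, inv_mul_cancel₀ (hφ.ne_zero j)⟩, fun i => ?_, ?_, j, inv_mul_cancel₀ (hφ.ne_zero j)⟩
  · rw [Pi.smul_apply, smul_eq_mul, ← div_eq_inv_mul, map_div₀]
    exact div_le_one_of_le₀ (hj i) zero_le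
  · have h := (minimal_iff hK.1 hφ.ne_zero P j).1 hj
    rw [mapDiv_smul hK.1 hφ.ne_zero hy, Finsupp.sub_apply, div_apply hK.1, ord_inv]
    omega

/-- Lower bound for the determinant of a normalised map. -/
lemma ord_det_ge (hK : IsFunctionField k K) {P : Place k K} (hφ : LinearIndependent k φ)
    (hint : ∀ i, P.1 (φ i) ≤ 1) (ht : P.1 t = exp (-1 : ℤ)) (hHt : LocRes.IsHasseFamily t Ht)
    (hdet : (wrMat τ Ht φ J).det ≠ 0) :
    0 ≤ P.ord (wrMat τ Ht φ J).det + mapDiv k (⇑τ ∘ φ) P := by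
  set M := mapDiv k (⇑τ ∘ φ) P
  obtain ⟨c, hc0, hc⟩ := exists_val_eq P (-M)
  let B : Matrix (Fin (n + 1)) (Fin (n + 1)) K := Matrix.of fun i j =>
    (if j = 0 then c else 1) * wrMat τ Ht φ J i j
  have hB : B.det = c * (wrMat τ Ht φ J).det := by
    rw [show B = Matrix.of (fun i j => (if j = 0 then c else 1) * wrMat τ Ht φ J i j) from rfl,
      Matrix.det_mul_row, Finset.prod_ite_eq' Finset.univ 0 (fun _ => c), if_pos (Finset.mem_univ _)]
  have hBint : ∀ i j, P.1 (B i j) ≤ 1 := fun i => Fin.cases (by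
      have h1 := neg_mapDiv_le hK.1 (⇑τ ∘ φ) P i
      have hne : τ (φ i) ≠ 0 := (map_ne_zero τ).2 (hφ.ne_zero i)
      show P.1 (c * τ (φ i)) ≤ 1
      rw [map_mul, hc, val_eq_exp P hne, ← exp_add, exp_le_one']
      simp only [Function.comp_apply] at h1
      omega)
    fun l => by
      show P.1 ((if l.succ = 0 then c else 1) * LocRes.hasseD Ht (J l) (φ i)) ≤ 1
      rw [if_neg (Fin.succ_ne_zero l), one_mul]
      exact hasseD_integral hK ht hHt _ (hint i)
  let B' : Matrix (Fin (n + 1)) (Fin (n + 1)) P.O := Matrix.of fun i j => ⟨B i j, hBint i j⟩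
  have h2 : P.1 B.det ≤ 1 := by
    rw [show B = B'.map P.O.subtype from rfl, ← RingHom.mapMatrix_apply, ← RingHom.map_det]
    exact B'.det.2
  rw [hB, val_le_one_iff P (mul_ne_zero hc0 hdet), ord_mul P hc0 hdet, ord_eq_of_val P hc] at h2
  omega

lemma wDiv_nonneg (hK : IsFunctionField k K) {Φ : Place k K → (K →ₐ[k] k⸨X⸩)}
    (hΦ : ∀ P, LocRes.IsExpansionAt P.1 (Φ P)) (hφ : LinearIndependent k φ)
    (hH : LocRes.IsHasseFamily s H) (hJ : IsOrders K (hcol τ H φ) J) : 0 ≤ wDiv τ H Φ s φ J := by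
  intro P
  obtain ⟨t, Ht, ht, hHt⟩ := exists_local hK hH P
  obtain ⟨y, hy, hyφ, -, hint, hM, -⟩ := exists_normalised hK hφ P
  have hφ0 : φ ≠ 0 := fun h => hφ.ne_zero 0 (congrFun h 0)
  obtain ⟨hJt, -⟩ := det_variable hK hH hHt hφ0 hJ
  obtain ⟨hJy, -⟩ := det_scale hHt hφ0 hJt hy
  rw [Finsupp.zero_apply, wDiv_apply hK hΦ hφ hH hJ ht hHt hy, hM, mul_zero, add_zero]
  exact ord_det_ge hK hyφ hint ht hHt (det_wrMat_ne_zero τ Ht (fun h => hyφ.ne_zero 0 (congrFun h 0)) hJy)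

lemma deg_wDiv (hK : IsFunctionField k K) {Φ : Place k K → (K →ₐ[k] k⸨X⸩)}
    (hΦ : ∀ P, LocRes.IsExpansionAt P.1 (Φ P)) (hH : LocRes.IsHasseFamily s H) :
    (wDiv τ H Φ s φ J).deg = ((Module.finrank τ.fieldRange K : ℤ) + n) * (mapDiv k φ).deg +
      (2 * (genus k K : ℤ) - 2) * ∑ l, (J l : ℤ) := by
  rw [wDiv, deg_add, deg_add, deg_add, deg_div hK.1, deg_smul, deg_smul, deg_mapDiv_comp hK,
    (divDiff_spec hK hΦ (D_ne_zero_of_family hK hH)).2.1]
  ring

end WDiv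

end Groth.Agent.FF
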