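/-
Weierstrass points: normalisation, change of basis.
-/
import Groth.Agent.L26.FF.Diff

open WithZero
open scoped LaurentSeries PowerSeries

namespace Groth.Agent.FF

open FunFld

variable {k K : Type*} [Field k] [IsAlgClosed k] [Field K] [Algebra k K] {n : ℕ}
variable {P : Place k K} {φ : Fin (n + 1) → K}

lemma mapDiv_zero_at (hK : IsFF k K) (hφ : ∀ i, φ i ≠ 0) (heff : (1 : K) ∈ Submodule.span k (Set.range φ))
    (hnorm : ∀ i, P.1 (φ i) ≤ 1) : mapDiv k φ P = 0 := by
  obtain ⟨i, hi⟩ := exists_ord_eq hK φ P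
  have h1 := (val_le_one_iff P (hφ i)).1 (hnorm i)
  have h2 := (mem_L_iff_ord one_ne_zero).1 (span_le_L_mapDiv hK hφ heff) P
  rw [show P.ord (1 : K) = 0 from (val_eq_one_iff P one_ne_zero).1 (map_one _)] at h2
  omega

lemma heff_map (τ : K →ₐ[k] K) (heff : (1 : K) ∈ Submodule.span k (Set.range φ)) :
    (1 : K) ∈ Submodule.span k (Set.range (⇑τ ∘ φ)) := by
  rw [Set.range_comp]
  have := Submodule.mem_map_of_mem (f := τ.toLinearMap) heff
  rwa [AlgHom.toLinearMap_apply, map_one, Submodule.map_span] at this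

lemma mapDiv_fixed_zero (hK : IsFunctionField k K) {τ : K →ₐ[k] K} (hP : IsFixedPt τ P)
    (hφ : ∀ i, φ i ≠ 0) (heff : (1 : K) ∈ Submodule.span k (Set.range φ))
    (hnorm : ∀ i, P.1 (φ i) ≤ 1) : mapDiv k (⇑τ ∘ φ) P = 0 :=
  mapDiv_zero_at hK.1 (fun i => (map_ne_zero τ).2 (hφ i)) (heff_map τ heff)
    fun i => fixed_le_one hK hP (hnorm i)

lemma binom_self_det {R : Type*} [CommRing R] {m : ℕ} {J : Fin m → ℕ} (hJ : StrictMono J) :
    (binomMat R J J).det = 1 := by
  rw [Matrix.det_of_isLowerTriangular]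
  · simp [binomMat]
  · intro i j hij
    show (((J i).choose (J j) : ℕ) : R) = 0
    rw [Nat.choose_eq_zero_of_lt (hJ (show i < j from hij)), Nat.cast_zero]

/-- Change of basis. -/
lemma change_basis (τ : K →ₐ[k] K) (H : K →ₐ[k] K⟦X⟧) {φ' : Fin (n + 1) → K}
    (A : Matrix (Fin (n + 1)) (Fin (n + 1)) k) (hA : A.det ≠ 0) (hφ' : ∀ i, φ' i = ∑ j, A i j • φ j) :
    (∀ J : Fin n → ℕ, IsOrders K (hcol τ H φ') J ↔ IsOrders K (hcol τ H φ) J) ∧
    Submodule.span k (Set.range φ') = Submodule.span k (Set.range φ) := by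
  classical
  constructor
  · let B := A.map (algebraMap k K)
    have hB : IsUnit B.det := by
      rw [show B = (algebraMap k K).mapMatrix A from rfl, ← RingHom.map_det]
      exact isUnit_iff_ne_zero.2 ((map_ne_zero _).2 hA)
    let L : (Fin (n + 1) → K) →ₗ[K] (Fin (n + 1) → K) := B.mulVecLin
    have hL : Function.Injective L := Matrix.mulVec_injective_iff_isUnit.2 ((Matrix.isUnit_iff_isUnit_det B).2 hB)
    have hc : ∀ j, hcol τ H φ' j = L (hcol τ H φ j) := fun j => by
      funext i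
      have hlin : ∀ f : K →ₗ[k] K, f (φ' i) = ∑ l, algebraMap k K (A i l) * f (φ l) := fun f => by
        rw [hφ' i, map_sum]
        exact Finset.sum_congr rfl fun l _ => (map_smul f (A i l) (φ l)).trans (Algebra.smul_def _ _)
      rcases j with _ | j
      · exact hlin τ.toLinearMap
      · exact hlin (((PowerSeries.coeff (R := K) j).restrictScalars k).comp H.toLinearMap)
    have hj : ∀ j, IsJump K (hcol τ H φ') j ↔ IsJump K (hcol τ H φ) j := fun j => by
      have e : hcol τ H φ' '' Set.Iio j = L '' (hcol τ H φ '' Set.Iio j) := by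
        rw [Set.image_image]; exact Set.image_congr fun x _ => hc x
      show (_ ∉ Submodule.span K _) ↔ (_ ∉ Submodule.span K _)
      rw [hc j, e, ← Submodule.map_span]
      exact not_congr ⟨fun ⟨v, hv, hvL⟩ => hL hvL ▸ hv, fun h => Submodule.mem_map_of_mem h⟩
    intro J
    simp only [IsOrders, hj]
  · refine le_antisymm (Submodule.span_le.2 (Set.range_subset_iff.2 fun i => ?_)) (Submodule.span_le.2 (Set.range_subset_iff.2 fun i => ?_))
    · rw [hφ' i]
      exact Submodule.sum_mem _ fun j _ => Submodule.smul_mem _ _ (Submodule.subset_span ⟨j, rfl⟩)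
    · have hu : IsUnit A.det := isUnit_iff_ne_zero.2 hA
      have e : φ i = ∑ l, (A⁻¹ i l) • φ' l := by
        simp only [hφ', Finset.smul_sum, smul_smul]
        rw [Finset.sum_comm]
        simp only [← Finset.sum_smul, ← Matrix.mul_apply, Matrix.nonsing_inv_mul A hu, Matrix.one_apply,
          ite_smul, one_smul, zero_smul, Finset.sum_ite_eq, Finset.mem_univ, if_true]
      rw [e]
      exact Submodule.sum_mem _ fun j _ => Submodule.smul_mem _ _ (Submodule.subset_span ⟨j, rfl⟩)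

lemma mapDiv_congr_span (hK : IsFF k K) {φ' : Fin (n + 1) → K} (hφ : ∀ i, φ i ≠ 0) (hφ' : ∀ i, φ' i ≠ 0)
    (h : Submodule.span k (Set.range φ') = Submodule.span k (Set.range φ)) :
    mapDiv k φ' = mapDiv k φ :=
  le_antisymm ((mapDiv_le_iff hK hφ').2 fun i => span_le_L_mapDiv hK hφ (h ▸ Submodule.subset_span ⟨i, rfl⟩))
    ((mapDiv_le_iff hK hφ).2 fun i => span_le_L_mapDiv hK hφ' (h.symm ▸ Submodule.subset_span ⟨i, rfl⟩))

/-- The first order is `0` for a map not proportional to its pullback. -/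
lemma zero_mem_orders {τ : K →ₐ[k] K} {s : K} {H : K →ₐ[k] K⟦X⟧} (hH : LocRes.IsHasseFamily s H)
    (hφ : ∀ i, φ i ≠ 0) {J : Fin n → ℕ} (hJ : IsOrders K (hcol τ H φ) J)
    (hτ : ¬ ∃ y : K, ∀ i, τ (φ i) = y * φ i) : (0 : ℕ) ∈ Set.range J := by
  rw [hJ.2]
  intro hmem
  have himg : hcol τ H φ '' Set.Iio 1 = {hcol τ H φ 0} := by
    rw [show Set.Iio (1 : ℕ) = {0} by ext x; simp, Set.image_singleton]
  obtain ⟨c, hc⟩ := Submodule.mem_span_singleton.1 (himg ▸ hmem)
  have hc0 : c ≠ 0 := fun h => by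
    have := congrFun hc 0
    rw [h, zero_smul] at this
    exact hφ 0 ((hasseD_zero hH (φ 0)).symm.trans this.symm)
  refine hτ ⟨c⁻¹, fun i => ?_⟩
  have := congrFun hc i
  simp only [Pi.smul_apply, smul_eq_mul, hcol, hasseD_zero hH] at this
  rw [eq_inv_mul_iff_mul_eq₀ hc0, this]

lemma eq_id_of_ratio {τ : K →ₐ[k] K} (h0 : φ 0 ≠ 0)
    (hbir : IntermediateField.adjoin k (Set.range fun i => φ i / φ 0) = ⊤)
    (h : ∃ y : K, ∀ i, τ (φ i) = y * φ i) : τ = AlgHom.id k K := by
  obtain ⟨y, hy⟩ := h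
  have hy0 : y ≠ 0 := fun h => h0 ((map_eq_zero τ).1 (by rw [hy 0, h, zero_mul]))
  have hfix : ∀ z ∈ IntermediateField.adjoin k (Set.range fun i => φ i / φ 0), τ z = z := by
    intro z hz
    induction hz using IntermediateField.adjoin_induction with
    | mem x hx =>
      obtain ⟨i, rfl⟩ := hx
      simp only [map_div₀, hy, mul_div_mul_left _ _ hy0]
    | algebraMap c => exact τ.commutes c
    | add a b _ _ ha hb => rw [map_add, ha, hb]
    | inv a _ ha => rw [map_inv₀, ha]
    | mul a b _ _ ha hb => rw [map_mul, ha, hb]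
  exact AlgHom.ext fun z => hfix z (hbir ▸ IntermediateField.mem_top)

end Groth.Agent.FF
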