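/-
Existence of the total Hasse derivative for a separating element.
-/
import Groth.Agent.L26.FF.Diff
import Groth.Agent.L26.Res.Sep
import Mathlib.RingTheory.Henselian
import Mathlib.FieldTheory.RatFunc.AsPolynomial
import Mathlib.FieldTheory.PrimitiveElement

open IntermediateField Polynomial
open scoped PowerSeries

universe u v

namespace Groth.Agent.FF

open FunFld

lemma mem_spanX_pow {R : Type*} [CommRing R] {n : ℕ} {f : R⟦X⟧} :
    f ∈ (Ideal.span {(PowerSeries.X : R⟦X⟧)}) ^ n ↔ ∀ i < n, PowerSeries.coeff i f = 0 := by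
  rw [Ideal.span_singleton_pow, Ideal.mem_span_singleton, PowerSeries.X_pow_dvd_iff]

instance isAdicComplete_powerSeries (R : Type*) [CommRing R] :
    IsAdicComplete (Ideal.span {(PowerSeries.X : R⟦X⟧)}) R⟦X⟧ where
  haus' f hf := by
    refine PowerSeries.ext fun i => ?_
    have h := hf (i + 1)
    rw [SModEq.sub_mem, sub_zero, smul_eq_mul, Ideal.mul_top, mem_spanX_pow] at h
    rw [map_zero]
    exact h i (Nat.lt_succ_self i)
  prec' f hf := by
    refine ⟨PowerSeries.mk fun i => PowerSeries.coeff i (f (i + 1)), fun n => ?_⟩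
    rw [SModEq.sub_mem, smul_eq_mul, Ideal.mul_top, mem_spanX_pow]
    intro i hi
    have h := hf (m := i + 1) (n := n) (Nat.succ_le_of_lt hi)
    rw [SModEq.sub_mem, smul_eq_mul, Ideal.mul_top, mem_spanX_pow] at h
    have h1 := h i (Nat.lt_succ_self i)
    rw [map_sub] at h1 ⊢
    rw [PowerSeries.coeff_mk]
    exact neg_eq_zero.1 (by rw [neg_sub]; exact h1)

variable {k : Type u} {K : Type v} [Field k] [Field K] [Algebra k K]

lemma exists_hasse_of_separable {x : K} (hx : Transcendental k x) [FiniteDimensional k⟮x⟯ K]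
    [Algebra.IsSeparable k⟮x⟯ K] : ∃ H : K →ₐ[k] K⟦X⟧, LocRes.IsHasseFamily x H := by
  classical
  let φ : k[X] →ₐ[k] K⟦X⟧ := aeval (PowerSeries.C x + PowerSeries.X)
  have hφ0 : ∀ p : k[X], PowerSeries.constantCoeff (φ p) = aeval x p := fun p => by
    have e : PowerSeries.constantCoeff.comp φ.toRingHom = (aeval x : k[X] →ₐ[k] K).toRingHom := by
      refine Polynomial.ringHom_ext (fun c => ?_) ?_ <;>
        simp [φ, PowerSeries.algebraMap_apply]
    exact RingHom.congr_fun e p
  have hunit : ∀ p : nonZeroDivisors k[X], IsUnit (φ p) := fun p => by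
    rw [PowerSeries.isUnit_iff_constantCoeff, hφ0, isUnit_iff_ne_zero]
    exact fun h => nonZeroDivisors.ne_zero p.2 (transcendental_iff.1 hx _ h)
  let ι : k⟮x⟯ →ₐ[k] K⟦X⟧ :=
    (IsLocalization.liftAlgHom (S := RatFunc k) (f := φ) hunit).comp
      (RatFunc.algEquivOfTranscendental x hx).symm.toAlgHom
  have hgen : ι (AdjoinSimple.gen k x) = PowerSeries.C x + PowerSeries.X := by
    show IsLocalization.lift hunit
      ((RatFunc.algEquivOfTranscendental x hx).symm (AdjoinSimple.gen k x)) = _
    rw [RatFunc.algEquivOfTranscendental_symm_gen, ← RatFunc.algebraMap_X, IsLocalization.lift_eq]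
    simp [φ]
  have hι0 : ∀ a : k⟮x⟯, PowerSeries.constantCoeff (ι a) = (a : K) := by
    intro a
    obtain ⟨b, rfl⟩ := (RatFunc.algEquivOfTranscendental x hx).surjective a
    show PowerSeries.constantCoeff (IsLocalization.liftAlgHom (S := RatFunc k) (f := φ) hunit
      ((RatFunc.algEquivOfTranscendental x hx).symm (RatFunc.algEquivOfTranscendental x hx b))) = _
    rw [AlgEquiv.symm_apply_apply]
    let g1 : RatFunc k →+* K :=
      PowerSeries.constantCoeff.comp (IsLocalization.liftAlgHom (S := RatFunc k) (f := φ) hunit).toRingHom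
    let g2 : RatFunc k →+* K :=
      (algebraMap k⟮x⟯ K).comp (RatFunc.algEquivOfTranscendental x hx : RatFunc k →+* k⟮x⟯)
    have : g1 = g2 := by
      refine IsLocalization.ringHom_ext (nonZeroDivisors k[X]) (RingHom.ext fun p => ?_)
      simp only [g1, g2, RingHom.comp_apply, AlgHom.toRingHom_eq_coe, RingHom.coe_coe,
        IsLocalization.liftAlgHom_apply]
      rw [IsLocalization.lift_eq]
      show PowerSeries.constantCoeff (φ p) = _
      rw [hφ0, RatFunc.algEquivOfTranscendental_algebraMap]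
      exact (aeval_algebraMap_apply K (AdjoinSimple.gen k x) p).symm ▸ rfl
    exact RingHom.congr_fun this b
  obtain ⟨pb⟩ : Nonempty (PowerBasis k⟮x⟯ K) := ⟨Field.powerBasisOfFiniteOfSeparable k⟮x⟯ K⟩
  set f := (minpoly k⟮x⟯ pb.gen).map ι.toRingHom with hfdef
  have hred : ∀ q : k⟮x⟯[X], PowerSeries.constantCoeff ((q.map ι.toRingHom).eval (PowerSeries.C pb.gen))
      = aeval pb.gen q := fun q => by
    rw [eval_map, hom_eval₂, PowerSeries.constantCoeff_C, aeval_def]
    exact congrArg (fun g => eval₂ g pb.gen q) (RingHom.ext hι0)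
  have hmon : f.Monic := (minpoly.monic pb.isIntegral_gen).map _
  have hev : f.eval (PowerSeries.C pb.gen) ∈ Ideal.span {(PowerSeries.X : K⟦X⟧)} := by
    rw [Ideal.mem_span_singleton, PowerSeries.X_dvd_iff, hfdef, hred, minpoly.aeval]
  have hder : IsUnit (Ideal.Quotient.mk (Ideal.span {(PowerSeries.X : K⟦X⟧)})
      (f.derivative.eval (PowerSeries.C pb.gen))) := by
    refine IsUnit.map _ ?_
    rw [PowerSeries.isUnit_iff_constantCoeff, hfdef, derivative_map, hred, isUnit_iff_ne_zero]
    exact (Algebra.IsSeparable.isSeparable k⟮x⟯ pb.gen).aeval_derivative_ne_zero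
      (minpoly.aeval _ _)
  obtain ⟨r, hr, hr0⟩ := HenselianRing.is_henselian f hmon (PowerSeries.C pb.gen) hev hder
  rw [Ideal.mem_span_singleton, PowerSeries.X_dvd_iff, map_sub, PowerSeries.constantCoeff_C,
    sub_eq_zero] at hr0
  letI : Algebra k⟮x⟯ K⟦X⟧ := ι.toRingHom.toAlgebra
  have hy : aeval r (minpoly k⟮x⟯ pb.gen) = 0 := by
    rw [aeval_def, ← eval_map]
    exact hr
  let g : K →ₐ[k⟮x⟯] K⟦X⟧ := pb.lift r hy
  have hg : ∀ a : k⟮x⟯, g (a : K) = ι a := fun a => g.commutes a
  let H : K →ₐ[k] K⟦X⟧ :=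
    { g.toRingHom with
      commutes' := fun c => by
        show g (algebraMap k K c) = _
        rw [IsScalarTower.algebraMap_apply k k⟮x⟯ K]
        exact (hg _).trans (ι.commutes c) }
  refine ⟨H, (hg (AdjoinSimple.gen k x)).trans hgen, fun z => ?_⟩
  let cc : K →ₐ[k⟮x⟯] K :=
    { PowerSeries.constantCoeff.comp g.toRingHom with
      commutes' := fun a => by
        show PowerSeries.constantCoeff (g (a : K)) = _
        rw [hg, hι0]
        rfl }
  have : cc = AlgHom.id k⟮x⟯ K := pb.algHom_ext (by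
    show PowerSeries.constantCoeff (g pb.gen) = pb.gen
    rw [show g pb.gen = r from pb.lift_gen r hy, hr0])
  exact AlgHom.congr_fun this z

theorem exists_hasse_family [IsAlgClosed k] (hK : IsFunctionField k K) :
    ∃ (s : K) (H : K →ₐ[k] K⟦X⟧), LocRes.IsHasseFamily s H := by
  obtain ⟨x, hx, hsep⟩ := Res.exists_separating hK isGeometric_algClosed
  haveI := finite_over_adjoin hK.1 hx
  exact ⟨x, exists_hasse_of_separable hx⟩

end Groth.Agent.FF
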