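/-
Sums of gap numbers and of orders of `L(mP)` at `P`.
-/
import Groth.Agent.L26.FF.Family
import Groth.Agent.L26.FF.Clifford
import Groth.Agent.L26.FF.RR
import Groth.Agent.S11063

open WithZero
open scoped PowerSeries

namespace Groth.Agent.FF

open FunFld

lemma sum_le_sq_of_card_le (c : ℕ) : ∀ S : Finset ℕ, S.card = c →
    (∀ l, 1 ≤ l → l ≤ c → l ≤ (S.filter fun a => a ≤ 2 * l - 1).card) → ∑ a ∈ S, a ≤ c ^ 2 := by
  induction c with
  | zero => intro S hS _; simp [Finset.card_eq_zero.1 hS]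
  | succ c ih =>
    intro S hS h
    have hne : S.Nonempty := Finset.card_pos.1 (by omega)
    have hmem := S.max'_mem hne
    have hmax : S.max' hne ≤ 2 * (c + 1) - 1 := by
      have h1 := h (c + 1) (by omega) le_rfl
      have h2 : (S.filter fun a => a ≤ 2 * (c + 1) - 1) = S :=
        Finset.eq_of_subset_of_card_le (Finset.filter_subset _ _) (by omega)
      exact (Finset.mem_filter.1 ((Finset.ext_iff.1 h2 _).2 hmem)).2
    have h3 := ih (S.erase (S.max' hne)) (by rw [Finset.card_erase_of_mem hmem]; omega) fun l hl hlc => by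
      by_cases hm : S.max' hne ≤ 2 * l - 1
      · rw [Finset.filter_true_of_mem (fun a ha => (S.le_max' a (Finset.mem_of_mem_erase ha)).trans hm),
          Finset.card_erase_of_mem hmem]
        omega
      · refine (h l hl (by omega)).trans (Finset.card_le_card fun a ha => ?_)
        rw [Finset.mem_filter] at ha ⊢
        exact ⟨Finset.mem_erase.2 ⟨fun e => hm (e ▸ ha.2), ha.1⟩, ha.2⟩
    rw [← Finset.add_sum_erase _ _ hmem]
    have : (c + 1) ^ 2 = c ^ 2 + 2 * c + 1 := by ring
    omega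

variable {k K : Type*} [Field k] [IsAlgClosed k] [Field K] [Algebra k K]

/-- The orders of a normalised basis of `L(mP)` at `P`. -/
lemma orders_sum_le (hK : IsFunctionField k K) (P : Place k K) {m n : ℕ}
    (hm : 2 * genus k K ≤ m + 1) (hn : n + genus k K = m) {y : K} (hy : y ≠ 0)
    (heff : ∃ g ∈ L (Finsupp.single P (m : ℤ)), y * g = 1) {J' : Fin n → ℕ} (hJ' : StrictMono J')
    (hord : ∀ l, ∃ g ∈ L (Finsupp.single P (m : ℤ)), P.1 (y * g) = exp (-(J' l : ℤ))) :
    2 * ∑ l, (J' l : ℤ) ≤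
      2 * n * m - m * (m + 1) + 2 * (genus k K : ℤ) ^ 2 + 2 * m := by
  classical
  let Gp := (Finset.Icc 1 m).filter fun p : ℕ =>
    L (Finsupp.single P (p : ℤ)) = (L (Finsupp.single P ((p : ℤ) - 1)) : Submodule k K)
  have hset : ∀ N ≤ m, {p : ℕ | 1 ≤ p ∧ p ≤ N ∧
      L (Finsupp.single P (p : ℤ)) = (L (Finsupp.single P ((p : ℤ) - 1)) : Submodule k K)} =
      ↑(Gp.filter fun p => p ≤ N) := fun N hN => by
    ext p
    simp only [Gp, Set.mem_ofPred_eq, Finset.coe_filter, Finset.mem_filter, Finset.mem_Icc]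
    constructor
    · exact fun ⟨a, b, c⟩ => ⟨⟨⟨a, b.trans hN⟩, c⟩, b⟩
    · exact fun ⟨⟨⟨a, _⟩, c⟩, b⟩ => ⟨a, b, c⟩
  have hcard : Gp.card = genus k K := by
    have h := ell_single_eq hK P m
    rw [hset m le_rfl, Set.ncard_coe_finset,
      Finset.filter_true_of_mem fun p hp => (Finset.mem_Icc.1 (Finset.mem_filter.1 hp).1).2] at h
    have h2 := ell_eq_of_deg_ge hK (D := Finsupp.single P (m : ℤ))
      (by rw [deg_single, deg_eq_one hK P, Nat.cast_one, mul_one]; omega)
    rw [deg_single, deg_eq_one hK P, Nat.cast_one, mul_one] at h2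
    show ((Finset.Icc 1 m).filter _).card = _
    omega
  have hG : ∑ p ∈ Gp, p ≤ genus k K ^ 2 := by
    refine sum_le_sq_of_card_le _ _ hcard fun l hl hlg => ?_
    have h := Groth.Agent.S11063.result k K hK P l hl hlg
    rwa [hset (2 * l - 1) (by omega), Set.ncard_coe_finset] at h
  -- pole numbers
  have hpole : ∀ g ∈ L (Finsupp.single P (m : ℤ)), g ≠ 0 →
      ∃ p : ℕ, P.ord g = -(p : ℤ) ∧ p ∈ Finset.range (m + 1) \ Gp := by
    intro g hg hg0
    have hg' := (mem_L_iff_ord hg0).1 hg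
    have hP := hg' P
    simp only [Finsupp.single_eq_same] at hP
    have hle : P.ord g ≤ 0 := by
      by_contra hlt
      have h0 : g ∈ L (Finsupp.single P (-1 : ℤ)) := (mem_L_iff_ord hg0).2 fun Q => by
        by_cases hQ : Q = P
        · subst hQ; simp only [Finsupp.single_eq_same]; omega
        · have := hg' Q
          simp only [Finsupp.single_eq_of_ne hQ] at this ⊢
          exact this
      have h1 : 0 < ell (Finsupp.single P (-1 : ℤ) : Divisor k K) := by
        haveI := finite_L hK.1 (Finsupp.single P (-1 : ℤ))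
        exact Module.finrank_pos_iff_exists_ne_zero.2 ⟨⟨g, h0⟩, fun h => hg0 (congrArg Subtype.val h)⟩
      have h2 := deg_nonneg_of_ell_pos hK h1
      rw [deg_single, deg_eq_one hK P] at h2
      omega
    refine ⟨(-P.ord g).toNat, by omega, Finset.mem_sdiff.2 ⟨Finset.mem_range.2 (by omega), ?_⟩⟩
    intro hp
    obtain ⟨hp1, hp2⟩ := Finset.mem_filter.1 hp
    rw [Finset.mem_Icc] at hp1
    have h0 : g ∈ L (Finsupp.single P (((-P.ord g).toNat : ℕ) : ℤ)) := (mem_L_iff_ord hg0).2 fun Q => by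
      by_cases hQ : Q = P
      · subst hQ; simp only [Finsupp.single_eq_same]; omega
      · have := hg' Q
        simp only [Finsupp.single_eq_of_ne hQ] at this ⊢
        exact this
    rw [hp2] at h0
    have := (mem_L_iff_ord hg0).1 h0 P
    simp only [Finsupp.single_eq_same] at this
    omega
  obtain ⟨g₀, hg₀, hyg⟩ := heff
  have hg₀0 : g₀ ≠ 0 := fun h => by rw [h, mul_zero] at hyg; exact zero_ne_one hyg
  obtain ⟨p₀, hp₀, hp₀m⟩ := hpole g₀ hg₀ hg₀0
  have hM : P.ord y = (p₀ : ℤ) := by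
    have h := ord_mul P hy hg₀0
    rw [hyg, show P.ord (1 : K) = 0 from (val_eq_one_iff P one_ne_zero).1 (map_one _), hp₀] at h
    omega
  have hp₀m' : p₀ ≤ m := by
    have := Finset.mem_range.1 (Finset.mem_sdiff.1 hp₀m).1; omega
  choose g hg hgv using hord
  have hg0 : ∀ l, g l ≠ 0 := fun l h => by
    have := hgv l
    rw [h, mul_zero, map_zero] at this
    exact exp_ne_zero this.symm
  choose p hp hpm using fun l => hpole (g l) (hg l) (hg0 l)
  have hpJ : ∀ l, (J' l : ℤ) = (p₀ : ℤ) - p l := fun l => by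
    have h := ord_eq_of_val P (hgv l)
    rw [ord_mul P hy (hg0 l), hM, hp l] at h
    omega
  have hinj : Function.Injective p := fun a b h => hJ'.injective (by
    have := hpJ a; have := hpJ b; rw [h] at *; omega)
  let C := Finset.range (m + 1) \ Gp
  let I := Finset.univ.image p
  have hI : I ⊆ C := Finset.image_subset_iff.2 fun l _ => hpm l
  have hC : C.card = n + 1 := by
    rw [Finset.card_sdiff_of_subset, Finset.card_range, hcard]
    · omega
    · intro q hq
      have := (Finset.mem_Icc.1 (Finset.mem_filter.1 hq).1).2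
      exact Finset.mem_range.2 (by omega)
  have hsumC : 2 * (∑ q ∈ C, q) + 2 * (∑ q ∈ Gp, q) = m * (m + 1) := by
    rw [← mul_add, Finset.sum_sdiff (fun q hq => ?_), mul_comm 2, Finset.sum_range_id_mul_two,
      Nat.add_sub_cancel, mul_comm]
    have := (Finset.mem_Icc.1 (Finset.mem_filter.1 hq).1).2
    exact Finset.mem_range.2 (by omega)
  have hIsum : ∑ q ∈ I, q = ∑ l, p l := Finset.sum_image fun a _ b _ h => hinj h
  have hrest : ∑ q ∈ C \ I, q ≤ m := by
    obtain ⟨q, hq⟩ : ∃ q, C \ I = {q} := Finset.card_eq_one.1 (by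
      rw [Finset.card_sdiff_of_subset hI, hC, Finset.card_image_of_injective _ hinj, Finset.card_univ,
        Fintype.card_fin]
      omega)
    rw [hq, Finset.sum_singleton]
    have : q ∈ C := (Finset.mem_sdiff.1 (hq ▸ Finset.mem_singleton_self q : q ∈ C \ I)).1
    have := Finset.mem_range.1 (Finset.mem_sdiff.1 this).1
    omega
  have hsplit := Finset.sum_sdiff (f := fun q => q) hI
  have hsumJ : ∑ l, (J' l : ℤ) = n * (p₀ : ℤ) - ((∑ l, p l : ℕ) : ℤ) := by
    rw [Nat.cast_sum, Finset.sum_congr rfl fun l _ => hpJ l, Finset.sum_sub_distrib]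
    simp
  rw [hsumJ]
  have hnm : (n : ℤ) * p₀ ≤ n * m := mul_le_mul_of_nonneg_left (by exact_mod_cast hp₀m') (by positivity)
  have hG' : ((∑ q ∈ Gp, q : ℕ) : ℤ) ≤ (genus k K : ℤ) ^ 2 := by exact_mod_cast hG
  have hC' : 2 * ((∑ q ∈ C, q : ℕ) : ℤ) + 2 * ((∑ q ∈ Gp, q : ℕ) : ℤ) = (m : ℤ) * (m + 1) := by
    exact_mod_cast hsumC
  have hs' : ((∑ q ∈ C \ I, q : ℕ) : ℤ) + ((∑ q ∈ I, q : ℕ) : ℤ) = ((∑ q ∈ C, q : ℕ) : ℤ) := by
    exact_mod_cast hsplit
  rw [hIsum] at hs'
  have hr' : ((∑ q ∈ C \ I, q : ℕ) : ℤ) ≤ m := by exact_mod_cast hrest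
  rw [show (2 : ℤ) * n * m = 2 * (n * m) by ring]
  linarith

end Groth.Agent.FF
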