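/-
Weierstrass places: gap sums, automorphisms.
-/
import Groth.Agent.L26.FF.GapSum
import Groth.Agent.L26.FF.DiffUse
import Groth.Agent.S11047
import Groth.Agent.S12609

open WithZero IntermediateField
open scoped PowerSeries

namespace Groth.Agent.FF

open FunFld
open Groth.Agent.S11047 (autPlace autPlace_eq_of_fixed)

lemma sum_add_one_le_sq (c : ℕ) : 2 ≤ c → ∀ S : Finset ℕ, S.card = c →
    (∀ l, 1 ≤ l → l ≤ c → l ≤ (S.filter fun a => a ≤ 2 * l - 1).card) → 2 ∈ S →
    ∑ a ∈ S, a + 1 ≤ c ^ 2 := by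
  intro hc
  induction c, hc using Nat.le_induction with
  | base =>
    intro S hS h h2
    have h1 := h 1 le_rfl (by norm_num)
    have h3 := h 2 (by norm_num) le_rfl
    have hT : S.filter (fun a => a ≤ 2 * 2 - 1) = S :=
      Finset.eq_of_subset_of_card_le (Finset.filter_subset _ _) (by omega)
    obtain ⟨a, ha⟩ := Finset.card_pos.1 (show 0 < (S.filter fun a => a ≤ 2 * 1 - 1).card by omega)
    rw [Finset.mem_filter] at ha
    have e : S = {a, 2} := (Finset.eq_of_subset_of_card_le
      (Finset.insert_subset ha.1 (Finset.singleton_subset_iff.2 h2))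
      (by rw [Finset.card_pair (by omega)]; omega)).symm
    rw [e, Finset.sum_pair (by omega)]
    have := ha.2
    omega
  | succ c hc ih =>
    intro S hS h h2
    have hne : S.Nonempty := ⟨2, h2⟩
    have hmem := S.max'_mem hne
    have hT : S.filter (fun a => a ≤ 2 * (c + 1) - 1) = S :=
      Finset.eq_of_subset_of_card_le (Finset.filter_subset _ _) (by have := h (c + 1) (by omega) le_rfl; omega)
    have hmax : S.max' hne ≤ 2 * (c + 1) - 1 := (Finset.mem_filter.1 ((Finset.ext_iff.1 hT _).2 hmem)).2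
    by_cases hne2 : S.max' hne = 2
    · have hsub : S ⊆ Finset.range 3 := fun x hx => by
        have := S.le_max' x hx
        rw [Finset.mem_range]; omega
      have h3 := Finset.sum_le_sum_of_subset (f := fun a => a) hsub
      simp only [Finset.sum_range_succ, Finset.sum_range_zero] at h3
      have : 9 ≤ (c + 1) ^ 2 := by nlinarith
      omega
    have h3 := ih (S.erase (S.max' hne)) (by rw [Finset.card_erase_of_mem hmem]; omega) (fun l hl hlc => by
      by_cases hm : S.max' hne ≤ 2 * l - 1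
      · rw [Finset.filter_true_of_mem (fun a ha => (S.le_max' a (Finset.mem_of_mem_erase ha)).trans hm),
          Finset.card_erase_of_mem hmem]
        omega
      · refine (h l hl (by omega)).trans (Finset.card_le_card fun a ha => ?_)
        rw [Finset.mem_filter] at ha ⊢
        exact ⟨Finset.mem_erase.2 ⟨fun e => hm (e ▸ ha.2), ha.1⟩, ha.2⟩)
      (Finset.mem_erase.2 ⟨Ne.symm hne2, h2⟩)
    rw [← Finset.add_sum_erase _ _ hmem]
    have : (c + 1) ^ 2 = c ^ 2 + 2 * c + 1 := by ring
    omega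

variable {k K : Type*} [Field k] [IsAlgClosed k] [Field K] [Algebra k K]

open scoped Classical in
/-- The gap numbers at `P`. -/
noncomputable def gaps (P : Place k K) : Finset ℕ :=
  (Finset.Icc 1 (2 * genus k K)).filter fun p : ℕ =>
    L (Finsupp.single P (p : ℤ)) = (L (Finsupp.single P ((p : ℤ) - 1)) : Submodule k K)

lemma mem_gaps {P : Place k K} {p : ℕ} : p ∈ gaps P ↔ (1 ≤ p ∧ p ≤ 2 * genus k K) ∧
    L (Finsupp.single P (p : ℤ)) = (L (Finsupp.single P ((p : ℤ) - 1)) : Submodule k K) := by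
  rw [gaps, Finset.mem_filter, Finset.mem_Icc]

lemma gap_le (hK : IsFunctionField k K) {P : Place k K} {p : ℕ} (hp : 1 ≤ p)
    (h : L (Finsupp.single P (p : ℤ)) = (L (Finsupp.single P ((p : ℤ) - 1)) : Submodule k K)) :
    p + 1 ≤ 2 * genus k K := by
  by_contra hc
  have h1 := ell_eq_of_deg_ge hK (D := Finsupp.single P (p : ℤ))
    (by rw [deg_single, deg_eq_one hK P, Nat.cast_one, mul_one]; omega)
  have h2 := ell_eq_of_deg_ge hK (D := Finsupp.single P ((p : ℤ) - 1))
    (by rw [deg_single, deg_eq_one hK P, Nat.cast_one, mul_one]; omega)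
  rw [deg_single, deg_eq_one hK P, Nat.cast_one, mul_one] at h1 h2
  have h3 : ell (Finsupp.single P (p : ℤ)) = ell (Finsupp.single P ((p : ℤ) - 1) : Divisor k K) := by
    simp only [ell]; rw [h]
  omega

lemma gaps_set (hK : IsFunctionField k K) (P : Place k K) (N : ℕ) :
    {p : ℕ | 1 ≤ p ∧ p ≤ N ∧
      L (Finsupp.single P (p : ℤ)) = (L (Finsupp.single P ((p : ℤ) - 1)) : Submodule k K)} =
      ↑((gaps P).filter fun p => p ≤ N) := by
  ext p
  simp only [Set.mem_ofPred_eq, Finset.coe_filter, mem_gaps]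
  exact ⟨fun ⟨a, b, c⟩ => ⟨⟨⟨a, by have := gap_le hK a c; omega⟩, c⟩, b⟩, fun ⟨⟨⟨a, _⟩, c⟩, b⟩ => ⟨a, b, c⟩⟩

lemma gaps_card (hK : IsFunctionField k K) (P : Place k K) : (gaps P).card = genus k K := by
  have h := ell_single_eq hK P (2 * genus k K)
  rw [gaps_set hK, Set.ncard_coe_finset, Finset.filter_true_of_mem fun p hp => (mem_gaps.1 hp).1.2] at h
  have h2 := ell_eq_of_deg_ge hK (D := Finsupp.single P ((2 * genus k K : ℕ) : ℤ))
    (by rw [deg_single, deg_eq_one hK P, Nat.cast_one, mul_one]; omega)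
  rw [deg_single, deg_eq_one hK P, Nat.cast_one, mul_one] at h2
  omega

lemma gaps_filter (hK : IsFunctionField k K) (P : Place k K) :
    ∀ l, 1 ≤ l → l ≤ genus k K → l ≤ ((gaps P).filter fun a => a ≤ 2 * l - 1).card := fun l hl hlg => by
  have h := Groth.Agent.S11063.result k K hK P l hl hlg
  rwa [gaps_set hK, Set.ncard_coe_finset] at h

lemma gaps_sum_le (hK : IsFunctionField k K) (P : Place k K) :
    ∑ p ∈ gaps P, p ≤ genus k K ^ 2 := sum_le_sq_of_card_le _ _ (gaps_card hK P) (gaps_filter hK P)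

lemma gaps_sum_eq (hK : IsFunctionField k K) (hg : 2 ≤ genus k K) (P : Place k K)
    (h : ∑ p ∈ gaps P, p = genus k K ^ 2) :
    ∃ x : K, x ∈ L (Finsupp.single P (2 : ℤ)) ∧ x ≠ 0 ∧ P.ord x = -2 := by
  by_contra hc
  have h2 : (2 : ℕ) ∈ gaps P := mem_gaps.2 ⟨⟨by norm_num, by omega⟩, (gap_iff hK P (by norm_num)).2 fun ⟨z, hz, hz0, ho⟩ =>
    hc ⟨z, by simpa using hz, hz0, by simpa using ho⟩⟩
  have := sum_add_one_le_sq _ hg _ (gaps_card hK P) (gaps_filter hK P) h2
  omega

/-! ### Automorphisms -/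

lemma isFixedPt_iff (σ : K ≃ₐ[k] K) (P : Place k K) :
    IsFixedPt (σ : K →ₐ[k] K) P ↔ autPlace σ P = P := by
  refine ⟨autPlace_eq_of_fixed σ P, fun h z hz => ?_⟩
  have h1 : P.1 (σ z) = P.1 z := congrArg (fun R : Place k K => R.1 z) h
  show P.1 (σ z) < 1
  rwa [h1]

omit [IsAlgClosed k] in
lemma autPlace_trans (σ τ : K ≃ₐ[k] K) (Q : Place k K) :
    autPlace (σ.trans τ) Q = autPlace σ (autPlace τ Q) := Subtype.ext (Valuation.ext fun _ => rfl)

omit [IsAlgClosed k] in
lemma autPlace_refl (Q : Place k K) : autPlace AlgEquiv.refl Q = Q := Subtype.ext (Valuation.ext fun _ => rfl)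

omit [IsAlgClosed k] in
lemma autPlace_symm (σ : K ≃ₐ[k] K) (Q : Place k K) : autPlace σ (autPlace σ.symm Q) = Q :=
  Subtype.ext (Valuation.ext fun x => congrArg Q.1 (σ.symm_apply_apply x))

omit [IsAlgClosed k] in
lemma autPlace_symm' (σ : K ≃ₐ[k] K) (Q : Place k K) : autPlace σ.symm (autPlace σ Q) = Q :=
  Subtype.ext (Valuation.ext fun x => congrArg Q.1 (σ.apply_symm_apply x))

omit [IsAlgClosed k] in
lemma mem_L_autPlace (σ : K ≃ₐ[k] K) (P : Place k K) (m : ℤ) (x : K) :
    x ∈ L (Finsupp.single (autPlace σ P) m) ↔ σ x ∈ L (Finsupp.single P m) := by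
  classical
  rw [mem_L, mem_L]
  constructor
  · intro h Q
    have h1 := h (autPlace σ Q)
    simp only [Finsupp.single_apply] at h1 ⊢
    by_cases hQ : P = Q
    · subst hQ
      rw [if_pos rfl] at h1 ⊢
      exact h1
    · rw [if_neg hQ]
      rwa [if_neg fun e => hQ (by rw [← autPlace_symm' σ P, e, autPlace_symm'])] at h1
  · intro h Q
    have h1 := h (autPlace σ.symm Q)
    have e1 : (autPlace σ.symm Q).1 (σ x) = Q.1 x := congrArg Q.1 (σ.symm_apply_apply x)
    rw [e1] at h1
    simp only [Finsupp.single_apply] at h1 ⊢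
    by_cases hQ : autPlace σ P = Q
    · subst hQ
      rw [autPlace_symm', if_pos rfl] at h1
      rwa [if_pos rfl]
    · rw [if_neg hQ]
      rwa [if_neg fun e => hQ (by rw [e, autPlace_symm])] at h1

lemma gaps_autPlace (σ : K ≃ₐ[k] K) (P : Place k K) : gaps (autPlace σ P) = gaps P := by
  ext p
  have e : ∀ m : ℤ, (L (Finsupp.single (autPlace σ P) m) : Submodule k K) =
      (L (Finsupp.single P m)).comap (σ : K →ₐ[k] K).toLinearMap := fun m =>
    Submodule.ext fun x => mem_L_autPlace σ P m x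
  rw [mem_gaps, mem_gaps, e, e, (Submodule.comap_injective_of_surjective σ.surjective).eq_iff]

/-! ### The canonical Weierstrass divisor -/

variable {n : ℕ} {C : Divisor k K} {φ : Fin (n + 1) → K} {s : K} {H : K →ₐ[k] K⟦X⟧} {J : Fin n → ℕ}
  {Φ : Place k K → (K →ₐ[k] LaurentSeries k)}

lemma mapDiv_canonical (hK : IsFunctionField k K) (hC : IsCanonical k K C) (hg : 0 < genus k K)
    (hφ : LinearIndependent k φ) (hspan : Submodule.span k (Set.range φ) = L C) : mapDiv k φ = C := by
  classical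
  refine le_antisymm ((mapDiv_le_iff hK.1 hφ.ne_zero).2 fun i => hspan ▸ Submodule.subset_span ⟨i, rfl⟩)
    fun P => ?_
  by_contra hc
  have hle : L C ≤ L (C - Finsupp.single P 1) := fun z hz => by
    rcases eq_or_ne z 0 with rfl | hz0
    · exact zero_mem _
    have h1 := (mem_L_iff_ord hz0).1 hz
    have h2 := (mem_L_iff_ord hz0).1 (span_le_L_mapDiv hK.1 hφ.ne_zero (hspan.symm ▸ hz)) P
    refine (mem_L_iff_ord hz0).2 fun Q => ?_
    rw [Finsupp.sub_apply, Finsupp.single_apply]
    split_ifs with hQ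
    · subst hQ; omega
    · have := h1 Q; omega
  have := finite_L hK.1 (C - Finsupp.single P 1)
  have h3 : ell C ≤ ell (C - Finsupp.single P 1) := Submodule.finrank_mono hle
  have h4 := riemann_roch hK hC (Finsupp.single P (1 : ℤ))
  rw [deg_single, deg_eq_one hK P, ell_single_one hK hg P] at h4
  rw [(ell_canonical hK hC).1] at h3
  push_cast at h4
  omega

lemma binom_succ_det_ne_zero' {J : Fin n → ℕ} (hJ : StrictMono J) (h1 : ∀ l, 1 ≤ J l)
    (hp : ∀ l, ∀ p : ℕ, p.Prime → (p : k) = 0 → J l < p) :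
    (binomMat k J fun l : Fin n => (l : ℕ) + 1).det ≠ 0 := by
  rcases Nat.eq_zero_or_pos n with rfl | hn
  · simp
  let a : Fin (n + 1) → ℕ := Fin.cases 0 J
  have ha : Function.Injective a := by
    intro x z
    rcases Fin.eq_zero_or_eq_succ x with rfl | ⟨x, rfl⟩ <;>
      rcases Fin.eq_zero_or_eq_succ z with rfl | ⟨z, rfl⟩ <;>
      intro h
    · rfl
    · have := h1 z
      change 0 = J z at h
      omega
    · have := h1 x
      change J x = 0 at h
      omega
    · change J x = J z at h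
      rw [hJ.injective h]
  have hn' : ∀ (l : ℕ) (hl : l < n), l + 1 ≤ J ⟨l, hl⟩ := by
    intro l hl
    induction l with
    | zero => exact h1 _
    | succ l ih => exact (Nat.succ_le_succ (ih (by omega))).trans (hJ (show (⟨l, by omega⟩ : Fin n) < ⟨l + 1, hl⟩ from Nat.lt_succ_self l))
  have h2 := det_binom_consecutive (R := k) a ha (J ⟨n - 1, by omega⟩)
    (Fin.cases (Nat.zero_le _)
      fun r => hJ.monotone (show r ≤ (⟨n - 1, _⟩ : Fin n) from Nat.le_sub_one_of_lt r.2))
    (by have := hn' (n - 1) (by omega); omega) (fun p hp' hpk => hp _ p hp' hpk)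
  rw [Matrix.det_succ_row_zero, Fin.sum_univ_succ, Finset.sum_eq_zero, add_zero] at h2
  · have e : (binomMat k a fun s : Fin (n + 1) => (s : ℕ)).submatrix Fin.succ (0 : Fin (n + 1)).succAbove =
        binomMat k J fun l : Fin n => (l : ℕ) + 1 := by
      ext i l
      simp [binomMat, a]
    rw [e] at h2
    exact fun h0 => h2 (by rw [h0, mul_zero])
  · intro l _
    simp [binomMat, a]

/-- The Weierstrass divisor in terms of gaps, and the classical orders. -/
theorem canonical_wDiv (hK : IsFunctionField k K) (hg : 0 < genus k K)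
    (hchar : ringChar k = 0 ∨ 2 * genus k K - 2 < ringChar k) (hC : IsCanonical k K C)
    (hφ : LinearIndependent k φ) (hspan : Submodule.span k (Set.range φ) = L C)
    (hH : LocRes.IsHasseFamily s H) (hJ : IsOrders K (hcol (AlgHom.id k K) H φ) J)
    (hΦ : ∀ P, LocRes.IsExpansionAt P.1 (Φ P)) (P : Place k K) :
    (n + 1 = genus k K ∧ ∀ l : Fin n, J l = (l : ℕ) + 1) ∧
    2 * wDiv (AlgHom.id k K) H Φ s φ J P =
      2 * (∑ p ∈ gaps P, (p : ℤ)) - (genus k K : ℤ) * (genus k K + 1) := by
  classical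
  have hn : n + 1 = genus k K := by
    rw [← (ell_canonical hK hC).1]
    show n + 1 = Module.finrank k (L C)
    rw [← hspan, finrank_span_eq_card hφ, Fintype.card_fin]
  obtain ⟨t, Ht, ht, hHt⟩ := exists_local hK hH P
  obtain ⟨y, hy, hyφ, heff, hnorm, hM, -⟩ := exists_normalised hK hφ P
  have hφ0 : φ ≠ 0 := fun h => hφ.ne_zero 0 (congrFun h 0)
  obtain ⟨hJt, -⟩ := det_variable hK hH hHt hφ0 hJ
  obtain ⟨hJy, -⟩ := det_scale hHt hφ0 hJt hy
  obtain ⟨J', hJ'⟩ := exists_ordersAt hK ht hHt hyφ heff hnorm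
  obtain ⟨h1, -, -⟩ := adapted_basis hK hyφ heff hnorm ht hHt hJ'
  have hrange : ∀ j : ℕ, 1 ≤ j → (j ∈ Set.range J' ↔ j + 1 ∈ gaps P) := fun j hj => by
    rw [hJ'.2 j, Groth.Agent.S12609.result k K hK C hC φ hφ hspan P y hy heff hnorm t ht Ht hHt j hj,
      mem_gaps, show ((j + 1 : ℕ) : ℤ) - 1 = (j : ℤ) by push_cast; ring, Nat.cast_succ]
    exact ⟨fun h => ⟨⟨by omega, by
      have := gap_le hK (P := P) (p := j + 1) (by omega) (by push_cast; rwa [add_sub_cancel_right]); omega⟩, h⟩,
      fun h => h.2⟩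
  have h1g : (1 : ℕ) ∈ gaps P := mem_gaps.2 ⟨⟨le_rfl, by omega⟩, by
    haveI := finite_L hK.1 (Finsupp.single P ((1 : ℕ) : ℤ))
    refine (Submodule.eq_of_le_of_finrank_le (L_mono fun Q => ?_) ?_).symm
    · simp only [Finsupp.single_apply]; split_ifs <;> omega
    ·
      have e1 : ell (Finsupp.single P ((1 : ℕ) : ℤ) : Divisor k K) = 1 := by
        rw [Nat.cast_one]; exact ell_single_one hK hg P
      have e0 : ell (Finsupp.single P (((1 : ℕ) : ℤ) - 1) : Divisor k K) = 1 := by
        rw [Nat.cast_one, sub_self, Finsupp.single_zero, ell_zero hK]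
      simp only [ell] at e0 e1
      omega⟩
  have hmapset : (gaps P).erase 1 = Finset.univ.image fun l => J' l + 1 := by
    ext p
    simp only [Finset.mem_erase, Finset.mem_image, Finset.mem_univ, true_and]
    constructor
    · rintro ⟨hp1, hp⟩
      have hp0 := (mem_gaps.1 hp).1.1
      obtain ⟨l, hl⟩ := (hrange (p - 1) (by omega)).2 (by rwa [show p - 1 + 1 = p by omega])
      exact ⟨l, by omega⟩
    · rintro ⟨l, rfl⟩
      exact ⟨by have := h1 l; omega, (hrange _ (h1 l)).1 ⟨l, rfl⟩⟩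
  have hsum : (∑ p ∈ gaps P, (p : ℤ)) = 1 + ∑ l, ((J' l : ℤ) + 1) := by
    rw [← Finset.add_sum_erase _ _ h1g, hmapset, Finset.sum_image fun a _ b _ h => hJ'.1.injective (by simpa using h)]
    push_cast
    ring
  have hJ'le : ∀ l, J' l + 2 ≤ 2 * genus k K := fun l => by
    have h := mem_gaps.1 ((hrange _ (h1 l)).1 ⟨l, rfl⟩)
    have := gap_le hK h.1.1 h.2
    omega
  have hp : ∀ l, ∀ p : ℕ, p.Prime → (p : k) = 0 → J' l < p := fun l p hp hpk => by
    have := hJ'le l
    have hdvd := (ringChar.spec k p).1 hpk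
    rcases hchar with h0' | hlt
    · rw [h0', zero_dvd_iff] at hdvd
      exact absurd hdvd hp.ne_zero
    · rcases hp.eq_one_or_self_of_dvd _ hdvd with h | h
      · exact absurd h CharP.ringChar_ne_one
      · omega
  have hfix : IsFixedPt (AlgHom.id k K) P := fun z hz => hz
  have hI : StrictMono fun l : Fin n => (l : ℕ) + 1 := fun a b h => Nat.succ_lt_succ h
  have hval := ((wr_at_fixed hK hfix hyφ heff hnorm ht hHt hJ' fun l : Fin n => (l : ℕ) + 1).2
      (Or.inl fun l => Nat.succ_pos _)).2 (binom_succ_det_ne_zero' hJ'.1 h1 hp)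
  have hne : (wrMat (AlgHom.id k K) Ht (y • φ) fun l : Fin n => (l : ℕ) + 1).det ≠ 0 := fun h0 => by
    rw [h0, map_zero] at hval
    exact exp_ne_zero hval.symm
  have hne' := hne
  rw [wrMat_eq] at hne'
  have hc0 := hcol_zero_ne (AlgHom.id k K) Ht fun h0 => hyφ.ne_zero 0 (congrFun h0 0)
  have hJle := isOrders_of_det hc0 hJy hI hne'
  have hJpos : ∀ l, 1 ≤ J l := fun l => by
    by_contra h
    refine (hJy.2 0).1 ⟨l, by omega⟩ ?_
    have e : hcol (AlgHom.id k K) Ht (y • φ) 1 = hcol (AlgHom.id k K) Ht (y • φ) 0 := funext fun i => by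
      show LocRes.hasseD Ht 0 ((y • φ) i) = _
      rw [hasseD_zero hHt]; rfl
    show hcol (AlgHom.id k K) Ht (y • φ) 1 ∈ colSpan (hcol (AlgHom.id k K) Ht (y • φ)) 1
    rw [e]
    exact mem_colSpan _ Nat.zero_lt_one
  have hJlow : ∀ (l : ℕ) (hl : l < n), l + 1 ≤ J ⟨l, hl⟩ := by
    intro l hl
    induction l with
    | zero => exact hJpos _
    | succ l ih => exact (Nat.succ_le_succ (ih (by omega))).trans (hJy.1 (show (⟨l, by omega⟩ : Fin n) < ⟨l + 1, hl⟩ from Nat.lt_succ_self l))
  have hJeq : J = fun l : Fin n => (l : ℕ) + 1 := funext fun l =>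
    le_antisymm (hJle l) (hJlow l.1 l.2)
  refine ⟨⟨hn, fun l => congrFun hJeq l⟩, ?_⟩
  rw [wDiv_apply hK hΦ hφ hH hJ ht hHt hy, hM, mapDiv_fixed_zero hK hfix hyφ.ne_zero heff hnorm, hJeq,
    ord_eq_of_val P hval, hsum]
  have h2 : ∀ m : ℕ, 2 * ∑ l : Fin m, (((l : ℕ) + 1 : ℕ) : ℤ) = (m : ℤ) * (m + 1) := fun m => by
    induction m with
    | zero => simp
    | succ m ih => rw [Fin.sum_univ_castSucc]; simp only [Fin.val_castSucc, Fin.val_last]; push_cast at ih ⊢; linarith
  have h2n := h2 n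
  simp only [Finset.sum_sub_distrib, Finset.sum_add_distrib, Finset.sum_const, Finset.card_univ,
    Fintype.card_fin, nsmul_eq_mul, mul_one, mul_zero, add_zero, neg_neg]
  rw [← hn]
  push_cast at h2n ⊢
  simp only [Finset.sum_add_distrib, Finset.sum_const, Finset.card_univ, Fintype.card_fin, nsmul_eq_mul, mul_one] at h2n ⊢
  nlinarith

/-- A function of degree two is unique up to fractional linear change. -/
lemma pencil_unique (hK : IsFunctionField k K) (hg : 2 ≤ genus k K) {P₀ P : Place k K} {x y : K}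
    (hx : x ∈ L (Finsupp.single P₀ (2 : ℤ))) (hx0 : P₀.ord x = -2)
    (hy : y ∈ L (Finsupp.single P (2 : ℤ))) : y ∈ k⟮x⟯ := by
  classical
  by_contra hyx
  have htr : Transcendental k x := transcendental_of_not_const hK (by
    rintro ⟨c, rfl⟩
    rw [ord_const] at hx0
    omega)
  have hxm : x ∈ k⟮x⟯ := mem_adjoin_simple_self k x
  set D : Divisor k K := Finsupp.single P₀ 2 + Finsupp.single P 2
  have hDd : D.deg = 4 := by rw [deg_add, deg_single, deg_single, deg_eq_one hK, deg_eq_one hK]; rfl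
  have hnn : ∀ Q : Place k K, (0 : ℤ) ≤ Finsupp.single P₀ (2 : ℤ) Q ∧ (0 : ℤ) ≤ Finsupp.single P (2 : ℤ) Q :=
    fun Q => by
      constructor <;> (rw [Finsupp.single_apply]; split_ifs <;> omega)
  rw [mem_L] at hx hy
  let v : Fin 4 → K := ![1, x, y, x * y]
  have hv : ∀ i, v i ∈ L D := by
    intro i
    rw [mem_L]
    intro Q
    simp only [D, Finsupp.add_apply]
    fin_cases i <;> simp only [v, Matrix.cons_val_zero, Matrix.cons_val_one, Matrix.cons_val,
      Fin.zero_eta, Fin.mk_one, Fin.reduceFinMk]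
    · rw [map_one, ← exp_zero, exp_le_exp]; have := hnn Q; omega
    · exact (hx Q).trans (exp_le_exp.2 (by have := hnn Q; omega))
    · exact (hy Q).trans (exp_le_exp.2 (by have := hnn Q; omega))
    · rw [map_mul, exp_add]; exact mul_le_mul' (hx Q) (hy Q)
  have hind : LinearIndependent k v := by
    rw [Fintype.linearIndependent_iff]
    intro c hc
    simp only [v, Fin.sum_univ_four, Matrix.cons_val_zero, Matrix.cons_val_one, Matrix.cons_val,
      Algebra.smul_def] at hc
    have hA : algebraMap k K (c 2) + algebraMap k K (c 3) * x = 0 := by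
      by_contra hA
      refine hyx ?_
      have e : y = -(algebraMap k K (c 0) + algebraMap k K (c 1) * x) /
          (algebraMap k K (c 2) + algebraMap k K (c 3) * x) := by
        rw [eq_div_iff hA]; linear_combination hc
      rw [e]
      have := fun a : k => IntermediateField.algebraMap_mem k⟮x⟯ a
      exact div_mem (neg_mem (add_mem (this _) (mul_mem (this _) hxm))) (add_mem (this _) (mul_mem (this _) hxm))
    have hB : algebraMap k K (c 0) + algebraMap k K (c 1) * x = 0 := by linear_combination hc - y * hA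
    have hlin : ∀ a b : k, algebraMap k K a + algebraMap k K b * x = 0 → a = 0 ∧ b = 0 := fun a b h => by
      have h1 := transcendental_iff.1 htr (Polynomial.C a + Polynomial.C b * Polynomial.X) (by simpa using h)
      exact ⟨by simpa using congrArg (fun p => Polynomial.coeff p 0) h1,
        by simpa using congrArg (fun p => Polynomial.coeff p 1) h1⟩
    obtain ⟨a2, a3⟩ := hlin _ _ hA
    obtain ⟨a0, a1⟩ := hlin _ _ hB
    intro i
    fin_cases i <;> assumption
  have := finite_L hK.1 D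
  have h4 : 4 ≤ ell D := by
    have h := Submodule.finrank_mono (R := k) (Submodule.span_le.2 (Set.range_subset_iff.2 hv))
    rwa [finrank_span_eq_card hind, Fintype.card_fin] at h
  rcases Nat.lt_or_ge 2 (genus k K) with h3 | h3
  · have := clifford hK (D := D) (by omega) (by omega)
    omega
  · have := ell_eq_of_deg_ge hK (D := D) (by omega)
    omega

end Groth.Agent.FF
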