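/-
Almost all places of a separable extension of function fields are unramified.
-/
import Groth.Agent.L26.FF.Ext
import Mathlib.FieldTheory.Separable
import Mathlib.FieldTheory.PrimitiveElement

open WithZero Polynomial IntermediateField

namespace Groth.Agent.FF

open FunFld

variable {k K K' : Type*} [Field k] [Field K] [Field K'] [Algebra k K] [Algebra K K'] [Algebra k K']
  [IsScalarTower k K K'] [FiniteDimensional K K']

theorem ram_eq_one_of_monic_separable_residue {Q : Place k K'} {P : Place k K} {e : ℕ}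
    (he : IsOverWith Q P e) {θ : K'} (hθ : K⟮θ⟯ = ⊤) (f : Polynomial P.O) (hf : f.Monic)
    (hroot : f.eval₂ ((algebraMap K K').comp P.O.subtype) θ = 0)
    (hder : Q.1 (f.derivative.eval₂ ((algebraMap K K').comp P.O.subtype) θ) = 1) : e = 1 := by
  classical
  set φ : P.O →+* K' := (algebraMap K K').comp P.O.subtype with hφ
  have hφ1 : ∀ a : P.O, Q.1 (φ a) ≤ 1 := fun a => (he.le_one_iff _).2 a.2
  let ψ : P.O →+* Q.O := φ.codRestrict Q.O hφ1
  have hint : Q.1 θ ≤ 1 := by
    obtain ⟨y, hy⟩ := IsIntegrallyClosed.isIntegral_iff.1 (show IsIntegral Q.O θ from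
      ⟨f.map ψ, hf.map ψ, by
        rw [eval₂_map, show (algebraMap Q.O K').comp ψ = φ from RingHom.ext fun _ => rfl]
        exact hroot⟩)
    exact hy ▸ y.2
  let θ' : Q.O := ⟨θ, hint⟩
  let κ := IsLocalRing.ResidueField P.O
  let π : P.O →+* κ := IsLocalRing.residue _
  let F := IsLocalRing.ResidueField Q.O
  let ρ : Q.O →+* F := IsLocalRing.residue _
  have hlocal : IsLocalHom ψ := ⟨fun a ha => by
    by_contra hna
    have h1 : P.1 (a : K) < 1 := (Valuation.Integer.not_isUnit_iff_valuation_lt_one).1 hna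
    have h2 : ¬ IsUnit (ψ a) :=
      (Valuation.Integer.not_isUnit_iff_valuation_lt_one).2 ((he.lt_one_iff _).2 h1)
    exact h2 ha⟩
  let σ : κ →+* F := IsLocalRing.ResidueField.map ψ
  have hσ : σ.comp π = ρ.comp ψ := IsLocalRing.ResidueField.map_comp_residue ψ
  let ev : Polynomial P.O →+* Q.O := eval₂RingHom ψ θ'
  have hev : ∀ q, (ev q : K') = q.eval₂ φ θ := fun q => by
    show Q.O.subtype (q.eval₂ ψ θ') = _
    rw [hom_eval₂]
    rfl
  have hred : ∀ q, ρ (ev q) = (q.map π).eval₂ σ (ρ θ') := fun q => by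
    show ρ (q.eval₂ ψ θ') = _
    rw [hom_eval₂, eval₂_map, hσ]
  let _ : Algebra κ F := σ.toAlgebra
  have haev : ∀ q, aeval (ρ θ') q = (q : Polynomial κ).eval₂ σ (ρ θ') := fun q => rfl
  have hfroot : aeval (ρ θ') (f.map π) = 0 := by
    rw [haev, ← hred, show ev f = 0 from Subtype.ext ((hev f).trans hroot), map_zero]
  have hgint : IsIntegral κ (ρ θ') := ⟨f.map π, hf.map π, hfroot⟩
  obtain ⟨hb0, hhb0⟩ := minpoly.dvd κ (ρ θ') hfroot
  have hh0 : aeval (ρ θ') hb0 ≠ 0 := by
    intro h0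
    have hd : aeval (ρ θ') (f.map π).derivative = 0 := by
      rw [hhb0, derivative_mul, map_add, map_mul, map_mul, minpoly.aeval, h0, mul_zero, zero_mul, add_zero]
    rw [derivative_map, haev, ← hred] at hd
    have hu : IsUnit (ev f.derivative) := by
      by_contra h
      have := (Valuation.Integer.not_isUnit_iff_valuation_lt_one).1 h
      exact this.ne (show Q.1 (ev f.derivative : K') = 1 by rw [hev]; exact hder)
    exact (hu.map ρ).ne_zero hd
  obtain ⟨h, rfl⟩ := map_surjective π IsLocalRing.residue_surjective hb0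
  have hhunit : Q.1 (ev h : K') = 1 := by
    refine le_antisymm (ev h).2 (not_lt.1 fun hlt => hh0 ?_)
    rw [haev, ← hred]
    exact (IsLocalRing.residue_eq_zero_iff _).2
      ((Valuation.Integer.not_isUnit_iff_valuation_lt_one).2 hlt)
  obtain ⟨t, ht0, ht⟩ := exists_val_eq P (-1)
  let t' : P.O := ⟨t, show P.1 t ≤ 1 by rw [ht, exp_le_one']; omega⟩
  have hdiv : ∀ a : P.O, π a = 0 → ∃ b, a = t' * b := by
    intro a ha
    have h1 : P.1 (a : K) < 1 := (Valuation.Integer.not_isUnit_iff_valuation_lt_one).1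
      ((IsLocalRing.residue_eq_zero_iff a).1 ha)
    refine ⟨⟨(a : K) / t, show P.1 _ ≤ 1 by
      rw [map_div₀, ht, div_le_one₀ (zero_lt_iff.2 exp_ne_zero)]; exact lt_one_le_exp h1⟩, Subtype.ext ?_⟩
    exact (mul_div_cancel₀ _ ht0).symm
  have hQt : Q.1 (φ t') = exp (-(e : ℤ)) := by
    show Q.1 (algebraMap K K' t) = _
    rw [he t, ht, ← exp_nsmul]
    simp
  have hstep : ∀ q : Polynomial P.O, Q.1 (ev q : K') < 1 →
      ∃ w, Q.1 (ev q : K') = exp (-(e : ℤ)) * Q.1 (ev w : K') := by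
    intro q hq
    have hq0 : aeval (ρ θ') (q.map π) = 0 := by
      rw [haev, ← hred]
      exact (IsLocalRing.residue_eq_zero_iff _).2
        ((Valuation.Integer.not_isUnit_iff_valuation_lt_one).2 hq)
    obtain ⟨rb, hrb⟩ := minpoly.dvd κ (ρ θ') hq0
    obtain ⟨r, rfl⟩ := map_surjective π IsLocalRing.residue_surjective rb
    have hz : (q * h - f * r).map π = 0 := by
      rw [Polynomial.map_sub, Polynomial.map_mul, Polynomial.map_mul, hrb, hhb0]; ring
    obtain ⟨w, hw⟩ : C t' ∣ q * h - f * r := C_dvd_iff_dvd_coeff _ _ |>.2 fun i => by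
      obtain ⟨b, hb⟩ := hdiv ((q * h - f * r).coeff i) (by rw [← coeff_map, hz, coeff_zero])
      exact ⟨b, hb⟩
    refine ⟨w, ?_⟩
    have := congrArg (fun z => Q.1 ((ev z : Q.O) : K')) hw
    simp only [map_sub, map_mul, show ev f = 0 from Subtype.ext ((hev f).trans hroot), zero_mul, sub_zero,
      MulMemClass.coe_mul, Valuation.map_mul, hhunit, mul_one] at this
    rw [this, hev (C t'), eval₂_C, hQt]
  have hvals : ∀ (n : ℕ) (q : Polynomial P.O), Q.1 (ev q : K') ≠ 0 → exp (-(n : ℤ)) ≤ Q.1 (ev q : K') →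
      ∃ j : ℤ, Q.1 (ev q : K') = exp ((e : ℤ) * j) := by
    intro n
    induction n using Nat.strong_induction_on with
    | _ n ih =>
      intro q hq0 hqn
      rcases lt_or_eq_of_le (show Q.1 (ev q : K') ≤ 1 from (ev q).2) with hlt | heq
      · obtain ⟨w, hw⟩ := hstep q hlt
        have hw0 : Q.1 (ev w : K') ≠ 0 := fun h => hq0 (by rw [hw, h, mul_zero])
        have hepos := he.pos
        obtain ⟨l, hl⟩ : ∃ l : ℤ, Q.1 (ev w : K') = exp l := ⟨_, (exp_log hw0).symm⟩
        have hl0 : l ≤ 0 := exp_le_one'.1 (hl ▸ (ev w).2)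
        rw [hw, hl, ← exp_add, exp_le_exp] at hqn
        obtain ⟨j, hj⟩ := ih (n - e) (by omega) w hw0 (by rw [hl, exp_le_exp]; omega)
        exact ⟨j - 1, by rw [hw, hj, ← exp_add]; congr 1; ring⟩
      · exact ⟨0, by rw [mul_zero, exp_zero]; exact heq⟩
  obtain ⟨y, hy⟩ := Q.2.2 (exp (-1 : ℤ))
  have hmem : y ∈ K⟮θ⟯ := hθ ▸ mem_top
  rw [← IntermediateField.mem_toSubalgebra, IntermediateField.adjoin_simple_toSubalgebra_of_isAlgebraic
    (Algebra.IsAlgebraic.isAlgebraic θ), Algebra.adjoin_singleton_eq_range_aeval] at hmem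
  obtain ⟨p, hp⟩ := hmem
  change aeval θ p = y at hp
  obtain ⟨c, hc⟩ : ∃ c : K, c ≠ 0 ∧ ∀ i, P.1 (c * p.coeff i) ≤ 1 := by
    have : ∀ S : Finset ℕ, ∃ c : K, c ≠ 0 ∧ ∀ i ∈ S, P.1 (c * p.coeff i) ≤ 1 := by
      intro S
      induction S using Finset.induction with
      | empty => exact ⟨1, one_ne_zero, by simp⟩
      | insert i S _ ih =>
        obtain ⟨c, hc, hS⟩ := ih
        rcases le_or_gt (P.1 (c * p.coeff i)) 1 with h | h
        · exact ⟨c, hc, fun j hj => (Finset.mem_insert.1 hj).elim (fun e => e ▸ h) (hS j)⟩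
        · have hne : c * p.coeff i ≠ 0 := fun h0 => by rw [h0, map_zero] at h; exact not_lt.2 zero_le h
          refine ⟨(c * p.coeff i)⁻¹ * c, mul_ne_zero (inv_ne_zero hne) hc, fun j hj => ?_⟩
          rw [mul_assoc, map_mul, map_inv₀]
          rcases Finset.mem_insert.1 hj with rfl | hj
          · rw [inv_mul_cancel₀ ((Valuation.ne_zero_iff _).2 hne)]
          · exact mul_le_one' (inv_le_one_of_one_le₀ h.le) (hS j hj)
    obtain ⟨c, hc, hS⟩ := this p.support
    refine ⟨c, hc, fun i => ?_⟩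
    by_cases hi : i ∈ p.support
    · exact hS i hi
    · simp [Polynomial.notMem_support_iff.1 hi]
  obtain ⟨hc0, hci⟩ := hc
  obtain ⟨q, hq⟩ : C c * p ∈ Polynomial.lifts P.O.subtype :=
    (lifts_iff_coeff_lifts _).2 fun i => ⟨⟨_, hci i⟩, (coeff_C_mul p).symm⟩
  have hqy : (ev q : K') = algebraMap K K' c * y := by
    rw [coe_mapRingHom] at hq
    rw [hev, hφ, ← eval₂_map, hq, eval₂_mul, eval₂_C, ← hp]
    rfl
  have hy0 : y ≠ 0 := fun h => by rw [h, map_zero] at hy; exact exp_ne_zero hy.symm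
  have hne : Q.1 (ev q : K') ≠ 0 := by
    rw [hqy, Valuation.ne_zero_iff]; exact mul_ne_zero ((_root_.map_ne_zero _).2 hc0) hy0
  obtain ⟨l, hl⟩ : ∃ l : ℤ, Q.1 (ev q : K') = exp l := ⟨_, (exp_log hne).symm⟩
  obtain ⟨j, hj⟩ := hvals (-l).toNat q hne (by rw [hl, exp_le_exp]; omega)
  rw [hqy, map_mul, he c, hy, val_eq_exp P hc0, ← exp_nsmul, ← exp_add] at hj
  have h1 : (e : ℤ) * (-P.ord c) + -1 = e * j := by simpa using congrArg log hj
  have h2 : (e : ℤ) ∣ 1 := ⟨-P.ord c - j, by linarith⟩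
  exact Nat.dvd_one.1 (by exact_mod_cast h2)

theorem finite_ramified (hK : IsFF k K) [Algebra.IsSeparable K K'] :
    {Q : Place k K' | ¬ Function.Surjective (Q.1.comap (algebraMap K K'))}.Finite := by
  classical
  obtain ⟨θ, hθ⟩ := Field.exists_primitive_element K K'
  set f := minpoly K θ
  have hfm : f.Monic := minpoly.monic (Algebra.IsIntegral.isIntegral θ)
  have hF : IsFF k K' := isFF_ext hK
  have hd : aeval θ f.derivative ≠ 0 := (Algebra.IsSeparable.isSeparable K θ).aeval_derivative_ne_zero (minpoly.aeval K θ)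
  have fin : ∀ z : K', {Q : Place k K' | Q.ord z ≠ 0}.Finite := fun z => finite_support_ord hF z
  refine ((f.support.finite_toSet.biUnion fun i _ => fin (algebraMap K K' (f.coeff i))).union
    (fin (aeval θ f.derivative))).subset fun Q hQ => ?_
  by_contra hgood
  apply hQ
  simp only [Set.mem_union, Set.mem_iUnion, Set.mem_ofPred_eq, not_or, not_exists, not_not] at hgood
  obtain ⟨P, e, he⟩ := exists_below hK Q
  have hcoef : ∀ i, P.1 (f.coeff i) ≤ 1 := by
    intro i
    rw [← he.le_one_iff]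
    by_cases hi : i ∈ f.support
    · rcases eq_or_ne (algebraMap K K' (f.coeff i)) 0 with h | h
      · rw [h, map_zero]; exact zero_le
      · exact ((val_eq_one_iff Q h).2 (hgood.1 i hi)).le
    · rw [Polynomial.notMem_support_iff.1 hi, map_zero, map_zero]; exact zero_le
  obtain ⟨q, hq, -, hqm⟩ := lifts_and_degree_eq_and_monic
    ((lifts_iff_coeff_lifts (f := P.O.subtype) f).2 fun i => ⟨⟨_, hcoef i⟩, rfl⟩) hfm
  have e1 : ∀ g : Polynomial P.O, g.eval₂ ((algebraMap K K').comp P.O.subtype) θ = aeval θ (g.map P.O.subtype) :=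
    fun g => by rw [← eval₂_map]; rfl
  have he1 := ram_eq_one_of_monic_separable_residue he hθ q hqm
    (by rw [e1, hq]; exact minpoly.aeval K θ)
    (by rw [e1, ← derivative_map, hq]; exact (val_eq_one_iff Q hd).2 hgood.2)
  subst he1
  intro v
  obtain ⟨x, hx⟩ := P.2.2 v
  exact ⟨x, by rw [Valuation.comap_apply, he x, pow_one, hx]⟩

end Groth.Agent.FF
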