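/-
The rational function field as a function field; quadratic extensions of it.
-/
import Groth.Agent.L26.FF.AlmostUnramified
import Mathlib.FieldTheory.RatFunc.AsPolynomial
import Mathlib.FieldTheory.RatFunc.IntermediateField
import Mathlib.RingTheory.Trace.Basic

open WithZero Polynomial IntermediateField

namespace Groth.Agent.FF

open FunFld

variable {k : Type*} [Field k]

lemma isFF_ratFunc : IsFF k (RatFunc k) := by
  refine ⟨RatFunc.X, ?_, ?_⟩
  · rw [← RatFunc.algebraMap_X]
    exact (transcendental_algebraMap_iff (RatFunc.algebraMap_injective k)).2 (Polynomial.transcendental_X k)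
  · rw [RatFunc.adjoin_X]
    exact Module.Finite.of_surjective (Algebra.linearMap _ _) (fun x => ⟨⟨x, mem_top⟩, rfl⟩)

lemma transcendental_ratFunc_X : Transcendental k (RatFunc.X : RatFunc k) := by
  rw [← RatFunc.algebraMap_X]
  exact (transcendental_algebraMap_iff (RatFunc.algebraMap_injective k)).2 (Polynomial.transcendental_X k)

theorem isFunctionField_ratFunc : IsFunctionField k (RatFunc k) := by
  refine ⟨isFF_ratFunc, fun y hy => ?_⟩
  have h1 : IsIntegral k[X] y := hy.isIntegral.tower_top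
  obtain ⟨p, rfl⟩ := IsIntegrallyClosed.isIntegral_iff.1 h1
  have h2 : IsAlgebraic k p := (isAlgebraic_algebraMap_iff (RatFunc.algebraMap_injective k)).1 hy
  rcases Nat.eq_zero_or_pos p.natDegree with hd | hd
  · obtain ⟨c, rfl⟩ := natDegree_eq_zero.1 hd
    exact ⟨c, by rw [IsScalarTower.algebraMap_apply k k[X] (RatFunc k), Polynomial.algebraMap_eq]⟩
  · obtain ⟨q, hq0, hq⟩ := h2
    rw [← Polynomial.comp_eq_aeval, comp_eq_zero_iff] at hq
    rcases hq with h | ⟨-, h⟩
    · exact absurd h hq0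
    · rw [h, natDegree_C] at hd
      exact absurd hd (lt_irrefl 0)

lemma transcendental_algebraMap_poly {p : k[X]} (hp : 0 < p.natDegree) :
    Transcendental k (algebraMap k[X] (RatFunc k) p) := fun h => by
  obtain ⟨c, hc⟩ := isFunctionField_ratFunc.2 _ h
  rw [IsScalarTower.algebraMap_apply k k[X] (RatFunc k), Polynomial.algebraMap_eq] at hc
  rw [← RatFunc.algebraMap_injective k hc, natDegree_C] at hp
  exact lt_irrefl 0 hp

lemma deg_poles_X : (poles k (RatFunc.X : RatFunc k)).deg = 1 := by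
  rw [deg_poles isFF_ratFunc transcendental_ratFunc_X, RatFunc.adjoin_X]
  simp

lemma inf_place {P : Place k (RatFunc k)} (h : P.ord (RatFunc.X : RatFunc k) < 0) :
    P.ord (RatFunc.X : RatFunc k) = -1 ∧ P.deg = 1 := by
  classical
  have h1 := deg_poles_X (k := k)
  have hP : P ∈ (poles k (RatFunc.X : RatFunc k)).support := by
    rw [Finsupp.mem_support_iff, poles_apply isFF_ratFunc]; omega
  rw [deg_eq_sum (s := (poles k (RatFunc.X : RatFunc k)).support) (fun _ h => h)] at h1
  have hnn : ∀ Q ∈ (poles k (RatFunc.X : RatFunc k)).support, 0 ≤ poles k (RatFunc.X : RatFunc k) Q * (Q.deg : ℤ) :=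
    fun Q _ => mul_nonneg (by rw [poles_apply isFF_ratFunc]; omega) (by positivity)
  have h2 := Finset.single_le_sum hnn hP
  rw [h1, poles_apply isFF_ratFunc] at h2
  have hd := one_le_deg (isFF_ratFunc (k := k)) P
  rw [max_eq_left (by omega)] at h2
  have h3 : -P.ord (RatFunc.X : RatFunc k) ≤ -P.ord (RatFunc.X : RatFunc k) * (P.deg : ℤ) :=
    le_mul_of_one_le_right (by omega) (by exact_mod_cast hd)
  have h4 : (P.deg : ℤ) ≤ -P.ord (RatFunc.X : RatFunc k) * (P.deg : ℤ) :=
    le_mul_of_one_le_left (by positivity) (by omega)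
  constructor <;> omega

lemma val_inf_poly {P : Place k (RatFunc k)} (h : P.ord (RatFunc.X : RatFunc k) < 0) {q : k[X]} (hq : q ≠ 0) :
    P.1 (algebraMap k[X] (RatFunc k) q) = exp (q.natDegree : ℤ) := by
  classical
  have hX : P.1 (RatFunc.X : RatFunc k) = exp (1 : ℤ) := by
    rw [val_eq_exp P RatFunc.X_ne_zero, (inf_place h).1, neg_neg]
  have hmon : ∀ (i : ℕ), q.coeff i ≠ 0 →
      P.1 (algebraMap k (RatFunc k) (q.coeff i) * RatFunc.X ^ i) = exp (i : ℤ) := fun i hi => by
    rw [map_mul, map_pow, hX, val_const P hi, one_mul, ← exp_nsmul]; simp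
  have hsum : algebraMap k[X] (RatFunc k) q =
      ∑ i ∈ q.support, algebraMap k (RatFunc k) (q.coeff i) * RatFunc.X ^ i := by
    conv_lhs => rw [q.as_sum_support]
    rw [map_sum]
    refine Finset.sum_congr rfl fun i _ => ?_
    rw [← C_mul_X_pow_eq_monomial, map_mul, map_pow, RatFunc.algebraMap_X,
      IsScalarTower.algebraMap_apply k k[X] (RatFunc k), Polynomial.algebraMap_eq]
  rw [hsum, Valuation.map_sum_eq_of_lt P.1 (j := q.natDegree) (natDegree_mem_support_of_nonzero hq) ?_,
    hmon _ (leadingCoeff_ne_zero.2 hq)]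
  · intro i hi
    rw [Finset.mem_sdiff, Finset.mem_singleton] at hi
    rw [hmon _ (leadingCoeff_ne_zero.2 hq), hmon _ (mem_support_iff.1 hi.1), exp_lt_exp]
    have := le_natDegree_of_mem_supp i hi.1
    omega

lemma val_fin_poly {P : Place k (RatFunc k)} {p : k[X]} (hp : Irreducible p)
    (h : P.1 (algebraMap k[X] (RatFunc k) p) < 1) :
    P.1 (algebraMap k[X] (RatFunc k) p) = exp (-1 : ℤ) ∧
      ∀ g : k[X], ¬ p ∣ g → P.1 (algebraMap k[X] (RatFunc k) g) = 1 := by
  classical
  have hX : P.1 (RatFunc.X : RatFunc k) ≤ 1 := by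
    by_contra hc
    have h0 : P.ord (RatFunc.X : RatFunc k) < 0 := by
      by_contra h0
      exact hc ((val_le_one_iff P RatFunc.X_ne_zero).2 (by omega))
    rw [val_inf_poly h0 hp.ne_zero, exp_lt_one'] at h
    omega
  have hle : ∀ g : k[X], P.1 (algebraMap k[X] (RatFunc k) g) ≤ 1 := fun g => by
    induction g using Polynomial.induction_on' with
    | add a b ha hb => rw [map_add]; exact P.1.map_add_le ha hb
    | monomial n a =>
      rw [← C_mul_X_pow_eq_monomial, map_mul, map_pow, RatFunc.algebraMap_X, map_mul, map_pow, ← Polynomial.algebraMap_eq,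
        ← IsScalarTower.algebraMap_apply k k[X] (RatFunc k)]
      exact mul_le_one' (P.2.1 a) (pow_le_one' hX n)
  have hg : ∀ g : k[X], ¬ p ∣ g → P.1 (algebraMap k[X] (RatFunc k) g) = 1 := by
    intro g hg
    obtain ⟨a, b, hab⟩ := (hp.coprime_iff_not_dvd).2 hg
    refine le_antisymm (hle g) (not_lt.1 fun hlt => ?_)
    have h1 := congrArg (fun z => P.1 (algebraMap k[X] (RatFunc k) z)) hab
    simp only [map_add, map_mul, map_one] at h1
    refine (lt_self_iff_false (1 : WithZero (Multiplicative ℤ))).1 (lt_of_eq_of_lt h1.symm (P.1.map_add_lt ?_ ?_))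
    · rw [map_mul]; exact (mul_le_of_le_one_left zero_le (hle a)).trans_lt h
    · rw [map_mul]; exact (mul_le_of_le_one_left zero_le (hle b)).trans_lt hlt
  refine ⟨le_antisymm (lt_one_le_exp h) ?_, hg⟩
  obtain ⟨z, hz⟩ := P.2.2 (exp (-1 : ℤ))
  have hz0 : z ≠ 0 := fun h0 => by rw [h0, map_zero] at hz; exact exp_ne_zero hz.symm
  have hval : ∀ g : k[X], g ≠ 0 → ∃ n : ℕ, P.1 (algebraMap k[X] (RatFunc k) g) = P.1 (algebraMap k[X] (RatFunc k) p) ^ n := by
    intro g hg0
    obtain ⟨n, a, ha, rfl⟩ := WfDvdMonoid.max_power_factor hg0 hp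
    exact ⟨n, by rw [map_mul, map_pow, map_mul, map_pow, hg a ha, mul_one]⟩
  obtain ⟨m, hm⟩ := hval _ (RatFunc.num_ne_zero hz0)
  obtain ⟨n, hn⟩ := hval _ (RatFunc.denom_ne_zero z)
  rw [← RatFunc.num_div_denom z, map_div₀, hm, hn] at hz
  set c := P.1 (algebraMap k[X] (RatFunc k) p)
  have hc : c ≠ 0 := (Valuation.ne_zero_iff _).2 ((_root_.map_ne_zero_iff _ (RatFunc.algebraMap_injective k)).2 hp.ne_zero)
  obtain ⟨l, hl⟩ : ∃ l : ℤ, c = exp l := ⟨_, (exp_log hc).symm⟩
  rw [hl, ← exp_nsmul, ← exp_nsmul, ← exp_sub, nsmul_eq_mul, nsmul_eq_mul] at hz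
  have h1 : (m : ℤ) * l - n * l = -1 := by simpa using congrArg log hz
  rw [hl, exp_lt_one'] at h
  have h2 : l ∣ 1 := ⟨(n : ℤ) - m, by linarith⟩
  rw [hl, exp_le_exp]
  have := Int.le_of_dvd one_pos (Int.neg_dvd.2 h2)
  omega

variable {K K' : Type*} [Field K] [Field K'] [Algebra k K] [Algebra K K'] [Algebra k K']
  [IsScalarTower k K K'] [FiniteDimensional K K']

lemma deg_le_deg (hK : IsFF k K) {Q : Place k K'} {P : Place k K} (h : IsOver Q P) : P.deg ≤ Q.deg := by
  obtain ⟨e, he⟩ := h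
  let ψ : P.O →+* Q.O := ((algebraMap K K').comp P.O.subtype).codRestrict Q.O
    fun a => (he.le_one_iff _).2 a.2
  have hlocal : IsLocalHom ψ := ⟨fun a ha => by
    by_contra hna
    exact (Valuation.Integer.not_isUnit_iff_valuation_lt_one.2
      ((he.lt_one_iff _).2 (Valuation.Integer.not_isUnit_iff_valuation_lt_one.1 hna)) : ¬ IsUnit (ψ a)) ha⟩
  let f : IsLocalRing.ResidueField P.O →ₗ[k] IsLocalRing.ResidueField Q.O :=
    { toFun := IsLocalRing.ResidueField.map ψ
      map_add' := map_add _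
      map_smul' := fun c x => by
        obtain ⟨b, rfl⟩ := IsLocalRing.residue_surjective x
        show IsLocalRing.ResidueField.map ψ (IsLocalRing.residue P.O (c • b)) =
          IsLocalRing.residue Q.O (c • ψ b)
        rw [← RingHom.comp_apply (IsLocalRing.ResidueField.map ψ), IsLocalRing.ResidueField.map_comp_residue]
        refine congrArg (IsLocalRing.residue _) (Subtype.ext ?_)
        rw [Algebra.smul_def c b, Algebra.smul_def c (ψ b)]
        show algebraMap K K' (algebraMap k K c * (b : K)) = algebraMap k K' c * algebraMap K K' (b : K)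
        rw [map_mul, ← IsScalarTower.algebraMap_apply] }
  have := finite_residueField (isFF_ext (K' := K') hK) Q
  exact LinearMap.finrank_le_finrank_of_injective (f := f) (IsLocalRing.ResidueField.map ψ).injective

/-- Total ramification in degree two. -/
theorem total_ram_two (hK : IsFunctionField k K) (hdeg : Module.finrank K K' = 2) {P : Place k K}
    (hev : ∀ (Q : Place k K') (e : ℕ), IsOverWith Q P e → 2 ∣ e) :
    (∃! Q : Place k K', IsOver Q P) ∧
      ∀ Q : Place k K', IsOver Q P → IsOverWith Q P 2 ∧ Q.deg = P.deg := by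
  classical
  obtain ⟨hfin, hsum⟩ := finite_over_and_sum (K' := K') hK P
  have h1 := hsum hfin.toFinset (fun Q => hfin.mem_toFinset)
  rw [hdeg] at h1
  have hpos := one_le_deg hK.1 P
  have key : ∀ Q ∈ hfin.toFinset, 2 * P.deg ≤ ramIdx Q P * Q.deg := fun Q hQ => by
    obtain ⟨e, he⟩ := hfin.mem_toFinset.1 hQ
    rw [ramIdx_eq he]
    exact Nat.mul_le_mul (Nat.le_of_dvd he.pos (hev Q e he)) (deg_le_deg hK.1 ⟨e, he⟩)
  have hne : hfin.toFinset.Nonempty := by
    rcases hfin.toFinset.eq_empty_or_nonempty with h | h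
    · rw [h, Finset.sum_empty] at h1; omega
    · exact h
  have hcard : hfin.toFinset.card = 1 := by
    have h2 := Finset.card_nsmul_le_sum _ _ _ key
    rw [h1, smul_eq_mul] at h2
    have := hne.card_pos
    have := Nat.le_of_mul_le_mul_right (b := 1) (by simpa using h2) (by omega : 0 < 2 * P.deg)
    omega
  obtain ⟨Q₀, hQ₀⟩ := Finset.card_eq_one.1 hcard
  have hu : ∀ Q, IsOver Q P → Q = Q₀ := fun Q hQ =>
    Finset.mem_singleton.1 (hQ₀ ▸ hfin.mem_toFinset.2 hQ)
  have h0 : IsOver Q₀ P := hfin.mem_toFinset.1 (hQ₀ ▸ Finset.mem_singleton_self _)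
  refine ⟨⟨Q₀, h0, hu⟩, fun Q hQ => ?_⟩
  obtain rfl := hu Q hQ
  obtain ⟨e, he⟩ := hQ
  rw [hQ₀, Finset.sum_singleton, ramIdx_eq he] at h1
  obtain ⟨c, rfl⟩ := hev Q e he
  have hd := deg_le_deg hK.1 ⟨_, he⟩
  have hc : c = 1 := by
    have := he.pos
    have h3 : c * P.deg ≤ c * Q.deg := Nat.mul_le_mul_left c hd
    have h4 : c * Q.deg = P.deg := by linarith
    have := Nat.le_of_mul_le_mul_right (b := 1) (by linarith : c * P.deg ≤ 1 * P.deg) hpos
    omega
  subst hc
  exact ⟨by simpa using he, by linarith⟩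

end Groth.Agent.FF
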