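/-
Quadratic extensions `y² = f(x)` and `y² + y = f(x)` of the rational function field.
-/
import Groth.Agent.L26.FF.RatFuncFF

open WithZero Polynomial IntermediateField

namespace Groth.Agent.FF

open FunFld

variable {k : Type*} [Field k]

lemma two_ne_zero' (K : Type*) [Field K] [Algebra k K] (h2 : ringChar k ≠ 2) : (2 : K) ≠ 0 := by
  rw [← map_ofNat (algebraMap k K) 2, _root_.map_ne_zero]
  exact Ring.two_ne_zero h2

lemma not_sq {f : k[X]} (hf : Squarefree f) (hd : 1 ≤ f.natDegree) (g : RatFunc k) :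
    g ^ 2 ≠ algebraMap k[X] (RatFunc k) f := by
  intro h
  have h1 : IsIntegral k[X] g := IsIntegral.of_pow two_pos (h ▸ isIntegral_algebraMap)
  obtain ⟨p, rfl⟩ := IsIntegrallyClosed.isIntegral_iff.1 h1
  rw [← map_pow] at h
  have h2 := RatFunc.algebraMap_injective k h
  have hu : IsUnit p := hf p ⟨1, by rw [mul_one, ← h2, sq]⟩
  rw [← h2, natDegree_pow, natDegree_eq_zero_of_isUnit hu] at hd
  omega

lemma eq_zero_of_sq_mul {f : k[X]} (hf : Squarefree f) (hd : 1 ≤ f.natDegree) {g : RatFunc k} {c : k}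
    (h : g ^ 2 * algebraMap k[X] (RatFunc k) f = algebraMap k (RatFunc k) c) : g = 0 := by
  have hf0 : algebraMap k[X] (RatFunc k) f ≠ 0 :=
    (_root_.map_ne_zero_iff _ (RatFunc.algebraMap_injective k)).2 hf.ne_zero
  rcases eq_or_ne c 0 with rfl | hc
  · rw [map_zero, mul_eq_zero, or_iff_left hf0] at h
    exact eq_zero_of_pow_eq_zero h
  · exfalso
    have hsq : Squarefree (C c * f) := ((associated_unit_mul_left f (C c) (isUnit_C.2 hc.isUnit))).symm.squarefree_iff.1 hf
    refine not_sq hsq (by rwa [natDegree_C_mul hc]) (g * algebraMap k[X] (RatFunc k) f) ?_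
    rw [IsScalarTower.algebraMap_apply k k[X] (RatFunc k), Polynomial.algebraMap_eq] at h
    rw [map_mul, ← h]
    ring

variable {K : Type*} [Field K] [Algebra k K]

/-- `k` is algebraically closed in `k(x, y)`. -/
theorem isFunctionField_sqrt [Algebra (RatFunc k) K] [IsScalarTower k (RatFunc k) K] (h2 : ringChar k ≠ 2)
    {y : K} (htop : IntermediateField.adjoin (RatFunc k) ({y} : Set K) = ⊤) {f : k[X]} (hf : Squarefree f)
    (hd : 1 ≤ f.natDegree) (heq : y ^ 2 = algebraMap (RatFunc k) K (algebraMap k[X] (RatFunc k) f)) :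
    IsFunctionField k K := by
  have hint : IsIntegral (RatFunc k) y := IsIntegral.of_pow two_pos (heq ▸ isIntegral_algebraMap)
  have hfin : FiniteDimensional (RatFunc k) K := by
    have := IntermediateField.adjoin.finiteDimensional hint
    rw [htop] at this
    exact IntermediateField.topEquiv.toLinearEquiv.finiteDimensional
  refine ⟨isFF_ext isFF_ratFunc, fun z hz => ?_⟩
  have hmin : minpoly (RatFunc k) y = X ^ 2 - C (algebraMap k[X] (RatFunc k) f) := by
    refine (minpoly.eq_of_irreducible_of_monic (X_pow_sub_C_irreducible_of_prime Nat.prime_two (not_sq hf hd))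
      (by simp [heq]) (monic_X_pow_sub_C _ two_ne_zero)).symm
  let B : PowerBasis (RatFunc k) K := (IntermediateField.adjoin.powerBasis hint).map
    ((IntermediateField.equivOfEq htop).trans IntermediateField.topEquiv)
  have hdim : B.dim = 2 := by
    show (minpoly (RatFunc k) y).natDegree = 2
    rw [hmin, natDegree_X_pow_sub_C]
  obtain ⟨a, b, hab⟩ : ∃ a b : RatFunc k, z = algebraMap (RatFunc k) K a + algebraMap (RatFunc k) K b * y := by
    have hgen : B.gen = y := rfl
    refine ⟨B.basis.repr z ⟨0, by omega⟩, B.basis.repr z ⟨1, by omega⟩, ?_⟩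
    conv_lhs => rw [← B.basis.sum_repr z]
    rw [← (finCongr hdim).symm.sum_comp, Fin.sum_univ_two]
    simp [B.basis_eq_pow, hgen, Algebra.smul_def]
    rfl
  have htr : Algebra.trace (RatFunc k) K z = 2 * a := by
    have hy0 : Algebra.trace (RatFunc k) K y = 0 := by
      show Algebra.trace (RatFunc k) K B.gen = 0
      rw [B.trace_gen_eq_nextCoeff_minpoly, show B.gen = y from rfl, hmin, neg_eq_zero, nextCoeff,
        natDegree_X_pow_sub_C]
      simp
    rw [hab, ← Algebra.smul_def, map_add, map_smul, hy0, smul_zero, add_zero, Algebra.trace_algebraMap, nsmul_eq_mul]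
    rw [show Module.finrank (RatFunc k) K = 2 by rw [B.finrank, hdim]]
    norm_num
  obtain ⟨c, hc⟩ := isFunctionField_ratFunc.2 _ (Algebra.isIntegral_trace (L := RatFunc k) hz.isIntegral).isAlgebraic
  rw [htr] at hc
  have h2' := two_ne_zero' (k := k) (RatFunc k) h2
  have ha : a = algebraMap k (RatFunc k) (c / 2) := by
    rw [map_div₀, hc, map_ofNat, mul_comm, mul_div_cancel_right₀ _ h2']
  subst ha
  have hby : IsAlgebraic k (algebraMap (RatFunc k) K b * y) := by
    have h1 := (hz.sub (isAlgebraic_algebraMap (c / 2) (R := k) (A := K)))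
    rwa [hab, ← IsScalarTower.algebraMap_apply, add_sub_cancel_left] at h1
  obtain ⟨d, hd'⟩ := isFunctionField_ratFunc.2 _
    ((isAlgebraic_algebraMap_iff (algebraMap (RatFunc k) K).injective).1
      (show IsAlgebraic k (algebraMap (RatFunc k) K (b ^ 2 * algebraMap k[X] (RatFunc k) f)) by
        rw [map_mul, map_pow, ← heq, ← mul_pow]; exact hby.pow 2))
  rw [eq_zero_of_sq_mul hf hd hd'.symm, map_zero, zero_mul, add_zero] at hab
  exact ⟨c / 2, by rw [hab, ← IsScalarTower.algebraMap_apply]⟩

variable [Algebra (RatFunc k) K] [IsScalarTower k (RatFunc k) K]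

lemma finite_of_deg_two (hdeg : Module.finrank (RatFunc k) K = 2) : FiniteDimensional (RatFunc k) K :=
  Module.finite_of_finrank_pos (by omega)

lemma val_eq_of_sq {Q : Place k K} {P : Place k (RatFunc k)} {e : ℕ} (he : IsOverWith Q P e) {y : K} {u : RatFunc k}
    (hu : u ≠ 0) (h : y ^ 2 = algebraMap (RatFunc k) K u) : 2 * Q.ord y = e * P.ord u := by
  have := congrArg Q.1 h
  rw [map_pow, he u, val_eq_exp P hu] at this
  have hy : y ≠ 0 := by
    rintro rfl
    rw [zero_pow two_ne_zero] at h
    exact hu ((_root_.map_eq_zero _).1 h.symm)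
  rw [val_eq_exp Q hy, ← exp_nsmul, ← exp_nsmul] at this
  have h' : (2 : ℕ) • -Q.ord y = e • -P.ord u := by simpa using congrArg log this
  simp only [nsmul_eq_mul] at h'
  push_cast at h'
  linarith

lemma two_dvd_of_odd {Q : ℤ} {e : ℕ} {m : ℤ} (hm : Odd m) (h : 2 * Q = e * m) : 2 ∣ e := by
  rw [← even_iff_two_dvd, ← Int.even_coe_nat]
  rcases Int.even_mul.1 (⟨Q, by rw [← h, two_mul]⟩ : Even ((e : ℤ) * m)) with h' | h'
  · exact h'
  · exact absurd h' (Int.not_even_iff_odd.2 hm)

theorem ram_finite_hyperelliptic (hdeg : Module.finrank (RatFunc k) K = 2) {y : K} {f p : k[X]}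
    (hf : Squarefree f) (heq : y ^ 2 = algebraMap (RatFunc k) K (algebraMap k[X] (RatFunc k) f))
    (hp : Irreducible p) (hpf : p ∣ f) {P : Place k (RatFunc k)}
    (hP : P.1 (algebraMap k[X] (RatFunc k) p) < 1) :
    (∃! Q : Place k K, IsOver Q P) ∧ ∀ Q : Place k K, IsOver Q P → IsOverWith Q P 2 ∧ Q.deg = P.deg := by
  have := finite_of_deg_two hdeg
  refine total_ram_two isFunctionField_ratFunc hdeg fun Q e he => ?_
  obtain ⟨g, rfl⟩ := hpf
  have hpg : ¬ p ∣ g := fun ⟨r, hr⟩ => hp.not_isUnit (hf p ⟨r, by rw [hr]; ring⟩)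
  obtain ⟨h1, h2⟩ := val_fin_poly hp hP
  have hv : P.1 (algebraMap k[X] (RatFunc k) (p * g)) = exp (-1 : ℤ) := by rw [map_mul, map_mul, h1, h2 g hpg, mul_one]
  refine two_dvd_of_odd (m := 1) odd_one
    ((val_eq_of_sq he ((_root_.map_ne_zero_iff _ (RatFunc.algebraMap_injective k)).2 hf.ne_zero) heq).trans ?_)
  rw [ord_eq_of_val P hv, neg_neg]

theorem ram_inf_hyperelliptic (h2 : ringChar k ≠ 2) (hdeg : Module.finrank (RatFunc k) K = 2) {y : K} {f : k[X]}
    (hf : Squarefree f) (hd : 1 ≤ f.natDegree) (heq : y ^ 2 = algebraMap (RatFunc k) K (algebraMap k[X] (RatFunc k) f))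
    {P : Place k (RatFunc k)} (hP : P.ord (RatFunc.X : RatFunc k) < 0) :
    (Odd f.natDegree → (∃! Q : Place k K, IsOver Q P) ∧
      ∀ Q : Place k K, IsOver Q P → IsOverWith Q P 2 ∧ Q.deg = 1) ∧
    (Even f.natDegree → (conorm K (Finsupp.single P 1)).deg = 2 ∧
      ∀ Q : Place k K, IsOver Q P → IsOverWith Q P 1) := by
  classical
  have := finite_of_deg_two hdeg
  have hf0 : algebraMap k[X] (RatFunc k) f ≠ 0 :=
    (_root_.map_ne_zero_iff _ (RatFunc.algebraMap_injective k)).2 hf.ne_zero
  have hv := val_inf_poly hP hf.ne_zero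
  constructor
  · intro hodd
    obtain ⟨h1, h3⟩ := total_ram_two (K' := K) isFunctionField_ratFunc hdeg (P := P) fun Q e he =>
      two_dvd_of_odd (m := -(f.natDegree : ℤ)) ((hodd.natCast).neg)
        ((val_eq_of_sq he hf0 heq).trans (by rw [ord_eq_of_val P hv]))
    exact ⟨h1, fun Q hQ => ⟨(h3 Q hQ).1, (h3 Q hQ).2.trans (inf_place hP).2⟩⟩
  · rintro ⟨m, hm⟩
    refine ⟨by rw [deg_conorm isFunctionField_ratFunc, deg_single, (inf_place hP).2, hdeg]; norm_num, ?_⟩
    rintro Q ⟨e, he⟩
    set w : RatFunc k := RatFunc.X ^ m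
    have hw : w ≠ 0 := pow_ne_zero _ RatFunc.X_ne_zero
    set θ := y / algebraMap (RatFunc k) K w
    have hwv : P.1 w = exp (m : ℤ) := by
      rw [map_pow, val_eq_exp P RatFunc.X_ne_zero, (inf_place hP).1, ← exp_nsmul]; simp
    set u := algebraMap k[X] (RatFunc k) f / w ^ 2
    have hu : P.1 u = 1 := by
      rw [map_div₀, map_pow, hv, hwv, ← exp_nsmul, ← exp_sub, exp_eq_one', hm]
      simp; ring
    have hθ2 : θ ^ 2 = algebraMap (RatFunc k) K u := by simp only [θ, u, w, map_div₀, map_pow, div_pow, heq]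
    have hθtop : IntermediateField.adjoin (RatFunc k) ({θ} : Set K) = ⊤ := by
      have hnr : θ ∉ Set.range (algebraMap (RatFunc k) K) := by
        rintro ⟨r, hr⟩
        refine not_sq hf hd (r * w) ((algebraMap (RatFunc k) K).injective ?_)
        rw [← heq, map_pow, map_mul, hr, div_mul_cancel₀ _ ((_root_.map_ne_zero _).2 hw)]
      have hfin2 := Module.finrank_mul_finrank (RatFunc k) (IntermediateField.adjoin (RatFunc k) ({θ} : Set K)) K
      rw [hdeg] at hfin2
      rcases (Nat.dvd_prime Nat.prime_two).1 (Dvd.intro _ hfin2) with h | h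
      · rw [IntermediateField.finrank_eq_one_iff, IntermediateField.adjoin_simple_eq_bot_iff] at h
        exact absurd h hnr
      · exact IntermediateField.eq_of_le_of_finrank_eq le_top (h.trans (by rw [IntermediateField.finrank_top', hdeg]))
    have h2K := two_ne_zero' (k := k) K h2
    have he1 := ram_eq_one_of_monic_separable_residue he hθtop (X ^ 2 - C (⟨u, hu.le⟩ : P.O))
      (monic_X_pow_sub_C _ two_ne_zero)
      (by rw [eval₂_sub, eval₂_pow, eval₂_X, eval₂_C, hθ2]; exact sub_self _)
      (by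
        rw [derivative_sub, derivative_C, sub_zero, derivative_X_pow, eval₂_mul, eval₂_C, eval₂_pow, eval₂_X]
        have hθv : Q.1 θ = 1 := by
          have := congrArg Q.1 hθ2
          rw [map_pow, he u, hu, one_pow] at this
          exact (pow_eq_one_iff_of_nonneg zero_le two_ne_zero).1 this
        simp only [map_mul, map_pow, hθv, one_pow, mul_one, Nat.cast_ofNat, map_ofNat]
        rw [show (2 : K) = algebraMap k K 2 from (map_ofNat _ 2).symm]
        exact val_const Q (Ring.two_ne_zero h2))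
    exact he1 ▸ he

theorem ram_artin_schreier (h2 : ringChar k = 2) (hdeg : Module.finrank (RatFunc k) K = 2) {y : K}
    (hy : y ∉ Set.range (algebraMap (RatFunc k) K)) {f : RatFunc k}
    (heq : y ^ 2 + y = algebraMap (RatFunc k) K f) (P : Place k (RatFunc k)) :
    ((P.ord f < 0 ∧ Odd (P.ord f)) → (∃! Q : Place k K, IsOver Q P) ∧
      ∀ Q : Place k K, IsOver Q P → IsOverWith Q P 2 ∧ Q.deg = P.deg) ∧
    (0 ≤ P.ord f → ∀ Q : Place k K, IsOver Q P → IsOverWith Q P 1) := by
  have := finite_of_deg_two hdeg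
  constructor
  · rintro ⟨hneg, hodd⟩
    refine total_ram_two isFunctionField_ratFunc hdeg fun Q e he => ?_
    have hf0 : f ≠ 0 := fun h0 => by simp [h0, Place.ord] at hneg
    have hQf : Q.1 (y ^ 2 + y) = exp ((e : ℤ) * -P.ord f) := by
      rw [heq, he f, val_eq_exp P hf0, ← exp_nsmul]; simp
    have hgt : 1 < Q.1 y := by
      by_contra hle
      rw [not_lt] at hle
      have : Q.1 (y ^ 2 + y) ≤ 1 := Q.1.map_add_le (by rw [map_pow]; exact pow_le_one₀ zero_le hle) hle
      rw [hQf, exp_le_one'] at this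
      have : 0 < (e : ℤ) * -P.ord f := mul_pos (by exact_mod_cast he.pos) (by omega)
      omega
    have hy0 : y ≠ 0 := fun h0 => by rw [h0, map_zero] at hgt; exact not_lt.2 zero_le hgt
    have hsum : Q.1 (y ^ 2 + y) = Q.1 y ^ 2 := by
      rw [Valuation.map_add_eq_of_lt_left, map_pow]
      rw [map_pow]
      exact lt_self_pow₀ hgt one_lt_two
    rw [hQf, val_eq_exp Q hy0, ← exp_nsmul] at hsum
    have h' : (e : ℤ) * -P.ord f = 2 * -Q.ord y := by simpa using congrArg log hsum
    exact two_dvd_of_odd hodd (Q := Q.ord y) (by linarith)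
  · rintro h0 Q ⟨e, he⟩
    have hfle : P.1 f ≤ 1 := by
      rcases eq_or_ne f 0 with h | h
      · rw [h, map_zero]; exact zero_le
      · exact (val_le_one_iff P h).2 h0
    have htop : IntermediateField.adjoin (RatFunc k) ({y} : Set K) = ⊤ := by
      have hfin2 := Module.finrank_mul_finrank (RatFunc k) (IntermediateField.adjoin (RatFunc k) ({y} : Set K)) K
      rw [hdeg] at hfin2
      rcases (Nat.dvd_prime Nat.prime_two).1 (Dvd.intro _ hfin2) with h | h
      · rw [IntermediateField.finrank_eq_one_iff, IntermediateField.adjoin_simple_eq_bot_iff] at h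
        exact absurd h hy
      · exact IntermediateField.eq_of_le_of_finrank_eq le_top (h.trans (by rw [IntermediateField.finrank_top', hdeg]))
    have : CharP k 2 := h2 ▸ ringChar.charP k
    have : CharP K 2 := charP_of_injective_algebraMap (algebraMap k K).injective 2
    have he1 := ram_eq_one_of_monic_separable_residue he htop (X ^ 2 + X - C (⟨f, hfle⟩ : P.O))
      (by monicity!)
      (by rw [eval₂_sub, eval₂_add, eval₂_pow, eval₂_X, eval₂_C, heq]; exact sub_self _)
      (by
        rw [derivative_sub, derivative_C, sub_zero, derivative_add, derivative_X_pow, derivative_X, eval₂_add,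
          eval₂_mul, eval₂_C, eval₂_pow, eval₂_X, eval₂_one]
        rw [map_natCast, Nat.cast_ofNat, show (2 : K) = 0 from CharTwo.two_eq_zero, zero_mul, zero_add, map_one])
    exact he1 ▸ he

end Groth.Agent.FF
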