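/-
Quadratic extensions and squarefree decompositions.
-/
import Mathlib.FieldTheory.IntermediateField.Adjoin.Basic
import Mathlib.FieldTheory.RatFunc.Basic
import Mathlib.FieldTheory.Separable
import Mathlib.Algebra.Squarefree.Basic
import Mathlib.FieldTheory.Perfect
import Mathlib.LinearAlgebra.FiniteDimensional.Lemmas
import Mathlib.FieldTheory.Minpoly.Basic
import Mathlib.FieldTheory.Minpoly.Finite

open Polynomial

namespace Groth.Agent.QuadExt

variable {F K : Type*} [Field F] [Field K] [Algebra F K]

theorem adjoin_eq_top (hdeg : Module.finrank F K = 2) {y : K} (hy : y ∉ Set.range (algebraMap F K)) :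
    IntermediateField.adjoin F ({y} : Set K) = ⊤ := by
  have : FiniteDimensional F K := Module.finite_of_finrank_eq_succ hdeg
  have hint : IsIntegral F y := .of_finite F y
  refine IntermediateField.eq_of_le_of_finrank_le le_top ?_
  rw [IntermediateField.finrank_top', hdeg, IntermediateField.adjoin.finrank hint]
  rcases Nat.lt_or_ge (minpoly F y).natDegree 2 with h | h
  · exfalso
    have h1 : (minpoly F y).natDegree = 1 := by have := minpoly.natDegree_pos hint; omega
    exact hy (minpoly.mem_range_of_degree_eq_one F y (by rw [degree_eq_natDegree (minpoly.ne_zero hint), h1]; rfl))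
  · exact h

theorem exists_quadratic (hdeg : Module.finrank F K = 2) :
    ∃ (z : K) (b c : F), z ∉ Set.range (algebraMap F K) ∧
      minpoly F z = X ^ 2 + C b * X + C c ∧ z ^ 2 + algebraMap F K b * z + algebraMap F K c = 0 := by
  have : FiniteDimensional F K := Module.finite_of_finrank_eq_succ hdeg
  obtain ⟨z, hz⟩ : ∃ z : K, z ∉ Set.range (algebraMap F K) := by
    by_contra hc
    push Not at hc
    have h1 : Module.finrank F K ≤ 1 := finrank_le_one (1 : K) fun x => by
      obtain ⟨a, ha⟩ := hc x
      exact ⟨a, by rw [Algebra.smul_def, mul_one, ha]⟩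
    omega
  have hint : IsIntegral F z := .of_finite F z
  have h2 : (minpoly F z).natDegree = 2 := by
    have h1 := minpoly.natDegree_pos hint
    have h3 := minpoly.natDegree_le (A := F) z
    rw [hdeg] at h3
    rcases Nat.lt_or_ge (minpoly F z).natDegree 2 with h | h
    · exact absurd (minpoly.mem_range_of_degree_eq_one F z (by
        rw [degree_eq_natDegree (minpoly.ne_zero hint), show (minpoly F z).natDegree = 1 by omega]; rfl)) hz
    · omega
  have hm : minpoly F z = X ^ 2 + C ((minpoly F z).coeff 1) * X + C ((minpoly F z).coeff 0) := by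
    conv_lhs => rw [as_sum_range_C_mul_X_pow (minpoly F z), h2]
    have : (minpoly F z).coeff 2 = 1 := h2 ▸ (minpoly.monic hint).coeff_natDegree
    simp [Finset.sum_range_succ, this]
    ring
  refine ⟨z, _, _, hz, hm, ?_⟩
  have := congrArg (aeval z) hm
  rw [minpoly.aeval] at this
  simpa using this.symm

theorem exists_sq_mul_squarefree {R : Type*} [CommRing R] [IsDomain R] [UniqueFactorizationMonoid R] {a : R}
    (ha : a ≠ 0) : ∃ h f : R, Squarefree f ∧ a = h ^ 2 * f := by
  induction a using UniqueFactorizationMonoid.induction_on_prime with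
  | h₁ => exact absurd rfl ha
  | h₂ x hx => exact ⟨1, x, hx.squarefree, by simp⟩
  | h₃ a p ha0 hp ih =>
    obtain ⟨h, f, hf, rfl⟩ := ih ha0
    by_cases hd : p ∣ f
    · obtain ⟨g, rfl⟩ := hd
      exact ⟨h * p, g, hf.squarefree_of_dvd (dvd_mul_left g p), by ring⟩
    · exact ⟨h, p * f, (squarefree_mul_iff.2 ⟨(hp.irreducible.isRelPrime_iff_not_dvd).2 hd, hp.irreducible.squarefree, hf⟩),
        by ring⟩

end Groth.Agent.QuadExt
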