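/-
Artin–Schreier extensions of degree two of function fields in characteristic two:
orders of the generator, Riemann–Roch spaces of conorms, genus.
-/
import Groth.Agent.L26.FF.Hyperelliptic
import Groth.Agent.L26.FF.Quadratic
import Groth.Agent.L26.FF.Galois
import Groth.Agent.L26.FF.Closed
import Mathlib.Algebra.CharP.Two

open WithZero Polynomial

namespace Groth.Agent.FF.AS2

open FunFld

variable {k F K : Type*} [Field k] [Field F] [Field K] [Algebra k F] [Algebra k K] [Algebra F K]
  [IsScalarTower k F K]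

local notation "ι" => algebraMap F K

lemma finite_of_deg (hdeg : Module.finrank F K = 2) : FiniteDimensional F K :=
  Module.finite_of_finrank_pos (by omega)

lemma exists_over (hF : IsFunctionField k F) [FiniteDimensional F K] (p : Place k F) :
    ∃ (Q : Place k K) (e : ℕ), IsOverWith Q p e := by
  classical
  obtain ⟨hfin, hsum⟩ := finite_over_and_sum (K' := K) hF p
  have h := hsum hfin.toFinset (fun Q => hfin.mem_toFinset)
  rcases hfin.toFinset.eq_empty_or_nonempty with h0 | ⟨Q, hQ⟩
  · rw [h0, Finset.sum_empty] at h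
    have := Nat.mul_pos (Module.finrank_pos (R := F) (M := K)) (one_le_deg hF.1 p)
    omega
  · obtain ⟨e, he⟩ := hfin.mem_toFinset.1 hQ
    exact ⟨Q, e, he⟩

omit [Algebra k F] [Algebra k K] [IsScalarTower k F K] in
lemma decomp (hdeg : Module.finrank F K = 2) {y : K} (hy : y ∉ Set.range ι) (z : K) :
    ∃ a b : F, z = ι a + ι b * y := by
  have hli : LinearIndependent F ![1, y] := by
    refine LinearIndependent.pair_iff.2 fun s t h => ?_
    by_cases ht : t = 0
    · subst ht; simpa using h
    · refine absurd ⟨-s / t, ?_⟩ hy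
      have ht' : ι t ≠ 0 := (_root_.map_ne_zero _).2 ht
      rw [Algebra.smul_def, Algebra.smul_def, mul_one] at h
      rw [map_div₀, map_neg, div_eq_iff ht']
      linear_combination -h
  have hsp := hli.span_eq_top_of_card_eq_finrank (by simp [hdeg])
  have hz : z ∈ Submodule.span F (Set.range ![(1 : K), y]) := hsp ▸ Submodule.mem_top
  rw [Matrix.range_cons, Matrix.range_cons, Matrix.range_empty, Set.union_empty] at hz
  obtain ⟨a, b, h⟩ := Submodule.mem_span_pair.1 hz
  exact ⟨a, b, by rw [← h, Algebra.smul_def, Algebra.smul_def, mul_one]⟩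

omit [Algebra k F] [Algebra k K] [IsScalarTower k F K] in
lemma exists_conj [CharP K 2] (hdeg : Module.finrank F K = 2) {y : K} (hy : y ∉ Set.range ι) {f : F}
    (heq : y ^ 2 + y = ι f) : ∃ σ : K ≃ₐ[F] K, σ y = y + 1 := by
  have := finite_of_deg (F := F) (K := K) hdeg
  have htop := QuadExt.adjoin_eq_top hdeg hy
  have hint : IsIntegral F y := .of_finite _ y
  have hmon : (X ^ 2 + X - C f : F[X]).Monic := by monicity!
  have hnd : (X ^ 2 + X - C f : F[X]).natDegree = 2 := by compute_degree!
  have hroot : ∀ z : K, z ^ 2 + z = ι f → aeval z (X ^ 2 + X - C f : F[X]) = 0 := fun z hz => by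
    simp only [map_sub, map_add, map_pow, aeval_X, aeval_C, hz, sub_self]
  have hd2 : (minpoly F y).natDegree = 2 := by
    rw [← IntermediateField.adjoin.finrank hint, htop, IntermediateField.finrank_top', hdeg]
  have hmin : minpoly F y = X ^ 2 + X - C f :=
    (Polynomial.eq_of_monic_of_dvd_of_natDegree_le (minpoly.monic hint) hmon (minpoly.dvd F y (hroot y heq))
      (by rw [hnd, hd2])).symm
  let B : PowerBasis F K := (IntermediateField.adjoin.powerBasis hint).map
    ((IntermediateField.equivOfEq htop).trans IntermediateField.topEquiv)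
  have hgen : B.gen = y := rfl
  let σ₀ : K →ₐ[F] K := B.lift (y + 1) (by
    rw [hgen, hmin]
    refine hroot _ ?_
    rw [CharTwo.add_sq, one_pow, ← heq]
    linear_combination (CharTwo.two_eq_zero : (2 : K) = 0))
  refine ⟨AlgEquiv.ofBijective σ₀ (Algebra.IsAlgebraic.algHom_bijective σ₀), ?_⟩
  show σ₀ y = y + 1
  conv_lhs => rw [← hgen]
  exact B.lift_gen _ _

lemma val_y_le {y : K} {f : F} (heq : y ^ 2 + y = ι f) {Q : Place k K} {p : Place k F} {e : ℕ}
    (he : IsOverWith Q p e) (hp : p.1 f ≤ 1) : Q.1 y ≤ 1 := by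
  by_contra hc
  rw [not_le] at hc
  have h1 := congrArg Q.1 heq
  rw [Valuation.map_add_eq_of_lt_left _ (by rw [map_pow]; exact lt_self_pow₀ hc one_lt_two), map_pow, he f] at h1
  exact not_lt.2 (pow_le_one₀ (n := e) zero_le hp) (h1 ▸ one_lt_pow₀ hc two_ne_zero)

lemma ord_y_pole {y : K} {f : F} (heq : y ^ 2 + y = ι f) {Q : Place k K} {p : Place k F} {e : ℕ}
    (he : IsOverWith Q p e) (hp : p.ord f < 0) : 2 * Q.ord y = e * p.ord f := by
  have hf0 : f ≠ 0 := fun h0 => by rw [h0, ord_zero] at hp; exact lt_irrefl _ hp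
  have hpf : 1 < p.1 f := not_le.1 fun h => not_le.2 hp ((val_le_one_iff p hf0).1 h)
  have hgt : 1 < Q.1 y := by
    by_contra hle
    rw [not_lt] at hle
    have : Q.1 (y ^ 2 + y) ≤ 1 := Q.1.map_add_le (by rw [map_pow]; exact pow_le_one₀ zero_le hle) hle
    rw [heq, he f] at this
    exact not_lt.2 this (one_lt_pow₀ hpf he.pos.ne')
  have hy0 : y ≠ 0 := fun h0 => by rw [h0, map_zero] at hgt; exact not_lt.2 zero_le hgt
  have h1 := congrArg Q.1 heq
  rw [Valuation.map_add_eq_of_lt_left _ (by rw [map_pow]; exact lt_self_pow₀ hgt one_lt_two), map_pow, he f,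
    val_eq_exp Q hy0, val_eq_exp p hf0, ← exp_nsmul, ← exp_nsmul] at h1
  have h' : (2 : ℕ) • -Q.ord y = e • -p.ord f := by simpa using congrArg log h1
  simp only [nsmul_eq_mul] at h'
  push_cast at h'
  linarith

lemma odd_ram (hF : IsFunctionField k F) (hdeg : Module.finrank F K = 2) {y : K} {f : F}
    (heq : y ^ 2 + y = ι f) {p : Place k F} (hp : p.ord f < 0) (hodd : Odd (p.ord f)) :
    (∃! Q : Place k K, IsOver Q p) ∧
      ∀ (Q : Place k K) (e : ℕ), IsOverWith Q p e → e = 2 ∧ Q.ord y = p.ord f ∧ Q.deg = p.deg := by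
  have := finite_of_deg (F := F) (K := K) hdeg
  obtain ⟨h1, h2⟩ := total_ram_two (K' := K) hF hdeg (P := p) fun Q e he => two_dvd_of_odd hodd (ord_y_pole heq he hp)
  refine ⟨h1, fun Q e he => ?_⟩
  obtain ⟨h3, h4⟩ := h2 Q ⟨e, he⟩
  obtain rfl := (he.unique h3).2
  have := ord_y_pole heq he hp
  exact ⟨rfl, by push_cast at this; omega, h4⟩

/-- `L(conorm D) = L(D) ⊕ L(D - E) y`. -/
lemma mem_L_conorm [CharP K 2] (hF : IsFunctionField k F) (hdeg : Module.finrank F K = 2) {y : K}
    (hy : y ∉ Set.range ι) {f : F} (heq : y ^ 2 + y = ι f) (hodd : ∀ p : Place k F, p.ord f < 0 → Odd (p.ord f))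
    {E : Divisor k F} (hE : ∀ p : Place k F, E p = if p.ord f < 0 then (1 - p.ord f) / 2 else 0)
    (D : Divisor k F) (a b : F) :
    ι a + ι b * y ∈ L (conorm K D) ↔ a ∈ L D ∧ b ∈ L (D - E) := by
  have := finite_of_deg (F := F) (K := K) hdeg
  obtain ⟨σ, hσ⟩ := exists_conj hdeg hy heq
  have hy0 : y ≠ 0 := fun h => hy ⟨0, by rw [map_zero, h]⟩
  have hlow : ∀ {g : F} {Q : Place k K} {p : Place k F} {e : ℕ}, IsOverWith Q p e →
      (Q.1 (ι g) ≤ exp (conorm K D Q) ↔ p.1 g ≤ exp (D p)) := by
    intro g Q p e he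
    rw [he g, conorm_apply hF.1 D he, show exp ((e : ℤ) * D p) = exp (D p) ^ e by rw [← exp_nsmul]; simp]
    exact pow_le_pow_iff_left₀ zero_le zero_le he.pos.ne'
  constructor
  · intro hz
    have hb : ∀ (p : Place k F), p.1 b ≤ exp (D p) := fun p => by
      obtain ⟨Q, e, he⟩ := exists_over (K := K) hF p
      refine (hlow he).1 ?_
      have h1 := hz Q
      have h2 := hz (galPlace σ.symm Q)
      rw [galPlace_apply, AlgEquiv.symm_symm, map_add, map_mul, AlgEquiv.commutes, AlgEquiv.commutes, hσ,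
        conorm_apply hF.1 D (galPlace_isOverWith σ.symm he), ← conorm_apply hF.1 D he] at h2
      have := Q.1.map_add_le h1 h2
      rwa [show ι a + ι b * y + (ι a + ι b * (y + 1)) = ι b from by
        linear_combination (ι a + ι b * y) * (CharTwo.two_eq_zero : (2 : K) = 0)] at this
    have hboth : ∀ p : Place k F, p.1 a ≤ exp (D p) ∧ p.1 b ≤ exp ((D - E) p) := fun p => by
      obtain ⟨Q, e, he⟩ := exists_over (K := K) hF p
      rw [Finsupp.sub_apply, hE]
      by_cases hp : p.ord f < 0
      · rw [if_pos hp]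
        obtain ⟨rfl, hQy, -⟩ := (odd_ram hF hdeg heq hp (hodd p hp)).2 Q e he
        rcases eq_or_ne b 0 with rfl | hb0
        · refine ⟨(hlow he).1 ?_, by simp⟩
          simpa using hz Q
        have hby : ι b * y ≠ 0 := mul_ne_zero ((_root_.map_ne_zero _).2 hb0) hy0
        have hord : Q.ord (ι b * y) = 2 * p.ord b + p.ord f := by
          rw [ord_mul Q ((_root_.map_ne_zero _).2 hb0) hy0, he.ord, hQy]
          rfl
        have hne : Q.1 (ι a) ≠ Q.1 (ι b * y) := by
          rcases eq_or_ne a 0 with rfl | ha0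
          · rw [map_zero, map_zero]; exact (val_ne_zero Q hby).symm
          intro h
          have h' : Q.ord (ι a) = Q.ord (ι b * y) := by simp only [Place.ord, h]
          rw [hord, he.ord] at h'
          obtain ⟨r, hr⟩ := hodd p hp
          push_cast at h'
          omega
        have h1 := hz Q
        rw [Valuation.map_add_of_distinct_val _ hne, max_le_iff] at h1
        refine ⟨(hlow he).1 h1.1, (val_le_exp_iff p hb0).2 ?_⟩
        have h2 := (val_le_exp_iff Q hby).1 h1.2
        rw [hord, conorm_apply hF.1 D he] at h2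
        obtain ⟨r, hr⟩ := hodd p hp
        push_cast at h2
        omega
      · rw [if_neg hp, sub_zero]
        refine ⟨(hlow he).1 ?_, hb p⟩
        have hyle : Q.1 y ≤ 1 := by
          refine val_y_le heq he ?_
          rcases eq_or_ne f 0 with rfl | hf0
          · simp
          · exact (val_le_one_iff p hf0).2 (not_lt.1 hp)
        have h1 := Q.1.map_sub_le (hz Q) (show Q.1 (ι b * y) ≤ exp (conorm K D Q) by
          rw [map_mul]; exact (mul_le_of_le_one_right' hyle).trans ((hlow he).2 (hb p)))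
        rwa [add_sub_cancel_right] at h1
    exact ⟨fun p => (hboth p).1, fun p => (hboth p).2⟩
  · rintro ⟨ha, hb⟩ Q
    obtain ⟨p, e, he⟩ := exists_below hF.1 Q
    refine Q.1.map_add_le ((hlow he).2 (ha p)) ?_
    rcases eq_or_ne b 0 with rfl | hb0
    · simp
    have hby : ι b * y ≠ 0 := mul_ne_zero ((_root_.map_ne_zero _).2 hb0) hy0
    have h1 := (val_le_exp_iff p hb0).1 (hb p)
    rw [Finsupp.sub_apply, hE] at h1
    by_cases hp : p.ord f < 0
    · rw [if_pos hp] at h1
      obtain ⟨rfl, hQy, -⟩ := (odd_ram hF hdeg heq hp (hodd p hp)).2 Q e he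
      refine (val_le_exp_iff Q hby).2 ?_
      rw [ord_mul Q ((_root_.map_ne_zero _).2 hb0) hy0, he.ord, hQy, conorm_apply hF.1 D he]
      obtain ⟨r, hr⟩ := hodd p hp
      push_cast
      omega
    · rw [if_neg hp, sub_zero] at h1
      rw [map_mul]
      refine (mul_le_of_le_one_right' (val_y_le heq he ?_)).trans ((hlow he).2 ((val_le_exp_iff p hb0).2 h1))
      rcases eq_or_ne f 0 with rfl | hf0
      · simp
      · exact (val_le_one_iff p hf0).2 (not_lt.1 hp)

lemma ell_conorm [CharP K 2] (hF : IsFunctionField k F) (hdeg : Module.finrank F K = 2) {y : K}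
    (hy : y ∉ Set.range ι) {f : F} (heq : y ^ 2 + y = ι f) (hodd : ∀ p : Place k F, p.ord f < 0 → Odd (p.ord f))
    {E : Divisor k F} (hE : ∀ p : Place k F, E p = if p.ord f < 0 then (1 - p.ord f) / 2 else 0)
    (D : Divisor k F) : ell (conorm K D) = ell D + ell (D - E) := by
  let ψ : (L D × L (D - E)) →ₗ[k] K :=
    LinearMap.coprod ((IsScalarTower.toAlgHom k F K).toLinearMap ∘ₗ (L D).subtype)
      ((LinearMap.mulRight k y) ∘ₗ ((IsScalarTower.toAlgHom k F K).toLinearMap ∘ₗ (L (D - E)).subtype))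
  have hψ : ∀ q, ψ q = ι q.1.1 + ι q.2.1 * y := fun q => rfl
  have hinj : Function.Injective ψ := by
    rw [injective_iff_map_eq_zero]
    intro q hq
    rw [hψ] at hq
    have hb0 : q.2.1 = 0 := by
      by_contra hb
      refine hy ⟨-q.1.1 / q.2.1, ?_⟩
      rw [map_div₀, map_neg, div_eq_iff ((_root_.map_ne_zero _).2 hb)]
      linear_combination -hq
    rw [hb0, map_zero, zero_mul, add_zero, _root_.map_eq_zero] at hq
    exact Prod.ext (Subtype.ext hq) (Subtype.ext hb0)
  have hrange : LinearMap.range ψ = L (conorm K D) := by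
    ext z
    constructor
    · rintro ⟨⟨a, b⟩, rfl⟩
      exact (mem_L_conorm hF hdeg hy heq hodd hE D a b).2 ⟨a.2, b.2⟩
    · intro hz
      obtain ⟨a, b, rfl⟩ := decomp hdeg hy z
      obtain ⟨ha, hb⟩ := (mem_L_conorm hF hdeg hy heq hodd hE D a b).1 hz
      exact ⟨(⟨a, ha⟩, ⟨b, hb⟩), rfl⟩
  have := finite_L hF.1 D
  have := finite_L hF.1 (D - E)
  rw [ell, ← hrange, LinearMap.finrank_range_of_inj hinj, Module.finrank_prod]
  rfl

/-- Hurwitz's formula for an Artin–Schreier extension of degree two with reduced datum. -/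
theorem genus_eq [CharP K 2] (hF : IsFunctionField k F) (hK : IsFunctionField k K)
    (hdeg : Module.finrank F K = 2) {y : K} (hy : y ∉ Set.range ι) {f : F} (heq : y ^ 2 + y = ι f)
    (hodd : ∀ p : Place k F, p.ord f < 0 → Odd (p.ord f))
    {E : Divisor k F} (hE : ∀ p : Place k F, E p = if p.ord f < 0 then (1 - p.ord f) / 2 else 0) :
    (genus k K : ℤ) = 2 * genus k F + E.deg - 1 := by
  have := finite_of_deg (F := F) (K := K) hdeg
  obtain ⟨x, hx⟩ := exists_transcendental hF
  let n : ℕ := E.deg.natAbs + 2 * genus k F + 2 * genus k K + 1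
  let D : Divisor k F := n • poles k x
  obtain ⟨P, hP⟩ := exists_pole hF.1 hx
  have hd1 : (1 : ℤ) ≤ (poles k x).deg := by
    have hx0 : x ≠ 0 := fun h => by rw [h, map_zero] at hP; exact not_lt.2 zero_le hP
    have h1 : 1 ≤ poles k x P := by
      rw [poles_apply hF.1]
      have : P.ord x < 0 := not_le.1 fun h => not_lt.2 ((val_le_one_iff P hx0).2 h) hP
      omega
    calc (1 : ℤ) ≤ poles k x P * P.deg := by
          have := one_le_deg hF.1 P
          nlinarith
      _ = Divisor.deg (Finsupp.single P (poles k x P)) := (deg_single _ _).symm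
      _ ≤ _ := deg_mono ((single_le_iff (poles_nonneg x)).2 le_rfl)
  have hDdeg : (n : ℤ) ≤ D.deg := by
    rw [deg_nsmul]
    exact le_mul_of_one_le_right (by positivity) hd1
  have hn : (n : ℤ) = |E.deg| + 2 * genus k F + 2 * genus k K + 1 := by
    simp only [n]; push_cast; rfl
  have hEa := le_abs_self E.deg
  have hEn := neg_abs_le E.deg
  have h1 := ell_eq_of_deg_ge hF (D := D) (by omega)
  have h2 := ell_eq_of_deg_ge hF (D := D - E) (by rw [deg_sub]; omega)
  have h3 := ell_eq_of_deg_ge hK (D := conorm K D) (by rw [deg_conorm hF, hdeg]; omega)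
  rw [ell_conorm hF hdeg hy heq hodd hE D, deg_conorm hF, hdeg] at h3
  rw [deg_sub] at h2
  push_cast at h3
  linarith

/-- Two places over a place where the datum is integral, when the constants are algebraically closed. -/
theorem split_of_integral [IsAlgClosed k] [CharP K 2] (hF : IsFunctionField k F) (hK : IsFunctionField k K)
    (hdeg : Module.finrank F K = 2) {y : K} (hy : y ∉ Set.range ι) {f : F} (heq : y ^ 2 + y = ι f)
    {p : Place k F} (hp : p.1 f ≤ 1) {Q : Place k K} {e : ℕ} (he : IsOverWith Q p e) :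
    e = 1 ∧ ∃ Q' : Place k K, Q' ≠ Q ∧ IsOverWith Q' p 1 ∧ ∀ z : F, Q'.1 (y + ι z) = Q.1 (y + 1 + ι z) := by
  classical
  have := finite_of_deg (F := F) (K := K) hdeg
  obtain ⟨σ, hσ⟩ := exists_conj hdeg hy heq
  set Q' := galPlace σ.symm Q with hQ'
  have hval : ∀ z : F, Q'.1 (y + ι z) = Q.1 (y + 1 + ι z) := fun z => by
    rw [hQ', galPlace_apply, AlgEquiv.symm_symm, map_add, hσ, AlgEquiv.commutes]
  obtain ⟨c, hc⟩ := exists_value Q (deg_eq_one hK Q) (val_y_le heq he hp)
  have hne : Q' ≠ Q := fun h => by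
    have h1 : Q.1 (y + ι (-algebraMap k F c)) < 1 := by
      rwa [map_neg, ← IsScalarTower.algebraMap_apply, ← sub_eq_add_neg]
    have h2 : Q.1 (y + 1 + ι (-algebraMap k F c)) < 1 := by rw [← hval, h]; exact h1
    have h3 := Q.1.map_sub (y + 1 + ι (-algebraMap k F c)) (y + ι (-algebraMap k F c))
    rw [show y + 1 + ι (-algebraMap k F c) - (y + ι (-algebraMap k F c)) = 1 from by ring, map_one] at h3
    exact not_lt.2 h3 (max_lt h2 h1)
  have he' : IsOverWith Q' p e := galPlace_isOverWith σ.symm he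
  obtain ⟨hfin, hsum⟩ := finite_over_and_sum (K' := K) hF p
  have hs := hsum hfin.toFinset (fun Q => hfin.mem_toFinset)
  rw [hdeg, deg_eq_one hF p] at hs
  have hle : ∑ R ∈ {Q', Q}, ramIdx R p * R.deg ≤ ∑ R ∈ hfin.toFinset, ramIdx R p * R.deg := by
    refine Finset.sum_le_sum_of_subset ?_
    intro R hR
    rw [Finset.mem_insert, Finset.mem_singleton] at hR
    rcases hR with rfl | rfl
    · exact hfin.mem_toFinset.2 ⟨e, he'⟩
    · exact hfin.mem_toFinset.2 ⟨e, he⟩
  rw [Finset.sum_pair hne, ramIdx_eq he, ramIdx_eq he', deg_eq_one hK, deg_eq_one hK, hs] at hle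
  have := he.pos
  obtain rfl : e = 1 := by omega
  exact ⟨rfl, Q', hne, he', hval⟩

end Groth.Agent.FF.AS2
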