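/-
Artin–Schreier double covers of the projective line in characteristic two, poles at finite points.
-/
import Groth.Agent.L26.FF.ASChar2

open WithZero Polynomial

namespace Groth.Agent.FF.AS2

open FunFld

variable {k K : Type*} [Field k] [Field K] [Algebra k K] [Algebra (RatFunc k) K] [IsScalarTower k (RatFunc k) K]

local notation "ι" => algebraMap (RatFunc k) K
local notation "x'" => algebraMap (RatFunc k) K (RatFunc.X : RatFunc k)

lemma algebraMap_X_sub_C (β : k) : ι ((RatFunc.X : RatFunc k) - RatFunc.C β) = x' - algebraMap k K β := by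
  rw [map_sub, ← RatFunc.algebraMap_eq_C, ← IsScalarTower.algebraMap_apply]

lemma X_sub_C_ne (β : k) : (RatFunc.X : RatFunc k) - RatFunc.C β ≠ 0 := by
  rw [← RatFunc.algebraMap_X, ← RatFunc.algebraMap_C, ← map_sub]
  exact (map_ne_zero_iff _ (RatFunc.algebraMap_injective k)).2 (X_sub_C_ne_zero β)

lemma x_sub_ne (β : k) : x' - algebraMap k K β ≠ 0 := by
  rw [← algebraMap_X_sub_C]; exact (_root_.map_ne_zero _).2 (X_sub_C_ne β)

lemma ord_X_sub_C {p : Place k (RatFunc k)} {β : k} (h : p.1 ((RatFunc.X : RatFunc k) - RatFunc.C β) < 1) :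
    p.ord ((RatFunc.X : RatFunc k) - RatFunc.C β) = 1 := by
  rw [← RatFunc.algebraMap_X, ← RatFunc.algebraMap_C, ← map_sub] at h ⊢
  rw [ord_eq_of_val p (val_fin_poly (irreducible_X_sub_C β) h).1, neg_neg]

lemma ord_zpow {K : Type*} [Field K] [Algebra k K] (P : Place k K) (x : K) (j : ℤ) : P.ord (x ^ j) = j * P.ord x := by
  simp [Place.ord, map_zpow₀, log_zpow]

lemma ord_mul_zpow {K : Type*} [Field K] [Algebra k K] (P : Place k K) {x y : K} (hx : x ≠ 0) (hy : y ≠ 0) (j : ℤ) :
    P.ord (y * x ^ j) = P.ord y + j * P.ord x := by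
  rw [ord_mul P hy (zpow_ne_zero j hx), ord_zpow]

variable [IsAlgClosed k] [CharP k 2] {y : K} {f : RatFunc k} {B : Finset k} {d : k → ℕ}

/-- above a pole of the datum -/
lemma at_pole (hdeg : Module.finrank (RatFunc k) K = 2) (heq : y ^ 2 + y = ι f)
    (hd : ∀ β ∈ B, Odd (d β))
    (hpole : ∀ (p : Place k (RatFunc k)) (β : k), β ∈ B →
      p.1 ((RatFunc.X : RatFunc k) - RatFunc.C β) < 1 → p.ord f = -(d β : ℤ))
    {β : k} (hβ : β ∈ B) {Q : Place k K} (hQ : Q.1 (x' - algebraMap k K β) < 1) :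
    Q.ord y = -(d β : ℤ) ∧ Q.ord (x' - algebraMap k K β) = 2 ∧
      ∀ Q' : Place k K, Q'.1 (x' - algebraMap k K β) < 1 → Q' = Q := by
  have hR : IsFunctionField k (RatFunc k) := isFunctionField_ratFunc
  have := finite_of_deg (F := RatFunc k) (K := K) hdeg
  have hpos : 0 < d β := (hd β hβ).pos
  have key : ∀ R : Place k K, R.1 (x' - algebraMap k K β) < 1 → ∀ p e, IsOverWith R p e →
      p.1 ((RatFunc.X : RatFunc k) - RatFunc.C β) < 1 := fun R hR' p e he =>
    (he.lt_one_iff _).1 (by rwa [algebraMap_X_sub_C])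
  obtain ⟨p, e, he⟩ := exists_below hR.1 Q
  have hp := key Q hQ p e he
  have hord := hpole p β hβ hp
  obtain ⟨h1, h2⟩ := odd_ram (K := K) hR hdeg heq (p := p) (by omega) (by rw [hord]; exact ((hd β hβ).natCast).neg)
  obtain ⟨rfl, hy1, -⟩ := h2 Q e he
  refine ⟨hy1.trans hord, by rw [← algebraMap_X_sub_C, he.ord, ord_X_sub_C hp]; rfl, fun Q' hQ' => ?_⟩
  obtain ⟨p', e', he'⟩ := exists_below hR.1 Q'
  have hp' := key Q' hQ' p' e' he'
  obtain rfl : p' = p := by
    refine eq_of_le fun z hz => ?_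
    -- both are the place of the polynomial `X - β`
    rw [← RatFunc.algebraMap_X, ← RatFunc.algebraMap_C, ← map_sub] at hp hp'
    obtain ⟨a1, a2⟩ := val_fin_poly (irreducible_X_sub_C β) hp
    obtain ⟨b1, b2⟩ := val_fin_poly (irreducible_X_sub_C β) hp'
    have hv : ∀ g : k[X], p'.1 (algebraMap k[X] (RatFunc k) g) = p.1 (algebraMap k[X] (RatFunc k) g) := by
      intro g
      rcases eq_or_ne g 0 with rfl | hg
      · simp
      obtain ⟨n, a, ha, rfl⟩ := WfDvdMonoid.max_power_factor hg (irreducible_X_sub_C β)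
      rw [map_mul, map_pow, map_mul, map_pow, map_mul, map_pow, a1, b1, a2 a ha, b2 a ha]
    rwa [← RatFunc.num_div_denom z, map_div₀, hv, hv, ← map_div₀, RatFunc.num_div_denom] at hz
  exact h1.unique ⟨e', he'⟩ ⟨_, he⟩

/-- away from the poles of the datum -/
lemma val_y_off (hK : IsFunctionField k K) (heq : y ^ 2 + y = ι f)
    (hint : ∀ p : Place k (RatFunc k), (∀ β ∈ B, 1 ≤ p.1 ((RatFunc.X : RatFunc k) - RatFunc.C β)) → p.1 f ≤ 1)
    (hdeg : Module.finrank (RatFunc k) K = 2) {Q : Place k K}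
    (hQ : ∀ β ∈ B, 1 ≤ Q.1 (x' - algebraMap k K β)) : Q.1 y ≤ 1 := by
  have := finite_of_deg (F := RatFunc k) (K := K) hdeg
  obtain ⟨p, e, he⟩ := exists_below (isFunctionField_ratFunc (k := k)).1 Q
  refine val_y_le heq he (hint p fun β hβ => not_lt.1 fun h => not_lt.2 (hQ β hβ) ?_)
  rw [← algebraMap_X_sub_C]
  exact (he.lt_one_iff _).2 h

omit [IsAlgClosed k] [CharP k 2] in
lemma val_x_sub_inf {Q : Place k K} (hQ : 1 < Q.1 x') (α : k) : Q.1 (x' - algebraMap k K α) = Q.1 x' :=
  Valuation.map_sub_eq_of_lt_left _ ((Q.2.1 α).trans_lt hQ)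

omit [IsAlgClosed k] [CharP k 2] in
lemma val_x_sub_other {Q : Place k K} {β α : k} (hne : β ≠ α) (hQ : Q.1 (x' - algebraMap k K β) < 1) :
    Q.1 (x' - algebraMap k K α) = 1 := by
  have hc : Q.1 (algebraMap k K (β - α)) = 1 := val_const Q (sub_ne_zero.2 hne)
  rw [show x' - algebraMap k K α = (x' - algebraMap k K β) + algebraMap k K (β - α) by rw [map_sub]; ring,
    Valuation.map_add_eq_of_lt_right _ (by rwa [hc]), hc]

/-- the places at infinity: two of them, unramified, with `y` not vanishing at one -/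
lemma at_inf (hK : IsFunctionField k K) (hdeg : Module.finrank (RatFunc k) K = 2) (hy : y ∉ Set.range ι)
    (heq : y ^ 2 + y = ι f)
    (hint : ∀ p : Place k (RatFunc k), (∀ β ∈ B, 1 ≤ p.1 ((RatFunc.X : RatFunc k) - RatFunc.C β)) → p.1 f ≤ 1)
    {Q : Place k K} (hQ : 1 < Q.1 x') :
    Q.1 y ≤ 1 ∧ Q.ord x' = -1 ∧
      ∃ Q' : Place k K, 1 < Q'.1 x' ∧ ∀ z : RatFunc k, Q'.1 (y + ι z) = Q.1 (y + 1 + ι z) := by
  have hR : IsFunctionField k (RatFunc k) := isFunctionField_ratFunc
  have : CharP K 2 := charP_of_injective_algebraMap (algebraMap k K).injective 2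
  have := finite_of_deg (F := RatFunc k) (K := K) hdeg
  obtain ⟨p, e, he⟩ := exists_below hR.1 Q
  have hpX : 1 < p.1 (RatFunc.X : RatFunc k) := not_le.1 fun h => not_lt.2 ((he.le_one_iff _).2 h) hQ
  have hpo : p.ord (RatFunc.X : RatFunc k) < 0 :=
    not_le.1 fun h => not_lt.2 ((val_le_one_iff p RatFunc.X_ne_zero).2 h) hpX
  have hp : p.1 f ≤ 1 := hint p fun β _ => by
    rw [Valuation.map_sub_eq_of_lt_left _ (by rw [← RatFunc.algebraMap_eq_C]; exact (p.2.1 β).trans_lt hpX)]
    exact hpX.le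
  obtain ⟨rfl, Q', -, he', hv⟩ := split_of_integral hR hK hdeg hy heq hp he
  refine ⟨val_y_le heq he hp, by rw [he.ord, (inf_place hpo).1]; rfl, Q', not_le.1 fun h => ?_, hv⟩
  exact not_lt.2 ((he'.le_one_iff _).1 h) hpX

end Groth.Agent.FF.AS2

namespace Groth.Agent.FF.AS2

open FunFld

variable {k K : Type*} [Field k] [Field K] [Algebra k K] [Algebra (RatFunc k) K] [IsScalarTower k (RatFunc k) K]

local notation "ι" => algebraMap (RatFunc k) K
local notation "x'" => algebraMap (RatFunc k) K (RatFunc.X : RatFunc k)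

lemma val_poly_le (Q : Place k K) {g : k[X]} {n : ℕ} (hn : g.natDegree ≤ n) :
    Q.1 (ι (algebraMap k[X] (RatFunc k) g)) ≤ max 1 (Q.1 x') ^ n := by
  rw [g.as_sum_range_C_mul_X_pow, map_sum, map_sum]
  refine Q.1.map_sum_le fun i hi => ?_
  rw [map_mul, map_pow, RatFunc.algebraMap_X, map_mul, map_pow, map_mul, map_pow, ← Polynomial.algebraMap_eq,
    ← IsScalarTower.algebraMap_apply k k[X] (RatFunc k), ← IsScalarTower.algebraMap_apply k (RatFunc k) K]
  refine (mul_le_of_le_one_left zero_le (Q.2.1 _)).trans ((pow_le_pow_left₀ zero_le (le_max_right 1 _) i).trans ?_)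
  exact pow_le_pow_right₀ (le_max_left _ _) (by have := Finset.mem_range.1 hi; omega)

/-- principal part of a rational function at a finite point -/
lemma exists_principal (g : RatFunc k) (α : k) : ∃ g' : RatFunc k,
    (∀ Q : Place k K, Q.1 (x' - algebraMap k K α) < 1 → Q.1 (ι (g - g')) ≤ 1) ∧
      ∀ Q : Place k K, 1 ≤ Q.1 (x' - algebraMap k K α) → Q.1 (ι g') ≤ 1 := by
  set P : k[X] := Polynomial.X - Polynomial.C α with hP
  have hPirr : Irreducible P := irreducible_X_sub_C α
  have hPK : ι (algebraMap k[X] (RatFunc k) P) = x' - algebraMap k K α := by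
    rw [hP, map_sub, RatFunc.algebraMap_X, RatFunc.algebraMap_C, algebraMap_X_sub_C]
  obtain ⟨n, R, hR, hden⟩ := WfDvdMonoid.max_power_factor g.denom_ne_zero hPirr
  obtain ⟨a, b, hab⟩ := ((hPirr.coprime_iff_not_dvd).2 hR).pow_left (m := n)
  set h := (g.num * b) %ₘ P ^ n with hh
  have hdiv := Polynomial.modByMonic_add_div (g.num * b) (P ^ n)
  set q := (g.num * b) /ₘ P ^ n
  refine ⟨algebraMap k[X] (RatFunc k) h / algebraMap k[X] (RatFunc k) P ^ n, fun Q hQ => ?_, fun Q hQ => ?_⟩
  · have hx : Q.1 x' ≤ 1 := by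
      by_contra hc
      rw [not_le] at hc
      rw [Valuation.map_sub_eq_of_lt_left _ ((Q.2.1 α).trans_lt hc)] at hQ
      exact not_lt.2 hQ.le hc
    have hle : ∀ u : k[X], Q.1 (ι (algebraMap k[X] (RatFunc k) u)) ≤ 1 := fun u =>
      (val_poly_le Q (le_refl u.natDegree)).trans (by rw [max_eq_left hx, one_pow])
    have hR1 : Q.1 (ι (algebraMap k[X] (RatFunc k) R)) = 1 := by
      refine le_antisymm (hle R) (not_lt.1 fun hlt => ?_)
      obtain ⟨a', b', hab'⟩ := (hPirr.coprime_iff_not_dvd).2 hR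
      have h1 := congrArg (fun z => Q.1 (ι (algebraMap k[X] (RatFunc k) z))) hab'
      simp only [map_add, map_mul, map_one] at h1
      refine (lt_of_eq_of_lt h1.symm (Q.1.map_add_lt ?_ ?_)).false
      · rw [map_mul]; exact (mul_le_of_le_one_left zero_le (hle a')).trans_lt (by rwa [hPK])
      · rw [map_mul]; exact (mul_le_of_le_one_left zero_le (hle b')).trans_lt hlt
    have key : (g - algebraMap k[X] (RatFunc k) h / algebraMap k[X] (RatFunc k) P ^ n) * algebraMap k[X] (RatFunc k) R =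
        algebraMap k[X] (RatFunc k) (g.num * a + q * R) := by
      have hPn : algebraMap k[X] (RatFunc k) P ^ n ≠ 0 :=
        pow_ne_zero _ ((map_ne_zero_iff _ (RatFunc.algebraMap_injective k)).2 hPirr.ne_zero)
      have hR0 : algebraMap k[X] (RatFunc k) R ≠ 0 :=
        (map_ne_zero_iff _ (RatFunc.algebraMap_injective k)).2 fun h0 => hR (h0 ▸ dvd_zero _)
      have hpoly : g.num - h * R = P ^ n * (g.num * a + q * R) := by
        linear_combination (-g.num) * hab + (-R) * hdiv
      have := congrArg (algebraMap k[X] (RatFunc k)) hpoly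
      simp only [map_sub, map_mul, map_pow] at this
      conv_lhs => rw [← RatFunc.num_div_denom g, hden, map_mul, map_pow]
      field_simp
      linear_combination this
    have h2 := congrArg (fun z => Q.1 (ι z)) key
    simp only [map_mul, hR1, mul_one] at h2
    rw [h2]; exact hle _
  · rw [map_div₀, map_pow, map_div₀, map_pow, hPK,
      div_le_one₀ (pow_pos (lt_of_lt_of_le one_pos hQ) n)]
    rcases eq_or_ne n 0 with rfl | hn
    · simp [hh]
    have hdeg : h.natDegree ≤ n := by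
      have := Polynomial.natDegree_modByMonic_lt (g.num * b) ((monic_X_sub_C α).pow n)
        (by intro h1; have := congrArg natDegree h1; rw [natDegree_pow, natDegree_X_sub_C, natDegree_one] at this; omega)
      rw [hh]
      rw [natDegree_pow, natDegree_X_sub_C, mul_one] at this
      exact this.le
    refine (val_poly_le Q hdeg).trans (pow_le_pow_left₀ zero_le (max_le hQ ?_) n)
    rcases le_or_gt (Q.1 x') 1 with h1 | h1
    · exact h1.trans hQ
    · exact (Valuation.map_sub_eq_of_lt_left _ ((Q.2.1 α).trans_lt h1)).ge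

/-- a rational function supported at the only place over a point is a coboundary -/
lemma single_mem [DecidableEq (Place k K)] (g : RatFunc k) (α : k) {P : Place k K}
    (hP : P.1 (x' - algebraMap k K α) < 1) (hu : ∀ Q : Place k K, Q.1 (x' - algebraMap k K α) < 1 → Q = P) :
    (Pi.single P (ι g) : Place k K → K) ∈ AD (0 : Divisor k K) ⊔ LinearMap.range (diag k K) := by
  obtain ⟨g', h1, h2⟩ := exists_principal (K := K) g α
  refine Submodule.mem_sup.2 ⟨Pi.single P (ι g) - diag k K (ι g'), fun Q => ?_, diag k K (ι g'), ⟨_, rfl⟩, sub_add_cancel _ _⟩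
  rw [Pi.sub_apply, diag_apply, Finsupp.zero_apply, exp_zero]
  rcases eq_or_ne Q P with rfl | hne
  · rw [Pi.single_eq_same, ← map_sub]; exact h1 Q hP
  · rw [Pi.single_eq_of_ne hne, zero_sub, Valuation.map_neg]
    exact h2 Q (not_lt.1 fun h => hne (hu Q h))

end Groth.Agent.FF.AS2
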