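/-
A function field over a perfect field is geometric.
-/
import Groth.Agent.L26.FF.Basic
import Mathlib.FieldTheory.Perfect
import Mathlib.FieldTheory.PrimitiveElement
import Mathlib.FieldTheory.IsAlgClosed.AlgebraicClosure
import Mathlib.RingTheory.IntegralClosure.IntegrallyClosed
import Mathlib.RingTheory.Polynomial.GaussLemma
import Mathlib.LinearAlgebra.FreeModule.Finite.Basic

open scoped TensorProduct
open Polynomial

namespace Groth.Agent.FF

open FunFld

universe u v

theorem isGeometric_of_perfect {k : Type u} {K : Type v} [Field k] [Field K] [Algebra k K] [PerfectField k]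
    (hK : IsFunctionField k K) : IsGeometric k K := by
  intro k' _ _ hfin
  obtain ⟨θ, hθ⟩ := Field.exists_primitive_element k k'
  have hθi : IsIntegral k θ := .of_finite k θ
  let σ : k' →ₐ[k] AlgebraicClosure K := IsAlgClosed.lift
  set p := minpoly k θ with hp
  have hpn : p.natDegree = Module.finrank k k' := by
    rw [hp, ← IntermediateField.adjoin.finrank hθi, hθ, IntermediateField.finrank_top']
  have hσi : IsIntegral K (σ θ) := (hθi.map σ).tower_top
  set q := minpoly K (σ θ) with hq
  have hqp : q ∣ p.map (algebraMap k K) :=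
    minpoly.dvd K _ (by rw [aeval_map_algebraMap, aeval_algHom_apply, minpoly.aeval, map_zero])
  obtain ⟨g, hg, -, -⟩ := Polynomial.lifts_and_natDegree_eq_and_monic
    (f := algebraMap (integralClosure k K) K)
    (integralClosure.mem_lifts_of_monic_of_dvd_map (R := k) K (minpoly.monic hθi) (minpoly.monic hσi) hqp)
    (minpoly.monic hσi)
  have hq0 : q ∈ lifts (algebraMap k K) := by
    refine (lifts_iff_coeff_lifts q).2 fun n => hK.2 _ ?_
    rw [hq, ← hg, coeff_map]
    exact (g.coeff n).2.isAlgebraic
  obtain ⟨q₀, hq₀, hq₀d, hq₀m⟩ := lifts_and_natDegree_eq_and_monic hq0 (minpoly.monic hσi)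
  have hle : p.natDegree ≤ q.natDegree := by
    rw [← hq₀d]
    refine natDegree_le_of_dvd (minpoly.dvd k θ (σ.toRingHom.injective ?_)) hq₀m.ne_zero
    show σ (aeval θ q₀) = σ 0
    rw [map_zero, ← aeval_algHom_apply, ← aeval_map_algebraMap K, hq₀, hq, minpoly.aeval]
  let f : K ⊗[k] k' →ₐ[K] AlgebraicClosure K :=
    Algebra.TensorProduct.lift (Algebra.ofId K _) σ fun _ _ => Commute.all _ _
  have hmem : Algebra.adjoin K {σ θ} ≤ f.range := Algebra.adjoin_le fun z hz => by
    rw [Set.mem_singleton_iff] at hz
    exact ⟨1 ⊗ₜ θ, by show f (1 ⊗ₜ θ) = z; rw [Algebra.TensorProduct.lift_tmul, map_one, one_mul, hz]⟩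
  have hinj : Function.Injective f := by
    have h1 : q.natDegree ≤ Module.finrank K f.range := by
      have h2 : Module.finrank K (Algebra.adjoin K {σ θ}) = q.natDegree := by
        rw [← IntermediateField.adjoin_simple_toSubalgebra_of_isAlgebraic hσi.isAlgebraic]
        exact IntermediateField.adjoin.finrank hσi
      have : Module.Finite K (LinearMap.range f.toLinearMap) := Module.Finite.range _
      rw [← h2]
      exact Submodule.finrank_mono (s := Subalgebra.toSubmodule (Algebra.adjoin K {σ θ}))
        (t := LinearMap.range f.toLinearMap) hmem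
    have h3 := LinearMap.finrank_range_add_finrank_ker f.toLinearMap
    rw [Module.finrank_baseChange, ← hpn] at h3
    have h4 : Module.finrank K (LinearMap.range f.toLinearMap) = Module.finrank K f.range := rfl
    exact LinearMap.ker_eq_bot.1 (Submodule.finrank_eq_zero.1 (by omega) : LinearMap.ker f.toLinearMap = ⊥)
  have : IsDomain (K ⊗[k] k') := hinj.isDomain f.toRingHom
  have hfield : IsField (K ⊗[k] k') := isField_of_isIntegral_of_isField' (Field.toIsField K)
  exact MulEquiv.isField hfield (Algebra.TensorProduct.comm k k' K).toMulEquiv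

end Groth.Agent.FF
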