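/-
Differentials of the rational function field and derivatives of series of given order.
-/
import Groth.Agent.L26.Res.Residue
import Mathlib.FieldTheory.RatFunc.AsPolynomial
import Mathlib.RingTheory.Derivation.MapCoeffs

open WithZero
open scoped LaurentSeries

namespace Groth.Agent.FF

variable {k : Type*} [Field k]

local notation "d" => KaehlerDifferential.D k (RatFunc k)

lemma exists_smul_DX (z : RatFunc k) : ∃ c : RatFunc k, c • d RatFunc.X = d z := by
  have hp : ∀ p : Polynomial k, algebraMap (Polynomial k) (RatFunc k) p = Polynomial.aeval RatFunc.X p := fun p => by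
    rw [← RatFunc.algebraMap_X, Polynomial.aeval_algebraMap_apply, Polynomial.aeval_X_left_apply]
  rw [← RatFunc.num_div_denom z, Derivation.leibniz_div, hp, hp, Derivation.map_aeval, Derivation.map_aeval,
    smul_smul, smul_smul, ← sub_smul, smul_smul]
  exact ⟨_, rfl⟩

lemma exists_smul_D_rat {f : RatFunc k} (hf : d f ≠ 0) (z : RatFunc k) : ∃ c : RatFunc k, c • d f = d z := by
  obtain ⟨a, ha⟩ := exists_smul_DX f
  obtain ⟨b, hb⟩ := exists_smul_DX z
  have ha0 : a ≠ 0 := fun h => hf (by rw [← ha, h, zero_smul])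
  exact ⟨b / a, by rw [← ha, smul_smul, div_mul_cancel₀ _ ha0, hb]⟩

/-- The derivative of a series of order prime to the characteristic. -/
lemma v_D_eq {F : Type*} [Field F] {f : F⸨X⸩} {m : ℤ} (h : Valued.v f = exp m) (hm : (m : F) ≠ 0) :
    Valued.v (LocRes.D F f) = exp (m + 1) := by
  refine le_antisymm (Res.v_D_le h.le) (not_lt.1 fun hlt => ?_)
  have h1 : Valued.v (LocRes.D F f) ≤ exp (m + 1 - 1) := le_exp_sub_one' hlt
  rw [show m + 1 - 1 = -(-m) by ring, LaurentSeries.valuation_le_iff_coeff_lt_eq_zero] at h1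
  have h2 : f.coeff (-m) = 0 := by
    have h3 := h1 (-m - 1) (by omega)
    rw [LocRes.D_coeff, show -m - 1 + 1 = -m by ring, zsmul_eq_mul, mul_eq_zero, Int.cast_neg, neg_eq_zero] at h3
    exact h3.resolve_left hm
  have h4 : Valued.v f ≤ exp (m - 1) := by
    have h' := h.le
    rw [show m = -(-m) by ring, LaurentSeries.valuation_le_iff_coeff_lt_eq_zero] at h'
    rw [show m - 1 = -(-m + 1) by ring, LaurentSeries.valuation_le_iff_coeff_lt_eq_zero]
    intro i hi
    rcases eq_or_lt_of_le (show i ≤ -m by omega) with rfl | hlt'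
    · exact h2
    · exact h' i hlt'
  rw [h, exp_le_exp] at h4
  omega
where
  le_exp_sub_one' {a : WithZero (Multiplicative ℤ)} {n : ℤ} (h : a < exp n) : a ≤ exp (n - 1) := by
    rcases eq_or_ne a 0 with rfl | h0
    · exact zero_le
    · rw [← exp_log h0, exp_lt_exp] at h; rw [← exp_log h0, exp_le_exp]; omega

end Groth.Agent.FF
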