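/-
Regular differentials of an Artin–Schreier double cover of the projective line in characteristic two.
-/
import Groth.Agent.L26.FF.ASChar2Rat
import Groth.Agent.L26.FF.RatDiff
import Groth.Agent.L26.FF.GeomPerfect

open WithZero Polynomial FunFld
open scoped LaurentSeries

namespace Groth.Agent.FF.AS2

universe u v w

variable {k : Type u} {K : Type v} [Field k] [Field K] [Algebra k K] [Algebra (RatFunc k) K] [IsScalarTower k (RatFunc k) K]

local notation "ι" => algebraMap (RatFunc k) K
local notation "x'" => algebraMap (RatFunc k) K (RatFunc.X : RatFunc k)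
local notation "φ" => algebraMap k[X] (RatFunc k)

lemma inf_unique {p q : Place k (RatFunc k)} (hp : p.ord (RatFunc.X : RatFunc k) < 0)
    (hq : q.ord (RatFunc.X : RatFunc k) < 0) : p = q := by
  refine eq_of_le fun z hz => ?_
  have hv : ∀ g : k[X], p.1 (φ g) = q.1 (φ g) := fun g => by
    rcases eq_or_ne g 0 with rfl | hg
    · simp
    · rw [val_inf_poly hp hg, val_inf_poly hq hg]
  rwa [← RatFunc.num_div_denom z, map_div₀, hv, hv, ← map_div₀, RatFunc.num_div_denom] at hz

lemma exists_inf : ∃ p : Place k (RatFunc k), p.ord (RatFunc.X : RatFunc k) < 0 := by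
  obtain ⟨p, hp⟩ := exists_pole (isFF_ratFunc (k := k)) transcendental_ratFunc_X
  exact ⟨p, not_le.1 fun h => not_lt.2 ((val_le_one_iff p RatFunc.X_ne_zero).2 h) hp⟩

variable {G : Type w} [Field G] [Algebra k G]

omit [Algebra (RatFunc k) K] [IsScalarTower k (RatFunc k) K] in
lemma D_aeval (ψ : K →ₐ[k] G⸨X⸩) (z : K) (g : k[X]) :
    LocRes.D G (ψ (aeval z g)) = ψ (aeval z (derivative g)) * LocRes.D G (ψ z) := by
  have h : (aeval z (derivative g)) • KaehlerDifferential.D k K z = KaehlerDifferential.D k K (aeval z g) :=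
    (Derivation.map_aeval _ g z).symm
  exact (Res.D_map_smul ψ h).symm

omit [IsScalarTower k (RatFunc k) K] in
lemma poly_eq_aeval [IsScalarTower k (RatFunc k) K] (g : k[X]) : ι (φ g) = aeval x' g := by
  rw [aeval_algebraMap_apply, ← RatFunc.algebraMap_X, aeval_algebraMap_apply, aeval_X_left_apply]

lemma D_poly (ψ : K →ₐ[k] G⸨X⸩) (g : k[X]) :
    LocRes.D G (ψ (ι (φ g))) = ψ (ι (φ (derivative g))) * LocRes.D G (ψ x') := by
  rw [poly_eq_aeval, poly_eq_aeval, D_aeval]

section
variable [CharP k 2] {y : K} {f : RatFunc k} {P : Place k K} {p : Place k (RatFunc k)}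
  {ψ : K →ₐ[k] G⸨X⸩}

omit [IsScalarTower k (RatFunc k) K] in
lemma v_D_datum (heq : y ^ 2 + y = ι f) (hψ : LocRes.IsExpansionAt P.1 ψ) {m : ℤ}
    (hy : P.1 y = exp m) (hm : Odd m) : Valued.v (LocRes.D G (ψ (ι f))) = exp (m + 1) := by
  have : CharP G 2 := charP_of_injective_algebraMap (algebraMap k G).injective 2
  have : CharP G⸨X⸩ 2 := charP_of_injective_algebraMap (algebraMap G G⸨X⸩).injective 2
  rw [← heq, map_add, map_pow, map_add, sq, Derivation.leibniz, CharTwo.add_self_eq_zero, zero_add]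
  refine v_D_eq (by rw [Res.val_map hψ, hy]) ?_
  rw [Ne, CharP.intCast_eq_zero_iff G 2]
  obtain ⟨r, rfl⟩ := hm
  omega

/-- the order of `dx` above a finite pole of the datum -/
lemma v_Dx_finite_pole [PerfectField k] (hdeg : Module.finrank (RatFunc k) K = 2)
    (heq : y ^ 2 + y = ι f) (hψ : LocRes.IsExpansionAt P.1 ψ) {e : ℕ} (he : IsOverWith P p e)
    (hX : p.1 (RatFunc.X : RatFunc k) ≤ 1) (hneg : p.ord f < 0) (hodd : Odd (p.ord f)) :
    Valued.v (LocRes.D G (ψ x')) = exp (p.ord f - 1) := by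
  classical
  have := finite_of_deg (F := RatFunc k) (K := K) hdeg
  obtain ⟨rfl, hPy, -⟩ := (odd_ram (K := K) isFunctionField_ratFunc hdeg heq hneg hodd).2 P e he
  have hf0 : f ≠ 0 := fun h => by rw [h, ord_zero] at hneg; exact lt_irrefl _ hneg
  have hy0 : y ≠ 0 := fun h => by
    rw [h, zero_pow two_ne_zero, add_zero, eq_comm, _root_.map_eq_zero] at heq; exact hf0 heq
  have hle : ∀ g : k[X], p.1 (φ g) ≤ 1 := fun g => by
    induction g using Polynomial.induction_on' with
    | add a b ha hb => rw [map_add]; exact p.1.map_add_le ha hb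
    | monomial n a =>
      rw [← C_mul_X_pow_eq_monomial, map_mul, map_pow, RatFunc.algebraMap_X, map_mul, map_pow,
        ← Polynomial.algebraMap_eq, ← IsScalarTower.algebraMap_apply k k[X] (RatFunc k)]
      exact mul_le_one' (p.2.1 a) (pow_le_one' hX n)
  have hD0 : φ f.denom ≠ 0 := (map_ne_zero_iff _ (RatFunc.algebraMap_injective k)).2 f.denom_ne_zero
  have hDlt : p.1 (φ f.denom) < 1 := by
    refine lt_of_le_of_ne (hle _) fun h1 => not_le.2 hneg ((val_le_one_iff p hf0).1 ?_)
    rw [← RatFunc.num_div_denom f, map_div₀, h1, div_one]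
    exact hle _
  obtain ⟨π, hπ, hπD, hπv⟩ : ∃ π, Irreducible π ∧ π ∣ f.denom ∧ p.1 (φ π) < 1 := by
    by_contra hc
    push Not at hc
    have hall : ∀ g : k[X], g ≠ 0 → g ∣ f.denom → 1 ≤ p.1 (φ g) := fun g => by
      induction g using UniqueFactorizationMonoid.induction_on_prime with
      | h₁ => exact fun h => absurd rfl h
      | h₂ u hu =>
        intro _ _
        obtain ⟨c, hc, rfl⟩ := Polynomial.isUnit_iff.1 hu
        rw [← Polynomial.algebraMap_eq, ← IsScalarTower.algebraMap_apply, val_const p hc.ne_zero]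
      | h₃ a π ha hπ ih =>
        intro _ hd
        rw [map_mul, map_mul]
        exact one_le_mul (hc π hπ.irreducible (dvd_of_mul_right_dvd hd)) (ih ha (dvd_of_mul_left_dvd hd))
    exact not_le.2 hDlt (hall _ f.denom_ne_zero dvd_rfl)
  obtain ⟨h1, h2⟩ := val_fin_poly hπ hπv
  obtain ⟨n, R, hR, hden⟩ := WfDvdMonoid.max_power_factor f.denom_ne_zero hπ
  have hN : ¬ π ∣ f.num := fun h => hπ.not_isUnit ((RatFunc.isCoprime_num_denom f).isUnit_of_dvd' h hπD)
  have hn : p.ord f = -(n : ℤ) := by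
    refine (ord_eq_of_val p (n := (n : ℤ)) ?_)
    rw [← RatFunc.num_div_denom f, map_div₀, hden, map_mul, map_pow, map_mul, map_pow, h1, h2 _ hN, h2 _ hR,
      mul_one, ← exp_nsmul, one_div, ← exp_neg]
    simp
  -- the key identity `dy · (π^n R) R π = dx · Num`
  set Num := derivative f.num * R * π - f.num * ((n : k[X]) * derivative π * R + π * derivative R) with hNum
  have hNumv : p.1 (φ Num) = 1 := by
    refine h2 _ fun hd => ?_
    have h3 : π ∣ f.num * ((n : k[X]) * derivative π * R) := by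
      have h4 := dvd_sub (dvd_mul_left π (derivative f.num * R - f.num * derivative R)) hd
      rwa [show (derivative f.num * R - f.num * derivative R) * π - Num = f.num * ((n : k[X]) * derivative π * R) by
        rw [hNum]; ring] at h4
    have hn1 : (n : k[X]) = 1 := by
      have : CharP k[X] 2 := inferInstance
      rw [← Nat.mod_add_div n 2, Nat.cast_add, Nat.cast_mul, show ((2 : ℕ) : k[X]) = 0 from CharP.cast_eq_zero _ 2]
      rw [show n % 2 = 1 from Nat.odd_iff.1 (by rw [hn] at hodd; simpa using hodd)]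
      simp
    rw [hn1, one_mul] at h3
    rcases hπ.prime.dvd_or_dvd h3 with h | h
    · exact hN h
    rcases hπ.prime.dvd_or_dvd h with h | h
    · exact hπ.not_isUnit ((PerfectField.separable_of_irreducible hπ).isUnit_of_dvd' dvd_rfl h)
    · exact hR h
  have hkey : LocRes.D G (ψ (ι f)) * ψ (ι (φ (f.denom * R * π))) = LocRes.D G (ψ x') * ψ (ι (φ Num)) := by
    have e0 : ψ (ι f) * ψ (ι (φ f.denom)) = ψ (ι (φ f.num)) := by
      rw [← map_mul, ← map_mul, (eq_div_iff hD0).1 (RatFunc.num_div_denom f).symm]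
    have e1 := congrArg (LocRes.D G) e0
    rw [Derivation.leibniz, smul_eq_mul, smul_eq_mul, D_poly, D_poly] at e1
    have hd1 : derivative f.denom * R * π = f.denom * ((n : k[X]) * derivative π * R + π * derivative R) := by
      rw [hden, derivative_mul, derivative_pow]
      rcases n with _ | n
      · simp; ring
      · rw [Nat.add_sub_cancel, C_eq_natCast]; ring
    simp only [map_mul, hNum, map_sub]
    have e2 := congrArg (fun g => ψ (ι (φ g))) hd1
    simp only [map_mul] at e2
    linear_combination (ψ (ι (φ R)) * ψ (ι (φ π))) * e1 - (ψ (ι f) * LocRes.D G (ψ x')) * e2 -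
      (LocRes.D G (ψ x') * ψ (ι (φ ((n : k[X]) * derivative π * R + π * derivative R)))) * e0
  have hv := congrArg Valued.v hkey
  rw [map_mul Valued.v, map_mul Valued.v, Res.val_map hψ, Res.val_map hψ, he, he, hNumv, one_pow, mul_one,
    v_D_datum heq hψ (by rw [val_eq_exp P hy0, hPy]) hodd.neg] at hv
  rw [← hv, hden]
  simp only [map_mul, map_pow, h1, h2 _ hR, mul_one, ← exp_nsmul, ← exp_add]
  congr 1
  rw [hn]; simp; ring

/-- the order of `dx` above infinity, pole case -/
lemma v_Dx_inf_pole (hdeg : Module.finrank (RatFunc k) K = 2)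
    (heq : y ^ 2 + y = ι f) (hψ : LocRes.IsExpansionAt P.1 ψ) {e : ℕ} (he : IsOverWith P p e)
    (hX : p.ord (RatFunc.X : RatFunc k) < 0) (hneg : p.ord f < 0) (hodd : Odd (p.ord f)) :
    Valued.v (LocRes.D G (ψ x')) = exp (3 + p.ord f) := by
  have := finite_of_deg (F := RatFunc k) (K := K) hdeg
  obtain ⟨rfl, hPy, -⟩ := (odd_ram (K := K) isFunctionField_ratFunc hdeg heq hneg hodd).2 P e he
  have hf0 : f ≠ 0 := fun h => by rw [h, ord_zero] at hneg; exact lt_irrefl _ hneg
  have hy0 : y ≠ 0 := fun h => by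
    rw [h, zero_pow two_ne_zero, add_zero, eq_comm, _root_.map_eq_zero] at heq; exact hf0 heq
  have hN0 : f.num ≠ 0 := RatFunc.num_ne_zero hf0
  set a := f.num.natDegree with ha
  set b := f.denom.natDegree with hb
  have hord : p.ord f = (b : ℤ) - a := by
    have hv : p.1 f = exp ((a : ℤ) - b) := by
      rw [← RatFunc.num_div_denom f, map_div₀, val_inf_poly hX hN0, val_inf_poly hX f.denom_ne_zero, ← exp_sub]
    rw [ord_eq_of_val p hv]; ring
  set Num := derivative f.num * f.denom - f.num * derivative f.denom with hNum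
  have hcoef : Num.coeff (a + b - 1) ≠ 0 := by
    obtain ⟨r, hr⟩ := hodd
    have hl : ∀ g h : k[X], g ≠ 0 → (derivative g * h).coeff (g.natDegree + h.natDegree - 1) =
        (g.natDegree : k) * g.leadingCoeff * h.leadingCoeff := fun g h hg => by
      rcases Nat.eq_zero_or_pos g.natDegree with h0 | hpos
      · rw [derivative_of_natDegree_zero h0, h0]; simp
      · rw [show g.natDegree + h.natDegree - 1 = (g.natDegree - 1) + h.natDegree by omega,
          coeff_mul_add_eq_of_natDegree_le (natDegree_derivative_le g) le_rfl, coeff_derivative,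
          show g.natDegree - 1 + 1 = g.natDegree by omega, coeff_natDegree, coeff_natDegree,
          ← Nat.cast_add_one, show g.natDegree - 1 + 1 = g.natDegree by omega]
        ring
    have h1 := hl f.num f.denom hN0
    have h2 := hl f.denom f.num f.denom_ne_zero
    rw [add_comm, ← ha, ← hb, mul_comm (derivative f.denom)] at h2
    rw [← ha, ← hb] at h1
    rw [hNum, coeff_sub, h1, h2]
    rw [show (a : k) * f.num.leadingCoeff * f.denom.leadingCoeff - (b : k) * f.denom.leadingCoeff * f.num.leadingCoeff =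
      (((a : ℤ) - b : ℤ) : k) * (f.num.leadingCoeff * f.denom.leadingCoeff) by push_cast; ring]
    refine mul_ne_zero ?_ (mul_ne_zero (leadingCoeff_ne_zero.2 hN0) (leadingCoeff_ne_zero.2 f.denom_ne_zero))
    rw [Ne, CharP.intCast_eq_zero_iff k 2]
    omega
  have hNdeg : Num.natDegree = a + b - 1 := by
    refine le_antisymm ?_ (le_natDegree_of_ne_zero hcoef)
    have hd : ∀ g h : k[X], (derivative g * h).natDegree ≤ g.natDegree + h.natDegree - 1 := fun g h => by
      rcases Nat.eq_zero_or_pos g.natDegree with h0 | hpos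
      · rw [derivative_of_natDegree_zero h0, zero_mul, natDegree_zero]; exact Nat.zero_le _
      · refine natDegree_mul_le.trans ?_
        have := natDegree_derivative_le g
        omega
    refine (natDegree_sub_le _ _).trans (max_le (hd _ _) ?_)
    rw [mul_comm, add_comm]; exact hd _ _
  have hNum0 : Num ≠ 0 := fun h => hcoef (by rw [h, coeff_zero])
  have hkey : LocRes.D G (ψ (ι f)) * ψ (ι (φ (f.denom * f.denom))) = LocRes.D G (ψ x') * ψ (ι (φ Num)) := by
    have e0 : ψ (ι f) * ψ (ι (φ f.denom)) = ψ (ι (φ f.num)) := by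
      rw [← map_mul, ← map_mul, (eq_div_iff ((map_ne_zero_iff _ (RatFunc.algebraMap_injective k)).2
        f.denom_ne_zero)).1 (RatFunc.num_div_denom f).symm]
    have e1 := congrArg (LocRes.D G) e0
    rw [Derivation.leibniz, smul_eq_mul, smul_eq_mul, D_poly, D_poly] at e1
    simp only [map_mul, hNum, map_sub]
    linear_combination (ψ (ι (φ f.denom))) * e1 - (LocRes.D G (ψ x') * ψ (ι (φ (derivative f.denom)))) * e0
  have hab : 1 ≤ a + b := by omega
  have hv := congrArg Valued.v hkey
  rw [map_mul Valued.v, map_mul Valued.v, Res.val_map hψ, Res.val_map hψ, he, he,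
    v_D_datum heq hψ (by rw [val_eq_exp P hy0, hPy]) hodd.neg] at hv
  simp only [map_mul, val_inf_poly hX hNum0, hNdeg, val_inf_poly hX f.denom_ne_zero, ← hb, ← exp_add, ← exp_nsmul] at hv
  rw [← mul_left_inj' (exp_ne_zero (a := (2 : ℕ) • ((a + b - 1 : ℕ) : ℤ))), ← hv, ← exp_add]
  congr 1
  rw [hord]; simp; push_cast [Nat.cast_sub hab]; ring

/-- the order of `dx` above infinity, regular case -/
lemma v_Dx_inf_unram (hdeg : Module.finrank (RatFunc k) K = 2) (hy : y ∉ Set.range ι)
    (heq : y ^ 2 + y = ι f) (hψ : LocRes.IsExpansionAt P.1 ψ) {e : ℕ} (he : IsOverWith P p e)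
    (hX : p.ord (RatFunc.X : RatFunc k) < 0) (h0 : 0 ≤ p.ord f) :
    e = 1 ∧ Valued.v (LocRes.D G (ψ x')) = exp (2 : ℤ) := by
  have := finite_of_deg (F := RatFunc k) (K := K) hdeg
  have h1 := (ram_artin_schreier (ringChar.eq k 2) hdeg hy heq p).2 h0 P ⟨e, he⟩
  obtain rfl := (he.unique h1).2
  refine ⟨rfl, v_D_eq (m := 1) ?_ (by simp)⟩
  rw [Res.val_map hψ, he, pow_one, val_eq_exp p RatFunc.X_ne_zero, (inf_place hX).1]
  rfl

end


/-- The regular differentials `z dx` are exactly those with `z = r ∈ L(E - 2∞)` in `k(x)`. -/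
theorem regular_iff [CharP k 2] [PerfectField k] (hK : IsFunctionField k K) (hdeg : Module.finrank (RatFunc k) K = 2)
    {y : K} (hy : y ∉ Set.range ι) {f : RatFunc k} (heq : y ^ 2 + y = ι f)
    (hodd : ∀ p : Place k (RatFunc k), p.ord f < 0 → Odd (p.ord f))
    {E : Divisor k (RatFunc k)} (hE : ∀ p : Place k (RatFunc k), E p = if p.ord f < 0 then (1 - p.ord f) / 2 else 0)
    {pinf : Place k (RatFunc k)} (hinf : pinf.ord (RatFunc.X : RatFunc k) < 0)
    (F : Place k K → Type w) [∀ P, Field (F P)] [∀ P, Algebra k (F P)] [∀ P, FiniteDimensional k (F P)]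
    (ψ : ∀ P, K →ₐ[k] (F P)⸨X⸩) (hψ : ∀ P, LocRes.IsExpansionAt P.1 (ψ P)) :
    (∀ z : K, (∀ P, LocRes.vDiff (ψ P) z x' ≤ 1) ↔ ∃ r ∈ L (E - Finsupp.single pinf 2), z = ι r) ∧
      (ell (E - Finsupp.single pinf 2) : ℤ) = genus k K ∧ E.deg = (genus k K : ℤ) + 1 := by
  classical
  have := finite_of_deg (F := RatFunc k) (K := K) hdeg
  have hR : IsFunctionField k (RatFunc k) := isFunctionField_ratFunc
  have : CharP K 2 := charP_of_injective_algebraMap (algebraMap k K).injective 2
  have hg : IsGeometric k K := isGeometric_of_perfect hK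
  have hgR : (genus k (RatFunc k) : ℤ) = 0 := by
    rw [genus_eq_zero_of_adjoin_eq_top hR RatFunc.adjoin_X]; rfl
  have hgen := genus_eq hR hK hdeg hy heq hodd hE
  rw [hgR] at hgen
  have hinfdeg : pinf.deg = 1 := (inf_place hinf).2
  have hell : (ell (E - Finsupp.single pinf 2) : ℤ) = genus k K := by
    rw [ell_eq_of_deg_ge hR (by rw [hgR, deg_sub, deg_single, hinfdeg]; omega), hgR, deg_sub, deg_single, hinfdeg]
    omega
  refine ⟨?_, hell, by omega⟩
  -- the value of `dx`
  have hval : ∀ (P : Place k K) (p : Place k (RatFunc k)) (e : ℕ), IsOverWith P p e →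
      Valued.v (LocRes.D (F P) (ψ P x')) ≤ exp (-((e : ℤ) * (E p - if p = pinf then 2 else 0))) ∧
        (p = pinf → LocRes.vDiff (ψ P) 1 x' ≠ 0) := by
    intro P p e he
    by_cases hpi : p = pinf
    · subst hpi
      rw [if_pos rfl, hE, Res.vDiff_eq, map_one, map_one, one_mul]
      by_cases hneg : p.ord f < 0
      · obtain ⟨rfl, -, -⟩ := (odd_ram (K := K) hR hdeg heq hneg (hodd p hneg)).2 P e he
        rw [v_Dx_inf_pole hdeg heq (hψ P) he hinf hneg (hodd p hneg), if_pos hneg]
        refine ⟨exp_le_exp.2 ?_, fun _ => exp_ne_zero⟩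
        obtain ⟨r, hr⟩ := hodd p hneg
        push_cast; omega
      · obtain ⟨rfl, hv⟩ := v_Dx_inf_unram hdeg hy heq (hψ P) he hinf (not_lt.1 hneg)
        rw [hv, if_neg hneg]
        exact ⟨exp_le_exp.2 (by simp), fun _ => exp_ne_zero⟩
    · rw [if_neg hpi, sub_zero, hE]
      refine ⟨?_, fun h => absurd h hpi⟩
      have hX : p.1 (RatFunc.X : RatFunc k) ≤ 1 := by
        by_contra hc
        exact hpi (inf_unique (not_le.1 fun h => hc ((val_le_one_iff p RatFunc.X_ne_zero).2 h)) hinf)
      by_cases hneg : p.ord f < 0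
      · obtain ⟨rfl, -, -⟩ := (odd_ram (K := K) hR hdeg heq hneg (hodd p hneg)).2 P e he
        rw [v_Dx_finite_pole hdeg heq (hψ P) he hX hneg (hodd p hneg), if_pos hneg, exp_le_exp]
        obtain ⟨r, hr⟩ := hodd p hneg
        push_cast; omega
      · rw [if_neg hneg, mul_zero, neg_zero, exp_zero]
        refine Res.v_D_le_one ?_
        rw [Res.val_map (hψ P), he]
        exact pow_le_one₀ zero_le hX
  have hreg : ∀ r ∈ L (E - Finsupp.single pinf 2), ∀ P, LocRes.vDiff (ψ P) (ι r) x' ≤ 1 := by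
    intro r hr P
    obtain ⟨p, e, he⟩ := exists_below hR.1 P
    have h1 := hr p
    rw [Finsupp.sub_apply, Finsupp.single_apply] at h1
    rw [Res.vDiff_eq, Res.val_map (hψ P), he]
    refine (mul_le_mul' (pow_le_pow_left₀ zero_le h1 e) (hval P p e he).1).trans ?_
    rw [← exp_nsmul, ← exp_add, exp_le_one']
    simp only [eq_comm (a := pinf)]
    rw [nsmul_eq_mul]
    exact (add_neg_cancel _).le
  have hdx : KaehlerDifferential.D k K x' ≠ 0 := fun h => by
    obtain ⟨Q, e, he⟩ := exists_over (K := K) hR pinf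
    exact (hval Q pinf e he).2 rfl (by rw [Res.vDiff_eq, Res.D_map_eq_zero _ h, map_zero, mul_zero])
  obtain ⟨-, -, C, hC, -⟩ := Res.resW_spec hK hg ψ hψ one_ne_zero hdx
  have hmem : ∀ z : K, (∀ P, LocRes.vDiff (ψ P) z x' ≤ 1) ↔ z ∈ L (C - 0) := fun z => by
    rw [← Res.mem_diffSpace_iff hK hg ψ hψ hdx C hC 0 z]
    simp
  have hfr : Module.finrank k (L (C - 0)) = genus k K := by
    have h := Res.finrank_diffSpace hK hg ψ hψ hdx 0
    have e : {z : K | ∀ P, LocRes.vDiff (ψ P) z x' ≤ exp (-((0 : Divisor k K) P))} = (L (C - 0) : Set K) :=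
      Set.ext (Res.mem_diffSpace_iff hK hg ψ hψ hdx C hC 0)
    rw [e, Submodule.span_eq] at h
    rw [h]
    have h2 := (finrank_WD hK (0 : Divisor k K)).2
    rw [delta_zero hK, sub_zero] at h2
    exact_mod_cast h2
  let η : RatFunc k →ₗ[k] K := (IsScalarTower.toAlgHom k (RatFunc k) K).toLinearMap
  have heqS : (L (E - Finsupp.single pinf 2)).map η = L (C - 0) := by
    have := finite_L hK.1 (C - 0)
    refine Submodule.eq_of_le_of_finrank_eq ?_ ?_
    · rintro z ⟨r, hr, rfl⟩
      exact (hmem _).1 (hreg r hr)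
    · rw [hfr, ← (Submodule.equivMapOfInjective η (algebraMap (RatFunc k) K).injective _).finrank_eq]
      exact_mod_cast hell
  intro z
  rw [hmem, ← heqS, Submodule.mem_map]
  exact ⟨fun ⟨r, hr, h⟩ => ⟨r, hr, h.symm⟩, fun ⟨r, hr, h⟩ => ⟨r, hr, h.symm⟩⟩

end Groth.Agent.FF.AS2
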