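/-
Reduction of Artin–Schreier data over a rational function field of characteristic two.
-/
import Mathlib.FieldTheory.RatFunc.Basic
import Mathlib.FieldTheory.Perfect
import Mathlib.RingTheory.AdjoinRoot
import Mathlib.Algebra.CharP.Algebra
import Mathlib.Algebra.CharP.Two

open Polynomial

namespace Groth.Agent.ASReduce

variable {k : Type*} [Field k] [CharP k 2] [PerfectField k]

local notation "φ" => algebraMap k[X] (RatFunc k)

/-- no irreducible factor occurs with positive even multiplicity -/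
def OddMult (D : k[X]) : Prop :=
  ∀ (p : k[X]) (m : ℕ) (g : k[X]), Irreducible p → D = p ^ (2 * m + 2) * g → p ∣ g

theorem exists_sqrt_mod {p : k[X]} (hp : Irreducible p) (N g : k[X]) (hg : ¬ p ∣ g) :
    ∃ h : k[X], p ∣ N + g * h ^ 2 := by
  haveI : Fact (Irreducible p) := ⟨hp⟩
  haveI : Module.Finite k (AdjoinRoot p) := (AdjoinRoot.powerBasis hp.ne_zero).finite
  haveI : PerfectField (AdjoinRoot p) := Algebra.IsAlgebraic.perfectField (K := k)
  haveI : CharP (AdjoinRoot p) 2 := charP_of_injective_algebraMap (algebraMap k (AdjoinRoot p)).injective 2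
  haveI : ExpChar (AdjoinRoot p) 2 := .prime Nat.prime_two
  haveI := PerfectField.toPerfectRing (K := AdjoinRoot p) 2
  have hg0 : AdjoinRoot.mk p g ≠ 0 := fun h => hg (AdjoinRoot.mk_eq_zero.1 h)
  obtain ⟨r, hr⟩ := (frobeniusEquiv (AdjoinRoot p) 2).surjective (AdjoinRoot.mk p N / AdjoinRoot.mk p g)
  rw [frobeniusEquiv_apply, frobenius_def] at hr
  obtain ⟨h, rfl⟩ := AdjoinRoot.mk_surjective r
  refine ⟨h, AdjoinRoot.mk_eq_zero.1 ?_⟩
  rw [map_add, map_mul, map_pow, hr, mul_div_cancel₀ _ hg0, CharTwo.add_self_eq_zero]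

omit [PerfectField k] in
theorem charTwo_ratFunc : CharP (RatFunc k) 2 :=
  charP_of_injective_algebraMap (algebraMap k (RatFunc k)).injective 2

theorem exists_oddMult : ∀ (n : ℕ) (f : RatFunc k), f.denom.natDegree ≤ n →
    ∃ a : RatFunc k, OddMult (f + a ^ 2 + a).denom := by
  haveI := charTwo_ratFunc (k := k)
  intro n
  induction n using Nat.strong_induction_on with
  | _ n ih =>
    intro f hn
    by_cases hgood : OddMult f.denom
    · exact ⟨0, by simpa using hgood⟩
    simp only [OddMult, not_forall, exists_prop] at hgood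
    obtain ⟨p, m, g, hp, hD, hpg⟩ := hgood
    obtain ⟨h, q, hq⟩ := exists_sqrt_mod hp f.num g hpg
    let D' : k[X] := p ^ (2 * m + 1) * g
    let N' : k[X] := q + h * p ^ m * g
    let a : RatFunc k := φ h / φ (p ^ (m + 1))
    have hg0 : g ≠ 0 := fun e => hpg (e ▸ dvd_zero p)
    have hD'0 : D' ≠ 0 := mul_ne_zero (pow_ne_zero _ hp.ne_zero) hg0
    have hp0 : φ p ≠ 0 := (map_ne_zero_iff _ (RatFunc.algebraMap_injective k)).2 hp.ne_zero
    have hgφ : φ g ≠ 0 := (map_ne_zero_iff _ (RatFunc.algebraMap_injective k)).2 hg0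
    have hf : f + a ^ 2 + a = φ N' / φ D' := by
      have h1 : f = φ f.num / (φ p ^ (2 * m + 2) * φ g) := by
        rw [← map_pow, ← map_mul, ← hD, RatFunc.num_div_denom]
      have h2 : φ f.num + φ g * φ h ^ 2 = φ p * φ q := by rw [← map_pow, ← map_mul, ← map_add, hq, map_mul]
      rw [h1]
      simp only [N', D', a, map_add, map_mul, map_pow]
      field_simp
      linear_combination (φ p ^ (4 * m + 3)) * h2
    have hdeg : (f + a ^ 2 + a).denom.natDegree < f.denom.natDegree := by
      rw [hf]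
      refine (natDegree_le_of_dvd (RatFunc.denom_div_dvd N' D') hD'0).trans_lt ?_
      rw [hD, natDegree_mul (pow_ne_zero _ hp.ne_zero) hg0, natDegree_mul (pow_ne_zero _ hp.ne_zero) hg0,
        natDegree_pow, natDegree_pow]
      have := hp.natDegree_pos
      nlinarith
    obtain ⟨b, hb⟩ := ih _ (lt_of_lt_of_le hdeg hn) _ le_rfl
    refine ⟨a + b, ?_⟩
    rwa [show f + (a + b) ^ 2 + (a + b) = f + a ^ 2 + a + b ^ 2 + b by rw [CharTwo.add_sq]; ring]

theorem exists_inf : ∀ (n : ℕ) (N D : k[X]), N.natDegree ≤ n → IsCoprime N D → D ≠ 0 →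
    ∃ a N' : k[X], N' = N + D * (a ^ 2 + a) ∧ IsCoprime N' D ∧
      (N'.natDegree ≤ D.natDegree ∨ Odd (N'.natDegree - D.natDegree)) := by
  intro n
  induction n using Nat.strong_induction_on with
  | _ n ih =>
    intro N D hn hcop hD
    by_cases hgood : N.natDegree ≤ D.natDegree ∨ Odd (N.natDegree - D.natDegree)
    · exact ⟨0, N, by simp, hcop, hgood⟩
    simp only [not_or, not_le, Nat.not_odd_iff_even] at hgood
    obtain ⟨hlt, m, hm⟩ := hgood
    haveI : ExpChar k 2 := .prime Nat.prime_two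
    haveI := PerfectField.toPerfectRing (K := k) 2
    obtain ⟨c, hc⟩ := (frobeniusEquiv k 2).surjective (N.leadingCoeff / D.leadingCoeff)
    rw [frobeniusEquiv_apply, frobenius_def] at hc
    let a : k[X] := C c * X ^ m
    have hN0 : N ≠ 0 := fun e => by simp [e] at hlt
    have hlt' : (N + D * (a ^ 2 + a)).natDegree < N.natDegree := by
      have hc0 : c ≠ 0 := fun e => by
        rw [e, zero_pow two_ne_zero] at hc
        exact div_ne_zero (leadingCoeff_ne_zero.2 hN0) (leadingCoeff_ne_zero.2 hD) hc.symm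
      have ha : a.natDegree = m := natDegree_C_mul_X_pow m c hc0
      have ha2 : (D * a ^ 2).natDegree = N.natDegree := by
        rw [natDegree_mul hD (pow_ne_zero _ (mul_ne_zero (by simpa using hc0) (pow_ne_zero _ X_ne_zero))), natDegree_pow, ha]
        omega
      have hlead : (D * a ^ 2).leadingCoeff = N.leadingCoeff := by
        rw [leadingCoeff_mul, leadingCoeff_pow, leadingCoeff_C_mul_X_pow, hc, mul_div_cancel₀ _ (leadingCoeff_ne_zero.2 hD)]
      have h1 : (N + D * a ^ 2).natDegree ≤ N.natDegree := natDegree_add_le_of_degree_le le_rfl ha2.le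
      have h2 : (N + D * a ^ 2).coeff N.natDegree = 0 := by
        rw [coeff_add]
        nth_rw 2 [← ha2]
        rw [coeff_natDegree, coeff_natDegree, hlead, CharTwo.add_self_eq_zero]
      have h3 : (N + D * a ^ 2).natDegree < N.natDegree := by
        refine lt_of_le_of_ne h1 fun he => ?_
        rw [← he, coeff_natDegree, leadingCoeff_eq_zero] at h2
        rw [h2, natDegree_zero] at he
        omega
      have h4 : (D * a).natDegree < N.natDegree := by
        refine (natDegree_mul_le).trans_lt ?_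
        rw [ha]; omega
      rw [show N + D * (a ^ 2 + a) = (N + D * a ^ 2) + D * a by ring]
      exact (natDegree_add_le _ _).trans_lt (max_lt h3 h4)
    obtain ⟨b, N', hN', h1, h2⟩ := ih _ (lt_of_lt_of_le hlt' hn) _ D le_rfl (hcop.add_mul_left_left _) hD
    refine ⟨a + b, N', ?_, h1, h2⟩
    rw [hN', CharTwo.add_sq]; ring

theorem exists_reduced (f : RatFunc k) :
    ∃ (a : RatFunc k) (N D : k[X]), D ≠ 0 ∧ IsCoprime N D ∧ OddMult D ∧
      (N.natDegree ≤ D.natDegree ∨ Odd (N.natDegree - D.natDegree)) ∧ f + a ^ 2 + a = φ N / φ D := by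
  haveI := charTwo_ratFunc (k := k)
  obtain ⟨a, ha⟩ := exists_oddMult f.denom.natDegree f le_rfl
  obtain ⟨b, N', hN', hc, hinf⟩ := exists_inf _ (f + a ^ 2 + a).num (f + a ^ 2 + a).denom le_rfl
    (RatFunc.isCoprime_num_denom _) (RatFunc.denom_ne_zero _)
  refine ⟨a + φ b, N', _, RatFunc.denom_ne_zero _, hc, ha, hinf, ?_⟩
  have hd : φ (f + a ^ 2 + a).denom ≠ 0 :=
    (map_ne_zero_iff _ (RatFunc.algebraMap_injective k)).2 (RatFunc.denom_ne_zero _)
  rw [hN', map_add, map_mul, add_div, RatFunc.num_div_denom, mul_div_cancel_left₀ _ hd, map_add, map_pow,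
    CharTwo.add_sq]
  ring

end Groth.Agent.ASReduce
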