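/-
First order expansions of polynomial expressions.
-/
import Mathlib.RingTheory.MvPolynomial.EulerIdentity
import Mathlib.LinearAlgebra.Matrix.Rank
import Mathlib.LinearAlgebra.Dimension.Free

open MvPolynomial

namespace Groth.Agent.FF

variable {k : Type*} [CommRing k] {n : ℕ}

lemma aeval_mul_left' {K : Type*} [CommRing K] [Algebra k K] {m : ℕ}
    {f : MvPolynomial (Fin n) k} (hf : f.IsHomogeneous m) (r : K) (g : Fin n → K) :
    aeval (fun i => r * g i) f = r ^ m * aeval g f := by
  rw [aeval_def, aeval_def, eval₂_eq', eval₂_eq', Finset.mul_sum]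
  refine Finset.sum_congr rfl fun d hd => ?_
  have hdm : ∑ i, d i = m := by
    have := hf (mem_support_iff.1 hd)
    rw [Finsupp.weight_apply, Finsupp.sum_fintype _ _ (fun i => by simp)] at this
    simpa using this
  simp only [mul_pow, Finset.prod_mul_distrib, Finset.prod_pow_eq_pow_sum, hdm]
  ring

variable {S : Type*} [CommRing S] [Algebra k S]

/-- The ideal of the point `α`, at `a`. -/
def pointIdeal (a : Fin n → S) (α : Fin n → k) : Ideal S :=
  Ideal.span (Set.range fun i => a i - algebraMap k S (α i))

lemma sub_mem_pointIdeal (a : Fin n → S) (α : Fin n → k) (i : Fin n) :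
    a i - algebraMap k S (α i) ∈ pointIdeal a α := Ideal.subset_span ⟨i, rfl⟩

lemma pointIdeal_taylor (a : Fin n → S) (α : Fin n → k) (p : MvPolynomial (Fin n) k) :
    aeval a p - algebraMap k S (eval α p) ∈ pointIdeal a α ∧
      aeval a p - algebraMap k S (eval α p) -
        ∑ i, algebraMap k S (eval α (pderiv i p)) * (a i - algebraMap k S (α i)) ∈
          pointIdeal a α * pointIdeal a α := by
  induction p using MvPolynomial.induction_on with
  | C c => simp
  | add p q hp hq =>
    refine ⟨?_, ?_⟩
    · rw [map_add, map_add, map_add, add_sub_add_comm]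
      exact add_mem hp.1 hq.1
    · simp only [map_add, add_mul, Finset.sum_add_distrib]
      rw [show ∀ A B C D E G : S, A + B - (C + D) - (E + G) = (A - C - E) + (B - D - G) from
        fun _ _ _ _ _ _ => by ring]
      exact add_mem hp.2 hq.2
  | mul_X p l hp =>
    set h := a l - algebraMap k S (α l) with hh
    set D := aeval a p - algebraMap k S (eval α p) with hD
    set s := ∑ i, algebraMap k S (eval α (pderiv i p)) * (a i - algebraMap k S (α i)) with hs
    have e1 : aeval a (p * X l) - algebraMap k S (eval α (p * X l)) =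
        D * algebraMap k S (α l) + (D + algebraMap k S (eval α p)) * h := by
      simp only [hD, hh, map_mul, aeval_X, eval_X]; ring
    refine ⟨?_, ?_⟩
    · rw [e1]
      exact add_mem (Ideal.mul_mem_right _ _ hp.1) (Ideal.mul_mem_left _ _ (sub_mem_pointIdeal a α l))
    · have e2 : ∑ i, algebraMap k S (eval α (pderiv i (p * X l))) * (a i - algebraMap k S (α i)) =
          algebraMap k S (α l) * s + algebraMap k S (eval α p) * h := by
        simp only [hs, pderiv_mul, map_add, map_mul, eval_X, pderiv_X, add_mul, Finset.sum_add_distrib,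
          Finset.mul_sum]
        congr 1
        · exact Finset.sum_congr rfl fun i _ => by ring
        · rw [Finset.sum_eq_single l (fun i _ hi => by simp [Pi.single_eq_of_ne (Ne.symm hi)]) (by simp)]
          simp [hh]
      rw [e1, e2, show D * algebraMap k S (α l) + (D + algebraMap k S (eval α p)) * h -
          (algebraMap k S (α l) * s + algebraMap k S (eval α p) * h) =
          (D - s) * algebraMap k S (α l) + D * h by ring]
      exact add_mem (Ideal.mul_mem_right _ _ hp.2) (Ideal.mul_mem_mul hp.1 (sub_mem_pointIdeal a α l))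

/-- The ideal of the point `α` in the polynomial ring. -/
noncomputable abbrev ptI (α : Fin n → k) : Ideal (MvPolynomial (Fin n) k) := pointIdeal X α

lemma eval_eq_zero_of_mem_ptI {α : Fin n → k} {p : MvPolynomial (Fin n) k} (hp : p ∈ ptI α) :
    eval α p = 0 := by
  refine RingHom.mem_ker.1 ((Ideal.span_le.2 ?_ : ptI α ≤ RingHom.ker (eval α)) hp)
  rintro _ ⟨i, rfl⟩
  simp [RingHom.mem_ker]

lemma mem_ptI {α : Fin n → k} {p : MvPolynomial (Fin n) k} (hp : eval α p = 0) : p ∈ ptI α := by
  have := (pointIdeal_taylor (MvPolynomial.X : Fin n → MvPolynomial (Fin n) k) α p).1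
  rwa [aeval_X_left_apply, hp, map_zero, sub_zero] at this

lemma eval_pderiv_eq_zero_of_mem {α : Fin n → k} {p : MvPolynomial (Fin n) k}
    (hp : p ∈ ptI α * ptI α) (i : Fin n) : eval α (pderiv i p) = 0 := by
  refine Submodule.mul_induction_on hp (fun a ha b hb => ?_) fun a b ha hb => by
    rw [map_add, map_add, ha, hb, add_zero]
  rw [pderiv_mul, map_add, map_mul, map_mul, eval_eq_zero_of_mem_ptI ha, eval_eq_zero_of_mem_ptI hb]
  simp

/-- The rank does not change under an isomorphism of the ground field. -/
lemma rank_map_bijective {F E : Type*} [Field F] [Field E] [Algebra F E]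
    (h : Function.Bijective (algebraMap F E)) {m p : Type*} [Fintype m] [Fintype p]
    (A : Matrix m p F) : (A.map (algebraMap F E)).rank = A.rank := by
  classical
  let e : F ≃ₗ[F] E := (AlgEquiv.ofBijective (Algebra.ofId F E) h).toLinearEquiv
  have h1 : Module.finrank F E = 1 := by rw [← e.finrank_eq, Module.finrank_self]
  let ep : (p → F) ≃ₗ[F] (p → E) := LinearEquiv.piCongrRight fun _ => e
  let em : (m → F) ≃ₗ[F] (m → E) := LinearEquiv.piCongrRight fun _ => e
  have hrange : (LinearMap.range (A.map (algebraMap F E)).mulVecLin).restrictScalars F =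
      (LinearMap.range A.mulVecLin).map (em : (m → F) →ₗ[F] (m → E)) := by
    have key : ∀ v, (A.map (algebraMap F E)).mulVec (ep v) = em (A.mulVec v) := fun v => funext fun i =>
      (RingHom.map_mulVec (algebraMap F E) A v i).symm
    ext w
    simp only [Submodule.restrictScalars_mem, LinearMap.mem_range, Matrix.mulVecLin_apply, Submodule.mem_map,
      exists_exists_eq_and, LinearEquiv.coe_coe]
    exact ⟨fun ⟨v, hv⟩ => ⟨ep.symm v, by rw [← key, ep.apply_symm_apply, hv]⟩,
      fun ⟨v, hv⟩ => ⟨ep v, by rw [key, hv]⟩⟩
  have h2 := Module.finrank_mul_finrank F E (LinearMap.range (A.map (algebraMap F E)).mulVecLin)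
  rw [h1, one_mul] at h2
  rw [Matrix.rank, Matrix.rank, h2]
  exact ((LinearEquiv.finrank_eq (LinearEquiv.ofEq _ _ hrange))).trans (LinearEquiv.finrank_map_eq em _)

end Groth.Agent.FF
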