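/-
The fundamental equality without the hypothesis on the constant field.
-/
import Groth.Agent.L26.FF.Ext
import Groth.Agent.L26.FF.Riemann

open WithZero IntermediateField

namespace Groth.Agent.FF

open FunFld

variable {k K K' : Type*} [Field k] [Field K] [Field K'] [Algebra k K] [Algebra K K'] [Algebra k K']
  [IsScalarTower k K K'] [FiniteDimensional K K']

section Base

omit [Algebra K K'] [IsScalarTower k K K'] [FiniteDimensional K K']

lemma delta_mono_ff (hK : IsFF k K) {D E : Divisor k K} (h : D ≤ E) : delta D ≤ delta E := by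
  have := ell_sub_le hK h
  simp only [delta]
  linarith

lemma ell_add_div_ff (hK : IsFF k K) (D : Divisor k K) {z : K} (hz : z ≠ 0) :
    ell (D + div k z) = ell D := by
  have hmul : ∀ {A B : Divisor k K} {x y : K}, x ∈ L A → y ∈ L B → x * y ∈ L (A + B) := fun {A B x y} hx hy P => by
    rw [map_mul, Finsupp.add_apply, exp_add]
    exact mul_le_mul' (hx P) (hy P)
  have hself : ∀ w : K, w ∈ L (-div k w) := fun w P => by
    rcases eq_or_ne w 0 with rfl | hw
    · simp
    rw [Finsupp.neg_apply, div_apply hK, val_eq_exp P hw]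
  refine LinearEquiv.finrank_eq
    { toFun := fun y => ⟨(y : K) * z, ?_⟩
      invFun := fun y => ⟨(y : K) * z⁻¹, ?_⟩
      map_add' := fun a b => Subtype.ext (add_mul _ _ _)
      map_smul' := fun c a => Subtype.ext (smul_mul_assoc c (a : K) z)
      left_inv := fun y => Subtype.ext (mul_inv_cancel_right₀ hz (y : K))
      right_inv := fun y => Subtype.ext (inv_mul_cancel_right₀ hz (y : K)) }
  · simpa using hmul y.2 (hself z)
  · simpa [div_inv hK] using hmul y.2 (hself z⁻¹)

lemma delta_bdd_ff (hK : IsFF k K) : ∃ γ : ℤ, ∀ D : Divisor k K, delta D ≤ γ := by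
  obtain ⟨x, hx, -⟩ := id hK
  have := finite_over_adjoin hK hx
  obtain ⟨C, hC, hC'⟩ := exists_big_ell hK hx
  let n := Module.finrank k⟮x⟯ K
  have hn : 0 < n := Module.finrank_pos
  refine ⟨C.deg + 1 - n, fun A => ?_⟩
  have h1 : ∀ l : ℕ, delta (l • poles k x) ≤ C.deg + 1 - n := fun l => by
    refine (delta_mono_ff hK (le_add_of_nonneg_right hC)).trans ?_
    have h2 : ((l : ℤ) + 1) * n ≤ (ell (l • poles k x + C) : ℤ) := by exact_mod_cast hC' l
    rw [delta, deg_add, deg_nsmul, deg_poles hK hx]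
    linarith
  let A1 := A ⊔ 0
  let l := (C.deg + 1 - n + A1.deg).toNat
  have h3 := h1 l
  have h4 := ell_sub_le hK (sub_le_self (l • poles k x) (show (0 : Divisor k K) ≤ A1 from le_sup_right))
  rw [deg_sub] at h4
  rw [delta, deg_nsmul, deg_poles hK hx] at h3
  have h5 : (0 : ℤ) < ell (l • poles k x - A1) := by
    have h6 : C.deg + 1 - n + A1.deg ≤ l := Int.self_le_toNat _
    have h7 : (l : ℤ) ≤ l * n := le_mul_of_one_le_right (Int.natCast_nonneg _) (by exact_mod_cast hn)
    simp only [n] at h6 h7 ⊢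
    linarith
  obtain ⟨z, hz, hz0⟩ := exists_ne_zero_of_ell_pos (by exact_mod_cast h5)
  have h8 : A1 ≤ l • poles k x + div k z := fun P => by
    have := (mem_L_iff_div hK hz0).1 hz P
    simp only [Finsupp.add_apply, Finsupp.sub_apply, Finsupp.zero_apply] at this ⊢
    linarith
  calc delta A ≤ delta A1 := delta_mono_ff hK le_sup_left
    _ ≤ delta (l • poles k x + div k z) := delta_mono_ff hK h8
    _ = delta (l • poles k x) := by
      rw [delta, delta, ell_add_div_ff hK _ hz0, deg_add, deg_div hK, add_zero]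
    _ ≤ _ := h1 l

lemma exists_only_pole_ff (hK : IsFF k K) (P : Place k K) :
    ∃ (y : K) (m : ℕ), Transcendental k y ∧ 0 < m ∧ poles k y = Finsupp.single P (m : ℤ) := by
  classical
  obtain ⟨γ, hγ⟩ := delta_bdd_ff hK
  let n : ℕ := (γ + (ell (0 : Divisor k K) : ℤ)).toNat
  have hdeg := one_le_deg hK P
  have hn : (n : ℤ) ≤ (n : ℤ) * (P.deg : ℤ) :=
    le_mul_of_one_le_right (Int.natCast_nonneg _) (by exact_mod_cast hdeg)
  have h := hγ (Finsupp.single P (n : ℤ))
  rw [delta, deg_single] at h
  have hn' : γ + (ell (0 : Divisor k K) : ℤ) ≤ n := Int.self_le_toNat _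
  have hlt : ell (0 : Divisor k K) < ell (Finsupp.single P (n : ℤ)) := by
    have : (ell (0 : Divisor k K) : ℤ) < (ell (Finsupp.single P (n : ℤ)) : ℤ) := by linarith
    exact_mod_cast this
  obtain ⟨y, hy, hy'⟩ : ∃ y ∈ L (Finsupp.single P (n : ℤ)), y ∉ L (0 : Divisor k K) := by
    by_contra hc
    push Not at hc
    have := finite_L hK (0 : Divisor k K)
    exact absurd (Submodule.finrank_mono hc) (not_le.2 hlt)
  have hy0 : y ≠ 0 := fun h => hy' (h ▸ zero_mem _)
  rw [mem_L_iff_ord hy0] at hy
  have hP : P.ord y < 0 := by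
    by_contra h
    refine hy' ((mem_L_iff_ord hy0).2 fun Q => ?_)
    rw [Finsupp.zero_apply, add_zero]
    by_cases hQ : Q = P
    · subst hQ; omega
    · simpa [Finsupp.single_eq_of_ne hQ] using hy Q
  refine ⟨y, (-P.ord y).toNat, fun halg => by rw [ord_algebraic halg P] at hP; exact lt_irrefl _ hP, by omega,
    Finsupp.ext fun Q => ?_⟩
  rw [poles_apply hK, Finsupp.single_apply]
  split_ifs with hQ
  · subst hQ; omega
  · have := hy Q
    rw [Finsupp.single_eq_of_ne (Ne.symm hQ)] at this
    omega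

end Base

/-- The fundamental equality `∑ e f = n`. -/
lemma sum_ramIdx_ff (hK : IsFF k K) (P : Place k K) :
    ∑ Q ∈ (finite_over (K' := K') hK P).toFinset, ramIdx Q P * Q.deg = Module.finrank K K' * P.deg := by
  classical
  obtain ⟨y, m, hy, hm, hpoles⟩ := exists_only_pole_ff hK P
  have hF : IsFF k K' := isFF_ext hK
  have hPord : P.ord y = -(m : ℤ) := by
    have := DFunLike.congr_fun hpoles P
    rw [poles_apply hK, Finsupp.single_eq_same] at this
    omega
  have hcoef : ∀ Q : Place k K', poles k (algebraMap K K' y) Q =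
      if IsOver Q P then ((m * ramIdx Q P : ℕ) : ℤ) else 0 := fun Q => by
    rw [poles_apply hF]
    obtain ⟨R, e, he⟩ := exists_below hK Q
    rw [he.ord]
    have h1 := DFunLike.congr_fun hpoles R
    rw [poles_apply hK] at h1
    split_ifs with hov
    · obtain ⟨e', he'⟩ := hov
      obtain ⟨rfl, rfl⟩ := he.unique he'
      rw [ramIdx_eq he', hPord]
      push_cast
      rw [max_eq_left (by have : (0 : ℤ) ≤ (e : ℤ) * m := (by positivity); linarith)]
      ring
    · have hne : R ≠ P := fun h => hov ⟨e, h ▸ he⟩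
      rw [Finsupp.single_eq_of_ne hne] at h1
      have h2 : 0 ≤ R.ord y := by omega
      rw [max_eq_right]; exact neg_nonpos.2 (mul_nonneg (Int.natCast_nonneg _) h2)
  set Qs := (finite_over (K' := K') hK P).toFinset with hQsdef
  have hQs : ∀ Q, Q ∈ Qs ↔ IsOver Q P := fun Q => Set.Finite.mem_toFinset _
  have h := deg_poles hF (transcendental_map (K' := K') hy)
  rw [finrank_adjoin_map, deg_eq_sum (s := Qs) (fun Q hQ => (hQs Q).2 (by
    by_contra hn
    rw [Finsupp.mem_support_iff, hcoef, if_neg hn] at hQ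
    exact hQ rfl))] at h
  have h2 := deg_poles hK hy
  rw [hpoles, deg_single] at h2
  have h3 : ((m * ∑ Q ∈ Qs, ramIdx Q P * Q.deg : ℕ) : ℤ) =
      ((m * (Module.finrank K K' * P.deg) : ℕ) : ℤ) := by
    rw [Finset.mul_sum, Nat.cast_sum]
    refine Eq.trans (Finset.sum_congr rfl fun Q hQ => ?_) (h.trans ?_)
    · rw [hcoef, if_pos ((hQs Q).1 hQ)]; push_cast; ring
    · push_cast; rw [← h2]; ring
  exact Nat.eq_of_mul_eq_mul_left hm (by exact_mod_cast h3)

end Groth.Agent.FF
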