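/-
The different exponent at a place of residue degree one: Euler's lemma and local monogenicity.
-/
import Groth.Agent.S12571
import Groth.Agent.L26.FF.IntClosure
import Groth.Agent.L26.FF.Norm
import Groth.Agent.L26.FF.FundFF
import Groth.Agent.L26.FF.RatFuncFF
import Groth.Agent.L26.FF.Approx
import Mathlib.RingTheory.DedekindDomain.Different
import Mathlib.RingTheory.Valuation.Extension
import Mathlib.RingTheory.Adjoin.PowerBasis

open WithZero Polynomial
open scoped Pointwise

universe u v w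

namespace Groth.Agent.FF

open FunFld

variable {k : Type u} {K K' : Type v} [Field k] [Field K] [Field K'] [Algebra k K] [Algebra K K']
  [Algebra k K'] [IsScalarTower k K K'] [FiniteDimensional K K']

section Deg

variable {P : Place k K} {Q : Place k K'} {e : ℕ}

lemma deg_eq_of_residue_surjective (hK : IsFF k K) (he : IsOverWith Q P e) [P.1.HasExtension Q.1]
    (hf : Function.Surjective (algebraMap (IsLocalRing.ResidueField P.O) (IsLocalRing.ResidueField Q.O))) :
    Q.deg = P.deg := by
  refine le_antisymm ?_ (deg_le_deg hK ⟨e, he⟩)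
  have hP : Module.Finite k (IsLocalRing.ResidueField P.O) := finite_residueField hK P
  let f : IsLocalRing.ResidueField P.O →ₗ[k] IsLocalRing.ResidueField Q.O :=
    { toFun := algebraMap (IsLocalRing.ResidueField P.O) (IsLocalRing.ResidueField Q.O)
      map_add' := map_add _
      map_smul' := fun c x => by
        obtain ⟨b, rfl⟩ := IsLocalRing.residue_surjective x
        show algebraMap (IsLocalRing.ResidueField P.O) (IsLocalRing.ResidueField Q.O) (IsLocalRing.residue P.O (c • b)) =
          c • algebraMap (IsLocalRing.ResidueField P.O) (IsLocalRing.ResidueField Q.O) (IsLocalRing.residue P.O b)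
        rw [Valuation.HasExtension.algebraMap_residue_eq_residue_algebraMap,
          Valuation.HasExtension.algebraMap_residue_eq_residue_algebraMap]
        show _ = IsLocalRing.residue Q.O (c • algebraMap P.O Q.O b)
        refine congrArg (IsLocalRing.residue Q.O) (Subtype.ext ?_)
        rw [Algebra.smul_def c b, Algebra.smul_def c (algebraMap P.O Q.O b)]
        show algebraMap K K' (algebraMap k K c * (b : K)) = algebraMap k K' c * algebraMap K K' (b : K)
        rw [map_mul, ← IsScalarTower.algebraMap_apply] }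
  exact LinearMap.finrank_le_finrank_of_surjective (f := f) hf

lemma exists_residue_lift (he : IsOverWith Q P e) [P.1.HasExtension Q.1]
    (hf : Function.Surjective (algebraMap (IsLocalRing.ResidueField P.O) (IsLocalRing.ResidueField Q.O)))
    {r : K'} (hr : Q.1 r ≤ 1) : ∃ a : P.O, Q.1 (r - algebraMap K K' a) < 1 := by
  obtain ⟨b, hb⟩ := hf (IsLocalRing.residue Q.O ⟨r, hr⟩)
  obtain ⟨a, rfl⟩ := IsLocalRing.residue_surjective (R := P.O) b
  rw [Valuation.HasExtension.algebraMap_residue_eq_residue_algebraMap, eq_comm, ← sub_eq_zero, ← map_sub,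
    IsLocalRing.residue_eq_zero_iff, IsLocalRing.mem_maximalIdeal, mem_nonunits_iff] at hb
  exact ⟨a, Valuation.Integer.not_isUnit_iff_valuation_lt_one.1 hb⟩

/-- A local parameter which is a unit at the other places. -/
lemma exists_local_param (hK : IsFF k K) (P : Place k K) (Q : Place k K') :
    ∃ s : K', Q.1 s = exp (-1 : ℤ) ∧ ∀ Q' : Place k K', IsOver Q' P → Q' ≠ Q → Q'.1 s = 1 := by
  classical
  obtain ⟨s, hs⟩ := approx_val (insert Q (finite_over (K' := K') hK P).toFinset) fun R => if R = Q then -1 else 0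
  refine ⟨s, ?_, fun Q' h hne => ?_⟩
  · rw [hs Q (Finset.mem_insert_self _ _), if_pos rfl]
  · rw [hs Q' (Finset.mem_insert_of_mem ((Set.Finite.mem_toFinset _).2 h)), if_neg hne, exp_zero]

/-- Such a parameter generates. -/
lemma param_adjoin_eq_top (hK : IsFF k K) (he : IsOverWith Q P e) [P.1.HasExtension Q.1]
    (hf : Function.Surjective (algebraMap (IsLocalRing.ResidueField P.O) (IsLocalRing.ResidueField Q.O)))
    {s : K'} (hs : Q.1 s = exp (-1 : ℤ)) (hs' : ∀ Q' : Place k K', IsOver Q' P → Q' ≠ Q → Q'.1 s = 1) :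
    IntermediateField.adjoin K ({s} : Set K') = ⊤ := by
  classical
  let L := IntermediateField.adjoin K ({s} : Set K')
  have hsL : s ∈ L := IntermediateField.mem_adjoin_simple_self K s
  have : IsScalarTower k L K' := IsScalarTower.of_algebraMap_eq fun c => rfl
  have hL : IsFF k L := isFF_ext hK
  obtain ⟨q, e', he'⟩ := exists_below hL Q
  have hqP : IsOver q P := by
    obtain ⟨P', e'', he''⟩ := exists_below hK q
    have : IsOverWith Q P' (e'' * e') := fun x => by
      rw [pow_mul, ← he'' x, ← he', ← IsScalarTower.algebraMap_apply]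
    obtain rfl : P' = P := (this.unique he).1
    exact ⟨e'', he''⟩
  have hsval : Q.1 s = q.1 ⟨s, hsL⟩ ^ e' := he' ⟨s, hsL⟩
  have huniq : (finite_over (K' := K') hL q).toFinset = {Q} := by
    ext R
    rw [Set.Finite.mem_toFinset, Finset.mem_singleton]
    refine ⟨fun h => ?_, fun h => h ▸ ⟨e', he'⟩⟩
    by_contra hne
    obtain ⟨e₁, he₁⟩ := h
    obtain ⟨e₂, he₂⟩ := hqP
    have hR : IsOver R P := ⟨e₂ * e₁, fun x => by rw [pow_mul, ← he₂ x, ← he₁, ← IsScalarTower.algebraMap_apply]⟩
    have h1 : R.1 (algebraMap L K' ⟨s, hsL⟩) < 1 := (he₁.lt_one_iff _).2 ((he'.lt_one_iff _).1 (by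
      show Q.1 s < 1
      rw [hs, exp_lt_one']; omega))
    exact h1.ne (hs' R hR hne)
  have hsum := sum_ramIdx_ff (K' := K') hL q
  rw [huniq, Finset.sum_singleton, ramIdx_eq he'] at hsum
  have he1 : e' = 1 := by
    have hs0 : s ≠ 0 := fun h => by rw [h, map_zero] at hs; exact exp_ne_zero hs.symm
    have h1 : Q.ord s = (e' : ℤ) * q.ord ⟨s, hsL⟩ := he'.ord (⟨s, hsL⟩ : L)
    rw [ord_eq_of_val Q hs, neg_neg] at h1
    rcases Int.eq_one_or_neg_one_of_mul_eq_one h1.symm with h3 | h3 <;> omega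
  have hdq : q.deg = Q.deg :=
    le_antisymm (deg_le_deg hL ⟨e', he'⟩) ((deg_eq_of_residue_surjective hK he hf).le.trans (deg_le_deg hK hqP))
  rw [he1, one_mul, hdq] at hsum
  have h1 : Module.finrank L K' = 1 := by
    have := one_le_deg (isFF_ext (K' := K') hK) Q
    exact Nat.eq_of_mul_eq_mul_right this (by omega)
  refine eq_top_iff.2 fun w _ => ?_
  obtain ⟨a, ha⟩ := (finrank_eq_one_iff_of_nonzero' (1 : K') one_ne_zero).1 h1 w
  rw [← ha]
  show (a : K') * 1 ∈ L
  rw [mul_one]
  exact a.2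

end Deg

section Coeff

variable {P : Place k K} [Algebra P.O K'] [IsScalarTower P.O K K']

lemma minpoly_coeff_le_one {s : K'} (hs : IsIntegral P.O s) (i : ℕ) : P.1 ((minpoly K s).coeff i) ≤ 1 := by
  rw [minpoly.isIntegrallyClosed_eq_field_fractions' K hs, coeff_map]
  exact ((minpoly P.O s).coeff i).2

lemma mem_one_iff_le {x : K} : x ∈ (1 : Submodule P.O K) ↔ P.1 x ≤ 1 := by
  rw [Submodule.mem_one]
  exact ⟨fun ⟨a, ha⟩ => ha ▸ a.2, fun h => ⟨⟨x, h⟩, rfl⟩⟩

lemma algebra_adjoin_eq_top {s : K'} (h : IntermediateField.adjoin K ({s} : Set K') = ⊤) :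
    Algebra.adjoin K ({s} : Set K') = ⊤ := by
  rw [← IntermediateField.adjoin_simple_toSubalgebra_of_isAlgebraic (Algebra.IsAlgebraic.isAlgebraic s), h,
    IntermediateField.top_toSubalgebra]

variable [Algebra.IsSeparable K K']

/-- Euler's lemma: the trace dual of `O[y]`. -/
lemma dual_adjoin_iff {y : K'} (hy : IntermediateField.adjoin K ({y} : Set K') = ⊤) (hyi : IsIntegral P.O y) (z : K') :
    (∀ a ∈ Algebra.adjoin P.O ({y} : Set K'), P.1 (Algebra.trace K K' (z * a)) ≤ 1) ↔
      aeval y (derivative (minpoly K y)) * z ∈ Algebra.adjoin P.O ({y} : Set K') := by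
  have hd0 : aeval y (derivative (minpoly K y)) ≠ 0 :=
    (Algebra.IsSeparable.isSeparable K y).aeval_derivative_ne_zero (minpoly.aeval K y)
  have h : z ∈ (Algebra.traceForm K K').dualSubmodule (Subalgebra.toSubmodule (Algebra.adjoin P.O ({y} : Set K'))) ↔
      z ∈ (aeval y (derivative (minpoly K y)))⁻¹ • Subalgebra.toSubmodule (Algebra.adjoin P.O ({y} : Set K')) := by
    rw [traceForm_dualSubmodule_adjoin P.O K (algebra_adjoin_eq_top hy) hyi]
  rw [LinearMap.BilinForm.mem_dualSubmodule] at h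
  simp only [Subalgebra.mem_toSubmodule, Algebra.traceForm_apply, mem_one_iff_le] at h
  rw [h, ← SetLike.mem_coe, Submodule.coe_pointwise_smul, Set.mem_smul_set]
  constructor
  · rintro ⟨b, hb, rfl⟩
    rw [smul_eq_mul, ← mul_assoc, mul_inv_cancel₀ hd0, one_mul]
    exact hb
  · intro hb
    exact ⟨_, hb, by rw [smul_eq_mul, ← mul_assoc, inv_mul_cancel₀ hd0, one_mul]⟩

lemma trace_integral_le_one {z : K'} (hz : IsIntegral P.O z) : P.1 (Algebra.trace K K' z) ≤ 1 := by
  obtain ⟨a, ha⟩ := IsIntegrallyClosed.isIntegral_iff.1 (Algebra.isIntegral_trace (L := K) hz)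
  exact ha ▸ a.2

lemma adjoin_isIntegral {y a : K'} (hy : IsIntegral P.O y) (ha : a ∈ Algebra.adjoin P.O ({y} : Set K')) :
    IsIntegral P.O a :=
  (Algebra.adjoin_le (S := integralClosure P.O K') (Set.singleton_subset_iff.2 hy)) ha

lemma derivative_mul_mem {y : K'} (hy : IntermediateField.adjoin K ({y} : Set K') = ⊤) (hyi : IsIntegral P.O y)
    {z : K'} (hz : IsIntegral P.O z) :
    aeval y (derivative (minpoly K y)) * z ∈ Algebra.adjoin P.O ({y} : Set K') :=
  (dual_adjoin_iff hy hyi z).1 fun _ ha => trace_integral_le_one (hz.mul (adjoin_isIntegral hyi ha))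

end Coeff

section Main

variable [Algebra.IsSeparable K K']
variable {F F' : Type w} [Field F] [Algebra k F] [Field F'] [Algebra k F']
variable {P : Place k K} {Q : Place k K'} {e : ℕ} [P.1.HasExtension Q.1]

/-- `d(Q|P) = v_Q(f'(s))`. -/
theorem diffExp_eq_ord_param (hK : IsFunctionField k K) (hg : IsGeometric k K) (he : IsOverWith Q P e)
    {φ : K →ₐ[k] LaurentSeries F} (hφ : LocRes.IsExpansionAt P.1 φ)
    {ψ : K' →ₐ[k] LaurentSeries F'} (hψ : LocRes.IsExpansionAt Q.1 ψ)
    {x : K} (hx : LocRes.vDiff φ 1 x ≠ 0) (hx' : LocRes.vDiff ψ 1 (algebraMap K K' x) ≠ 0)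
    (hf : Function.Surjective (algebraMap (IsLocalRing.ResidueField P.O) (IsLocalRing.ResidueField Q.O)))
    {s : K'} (hs : Q.1 s = exp (-1 : ℤ)) (hs' : ∀ Q' : Place k K', IsOver Q' P → Q' ≠ Q → Q'.1 s = 1) :
    Q.ord (aeval s (derivative (minpoly K s))) = LocRes.diffExp φ ψ e x := by
  classical
  obtain ⟨t, ht0, ht⟩ := exists_val_eq P (-1)
  have htφ : LocRes.vDiff φ 1 t = 1 := Res.vDiff_uniformizer hφ ht
  have hDt : KaehlerDifferential.D k K t ≠ 0 := fun h => by
    rw [Res.vDiff_eq, Res.D_map_eq_zero φ h, map_zero, mul_zero] at htφ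
    exact zero_ne_one htφ
  choose c hc using fun z : K => Res.exists_smul_D hK hg hDt z
  have hψc : ∀ z : K, ψ (algebraMap K K' (c z)) * LocRes.D F' (ψ (algebraMap K K' t)) =
      LocRes.D F' (ψ (algebraMap K K' z)) := fun z => by
    have := Res.D_map_smul (ψ.comp (IsScalarTower.toAlgHom k K K')) (hc z)
    simpa only [AlgHom.comp_apply, IsScalarTower.coe_toAlgHom'] using this
  have hφc : ∀ z : K, P.1 (c z) = Valued.v (LocRes.D F (φ z)) := fun z => by
    rw [← Res.D_map_smul φ (hc z), map_mul, Res.val_map hφ]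
    rw [Res.vDiff_eq, map_one, map_one, one_mul] at htφ
    rw [htφ, mul_one]
  have htψ : LocRes.vDiff ψ 1 (algebraMap K K' t) ≠ 0 := fun h => hx' (by
    rw [Res.vDiff_eq, map_one, map_one, one_mul] at h ⊢
    rw [← hψc x, map_mul, h, mul_zero])
  rw [Groth.Agent.S12571.result k K K' hK hg F F' P Q e he φ hφ ψ hψ x hx hx' t (by rw [htφ]; exact one_ne_zero) htψ,
    LocRes.diffExp]
  have hord0 : LocRes.ordDiff φ 1 t = 0 := by rw [LocRes.ordDiff, htφ, WithZero.log_one, neg_zero]
  rw [hord0, mul_zero, sub_zero]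
  let : Algebra P.O K' := ((algebraMap K K').comp P.O.subtype).toAlgebra
  have : IsScalarTower P.O K K' := IsScalarTower.of_algebraMap_eq fun _ => rfl
  set f := minpoly K s
  have hint : IsIntegral P.O s := (isIntegral_iff hK.1 P s).2 fun Q' hQ' => by
    by_cases h : Q' = Q
    · rw [h, hs]; exact exp_le_one'.2 (by omega)
    · exact (hs' Q' hQ' h).le
  have hci : ∀ i, P.1 (c (f.coeff i)) ≤ 1 := fun i => by
    rw [hφc]; exact Res.v_D_le_one (by rw [Res.val_map hφ]; exact minpoly_coeff_le_one hint i)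
  -- the norm of `s` is a uniformizer
  have hs0 : s ≠ 0 := fun h => by rw [h, map_zero] at hs; exact exp_ne_zero hs.symm
  have hP0 : P.1 (f.coeff 0) = exp (-1 : ℤ) := by
    have htop := algebra_adjoin_eq_top (param_adjoin_eq_top hK.1 he hf hs hs')
    set Qf := (finite_over (K' := K') hK.1 P).toFinset
    have hmem : ∀ R, R ∈ Qf ↔ IsOver R P := fun R => Set.Finite.mem_toFinset _
    have hnorm := ord_norm hK P s Qf hmem
    rw [Finset.sum_eq_single Q (fun R hR hne => by
        rw [(val_eq_one_iff R hs0).1 (hs' R ((hmem R).1 hR) hne), mul_zero])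
      (fun h => absurd ((hmem Q).2 ⟨e, he⟩) h),
      ord_eq_of_val Q hs, deg_eq_of_residue_surjective hK.1 he hf, neg_neg] at hnorm
    let pb := PowerBasis.ofAdjoinEqTop (Algebra.IsIntegral.isIntegral (R := K) s) htop
    have hN : Algebra.norm K s = (-1) ^ pb.dim * f.coeff 0 := by
      have := Algebra.PowerBasis.norm_gen_eq_coeff_zero_minpoly pb
      rwa [show pb.gen = s by simp [pb]] at this
    have hdeg := one_le_deg hK.1 P
    have h1 : P.ord (Algebra.norm K s) = 1 := mul_left_cancel₀ (show (P.deg : ℤ) ≠ 0 by omega) hnorm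
    have hN0 : Algebra.norm K s ≠ 0 := Algebra.norm_ne_zero_iff.2 hs0
    have h2 := val_eq_exp P hN0
    rw [h1] at h2
    rw [← h2, hN, map_mul, map_pow, Valuation.map_neg, map_one, one_pow, one_mul]
  have hc0 : P.1 (c (f.coeff 0)) = 1 := by
    rw [hφc]
    have := Res.vDiff_uniformizer hφ hP0
    rwa [Res.vDiff_eq, map_one, map_one, one_mul] at this
  set W := ∑ i ∈ Finset.range (f.natDegree + 1), algebraMap K K' (c (f.coeff i)) * s ^ i with hW
  have hWv : Q.1 W = 1 := by
    have h00 : Q.1 (algebraMap K K' (c (f.coeff 0)) * s ^ 0) = 1 := by rw [pow_zero, mul_one, he, hc0, one_pow]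
    rw [hW, Q.1.map_sum_eq_of_lt (j := 0) (by simp), h00]
    intro i hi
    rw [Finset.mem_sdiff, Finset.mem_singleton, Finset.mem_range] at hi
    rw [h00, map_mul, map_pow, hs, he]
    refine (mul_le_of_le_one_left zero_le (pow_le_one₀ zero_le (hci i))).trans_lt (pow_lt_one₀ zero_le ?_ hi.2)
    rw [← WithZero.exp_zero, WithZero.exp_lt_exp]; norm_num
  have hsum : ∑ i ∈ Finset.range (f.natDegree + 1), algebraMap K K' (f.coeff i) * s ^ i = 0 := by
    have := minpoly.aeval K s
    rw [Polynomial.aeval_eq_sum_range] at this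
    simpa [Algebra.smul_def] using this
  have hkey : ψ (aeval s (derivative f)) * LocRes.D F' (ψ s) +
      ψ W * LocRes.D F' (ψ (algebraMap K K' t)) = 0 := by
    have h1 : LocRes.D F' (ψ (∑ i ∈ Finset.range (f.natDegree + 1), algebraMap K K' (f.coeff i) * s ^ i)) = 0 := by
      rw [hsum, map_zero, map_zero]
    rw [map_sum, map_sum] at h1
    have hder : aeval s (derivative f) =
        ∑ i ∈ Finset.range (f.natDegree + 1), (i : K') * algebraMap K K' (f.coeff i) * s ^ (i - 1) := by
      conv_lhs => rw [Polynomial.as_sum_range_C_mul_X_pow f, Polynomial.derivative_sum, map_sum]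
      refine Finset.sum_congr rfl fun i _ => ?_
      rw [Polynomial.derivative_C_mul_X_pow, map_mul, map_pow, Polynomial.aeval_X, Polynomial.aeval_C, map_mul, map_natCast]
      ring
    rw [hder, hW, map_sum, map_sum, Finset.sum_mul, Finset.sum_mul, ← Finset.sum_add_distrib, ← h1]
    refine Finset.sum_congr rfl fun i _ => ?_
    rw [map_mul, map_mul, map_natCast, map_mul, map_pow, map_mul, map_pow, Derivation.leibniz,
      Derivation.leibniz_pow, smul_eq_mul, smul_eq_mul, smul_eq_mul, nsmul_eq_mul, ← hψc (f.coeff i)]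
    ring
  have hv := congrArg Valued.v (eq_neg_of_add_eq_zero_left hkey)
  rw [Valuation.map_neg, map_mul, map_mul, Res.val_map hψ, Res.val_map hψ, hWv, one_mul] at hv
  have hs1 := Res.vDiff_uniformizer hψ hs
  rw [Res.vDiff_eq, map_one, map_one, one_mul] at hs1
  rw [hs1, mul_one] at hv
  rw [FunFld.Place.ord, LocRes.ordDiff, hv, Res.vDiff_eq, map_one, map_one, one_mul]

variable [Algebra P.O K'] [IsScalarTower P.O K K']

/-- Outside `Q`, every integral element is a multiple of an element of `O[s]`. -/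
theorem exists_conductor_param (hK : IsFF k K) (he : IsOverWith Q P e)
    (hf : Function.Surjective (algebraMap (IsLocalRing.ResidueField P.O) (IsLocalRing.ResidueField Q.O)))
    {s : K'} (hs : Q.1 s = exp (-1 : ℤ)) (hs' : ∀ Q' : Place k K', IsOver Q' P → Q' ≠ Q → Q'.1 s = 1) :
    IsIntegral P.O s ∧ ∃ w ∈ Algebra.adjoin P.O ({s} : Set K'), Q.1 w = 1 ∧
      ∀ z : K', IsIntegral P.O z → w * z ∈ Algebra.adjoin P.O ({s} : Set K') := by
  classical
  set A := Algebra.adjoin P.O ({s} : Set K')
  have hint : IsIntegral P.O s := (isIntegral_iff hK P s).2 fun Q' hQ' => by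
    by_cases h : Q' = Q
    · rw [h, hs]; exact exp_le_one'.2 (by omega)
    · exact (hs' Q' hQ' h).le
  refine ⟨hint, ?_⟩
  have hgen := param_adjoin_eq_top hK he hf hs hs'
  have hsA : s ∈ A := Algebra.subset_adjoin rfl
  have halg : ∀ a : P.O, algebraMap P.O K' a = algebraMap K K' (a : K) := fun a =>
    IsScalarTower.algebraMap_apply P.O K K' a
  have hs0 : s ≠ 0 := fun h => by rw [h, map_zero] at hs; exact exp_ne_zero hs.symm
  set f := minpoly P.O s
  have hex : ∃ i, P.1 ((f.coeff i : P.O) : K) = 1 :=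
    ⟨f.natDegree, by rw [(minpoly.monic hint).coeff_natDegree]; exact map_one _⟩
  set m := Nat.find hex
  have hm : P.1 ((f.coeff m : P.O) : K) = 1 := Nat.find_spec hex
  have hlow : ∀ i < m, P.1 ((f.coeff i : P.O) : K) < 1 := fun i hi =>
    lt_of_le_of_ne (f.coeff i).2 (Nat.find_min hex hi)
  have hmn : m ≤ f.natDegree := Nat.find_min' hex (by rw [(minpoly.monic hint).coeff_natDegree]; exact map_one _)
  set G := ∑ i ∈ Finset.range (f.natDegree + 1 - m), algebraMap P.O K' (f.coeff (m + i)) * s ^ i with hG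
  have hGA : G ∈ A := sum_mem fun i _ => mul_mem (A.algebraMap_mem _) (pow_mem hsA i)
  have hsplit : ∑ i ∈ Finset.range m, algebraMap P.O K' (f.coeff i) * s ^ i + s ^ m * G = 0 := by
    have h0 := minpoly.aeval P.O s
    rw [Polynomial.aeval_eq_sum_range, show f.natDegree + 1 = m + (f.natDegree + 1 - m) by omega,
      Finset.sum_range_add] at h0
    rw [← h0, hG, Finset.mul_sum]
    simp only [Algebra.smul_def, pow_add]
    congr 1
    exact Finset.sum_congr rfl fun i _ => by ring
  have hGQ : Q.1 G = 1 := by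
    have hn : 0 < f.natDegree + 1 - m := by omega
    rw [hG, Q.1.map_sum_eq_of_lt (j := 0) (Finset.mem_range.2 hn)]
    · rw [pow_zero, mul_one, halg, he, Nat.add_zero, hm, one_pow]
    · intro i hi
      rw [Finset.mem_sdiff, Finset.mem_singleton] at hi
      rw [pow_zero, mul_one, Nat.add_zero, halg, halg, he, hm, one_pow, map_mul, map_pow, hs, he]
      refine (mul_le_of_le_one_left zero_le (pow_le_one₀ zero_le (f.coeff _).2)).trans_lt (pow_lt_one₀ zero_le ?_ hi.2)
      rw [exp_lt_one']; omega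
  have hGlt : ∀ R : Place k K', IsOver R P → R ≠ Q → R.1 G < 1 := fun R hR hne => by
    obtain ⟨e', he'⟩ := id hR
    have h1 : R.1 (s ^ m * G) < 1 := by
      rw [eq_neg_of_add_eq_zero_right hsplit, Valuation.map_neg]
      refine R.1.map_sum_lt one_ne_zero fun i hi => ?_
      rw [map_mul, halg, map_pow, hs' R hR hne, one_pow, mul_one]
      exact (he'.lt_one_iff _).2 (hlow i (Finset.mem_range.1 hi))
    rwa [map_mul, map_pow, hs' R hR hne, one_pow, one_mul] at h1
  set f' := aeval s (derivative (minpoly K s))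
  have hf'0 : f' ≠ 0 := (Algebra.IsSeparable.isSeparable K s).aeval_derivative_ne_zero (minpoly.aeval K s)
  set Qs := (finite_over (K' := K') hK P).toFinset
  have hmem : ∀ R, R ∈ Qs ↔ IsOver R P := fun R => Set.Finite.mem_toFinset _
  set M := Qs.sup fun R => (R.ord f').toNat
  refine ⟨G ^ M, pow_mem hGA M, by rw [map_pow, hGQ, one_pow], fun z hz => ?_⟩
  have happ : ∀ j : ℕ, ∃ p ∈ A, Q.1 (z - p) ≤ exp (-(j : ℤ)) := fun j => by
    induction j with
    | zero => exact ⟨0, zero_mem _, by simpa using (isIntegral_iff hK P z).1 hz Q ⟨e, he⟩⟩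
    | succ j ih =>
      obtain ⟨p, hp, hpv⟩ := ih
      have hr : Q.1 ((z - p) / s ^ j) ≤ 1 := by
        rw [map_div₀, map_pow, hs, ← exp_nsmul, smul_neg, nsmul_eq_mul, mul_one]
        exact div_le_one_of_le₀ hpv zero_le
      obtain ⟨a, ha⟩ := exists_residue_lift he hf hr
      refine ⟨p + algebraMap P.O K' a * s ^ j, add_mem hp (mul_mem (A.algebraMap_mem a) (pow_mem hsA j)), ?_⟩
      rw [halg, show z - (p + algebraMap K K' a * s ^ j) = ((z - p) / s ^ j - algebraMap K K' a) * s ^ j by
        rw [sub_mul, div_mul_cancel₀ _ (pow_ne_zero j hs0)]; ring, map_mul, map_pow, hs, ← exp_nsmul]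
      refine (mul_le_mul' (lt_one_le_exp ha) le_rfl).trans_eq ?_
      rw [← exp_add, nsmul_eq_mul]
      congr 1
      push_cast
      ring
  obtain ⟨p, hp, hpv⟩ := happ (Q.ord f').toNat
  have hpi := adjoin_isIntegral hint hp
  have hq : IsIntegral P.O (G ^ M * (z - p) / f') := (isIntegral_iff hK P _).2 fun R hR => by
    have hzp : R.1 (z - p) ≤ 1 := (R.1.map_sub _ _).trans
      (max_le ((isIntegral_iff hK P z).1 hz R hR) ((isIntegral_iff hK P p).1 hpi R hR))
    rw [map_div₀]
    refine div_le_one_of_le₀ ?_ zero_le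
    rw [map_mul, map_pow, val_eq_exp R hf'0]
    by_cases h : R = Q
    · subst h
      rw [hGQ, one_pow, one_mul]
      refine hpv.trans (exp_le_exp.2 ?_)
      omega
    · refine (mul_le_of_le_one_right zero_le hzp).trans ((pow_le_exp_neg (hGlt R hR h) M).trans (exp_le_exp.2 ?_))
      have hle := Finset.le_sup (f := fun R : Place k K' => (R.ord f').toNat) ((hmem R).2 hR)
      simp only [M] at *
      omega
  have h2 := derivative_mul_mem hgen hint hq
  rw [mul_div_cancel₀ _ hf'0] at h2
  rw [show G ^ M * z = G ^ M * p + G ^ M * (z - p) by ring]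
  exact add_mem (mul_mem (pow_mem hGA M) hp) h2

/-- The minimal valuation on the trace dual. -/
theorem trace_dual_spec (hK : IsFunctionField k K) (hg : IsGeometric k K) (he : IsOverWith Q P e)
    {φ : K →ₐ[k] LaurentSeries F} (hφ : LocRes.IsExpansionAt P.1 φ)
    {ψ : K' →ₐ[k] LaurentSeries F'} (hψ : LocRes.IsExpansionAt Q.1 ψ)
    {x : K} (hx : LocRes.vDiff φ 1 x ≠ 0) (hx' : LocRes.vDiff ψ 1 (algebraMap K K' x) ≠ 0)
    (hf : Function.Surjective (algebraMap (IsLocalRing.ResidueField P.O) (IsLocalRing.ResidueField Q.O))) :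
    (∀ y : K', (∀ z : K', IsIntegral P.O z → P.1 (Algebra.trace K K' (y * z)) ≤ 1) →
      Q.1 y ≤ exp (LocRes.diffExp φ ψ e x)) ∧
    ∃ y : K', (∀ z : K', IsIntegral P.O z → P.1 (Algebra.trace K K' (y * z)) ≤ 1) ∧
      Q.1 y = exp (LocRes.diffExp φ ψ e x) := by
  obtain ⟨s, hs, hs'⟩ := exists_local_param (K' := K') hK.1 P Q
  obtain ⟨hint, w, hwA, hwQ, hw⟩ := exists_conductor_param hK.1 he hf hs hs'
  have hgen := param_adjoin_eq_top hK.1 he hf hs hs'
  rw [← diffExp_eq_ord_param hK hg he hφ hψ hx hx' hf hs hs']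
  set f' := aeval s (derivative (minpoly K s))
  have hf'0 : f' ≠ 0 := (Algebra.IsSeparable.isSeparable K s).aeval_derivative_ne_zero (minpoly.aeval K s)
  refine ⟨fun y hy => ?_, w / f', fun z hz => ?_, by rw [map_div₀, hwQ, val_eq_exp Q hf'0, one_div, exp_neg, inv_inv]⟩
  · have h := (dual_adjoin_iff hgen hint y).1 fun a ha => hy a (adjoin_isIntegral hint ha)
    have h1 := (isIntegral_iff hK.1 P _).1 (adjoin_isIntegral hint h) Q ⟨e, he⟩
    rw [map_mul, val_eq_exp Q hf'0, exp_neg] at h1
    calc Q.1 y = exp (Q.ord f') * ((exp (Q.ord f'))⁻¹ * Q.1 y) := by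
          rw [← mul_assoc, mul_inv_cancel₀ exp_ne_zero, one_mul]
      _ ≤ exp (Q.ord f') * 1 := mul_le_mul' le_rfl h1
      _ = _ := mul_one _
  · have h := (dual_adjoin_iff hgen hint (w / f' * z)).2 (by
      rw [show f' * (w / f' * z) = w * z by field_simp]
      exact hw z hz) 1 (one_mem _)
    rwa [mul_one] at h

end Main

end Groth.Agent.FF
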