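/-
The field `kK^p` of a geometric function field.
-/
import Groth.Agent.L26.Res.Sep
import Mathlib.FieldTheory.PurelyInseparable.Basic
import Mathlib.FieldTheory.KummerPolynomial

open IntermediateField

universe u v

namespace Groth.Agent.FF

open FunFld Groth.Agent.Res

variable {k : Type u} {K : Type v} [Field k] [Field K] [Algebra k K]

/-- Elements of vanishing differential. -/
noncomputable def kerD (k : Type u) (K : Type v) [Field k] [Field K] [Algebra k K] : IntermediateField k K where
  carrier := {z | KaehlerDifferential.D k K z = 0}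
  mul_mem' := fun {a b} ha hb => by
    show KaehlerDifferential.D k K (a * b) = 0
    rw [Derivation.leibniz, show KaehlerDifferential.D k K a = 0 from ha,
      show KaehlerDifferential.D k K b = 0 from hb]; simp
  one_mem' := (KaehlerDifferential.D k K).map_one_eq_zero
  add_mem' := fun {a b} ha hb => by
    show KaehlerDifferential.D k K (a + b) = 0
    rw [map_add, show KaehlerDifferential.D k K a = 0 from ha,
      show KaehlerDifferential.D k K b = 0 from hb, add_zero]
  zero_mem' := map_zero _
  algebraMap_mem' := (KaehlerDifferential.D k K).map_algebraMap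
  inv_mem' := fun a ha => by
    show KaehlerDifferential.D k K a⁻¹ = 0
    rw [Derivation.leibniz_inv, show KaehlerDifferential.D k K a = 0 from ha, smul_zero]

variable (p : ℕ) [Fact p.Prime] [CharP K p]

/-- `kK^p`. -/
abbrev pPow (k : Type u) (K : Type v) [Field k] [Field K] [Algebra k K] (p : ℕ) : IntermediateField k K :=
  IntermediateField.adjoin k (Set.range fun y : K => y ^ p)

lemma pPow_le_kerD : pPow k K p ≤ kerD k K := by
  refine adjoin_le_iff.2 ?_
  rintro _ ⟨y, rfl⟩
  show KaehlerDifferential.D k K (y ^ p) = 0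
  rw [Derivation.leibniz_pow, ← Nat.cast_smul_eq_nsmul K, CharP.cast_eq_zero, zero_smul]

instance isPurelyInseparable_pPow : IsPurelyInseparable (pPow k K p) K := by
  have : ExpChar K p := .prime Fact.out
  have : CharP (pPow k K p) p :=
    RingHom.charP (algebraMap (pPow k K p) K) (algebraMap (pPow k K p) K).injective p
  have : ExpChar (pPow k K p) p := .prime Fact.out
  rw [isPurelyInseparable_iff_pow_mem (pPow k K p) p]
  exact fun x => ⟨1, ⟨⟨x ^ p, subset_adjoin k _ ⟨x, rfl⟩⟩, by rw [pow_one]; rfl⟩⟩

lemma adjoin_separating_eq_top {s : K} [Algebra.IsSeparable k⟮s⟯ K] :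
    IntermediateField.adjoin (pPow k K p) ({s} : Set K) = ⊤ := by
  let L := IntermediateField.adjoin (pPow k K p) ({s} : Set K)
  have h1 : k⟮s⟯ ≤ L.restrictScalars k :=
    adjoin_simple_le_iff.2 (mem_adjoin_simple_self _ s)
  let : Algebra k⟮s⟯ L := (IntermediateField.inclusion h1).toRingHom.toAlgebra
  have : IsScalarTower k⟮s⟯ L K := IsScalarTower.of_algebraMap_eq fun _ => rfl
  have : Algebra.IsSeparable L K := Algebra.isSeparable_tower_top_of_isSeparable k⟮s⟯ L K
  have : IsPurelyInseparable L K := IsPurelyInseparable.tower_top (pPow k K p) L K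
  refine eq_top_iff.2 fun z _ => ?_
  obtain ⟨w, hw⟩ := IsPurelyInseparable.surjective_algebraMap_of_isSeparable L K z
  exact hw ▸ w.2

lemma minpoly_sep {s : K} (hsM : s ∉ pPow k K p) :
    minpoly (pPow k K p) s = Polynomial.X ^ p - Polynomial.C (⟨s ^ p, subset_adjoin k _ ⟨s, rfl⟩⟩ : pPow k K p) := by
  refine (minpoly.eq_of_irreducible_of_monic ?_ ?_ (Polynomial.monic_X_pow_sub_C _ (NeZero.ne p))).symm
  · refine X_pow_sub_C_irreducible_of_prime Fact.out fun b hb => hsM ?_
    have h : (b : K) ^ p = s ^ p := congrArg Subtype.val hb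
    have : ExpChar K p := .prime Fact.out
    exact (frobenius_inj K p h) ▸ b.2
  · rw [map_sub, Polynomial.aeval_X_pow, Polynomial.aeval_C, sub_eq_zero]
    rfl

theorem finrank_pPow (hK : IsFunctionField k K) (hg : IsGeometric k K) :
    Module.finrank (pPow k K p) K = p := by
  obtain ⟨s, hs, _⟩ := exists_separating hK hg
  have hsM : s ∉ pPow k K p := fun h => D_ne_zero hK hs (pPow_le_kerD p h)
  have hint : IsIntegral (pPow k K p) s := (IsPurelyInseparable.isIntegral' (pPow k K p) s)
  have h := IntermediateField.adjoin.finrank hint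
  rw [adjoin_separating_eq_top p, IntermediateField.finrank_top', minpoly_sep p hsM,
    Polynomial.natDegree_X_pow_sub_C] at h
  exact h

theorem mem_pPow_iff (hK : IsFunctionField k K) (hg : IsGeometric k K) {x : K} :
    x ∈ pPow k K p ↔ KaehlerDifferential.D k K x = 0 := by
  refine ⟨fun h => pPow_le_kerD p h, fun h => ?_⟩
  by_contra hx
  obtain ⟨s, hs, _⟩ := exists_separating hK hg
  have hp := finrank_pPow p hK hg
  let L := IntermediateField.adjoin (pPow k K p) ({x} : Set K)
  have hdvd : Module.finrank (pPow k K p) L ∣ p := by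
    exact (Dvd.intro _ (Module.finrank_mul_finrank (pPow k K p) L K)).trans (dvd_of_eq hp)
  rcases (Nat.dvd_prime Fact.out).1 hdvd with h1 | h1
  · rw [IntermediateField.finrank_eq_one_iff, IntermediateField.adjoin_simple_eq_bot_iff] at h1
    obtain ⟨⟨y, hy⟩, rfl⟩ := h1
    exact hx hy
  · have : FiniteDimensional (pPow k K p) K :=
      Module.finite_of_finrank_pos (lt_of_lt_of_eq (Fact.out : p.Prime).pos hp.symm)
    have htop : L = ⊤ := IntermediateField.eq_of_le_of_finrank_eq le_top
      (by rw [h1, IntermediateField.finrank_top', hp])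
    have hle : L.restrictScalars k ≤ kerD k K := by
      rw [IntermediateField.restrictScalars_adjoin]
      exact adjoin_le_iff.2 (Set.union_subset (pPow_le_kerD p) (Set.singleton_subset_iff.2 h))
    exact D_ne_zero hK hs (hle (show s ∈ L.restrictScalars k from (htop ▸ mem_top : s ∈ L)))

theorem isSeparable_iff_D_ne_zero (hK : IsFunctionField k K) (hg : IsGeometric k K) {x : K} :
    Algebra.IsSeparable k⟮x⟯ K ↔ KaehlerDifferential.D k K x ≠ 0 := by
  refine ⟨fun _ => D_ne_zero hK (fun halg => ?_), fun h => ?_⟩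
  · obtain ⟨y, hy, -⟩ := hK.1
    have : Algebra.IsAlgebraic k k⟮x⟯ := IntermediateField.isAlgebraic_adjoin_simple halg.isIntegral
    have : Algebra.IsAlgebraic k⟮x⟯ K := Algebra.IsSeparable.isAlgebraic _ _
    exact hy ((Algebra.IsAlgebraic.trans k k⟮x⟯ K).isAlgebraic y)
  · have := essFiniteType hK.1
    have : Algebra.EssFiniteType k⟮x⟯ K := Algebra.EssFiniteType.of_comp k k⟮x⟯ K
    have : Algebra.FormallyUnramified k⟮x⟯ K := by
      refine ⟨subsingleton_of_forall_eq 0 fun ω => ?_⟩
      obtain ⟨w, rfl⟩ := KaehlerDifferential.map_surjective k k⟮x⟯ K ω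
      obtain ⟨c, rfl⟩ := exists_smul_eq_of_finrank_eq_one (finrank_omega hK hg) h w
      rw [map_smul, KaehlerDifferential.map_D, Algebra.algebraMap_self_apply]
      exact (congrArg (c • ·) ((KaehlerDifferential.D k⟮x⟯ K).map_algebraMap (AdjoinSimple.gen k x))).trans
        (smul_zero c)
    exact Algebra.FormallyUnramified.isSeparable k⟮x⟯ K

theorem eq_pPow_iff (hK : IsFunctionField k K) (hg : IsGeometric k K) (K₀ : IntermediateField k K) :
    (IsPurelyInseparable K₀ K ∧ Module.finrank K₀ K = p) ↔ K₀ = pPow k K p := by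
  constructor
  · rintro ⟨hpi, hrank⟩
    have : ExpChar K p := .prime Fact.out
    have : CharP K₀ p := RingHom.charP (algebraMap K₀ K) (algebraMap K₀ K).injective p
    have : ExpChar K₀ p := .prime Fact.out
    have : FiniteDimensional K₀ K := Module.finite_of_finrank_pos (hrank ▸ (Fact.out : p.Prime).pos)
    have hle : pPow k K p ≤ K₀ := by
      refine adjoin_le_iff.2 ?_
      rintro _ ⟨y, rfl⟩
      obtain ⟨n, a, hm⟩ := IsPurelyInseparable.minpoly_eq_X_pow_sub_C K₀ p y
      have hdeg : (minpoly K₀ y).natDegree = p ^ n := by rw [hm, Polynomial.natDegree_X_pow_sub_C]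
      have hdvd : p ^ n ∣ p := by
        rw [← hdeg]
        exact (minpoly.degree_dvd (Algebra.IsIntegral.isIntegral y)).trans (by rw [hrank])
      have h0 : y ^ p ^ n = (a : K) := by
        have := minpoly.aeval K₀ y
        rwa [hm, map_sub, Polynomial.aeval_X_pow, Polynomial.aeval_C, sub_eq_zero] at this
      have hn : n ≤ 1 := (Nat.pow_dvd_pow_iff_le_right (Fact.out : p.Prime).one_lt).1 (by simpa using hdvd)
      have h2 : y ^ p = (y ^ p ^ n) ^ p ^ (1 - n) := by
        rw [← pow_mul, ← pow_add, Nat.add_sub_cancel' hn, pow_one]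
      simp only [SetLike.mem_coe]
      rw [h2, h0]
      exact pow_mem a.2 _
    have : FiniteDimensional (pPow k K p) K :=
      Module.finite_of_finrank_pos (lt_of_lt_of_eq (Fact.out : p.Prime).pos (finrank_pPow p hK hg).symm)
    exact (IntermediateField.eq_of_le_of_finrank_eq' hle
      ((finrank_pPow p hK hg).trans hrank.symm)).symm
  · rintro rfl
    exact ⟨inferInstance, finrank_pPow p hK hg⟩

end Groth.Agent.FF
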