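/-
A plane curve at a point: `ord (∂g/∂v) ≥ ord du`, with equality only at nonsingular points.
-/
import Groth.Agent.L26.FF.Different
import Groth.Agent.L26.FF.Diff
import Groth.Agent.L26.FF.PBasis
import Groth.Agent.L26.FF.Closed
import Groth.Agent.L26.FF.Family
import Mathlib.RingTheory.Trace.Basic
import Mathlib.FieldTheory.Minpoly.MinpolyDiv
import Mathlib.Algebra.MvPolynomial.PDeriv

open WithZero
open scoped IntermediateField

universe u v

namespace Groth.Agent.FF

open FunFld

variable {k : Type u} {K : Type v} [Field k] [Field K] [Algebra k K]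

/-- A polynomial in two variables as a polynomial over `k(s)`. -/
noncomputable def overAdjoin (s : K) : MvPolynomial (Fin 2) k →ₐ[k] Polynomial k⟮s⟯ :=
  MvPolynomial.aeval ![Polynomial.C (IntermediateField.AdjoinSimple.gen k s), Polynomial.X]

variable {s w : K}

lemma coe_aeval_gen (r : Polynomial k) :
    ((Polynomial.aeval (IntermediateField.AdjoinSimple.gen k s) r : k⟮s⟯) : K) = Polynomial.aeval s r := by
  show algebraMap k⟮s⟯ K _ = _
  rw [← Polynomial.aeval_algebraMap_apply, IntermediateField.AdjoinSimple.algebraMap_gen]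

lemma aeval_overAdjoin (p : MvPolynomial (Fin 2) k) :
    Polynomial.aeval w (overAdjoin s p) = MvPolynomial.aeval ![s, w] p := by
  have e : ((Polynomial.aeval w).restrictScalars k).comp (overAdjoin s) = MvPolynomial.aeval ![s, w] := by
    refine MvPolynomial.algHom_ext fun i => ?_
    fin_cases i <;> simp [overAdjoin]
  exact DFunLike.congr_fun e p

lemma derivative_overAdjoin (p : MvPolynomial (Fin 2) k) :
    overAdjoin s (MvPolynomial.pderiv 1 p) = Polynomial.derivative (overAdjoin s p) := by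
  induction p using MvPolynomial.induction_on with
  | C c => simp [overAdjoin]
  | add p q hp hq => simp [hp, hq]
  | mul_X p i hp =>
    rw [MvPolynomial.pderiv_mul, map_add, map_mul, map_mul, map_mul, Polynomial.derivative_mul, hp]
    fin_cases i <;> simp [overAdjoin, MvPolynomial.pderiv_X]

lemma coeff_overAdjoin (p : MvPolynomial (Fin 2) k) (i : ℕ) :
    (((overAdjoin s p).coeff i : k⟮s⟯) : K) ∈ Algebra.adjoin k (Set.range ![s, w]) := by
  induction p using MvPolynomial.induction_on generalizing i with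
  | C c =>
    simp only [overAdjoin, MvPolynomial.aeval_C, Polynomial.algebraMap_apply, Polynomial.coeff_C]
    split_ifs
    · exact Subalgebra.algebraMap_mem _ c
    · exact zero_mem _
  | add p q hp hq => rw [map_add, Polynomial.coeff_add]; exact add_mem (hp i) (hq i)
  | mul_X p l hp =>
    rw [map_mul]
    fin_cases l
    · simp only [overAdjoin, MvPolynomial.aeval_X]
      show (((overAdjoin s p) * Polynomial.C _).coeff i : K) ∈ _
      rw [Polynomial.coeff_mul_C]
      exact mul_mem (hp i) (Algebra.subset_adjoin ⟨0, by simp⟩)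
    · simp only [overAdjoin, MvPolynomial.aeval_X]
      show (((overAdjoin s p) * Polynomial.X).coeff i : K) ∈ _
      cases i with
      | zero => simp
      | succ i => rw [Polynomial.coeff_mul_X]; exact hp i

/-- Clearing denominators. -/
lemma exists_overAdjoin (m : Polynomial k⟮s⟯) :
    ∃ (c : Polynomial k) (p : MvPolynomial (Fin 2) k), Polynomial.aeval (IntermediateField.AdjoinSimple.gen k s) c ≠ 0 ∧
      Polynomial.C (Polynomial.aeval (IntermediateField.AdjoinSimple.gen k s) c) * m = overAdjoin s p := by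
  have hC : ∀ r : Polynomial k, overAdjoin s (Polynomial.aeval (MvPolynomial.X 0) r) =
      Polynomial.C (Polynomial.aeval (IntermediateField.AdjoinSimple.gen k s) r) := fun r => by
    rw [← Polynomial.aeval_algHom_apply]
    simp only [overAdjoin, MvPolynomial.aeval_X]
    exact (Polynomial.aeval_algebraMap_apply (Polynomial k⟮s⟯) (IntermediateField.AdjoinSimple.gen k s) r)
  induction m using Polynomial.induction_on' with
  | add a b ha hb =>
    obtain ⟨c, p, hc, hp⟩ := ha
    obtain ⟨c', p', hc', hp'⟩ := hb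
    refine ⟨c * c', Polynomial.aeval (MvPolynomial.X 0) c' * p + Polynomial.aeval (MvPolynomial.X 0) c * p',
      by rw [map_mul]; exact mul_ne_zero hc hc', ?_⟩
    simp only [map_mul, map_add, hC, ← hp, ← hp']
    ring
  | monomial n a =>
    obtain ⟨r, d, hrd⟩ := (IntermediateField.mem_adjoin_simple_iff k (a : K)).1 a.2
    by_cases hd : Polynomial.aeval s d = 0
    · refine ⟨1, 0, by simp, ?_⟩
      rw [hd, div_zero] at hrd
      rw [show a = 0 from Subtype.ext hrd]
      simp
    · have hd' : Polynomial.aeval (IntermediateField.AdjoinSimple.gen k s) d ≠ 0 := fun h => hd (by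
        have := congrArg ((↑) : k⟮s⟯ → K) h
        rwa [coe_aeval_gen] at this)
      refine ⟨d, Polynomial.aeval (MvPolynomial.X 0) r * MvPolynomial.X 1 ^ n, hd', ?_⟩
      rw [map_mul, hC, map_pow, show overAdjoin s (MvPolynomial.X 1) = Polynomial.X by simp [overAdjoin],
        Polynomial.C_mul_monomial, ← Polynomial.C_mul_X_pow_eq_monomial]
      congr 2
      refine Subtype.ext ?_
      rw [IntermediateField.coe_mul, coe_aeval_gen, coe_aeval_gen, hrd, mul_div_cancel₀ _ hd]

theorem plane_local [IsAlgClosed k] (hK : IsFunctionField k K)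
    (hgen : IntermediateField.adjoin k ({s, w} : Set K) = ⊤)
    {g : MvPolynomial (Fin 2) k} (hgsw : MvPolynomial.aeval ![s, w] g = 0)
    (hker : ∀ p, MvPolynomial.aeval ![s, w] p = 0 → g ∣ p)
    (Q : Place k K) {ψ : K →ₐ[k] LaurentSeries k} (hψ : LocRes.IsExpansionAt Q.1 ψ)
    (hs : Q.1 s ≤ 1) (hw : Q.1 w ≤ 1) (hds : LocRes.vDiff ψ 1 s ≠ 0) :
    MvPolynomial.aeval ![s, w] (MvPolynomial.pderiv 1 g) ≠ 0 ∧
    LocRes.ordDiff ψ 1 s ≤ Q.ord (MvPolynomial.aeval ![s, w] (MvPolynomial.pderiv 1 g)) ∧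
    (Q.ord (MvPolynomial.aeval ![s, w] (MvPolynomial.pderiv 1 g)) = LocRes.ordDiff ψ 1 s →
      ∀ z : K, Q.1 z ≤ 1 → ∃ a ∈ Algebra.adjoin k (Set.range ![s, w]),
        ∃ b ∈ Algebra.adjoin k (Set.range ![s, w]), Q.1 b = 1 ∧ z * b = a) := by
  classical
  set S := Algebra.adjoin k (Set.range ![s, w])
  have hsS : s ∈ S := Algebra.subset_adjoin ⟨0, by simp⟩
  have hwS : w ∈ S := Algebra.subset_adjoin ⟨1, by simp⟩
  have hgK : IsGeometric k K := isGeometric_algClosed
  have hD : KaehlerDifferential.D k K s ≠ 0 := ((Res.vDiff_ne_zero_iff hK hgK hψ 1 s).1 hds).2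
  have htr : Transcendental k s := transcendental_of_not_const hK (by
    rintro ⟨c, rfl⟩
    exact hD (Derivation.map_algebraMap _ c))
  have : Algebra.IsSeparable k⟮s⟯ K := (isSeparable_iff_D_ne_zero hK hgK).2 hD
  have hfin : FiniteDimensional k⟮s⟯ K := finite_over_adjoin hK.1 htr
  -- the base field
  set s₀ := IntermediateField.AdjoinSimple.gen k s
  have htr₀ : Transcendental k s₀ := fun h => htr (by
    have := (isAlgebraic_algebraMap_iff (A := K) (algebraMap k⟮s⟯ K).injective).2 h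
    rwa [IntermediateField.AdjoinSimple.algebraMap_gen] at this)
  have htop : k⟮s₀⟯ = ⊤ := by
    refine eq_top_iff.2 fun z _ => ?_
    obtain ⟨r, d, h⟩ := (IntermediateField.mem_adjoin_simple_iff k (z : K)).1 z.2
    refine (IntermediateField.mem_adjoin_simple_iff k z).2 ⟨r, d, Subtype.ext ?_⟩
    rw [IntermediateField.coe_div, coe_aeval_gen, coe_aeval_gen, h]
  have hsurj₀ : Function.Surjective (algebraMap k⟮s₀⟯ k⟮s⟯) :=
    fun z => ⟨⟨z, htop ▸ IntermediateField.mem_top⟩, rfl⟩
  have hfin₀ : FiniteDimensional k⟮s₀⟯ k⟮s⟯ := Module.Finite.of_surjective (Algebra.linearMap _ _) hsurj₀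
  have hK₀ : IsFunctionField k k⟮s⟯ := ⟨⟨s₀, htr₀, hfin₀⟩, fun y hy => by
    obtain ⟨c, hc⟩ := hK.2 (y : K) ((isAlgebraic_algebraMap_iff (A := K) (algebraMap k⟮s⟯ K).injective).2 hy)
    exact ⟨c, Subtype.ext hc⟩⟩
  have hg₀ : IsGeometric k k⟮s⟯ := isGeometric_algClosed
  have : Algebra.IsSeparable k⟮s₀⟯ k⟮s⟯ := ⟨fun z => by
    obtain ⟨a, rfl⟩ := hsurj₀ z
    exact isSeparable_algebraMap a⟩
  obtain ⟨H, hH⟩ := exists_hasse_of_separable htr₀
  obtain ⟨Φ, hΦ⟩ := exists_expansions hK₀ hH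
  obtain ⟨P, e, he⟩ := exists_below hK₀.1 Q
  obtain ⟨a, ha⟩ := exists_value Q (deg_eq_one hK Q) hs
  set x := s₀ - algebraMap k k⟮s⟯ a
  have hxK : algebraMap k⟮s⟯ K x = s - algebraMap k K a := by
    rw [map_sub, IntermediateField.AdjoinSimple.algebraMap_gen, ← IsScalarTower.algebraMap_apply]
  have hxP : P.1 x < 1 := (he.lt_one_iff x).1 (by rw [hxK]; exact ha)
  have hx0 : x ≠ 0 := fun h => htr₀ (by
    rw [show s₀ = algebraMap k k⟮s⟯ a from sub_eq_zero.1 h]
    exact isAlgebraic_algebraMap a)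
  have hinj : ∀ q : Polynomial k, q ≠ 0 → Polynomial.aeval s₀ q ≠ 0 :=
    fun q hq h => htr₀ ⟨q, hq, h⟩
  have hsplit : ∀ q : Polynomial k, q ≠ 0 → ∃ (i : ℕ) (q' : Polynomial k),
      Polynomial.aeval s₀ q = x ^ i * Polynomial.aeval s₀ q' ∧ P.1 (Polynomial.aeval s₀ q') = 1 ∧
        Q.1 (Polynomial.aeval s q') = 1 := fun q hq => by
    obtain ⟨q', hq', hnd⟩ := Polynomial.exists_eq_pow_rootMultiplicity_mul_and_not_dvd q hq a
    refine ⟨_, q', by conv_lhs => rw [hq', map_mul, map_pow, map_sub, Polynomial.aeval_X, Polynomial.aeval_C], ?_⟩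
    obtain ⟨r, hr⟩ := Polynomial.X_sub_C_dvd_sub_C_eval (p := q') (a := a)
    have hne : q'.eval a ≠ 0 := fun h0 => hnd (Polynomial.dvd_iff_isRoot.2 h0)
    have hle : ∀ q : Polynomial k, Q.1 (Polynomial.aeval s q) ≤ 1 := fun q => by
      rw [Polynomial.aeval_eq_sum_range]
      refine Q.1.map_sum_le fun i _ => ?_
      rw [Algebra.smul_def, map_mul, map_pow]
      exact mul_le_one' (Q.2.1 _) (pow_le_one₀ zero_le hs)
    have hQ : Q.1 (Polynomial.aeval s q') = 1 := by
      have h1 : Q.1 (Polynomial.aeval s q' - algebraMap k K (q'.eval a)) < 1 := by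
        have := congrArg (Polynomial.aeval s) hr
        rw [map_sub, Polynomial.aeval_C, map_mul, map_sub, Polynomial.aeval_X, Polynomial.aeval_C] at this
        rw [this, map_mul]
        exact (mul_le_of_le_one_right' (hle r)).trans_lt ha
      rw [← sub_add_cancel (Polynomial.aeval s q') (algebraMap k K (q'.eval a)),
        Q.1.map_add_eq_of_lt_right (h1.trans_eq (val_const Q hne).symm), val_const Q hne]
    refine ⟨le_antisymm ((he.le_one_iff _).1 ?_) (not_lt.1 fun h => ?_), hQ⟩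
    · rw [← Polynomial.aeval_algebraMap_apply, IntermediateField.AdjoinSimple.algebraMap_gen, hQ]
    · have := (he.lt_one_iff _).2 h
      rw [← Polynomial.aeval_algebraMap_apply, IntermediateField.AdjoinSimple.algebraMap_gen, hQ] at this
      exact lt_irrefl _ this
  -- every element is a power of `x` times a unit of the polynomial ring
  have hdec : ∀ z : k⟮s⟯, z ≠ 0 → ∃ (i j : ℕ) (r d : Polynomial k), P.1 z = P.1 x ^ i / P.1 x ^ j ∧
      Q.1 (Polynomial.aeval s d) = 1 ∧ z * x ^ j * Polynomial.aeval s₀ d = x ^ i * Polynomial.aeval s₀ r := fun z hz => by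
    have hz' : z ∈ k⟮s₀⟯ := htop ▸ IntermediateField.mem_top
    obtain ⟨r, d, hzrd⟩ := (IntermediateField.mem_adjoin_simple_iff k z).1 hz'
    have hrd : Polynomial.aeval s₀ r ≠ 0 ∧ Polynomial.aeval s₀ d ≠ 0 := by rwa [hzrd, div_ne_zero_iff] at hz
    obtain ⟨i, r', hr, hrP, -⟩ := hsplit r fun h => hrd.1 (by rw [h, map_zero])
    obtain ⟨j, d', hd, hdP, hdQ⟩ := hsplit d fun h => hrd.2 (by rw [h, map_zero])
    refine ⟨i, j, r', d', ?_, hdQ, ?_⟩
    · rw [hzrd, hr, hd, map_div₀, map_mul, map_mul, map_pow, map_pow, hrP, hdP, mul_one, mul_one]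
    · rw [hzrd, hr, mul_assoc, ← hd, div_mul_cancel₀ _ hrd.2]
  have hx1 : P.1 x = exp (-1 : ℤ) := by
    obtain ⟨t, ht0, ht⟩ := exists_val_eq P (-1)
    obtain ⟨i, j, r, d, hv, -, -⟩ := hdec t ht0
    rw [ht, val_eq_exp P hx0, ← exp_nsmul, ← exp_nsmul, ← exp_sub, exp_inj] at hv
    simp only [nsmul_eq_mul] at hv
    have h1 : ((j : ℤ) - i) * (-P.ord x) = 1 := by linarith
    have h2 := (val_lt_one_iff P hx0).1 hxP
    rw [val_eq_exp P hx0]
    rcases Int.eq_one_or_neg_one_of_mul_eq_one' h1 with ⟨-, h3⟩ | ⟨-, h3⟩ <;> (rw [exp_inj]; omega)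
  have hPS : ∀ z : k⟮s⟯, P.1 z ≤ 1 → ∃ a ∈ S, ∃ b ∈ S, Q.1 b = 1 ∧ (z : K) * b = a := fun z hz => by
    rcases eq_or_ne z 0 with rfl | hz0
    · exact ⟨0, zero_mem _, 1, one_mem _, map_one _, by simp⟩
    obtain ⟨i, j, r, d, hv, hdQ, heq⟩ := hdec z hz0
    have hij : j ≤ i := by
      rw [hv, hx1, ← exp_nsmul, ← exp_nsmul, ← exp_sub, exp_le_one'] at hz
      simp only [nsmul_eq_mul] at hz
      omega
    have hmem : ∀ q : Polynomial k, Polynomial.aeval s q ∈ S := fun q =>
      (Algebra.adjoin_le (S := S) (Set.singleton_subset_iff.2 hsS)) (Polynomial.aeval_mem_adjoin_singleton k s)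
    refine ⟨(s - algebraMap k K a) ^ (i - j) * Polynomial.aeval s r,
      mul_mem (pow_mem (sub_mem hsS (Subalgebra.algebraMap_mem _ _)) _) (hmem r), Polynomial.aeval s d, hmem d, hdQ, ?_⟩
    have h := congrArg (algebraMap k⟮s⟯ K) heq
    rw [map_mul, map_mul, map_mul, map_pow, map_pow, hxK, ← Polynomial.aeval_algebraMap_apply,
      ← Polynomial.aeval_algebraMap_apply, IntermediateField.AdjoinSimple.algebraMap_gen] at h
    have hne : s - algebraMap k K a ≠ 0 := hxK ▸ (map_ne_zero _).2 hx0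
    refine mul_left_cancel₀ (pow_ne_zero j hne) ?_
    rw [← mul_assoc ((s - algebraMap k K a) ^ j) ((s - algebraMap k K a) ^ (i - j)), ← pow_add, Nat.add_sub_cancel' hij, ← h]
    show _ = algebraMap k⟮s⟯ K z * _ * _
    rw [show algebraMap k⟮s⟯ K z = (z : K) from rfl]
    ring
  -- differentials
  have hvx : LocRes.vDiff (Φ P) 1 x = 1 := Res.vDiff_uniformizer (hΦ P) hx1
  have hvs : LocRes.vDiff ψ 1 (algebraMap k⟮s⟯ K x) = LocRes.vDiff ψ 1 s := by
    rw [hxK, Res.vDiff_eq, Res.vDiff_eq, map_sub, map_sub,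
      Res.D_map_eq_zero ψ (v := algebraMap k K a) (Derivation.map_algebraMap _ a), sub_zero]
  have : P.1.HasExtension Q.1 := ⟨Valuation.isEquiv_of_val_le_one fun {z} => (he.le_one_iff z).symm⟩
  have hf : Function.Surjective (algebraMap (IsLocalRing.ResidueField P.O) (IsLocalRing.ResidueField Q.O)) := by
    intro z
    obtain ⟨c, hc⟩ := (residue_bijective_of_deg_one Q (deg_eq_one hK Q)).2 z
    refine ⟨IsLocalRing.residue P.O (algebraMap k P.O c), ?_⟩
    rw [Valuation.HasExtension.algebraMap_residue_eq_residue_algebraMap, ← hc]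
    exact congrArg (IsLocalRing.residue Q.O) (Subtype.ext (IsScalarTower.algebraMap_apply k k⟮s⟯ K c).symm)
  let : Algebra P.O K := ((algebraMap k⟮s⟯ K).comp P.O.subtype).toAlgebra
  have : IsScalarTower P.O k⟮s⟯ K := IsScalarTower.of_algebraMap_eq fun _ => rfl
  have hdiff : LocRes.diffExp (Φ P) ψ e x = LocRes.ordDiff ψ 1 s := by
    rw [LocRes.diffExp, LocRes.ordDiff, LocRes.ordDiff, LocRes.ordDiff, hvs, hvx, WithZero.log_one]
    ring
  obtain ⟨-, y0, hy0, hy0v⟩ := trace_dual_spec hK₀ hg₀ he (hΦ P) hψ (x := x)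
    (by rw [hvx]; exact one_ne_zero) (by rw [hvs]; exact hds) hf
  rw [hdiff] at hy0v
  -- `g` and the minimal polynomial of `w`
  have hwint : IsIntegral k⟮s⟯ w := Algebra.IsIntegral.isIntegral w
  set μ := minpoly k⟮s⟯ w
  set G := overAdjoin s g
  have hGμ : G ∣ μ := by
    obtain ⟨c, p, hc, hp⟩ := exists_overAdjoin (s := s) μ
    have h1 : MvPolynomial.aeval ![s, w] p = 0 := by
      rw [← aeval_overAdjoin, ← hp, map_mul, minpoly.aeval, mul_zero]
    have h2 := map_dvd (overAdjoin s) (hker p h1)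
    rw [← hp] at h2
    exact (IsUnit.dvd_mul_left (Polynomial.isUnit_C.2 (Ne.isUnit hc))).1 h2
  have hμG : μ ∣ G := minpoly.dvd _ _ (by rw [aeval_overAdjoin, hgsw])
  obtain ⟨cu, hcu⟩ := associated_of_dvd_dvd hμG hGμ
  obtain ⟨c, hcunit, hc⟩ := Polynomial.isUnit_iff.1 cu.isUnit
  rw [← hc] at hcu
  have hc0 : (c : K) ≠ 0 := (map_ne_zero (algebraMap k⟮s⟯ K)).2 hcunit.ne_zero
  set μ' := Polynomial.aeval w (Polynomial.derivative μ)
  have hμ'0 : μ' ≠ 0 := (Algebra.IsSeparable.isSeparable k⟮s⟯ w).aeval_derivative_ne_zero (minpoly.aeval _ w)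
  set gw := MvPolynomial.aeval ![s, w] (MvPolynomial.pderiv 1 g)
  have hgw : gw = (c : K) * μ' := by
    have : gw = Polynomial.aeval w (Polynomial.derivative (μ * Polynomial.C c)) := by
      rw [hcu, ← derivative_overAdjoin, aeval_overAdjoin]
    rw [this, Polynomial.derivative_mul, Polynomial.derivative_C, mul_zero, add_zero, map_mul, Polynomial.aeval_C,
      mul_comm]
    rfl
  have hgw0 : gw ≠ 0 := hgw ▸ mul_ne_zero hc0 hμ'0
  -- the Horner elements
  have hhorner : ∀ i, (c : K) * (minpolyDiv k⟮s⟯ w).coeff i ∈ S := by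
    intro i
    by_contra H
    have : ∀ j, (c : K) * (minpolyDiv k⟮s⟯ w).coeff (i + j) ∉ S := by
      intro j
      induction j with
      | zero => exact H
      | succ j ih =>
        intro h
        apply ih
        rw [coeff_minpolyDiv, mul_add, ← mul_assoc]
        refine add_mem ?_ (mul_mem h hwS)
        have := coeff_overAdjoin (s := s) (w := w) g (i + j + 1)
        rw [show overAdjoin s g = μ * Polynomial.C c from hcu.symm, Polynomial.coeff_mul_C, IntermediateField.coe_mul,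
          mul_comm] at this
        exact this
    apply this ((minpolyDiv k⟮s⟯ w).natDegree + 1)
    rw [Polynomial.coeff_eq_zero_of_natDegree_lt (by omega), mul_zero]
    exact zero_mem _
  have htopw : IntermediateField.adjoin k⟮s⟯ ({w} : Set K) = ⊤ := by
    apply IntermediateField.restrictScalars_injective k
    rw [IntermediateField.restrictScalars_top, IntermediateField.adjoin_simple_adjoin_simple, hgen]
  let pb := PowerBasis.ofAdjoinEqTop hwint (algebra_adjoin_eq_top htopw)
  have hpb : pb.gen = w := by simp [pb]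
  have hexpand : ∀ z : K, gw * z = ∑ i : Fin pb.dim,
      algebraMap k⟮s⟯ K (Algebra.trace k⟮s⟯ K (w ^ (i : ℕ) * z)) * ((c : K) * (minpolyDiv k⟮s⟯ w).coeff i) := fun z => by
    have h1 := pb.basis.traceDual.sum_repr z
    have h2 : ∀ i, pb.basis.traceDual.repr z i = Algebra.trace k⟮s⟯ K (w ^ (i : ℕ) * z) := fun i => by
      rw [Module.Basis.traceDual_repr_apply, pb.basis_eq_pow, hpb, Algebra.traceForm_apply, mul_comm]
    conv_lhs => rw [← h1, Finset.mul_sum]
    refine Finset.sum_congr rfl fun i _ => ?_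
    rw [h2, Module.Basis.traceDual_powerBasis_eq, hpb, hgw, Algebra.smul_def]
    show (c : K) * μ' * (_ * ((minpolyDiv k⟮s⟯ w).coeff i / μ')) = _
    field_simp
  -- a function which is `1` at `Q` and vanishes to high order at the other places over `P`
  set Qs := (finite_over (K' := K) hK₀.1 P).toFinset
  have hmem : ∀ R, R ∈ Qs ↔ IsOver R P := fun R => Set.Finite.mem_toFinset _
  let M : ℤ := ((Qs.sup fun R => pb.dim * (-R.ord w).toNat : ℕ) : ℤ)
  obtain ⟨h, hh⟩ := approx_val Qs fun R => if R = Q then 0 else -M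
  have hQQ : Q ∈ Qs := (hmem Q).2 ⟨e, he⟩
  have hhQ : Q.1 h = 1 := by rw [hh Q hQQ, if_pos rfl, exp_zero]
  have hR : ∀ u, IsIntegral P.O u → ∀ i : Fin pb.dim, IsIntegral P.O (w ^ (i : ℕ) * h * u) := fun u hu i => by
    refine (isIntegral_iff hK₀.1 P _).2 fun R hR => ?_
    have huR := (isIntegral_iff hK₀.1 P u).1 hu R hR
    rw [map_mul]
    refine Left.mul_le_one ?_ huR
    rw [map_mul, map_pow, hh R ((hmem R).2 hR)]
    split_ifs with hRQ
    · rw [hRQ, exp_zero, mul_one]; exact pow_le_one₀ zero_le hw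
    · rcases le_or_gt (R.1 w) 1 with hle | hgt
      · exact Left.mul_le_one (pow_le_one₀ zero_le hle) (exp_le_one'.2 (by simp only [M]; omega))
      · have hw0 : w ≠ 0 := fun h0 => by rw [h0, map_zero] at hgt; exact not_lt.2 zero_le hgt
        rw [val_eq_exp R hw0, one_lt_exp'] at hgt
        rw [val_eq_exp R hw0, ← exp_nsmul, ← exp_add, exp_le_one', nsmul_eq_mul]
        have h1 := Finset.le_sup (f := fun R : Place k K => pb.dim * (-R.ord w).toNat) ((hmem R).2 hR)
        have h2 : (i : ℕ) * (-R.ord w).toNat ≤ pb.dim * (-R.ord w).toNat := Nat.mul_le_mul_right _ i.2.le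
        have h3 : ((-R.ord w).toNat : ℤ) = -R.ord w := Int.toNat_of_nonneg (by omega)
        have h4 : ((i : ℕ) : ℤ) * (-R.ord w) ≤ M := by
          rw [← h3]; simp only [M]; exact_mod_cast h2.trans h1
        linarith
  -- the integral multiples of `g_w y0 h` lie in the local ring
  have hkey : ∀ u, IsIntegral P.O u → ∃ a ∈ S, ∃ b ∈ S, Q.1 b = 1 ∧ gw * (y0 * h * u) * b = a := by
    intro u hu
    have htr' : ∀ i : Fin pb.dim, P.1 (Algebra.trace k⟮s⟯ K (w ^ (i : ℕ) * (y0 * h * u))) ≤ 1 := fun i => by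
      rw [show w ^ (i : ℕ) * (y0 * h * u) = y0 * (w ^ (i : ℕ) * h * u) by ring]
      exact hy0 _ (hR u hu i)
    choose A hA B hB hB1 hAB using fun i => hPS _ (htr' i)
    refine ⟨∑ i, A i * ((c : K) * (minpolyDiv k⟮s⟯ w).coeff i) * ∏ l ∈ Finset.univ.erase i, B l,
      sum_mem fun i _ => mul_mem (mul_mem (hA i) (hhorner _)) (prod_mem fun l _ => hB l),
      ∏ l, B l, prod_mem fun l _ => hB l, by rw [map_prod]; exact Finset.prod_eq_one fun l _ => hB1 l, ?_⟩
    rw [hexpand, Finset.sum_mul]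
    refine Finset.sum_congr rfl fun i _ => ?_
    rw [← Finset.mul_prod_erase Finset.univ B (Finset.mem_univ i), ← hAB i]
    show algebraMap k⟮s⟯ K _ * _ * _ = algebraMap k⟮s⟯ K _ * _ * _ * _
    ring
  have hSle : ∀ z ∈ S, Q.1 z ≤ 1 := fun z hz => by
    suffices S ≤ ({
        carrier := {z | Q.1 z ≤ 1}
        mul_mem' := fun {a b} ha hb => show Q.1 (a * b) ≤ 1 by rw [map_mul]; exact Left.mul_le_one ha hb
        add_mem' := fun {a b} ha hb => (Q.1.map_add a b).trans (max_le ha hb)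
        algebraMap_mem' := Q.2.1 } : Subalgebra k K) from this hz
    refine Algebra.adjoin_le ?_
    rintro _ ⟨i, rfl⟩
    fin_cases i
    · exact hs
    · exact hw
  have hv : ∀ u, Q.1 (gw * (y0 * h * u)) = exp (LocRes.ordDiff ψ 1 s - Q.ord gw) * Q.1 u := fun u => by
    rw [map_mul, map_mul, map_mul, hy0v, hhQ, mul_one, val_eq_exp Q hgw0, ← mul_assoc, ← exp_add]
    congr 2
    ring
  refine ⟨hgw0, ?_, fun heq z hz => ?_⟩
  · obtain ⟨A, hA, B, hB, hB1, hAB⟩ := hkey 1 isIntegral_one
    have h1 := hSle A hA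
    rw [← hAB, map_mul, hB1, mul_one, hv, map_one, mul_one, exp_le_one'] at h1
    omega
  · obtain ⟨m, hm⟩ := approx_val Qs fun R => min 0 (R.ord z)
    have hmQ : Q.1 m = 1 := by
      rw [hm Q hQQ, exp_eq_one']
      rcases eq_or_ne z 0 with rfl | hz0
      · simp [FunFld.Place.ord]
      · have := (val_le_one_iff Q hz0).1 hz
        omega
    have hmint : IsIntegral P.O m := (isIntegral_iff hK₀.1 P m).2 fun R hR => by
      rw [hm R ((hmem R).2 hR), exp_le_one']; omega
    have hzm : IsIntegral P.O (z * m) := (isIntegral_iff hK₀.1 P _).2 fun R hR => by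
      rcases eq_or_ne z 0 with rfl | hz0
      · simp
      rw [map_mul, val_eq_exp R hz0, hm R ((hmem R).2 hR), ← exp_add, exp_le_one']
      omega
    obtain ⟨A, hA, B, hB, hB1, hAB⟩ := hkey _ hzm
    obtain ⟨A', hA', B', hB', hB1', hAB'⟩ := hkey _ hmint
    refine ⟨A * B', mul_mem hA hB', B * A', mul_mem hB hA', ?_, ?_⟩
    · rw [map_mul, hB1, one_mul, ← hAB', map_mul, hB1', mul_one, hv, hmQ, heq, sub_self, exp_zero, one_mul]
    · rw [← hAB, ← hAB']; ring

end Groth.Agent.FF
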