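/-
The equation of a plane model: degree and principality of the ideal of relations.
-/
import Groth.Agent.L26.FF.PlaneGenus
import Mathlib.RingTheory.Polynomial.ScaleRoots
import Mathlib.Algebra.MvPolynomial.Equiv
import Mathlib.RingTheory.MvPolynomial.Homogeneous

open WithZero Polynomial

namespace Groth.Agent.FF

open FunFld

variable {k K : Type*} [Field k] [Field K] [Algebra k K]

lemma isIntegral_adjoin_of_val (hK : IsFunctionField k K) {u w : K}
    (hint : ∀ Q : Place k K, Q.1 u ≤ 1 → Q.1 w ≤ 1) : IsIntegral (Algebra.adjoin k ({u} : Set K)) w := by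
  classical
  by_contra hw
  set R := Algebra.adjoin k ({u} : Set K)
  let S : Subring K := (integralClosure R K).toSubring
  have : IsIntegrallyClosedIn S K := inferInstanceAs (IsIntegrallyClosedIn (integralClosure R K) K)
  obtain ⟨V, hSV, hwV⟩ := S.exists_le_valuationSubring_of_isIntegrallyClosedIn (x := w) hw
  have hRV : ∀ a ∈ R, a ∈ V := fun a ha =>
    hSV (isIntegral_algebraMap : IsIntegral R (algebraMap R K ⟨a, ha⟩))
  have hw0 : w ≠ 0 := fun h0 => hwV (h0 ▸ zero_mem V)
  have hwi : w⁻¹ ∈ V.nonunits := V.mem_nonunits_iff_or.2 (Or.inr (by rwa [inv_inv]))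
  obtain ⟨Q, hQ1, hQ2⟩ := exists_place_of_valuationSubring V
    (fun c => hRV _ (R.algebraMap_mem c)) hK.1 ⟨w⁻¹, hwi, inv_ne_zero hw0⟩
  have h1 := hQ2 _ hwi
  rw [map_inv₀] at h1
  exact absurd h1 (not_lt.2 ((one_le_inv₀ (zero_lt_iff.2 (val_ne_zero Q hw0))).2
    (hint Q (hQ1 u (hRV u (Algebra.subset_adjoin rfl))))))

lemma coeff_minpoly_poly (hK : IsFunctionField k K) {u w : K} (hu : Transcendental k u)
    (hint : ∀ Q : Place k K, Q.1 u ≤ 1 → Q.1 w ≤ 1) (F : IntermediateField k K)
    (hF : F = IntermediateField.adjoin k ({u} : Set K)) (b : ℕ) :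
    ∃ p : k[X], (((minpoly F w).coeff b : F) : K) = aeval u p := by
  subst hF
  set R := Algebra.adjoin k ({u} : Set K) with hR
  have hwint := isIntegral_adjoin_of_val hK hint
  have : FiniteDimensional (IntermediateField.adjoin k ({u} : Set K)) K := finite_over_adjoin hK.1 hu
  haveI : IsIntegrallyClosed R := by
    have hr : R = (aeval u : k[X] →ₐ[k] K).range := Algebra.adjoin_singleton_eq_range_aeval k u
    let e : k[X] ≃ₐ[k] R :=
      (AlgEquiv.ofInjective (aeval u : k[X] →ₐ[k] K) (transcendental_iff_injective.1 hu)).trans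
        (Subalgebra.equivOfEq _ _ hr.symm)
    exact IsIntegrallyClosed.of_equiv e.toRingEquiv
  open scoped IntermediateField.algebraAdjoinAdjoin in
  have hq : minpoly (IntermediateField.adjoin k ({u} : Set K)) w =
      (minpoly R w).map (algebraMap R (IntermediateField.adjoin k ({u} : Set K))) :=
    minpoly.isIntegrallyClosed_eq_field_fractions' _ hwint
  have h1 : ((minpoly R w).coeff b : K) ∈ R := ((minpoly R w).coeff b).2
  obtain ⟨p, hp⟩ : ((minpoly R w).coeff b : K) ∈ (aeval u : k[X] →ₐ[k] K).range :=
    Algebra.adjoin_singleton_eq_range_aeval k u ▸ h1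
  refine ⟨p, ?_⟩
  open scoped IntermediateField.algebraAdjoinAdjoin in
  rw [hq, Polynomial.coeff_map]
  exact hp.symm

/-- evaluation of `k[U][W]` at `(u, w)` -/
noncomputable def ev (u w : K) : k[X][X] →+* K := Polynomial.eval₂RingHom (aeval u : k[X] →ₐ[k] K).toRingHom w

section
variable {D : Divisor k K} {u w : K}

/-- The equation of a plane model in adapted coordinates. -/
lemma PlaneCoord.exists_equation (hK : IsFunctionField k K) (h : PlaneCoord D u w) :
    ∃ G : k[X][X], G.Monic ∧ (G.natDegree : ℤ) = D.deg ∧ ev u w G = 0 ∧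
      (∀ b, b ≤ G.natDegree → (G.coeff b).natDegree + b ≤ G.natDegree) ∧
      ∀ P : k[X][X], ev u w P = 0 → G ∣ P := by
  classical
  have hu0 := h.u_ne_zero
  have hfinr := h.finrank_eq hK
  have hdeg := h.natDegree_minpoly hK
  set F := IntermediateField.adjoin k ({u} : Set K) with hF
  have hfin : FiniteDimensional F K := finite_over_adjoin hK.1 h.htr
  set d := Module.finrank F K with hd
  have hwi : IsIntegral F w := .of_finite _ w
  have hint : ∀ Q : Place k K, Q.1 u ≤ 1 → Q.1 w ≤ 1 := fun Q hQ => by
    have hD : D Q = 0 := by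
      by_contra hne
      have h1 := h.full Q hne
      have h2 := (val_le_one_iff Q hu0).1 hQ
      have h3 := h.hD Q
      rw [Finsupp.zero_apply] at h3
      omega
    simpa [hD] using h.mem_w Q
  have hint' : ∀ Q : Place k K, Q.1 u⁻¹ ≤ 1 → Q.1 (w / u) ≤ 1 := fun Q hQ => by
    rw [map_inv₀, inv_le_one₀ (zero_lt_iff.2 (val_ne_zero Q hu0))] at hQ
    rw [map_div₀, div_le_one₀ (zero_lt_iff.2 (val_ne_zero Q hu0))]
    refine (h.mem_w Q).trans ?_
    rcases eq_or_ne (D Q) 0 with hD | hD
    · rw [hD, exp_zero]; exact hQ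
    · rw [val_eq_exp Q hu0, h.full Q hD, neg_neg]
  choose p hp using coeff_minpoly_poly hK h.htr hint F hF
  have hinvtr : Transcendental k u⁻¹ := fun halg => h.htr (by simpa using halg.inv)
  choose q hq using coeff_minpoly_poly hK hinvtr hint' F (hF.trans adjoin_inv_eq.symm)
  let uF : F := ⟨u, IntermediateField.mem_adjoin_simple_self k u⟩
  have huF : uF ≠ 0 := fun h0 => hu0 (congrArg Subtype.val h0)
  have hscale : minpoly F (w / u) = (minpoly F w).scaleRoots uF⁻¹ := by
    have hroot : aeval (w / u) ((minpoly F w).scaleRoots uF⁻¹) = 0 := by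
      have h' := Polynomial.scaleRoots_aeval_eq_zero (r := uF⁻¹) (minpoly.aeval F w)
      rwa [map_inv₀, show algebraMap F K uF = u from rfl, mul_comm, ← div_eq_mul_inv] at h'
    have hwi' : IsIntegral F (w / u) := .of_finite _ _
    refine (Polynomial.eq_of_monic_of_dvd_of_natDegree_le (minpoly.monic hwi')
      ((Polynomial.monic_scaleRoots_iff _).2 (minpoly.monic hwi)) (minpoly.dvd F _ hroot) ?_).symm
    rw [Polynomial.natDegree_scaleRoots]
    have hroot' : aeval w ((minpoly F (w / u)).scaleRoots uF) = 0 := by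
      have h' := Polynomial.scaleRoots_aeval_eq_zero (r := uF) (minpoly.aeval F (w / u))
      rwa [show algebraMap F K uF = u from rfl, mul_div_cancel₀ _ hu0] at h'
    refine (Polynomial.natDegree_le_of_dvd (minpoly.dvd F w hroot') ?_).trans (Polynomial.natDegree_scaleRoots _ _).le
    exact ((Polynomial.monic_scaleRoots_iff _).2 (minpoly.monic hwi')).ne_zero
  -- degree bounds
  obtain ⟨Q, hQ⟩ := exists_pole hK.1 h.htr
  have hbound : ∀ b, b ≤ d → p b ≠ 0 → (p b).natDegree + b ≤ d := fun b hb hpb => by
    have h1 := hq b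
    rw [hscale, Polynomial.coeff_scaleRoots, hdeg] at h1
    push_cast at h1
    rw [hp b, show ((uF : F) : K) = u from rfl] at h1
    have h2 : Q.1 (aeval u⁻¹ (q b)) ≤ 1 := by
      have hle : Q.1 u⁻¹ ≤ 1 := by rw [map_inv₀]; exact inv_le_one_of_one_le₀ hQ.le
      induction (q b) using Polynomial.induction_on' with
      | add s t hs ht => rw [map_add]; exact Q.1.map_add_le hs ht
      | monomial n c => rw [aeval_monomial, map_mul, map_pow]; exact mul_le_one' (Q.2.1 c) (pow_le_one' hle n)
    rw [← h1, map_mul, val_aeval_pole Q hQ hpb, map_pow, map_inv₀, inv_pow,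
      mul_inv_le_iff₀ (pow_pos (lt_trans one_pos hQ) _), one_mul, pow_le_pow_iff_right₀ hQ] at h2
    omega
  set G : k[X][X] := Polynomial.X ^ d + ∑ b ∈ Finset.range d, Polynomial.C (p b) * Polynomial.X ^ b with hG
  have hlow : (∑ b ∈ Finset.range d, Polynomial.C (p b) * Polynomial.X ^ b : k[X][X]).degree < (d : WithBot ℕ) := by
    refine (Polynomial.degree_sum_le _ _).trans_lt ((Finset.sup_lt_iff (WithBot.bot_lt_coe d)).2 fun b hb => ?_)
    exact (Polynomial.degree_C_mul_X_pow_le _ _).trans_lt (WithBot.coe_lt_coe.2 (Finset.mem_range.1 hb))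
  have hmonic : G.Monic := by
    rw [hG]; exact Polynomial.monic_X_pow_add hlow
  have hnd : G.natDegree = d := by
    refine Polynomial.natDegree_eq_of_degree_eq_some ?_
    rw [hG, Polynomial.degree_add_eq_left_of_degree_lt (by rw [Polynomial.degree_X_pow]; exact hlow),
      Polynomial.degree_X_pow]
  have hev : ∀ P : k[X][X], ev u w P = ∑ b ∈ Finset.range (P.natDegree + 1), aeval u (P.coeff b) * w ^ b := fun P =>
    Polynomial.eval₂_eq_sum_range _ _
  have hGw : ev u w G = 0 := by
    have h1 := minpoly.aeval F w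
    rw [Polynomial.aeval_eq_sum_range, hdeg, Finset.sum_range_succ] at h1
    have hlead : (minpoly F w).coeff d = 1 := hdeg ▸ (minpoly.monic hwi).coeff_natDegree
    rw [hlead, one_smul] at h1
    rw [hG, map_add, map_pow, map_sum]
    simp only [ev, Polynomial.coe_eval₂RingHom, Polynomial.eval₂_X, Polynomial.eval₂_mul, Polynomial.eval₂_C,
      Polynomial.eval₂_X_pow]
    rw [add_comm]
    refine Eq.trans ?_ h1
    congr 1
    refine Finset.sum_congr rfl fun b _ => ?_
    show aeval u (p b) * w ^ b = _
    rw [← hp b, Algebra.smul_def]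
    rfl
  refine ⟨G, hmonic, by rw [hnd]; exact hfinr, hGw, fun b hb => ?_, fun P hP => ?_⟩
  · rw [hnd] at hb ⊢
    rcases eq_or_lt_of_le hb with rfl | hlt
    · have := hmonic.coeff_natDegree
      rw [hnd] at this
      simp [this]
    · have hc : G.coeff b = p b := by
        rw [hG, Polynomial.coeff_add, Polynomial.coeff_X_pow, if_neg hlt.ne, zero_add, Polynomial.finsetSum_coeff,
          Finset.sum_eq_single_of_mem b (Finset.mem_range.2 hlt) (fun c _ hne => by simp [Ne.symm hne])]
        simp
      rw [hc]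
      rcases eq_or_ne (p b) 0 with h0 | h0
      · simpa [h0] using hlt.le
      · exact hbound b hb h0
  · rw [← Polynomial.modByMonic_eq_zero_iff_dvd hmonic]
    by_contra hne
    set r := P %ₘ G with hr
    have hrw : ev u w r = 0 := by
      have := congrArg (ev u w) (Polynomial.modByMonic_add_div P G)
      rwa [map_add, map_mul, hGw, zero_mul, add_zero, hP] at this
    let φ : k[X] →+* F := (aeval uF : k[X] →ₐ[k] F).toRingHom
    have hφ : ∀ g : k[X], ((φ g : F) : K) = aeval u g := fun g =>
      (Polynomial.aeval_algHom_apply F.val uF g).symm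
    have hφinj : Function.Injective φ := fun a b hab => transcendental_iff_injective.1 h.htr (by
      simpa [hφ] using congrArg Subtype.val hab)
    have hroot : aeval w (r.map φ) = 0 := by
      rw [Polynomial.aeval_eq_sum_range, Polynomial.natDegree_map_eq_of_injective hφinj]
      rw [hev] at hrw
      refine Eq.trans (Finset.sum_congr rfl fun b _ => ?_) hrw
      rw [Polynomial.coeff_map, Algebra.smul_def, ← hφ]
      rfl
    have h0 : r.map φ ≠ 0 := (Polynomial.map_ne_zero_iff hφinj).2 hne
    have h1 := Polynomial.natDegree_le_of_dvd (minpoly.dvd F w hroot) h0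
    rw [Polynomial.natDegree_map_eq_of_injective hφinj, hdeg] at h1
    have h2 := Polynomial.natDegree_modByMonic_lt P hmonic (fun h3 => by
      have := congrArg Polynomial.natDegree h3
      rw [hnd, Polynomial.natDegree_one] at this
      exact absurd this (Module.finrank_pos (R := F) (M := K)).ne')
    rw [hnd, ← hr] at h2
    omega

end

end Groth.Agent.FF

namespace Groth.Agent.FF

open FunFld Polynomial

variable {k K : Type*} [Field k] [Field K] [Algebra k K]

lemma totalDegree_aeval_le {σ : Type*} (L : MvPolynomial σ k) (hL : L.totalDegree ≤ 1) (p : k[X]) :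
    (aeval L p).totalDegree ≤ p.natDegree := by
  rw [Polynomial.aeval_eq_sum_range]
  refine (MvPolynomial.totalDegree_finsetSum _ _).trans (Finset.sup_le fun i hi => ?_)
  refine (MvPolynomial.totalDegree_smul_le _ _).trans ((MvPolynomial.totalDegree_pow _ _).trans ?_)
  calc i * L.totalDegree ≤ i * 1 := Nat.mul_le_mul_left i hL
    _ ≤ p.natDegree := by rw [mul_one]; exact Nat.lt_succ_iff.1 (Finset.mem_range.1 hi)

/-- The relations of a plane model. -/
theorem plane_relation [IsAlgClosed k] (hK : IsFunctionField k K) (x y : K)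
    (hxy : IntermediateField.adjoin k ({x, y} : Set K) = ⊤) :
    ∃ f : MvPolynomial (Fin 2) k, Irreducible f ∧ MvPolynomial.aeval ![x, y] f = 0 ∧
      (f.totalDegree : ℤ) = (mapDiv k ![(1 : K), x, y]).deg ∧
      ∀ g, MvPolynomial.aeval ![x, y] g = 0 → f ∣ g := by
  classical
  obtain ⟨hgen, hspan, hmap⟩ := plane_normalize hK x y hxy
  have hne := plane_ne_zero (nz_ne_zero x) (nz_ne_zero y)
  set φ := ![(1 : K), nz x, nz y] with hφ
  set D := mapDiv k φ with hD
  have hW := span_le_L_mapDiv hK.1 hne (φ := φ)
  have hD0 : 0 ≤ D := fun P => by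
    have := neg_mapDiv_le hK.1 φ P 0
    rw [show φ 0 = 1 from rfl, show P.ord (1 : K) = 0 by simp [Place.ord]] at this
    rw [Finsupp.zero_apply]; simp only [D]; omega
  have hE : bdry k φ 0 = D := by
    rw [bdry, show φ 0 = 1 from rfl, ← map_one (algebraMap k K), div_const hK.1, add_zero]
  obtain ⟨u, huS, huL, hu⟩ := exists_full_pole hK hne 0
  rw [hE] at huL hu
  rw [show Set.range (ratio φ 0) = Set.range φ by congr 1; funext i; exact div_one _, ← hspan] at huS
  obtain ⟨c, hc⟩ := (Submodule.mem_span_range_iff_exists_fun k).1 huS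
  rw [Fin.sum_univ_three] at hc
  change c 0 • (1 : K) + c 1 • x + c 2 • y = u at hc
  obtain ⟨z, hz⟩ := exists_transcendental hK
  obtain ⟨Q, hQ⟩ : ∃ Q, D Q ≠ 0 := by
    by_contra h
    push Not at h
    have hD' : D = 0 := Finsupp.ext fun Q => by simpa using h Q
    have hcc : ∀ i, φ i ∈ (⊥ : IntermediateField k K) := fun i => by
      have h1 : φ i ∈ L D := hW (Submodule.subset_span ⟨i, rfl⟩)
      rw [hD', L_zero hK, Submodule.mem_one] at h1
      exact IntermediateField.mem_bot.2 h1
    have hle : IntermediateField.adjoin k ({nz x, nz y} : Set K) ≤ ⊥ := by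
      rw [IntermediateField.adjoin_le_iff]
      rintro e (rfl | rfl)
      exacts [hcc 1, hcc 2]
    obtain ⟨e, rfl⟩ := IntermediateField.mem_bot.1 (hle (hgen ▸ IntermediateField.mem_top : z ∈ _))
    exact hz (isAlgebraic_algebraMap e)
  have htr : Transcendental k u := fun h => by
    have := ord_algebraic h Q
    rw [(hu Q hQ).2] at this
    omega
  have hc12 : c 1 ≠ 0 ∨ c 2 ≠ 0 := by
    by_contra h
    push Not at h
    rw [h.1, h.2, zero_smul, zero_smul, add_zero, add_zero, ← Algebra.algebraMap_eq_smul_one] at hc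
    exact htr (hc ▸ isAlgebraic_algebraMap (c 0))
  -- the change of coordinates
  obtain ⟨w, Lw, α, hwxy, hLw, hLwe, hαev, hβα, hαβ, hαdeg⟩ :
      ∃ (w : K) (Lw : MvPolynomial (Fin 2) k) (α : MvPolynomial (Fin 2) k →ₐ[k] k[X][X]),
        (w = x ∨ w = y) ∧ Lw.totalDegree ≤ 1 ∧ MvPolynomial.aeval ![x, y] Lw = w ∧
        (∀ i, ev u w (α (MvPolynomial.X i)) = ![x, y] i) ∧
        (∀ g, Polynomial.eval₂ (aeval (MvPolynomial.C (c 0) + MvPolynomial.C (c 1) * MvPolynomial.X 0 +
            MvPolynomial.C (c 2) * MvPolynomial.X 1) : k[X] →ₐ[k] MvPolynomial (Fin 2) k).toRingHom Lw (α g) = g) ∧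
        (α (MvPolynomial.C (c 0) + MvPolynomial.C (c 1) * MvPolynomial.X 0 +
            MvPolynomial.C (c 2) * MvPolynomial.X 1) = Polynomial.C Polynomial.X ∧ α Lw = Polynomial.X) ∧
        ∀ i, (α (MvPolynomial.X i)).natDegree ≤ 1 := by
    rcases em (c 1 = 0) with h1 | h1
    · have h2 : c 2 ≠ 0 := hc12.resolve_left (fun h => h h1)
      refine ⟨x, MvPolynomial.X 0, MvPolynomial.aeval ![Polynomial.X,
        Polynomial.C (Polynomial.C (c 2)⁻¹ * (Polynomial.X - Polynomial.C (c 0)))], Or.inl rfl,
        (MvPolynomial.totalDegree_X _).le, by simp, fun i => ?_, fun g => ?_, ⟨?_, by simp⟩, fun i => ?_⟩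
      · fin_cases i
        · simp [ev]
        · simp only [ev, MvPolynomial.aeval_X, Polynomial.coe_eval₂RingHom, Fin.mk_one, Matrix.cons_val_one,
            Matrix.cons_val_zero, Polynomial.eval₂_C, AlgHom.toRingHom_eq_coe, RingHom.coe_coe, map_mul, map_sub,
            aeval_C, aeval_X, ← hc, h1, zero_smul, add_zero, Algebra.smul_def, mul_one, map_inv₀]
          field_simp [(_root_.map_ne_zero (algebraMap k K)).2 h2]
          simp
      · induction g using MvPolynomial.induction_on with
        | C a => simp [MvPolynomial.algebraMap_eq]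
        | add a b ha hb => rw [map_add, Polynomial.eval₂_add, ha, hb]
        | mul_X a i ha =>
          rw [map_mul, Polynomial.eval₂_mul, ha]
          congr 1
          fin_cases i
          · simp
          · simp only [MvPolynomial.aeval_X, Fin.mk_one, Matrix.cons_val_one, Matrix.cons_val_zero,
              Polynomial.eval₂_C, Polynomial.eval₂_mul, Polynomial.eval₂_sub, AlgHom.toRingHom_eq_coe, RingHom.coe_coe,
              map_mul, map_sub, aeval_C, aeval_X, h1, map_zero, zero_mul, add_zero, MvPolynomial.algebraMap_eq]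
            rw [add_sub_cancel_left, ← mul_assoc, ← map_mul, inv_mul_cancel₀ h2, map_one, one_mul]
      · simp only [map_add, map_mul, MvPolynomial.aeval_C, MvPolynomial.aeval_X, Matrix.cons_val_one,
          Matrix.cons_val_zero, h1, map_zero, zero_mul, add_zero, Polynomial.algebraMap_apply,
          Polynomial.algebraMap_eq]
        have e : (Polynomial.C (c 0) + Polynomial.C (c 2) * (Polynomial.C (c 2)⁻¹ * (Polynomial.X - Polynomial.C (c 0))) : k[X]) = Polynomial.X := by
          rw [← mul_assoc, ← Polynomial.C_mul, mul_inv_cancel₀ h2, Polynomial.C_1, one_mul, add_sub_cancel]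
        calc _ = Polynomial.C (Polynomial.C (c 0) + Polynomial.C (c 2) * (Polynomial.C (c 2)⁻¹ * (Polynomial.X - Polynomial.C (c 0))) : k[X]) := by simp
          _ = _ := by rw [e]
      · fin_cases i <;> simp [← map_sub, ← map_mul]
    · refine ⟨y, MvPolynomial.X 1, MvPolynomial.aeval
        ![Polynomial.C (Polynomial.C (c 1)⁻¹) * (Polynomial.C (Polynomial.X - Polynomial.C (c 0)) -
          Polynomial.C (Polynomial.C (c 2)) * Polynomial.X), Polynomial.X], Or.inr rfl,
        (MvPolynomial.totalDegree_X _).le, by simp, fun i => ?_, fun g => ?_, ⟨?_, by simp⟩, fun i => ?_⟩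
      · fin_cases i
        · simp only [ev, MvPolynomial.aeval_X, Polynomial.coe_eval₂RingHom, Fin.zero_eta,
            Matrix.cons_val_zero, Polynomial.eval₂_mul, Polynomial.eval₂_sub, Polynomial.eval₂_C, Polynomial.eval₂_X,
            AlgHom.toRingHom_eq_coe, RingHom.coe_coe, map_sub, aeval_C, aeval_X, ← hc, Algebra.smul_def, mul_one, map_inv₀]
          field_simp [(_root_.map_ne_zero (algebraMap k K)).2 h1]
          ring
        · simp [ev]
      · induction g using MvPolynomial.induction_on with
        | C a => simp [MvPolynomial.algebraMap_eq]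
        | add a b ha hb => rw [map_add, Polynomial.eval₂_add, ha, hb]
        | mul_X a i ha =>
          rw [map_mul, Polynomial.eval₂_mul, ha]
          congr 1
          fin_cases i
          · simp only [MvPolynomial.aeval_X, Fin.zero_eta, Matrix.cons_val_zero, Polynomial.eval₂_mul,
              Polynomial.eval₂_sub, Polynomial.eval₂_C, Polynomial.eval₂_X, AlgHom.toRingHom_eq_coe, RingHom.coe_coe,
              map_sub, aeval_C, aeval_X, MvPolynomial.algebraMap_eq]
            rw [show MvPolynomial.C (c 0) + MvPolynomial.C (c 1) * MvPolynomial.X 0 +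
              MvPolynomial.C (c 2) * MvPolynomial.X 1 - MvPolynomial.C (c 0) - MvPolynomial.C (c 2) * MvPolynomial.X 1 =
              MvPolynomial.C (c 1) * (MvPolynomial.X (0 : Fin 2) : MvPolynomial (Fin 2) k) by ring, ← mul_assoc,
              ← map_mul, inv_mul_cancel₀ h1, map_one, one_mul]
          · simp
      · simp only [map_add, map_mul, map_sub, MvPolynomial.aeval_C, MvPolynomial.aeval_X, Matrix.cons_val_one,
          Matrix.cons_val_zero, Polynomial.algebraMap_apply, Polynomial.algebraMap_eq]
        rw [← mul_assoc, ← map_mul, ← map_mul, mul_inv_cancel₀ h1, map_one, map_one, one_mul]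
        ring
      · fin_cases i
        · simp only [MvPolynomial.aeval_X, Fin.zero_eta, Matrix.cons_val_zero]
          refine (Polynomial.natDegree_C_mul_le _ _).trans ((Polynomial.natDegree_sub_le _ _).trans (max_le ?_ ?_))
          · rw [Polynomial.natDegree_C]; exact zero_le_one
          · exact (Polynomial.natDegree_C_mul_le _ _).trans Polynomial.natDegree_X.le
        · simp
  have hcoord : PlaneCoord D u w := by
    refine ⟨htr, hD0, fun Q h => (hu Q h).2, huL, hW ?_, ?_⟩
    · rw [← hspan]
      rcases hwxy with rfl | rfl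
      exacts [Submodule.subset_span ⟨1, rfl⟩, Submodule.subset_span ⟨2, rfl⟩]
    · rw [eq_top_iff, ← hxy, IntermediateField.adjoin_le_iff]
      have hmem : ∀ P : k[X][X], ev u w P ∈ IntermediateField.adjoin k ({u, w} : Set K) := fun P => by
        induction P using Polynomial.induction_on' with
        | add a b ha hb => rw [map_add]; exact add_mem ha hb
        | monomial n p =>
          simp only [ev, Polynomial.coe_eval₂RingHom, Polynomial.eval₂_monomial, AlgHom.toRingHom_eq_coe, RingHom.coe_coe]
          refine mul_mem ?_ (pow_mem (IntermediateField.subset_adjoin _ _ (by simp)) n)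
          let u' : IntermediateField.adjoin k ({u, w} : Set K) := ⟨u, IntermediateField.subset_adjoin _ _ (by simp)⟩
          rw [show aeval u p = ((aeval u' p : IntermediateField.adjoin k ({u, w} : Set K)) : K) from
            Polynomial.aeval_algHom_apply (IntermediateField.adjoin k ({u, w} : Set K)).val u' p]
          exact SetLike.coe_mem _
      rintro e (rfl | rfl)
      · have := hmem (α (MvPolynomial.X 0)); rwa [hαev] at this
      · have := hmem (α (MvPolynomial.X 1)); rwa [hαev] at this
  obtain ⟨G, hmonic, hGdeg, hG0, hGb, hGdvd⟩ := hcoord.exists_equation hK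
  set Lu : MvPolynomial (Fin 2) k := MvPolynomial.C (c 0) + MvPolynomial.C (c 1) * MvPolynomial.X 0 +
    MvPolynomial.C (c 2) * MvPolynomial.X 1 with hLu
  let β : k[X][X] →+* MvPolynomial (Fin 2) k := Polynomial.eval₂RingHom (aeval Lu : k[X] →ₐ[k] MvPolynomial (Fin 2) k).toRingHom Lw
  have hαev' : ∀ g, ev u w (α g) = MvPolynomial.aeval ![x, y] g := fun g => by
    induction g using MvPolynomial.induction_on with
    | C a => simp [ev]
    | add a b ha hb => rw [map_add, map_add, map_add, ha, hb]
    | mul_X a i ha => rw [map_mul, map_mul, map_mul, ha, hαev, MvPolynomial.aeval_X]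
  have hαβ' : ∀ P : k[X][X], α (β P) = P := fun P => by
    induction P using Polynomial.induction_on' with
    | add a b ha hb => rw [map_add, map_add, ha, hb]
    | monomial n p =>
      simp only [β, Polynomial.coe_eval₂RingHom, Polynomial.eval₂_monomial, AlgHom.toRingHom_eq_coe, RingHom.coe_coe]
      rw [map_mul, map_pow, ← Polynomial.aeval_algHom_apply, hαβ.1, hαβ.2, ← Polynomial.C_mul_X_pow_eq_monomial]
      congr 1
      exact (Polynomial.aeval_algHom_apply (IsScalarTower.toAlgHom k k[X] k[X][X]) Polynomial.X p).trans (by simp)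
  have hinj : Function.Injective α := fun a b h => by
    have := congrArg β h
    rwa [show β (α a) = a from hβα a, show β (α b) = b from hβα b] at this
  have hLu1 : Lu.totalDegree ≤ 1 := by
    rw [hLu]
    refine (MvPolynomial.totalDegree_add _ _).trans (max_le ((MvPolynomial.totalDegree_add _ _).trans (max_le ?_ ?_)) ?_)
    · rw [MvPolynomial.totalDegree_C]; exact zero_le_one
    all_goals exact (MvPolynomial.totalDegree_mul _ _).trans (by rw [MvPolynomial.totalDegree_C, MvPolynomial.totalDegree_X])
  set f := β G with hf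
  have hfα : α f = G := hαβ' G
  have hfev : MvPolynomial.aeval ![x, y] f = 0 := by rw [← hαev', hfα, hG0]
  have hdvd : ∀ g, MvPolynomial.aeval ![x, y] g = 0 → f ∣ g := fun g hg => by
    have := map_dvd β (hGdvd (α g) (by rw [hαev', hg]))
    rwa [show β (α g) = g from hβα g] at this
  have hf0 : f ≠ 0 := fun h0 => hmonic.ne_zero (by rw [← hfα, h0, map_zero])
  refine ⟨f, ?_, hfev, ?_, hdvd⟩
  · refine Prime.irreducible ⟨hf0, fun hu' => ?_, fun a b hab => ?_⟩
    · exact not_isUnit_zero (hfev ▸ hu'.map (MvPolynomial.aeval ![x, y]) : IsUnit (0 : K))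
    · obtain ⟨e, he⟩ := hab
      have : MvPolynomial.aeval ![x, y] a * MvPolynomial.aeval ![x, y] b = 0 := by
        rw [← map_mul, he, map_mul, hfev, zero_mul]
      rcases mul_eq_zero.1 this with h | h
      exacts [Or.inl (hdvd a h), Or.inr (hdvd b h)]
  · rw [hmap, ← hGdeg]
    norm_cast
    refine le_antisymm ?_ ?_
    · rw [hf]
      simp only [β, Polynomial.coe_eval₂RingHom, Polynomial.eval₂_eq_sum_range]
      refine (MvPolynomial.totalDegree_finsetSum _ _).trans (Finset.sup_le fun b hb => ?_)
      have hb' := Nat.lt_succ_iff.1 (Finset.mem_range.1 hb)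
      refine (MvPolynomial.totalDegree_mul _ _).trans (le_trans (Nat.add_le_add (totalDegree_aeval_le Lu hLu1 _)
        ((MvPolynomial.totalDegree_pow _ _).trans (Nat.mul_le_mul_left b hLw))) ?_)
      rw [mul_one]
      exact hGb b hb'
    · conv_lhs => rw [← hfα, f.as_sum, map_sum]
      refine Polynomial.natDegree_sum_le_of_forall_le _ _ fun m hm => ?_
      refine le_trans ?_ (MvPolynomial.le_totalDegree hm)
      rw [MvPolynomial.monomial_eq, map_mul, Finsupp.prod, map_prod, ← MvPolynomial.algebraMap_eq, AlgHom.commutes]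
      refine (Polynomial.natDegree_C_mul_le _ _).trans ((Polynomial.natDegree_prod_le _ _).trans
        (Finset.sum_le_sum fun i _ => ?_))
      rw [map_pow]
      exact Polynomial.natDegree_pow_le.trans ((Nat.mul_le_mul_left _ (hαdeg i)).trans (mul_one _).le)

end Groth.Agent.FF
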