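/-
The adjoint divisor of a plane map: nonnegative, zero exactly at nonsingular places.
-/
import Groth.Agent.L26.FF.PlaneLocal
import Groth.Agent.L26.FF.PlaneRelation
import Groth.Agent.L26.FF.JacobianTaylor
import Groth.Agent.L26.FF.LocRing

open WithZero MvPolynomial

universe u v

namespace Groth.Agent.FF

open FunFld

variable {k : Type u} {K : Type v} [Field k] [Field K] [Algebra k K]

/-- The chain rule through an expansion. -/
lemma D_expansion_aeval {F : Type*} [Field F] [Algebra k F] (ψ : K →ₐ[k] LaurentSeries F) {n : ℕ}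
    (b : Fin n → K) (p : MvPolynomial (Fin n) k) :
    LocRes.D F (ψ (aeval b p)) = ∑ i, ψ (aeval b (pderiv i p)) * LocRes.D F (ψ (b i)) := by
  induction p using MvPolynomial.induction_on with
  | C c =>
    rw [aeval_C, Res.D_map_eq_zero ψ (Derivation.map_algebraMap _ c)]
    simp
  | add p q hp hq =>
    rw [map_add, map_add, map_add, hp, hq, ← Finset.sum_add_distrib]
    exact Finset.sum_congr rfl fun i _ => by rw [map_add, map_add, map_add, add_mul]
  | mul_X p l hp =>
    have h : ∀ i, ψ (aeval b (pderiv i (p * X l))) * LocRes.D F (ψ (b i)) =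
        ψ (b l) * (ψ (aeval b (pderiv i p)) * LocRes.D F (ψ (b i))) +
          (if i = l then ψ (aeval b p) * LocRes.D F (ψ (b l)) else 0) := fun i => by
      rw [pderiv_mul, pderiv_X, map_add, map_add, map_mul, map_mul, map_mul, map_mul, aeval_X]
      by_cases hi : i = l
      · subst hi
        rw [if_pos rfl, Pi.single_eq_same, map_one, map_one, mul_one]
        ring
      · rw [if_neg hi, Pi.single_eq_of_ne (Ne.symm hi), map_zero, map_zero, mul_zero, add_zero, add_zero]
        ring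
    rw [Finset.sum_congr rfl (fun i _ => h i), Finset.sum_add_distrib, ← Finset.mul_sum, ← hp,
      Finset.sum_ite_eq', if_pos (Finset.mem_univ l), map_mul, aeval_X, map_mul, Derivation.leibniz, smul_eq_mul,
      smul_eq_mul]
    ring

lemma fin3_cases : ∀ j o o' i : Fin 3, o ≠ j → o' ≠ j → o' ≠ o → i = j ∨ i = o ∨ i = o' := by decide

/-- At a nonsingular point, the partial derivative opposite to a local parameter is a unit. -/
lemma exists_unit_pderiv [IsAlgClosed k] (hK : IsFunctionField k K) (Q : Place k K) {b : Fin 2 → K}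
    (hb : ∀ i, Q.1 (b i) ≤ 1) {g : MvPolynomial (Fin 2) k} (hgb : aeval b g = 0)
    (hker : ∀ p, aeval b p = 0 → g ∣ p)
    (hloc : ∀ z : K, Q.1 z ≤ 1 → ∃ a ∈ Algebra.adjoin k (Set.range b),
      ∃ c ∈ Algebra.adjoin k (Set.range b), Q.1 c = 1 ∧ z * c = a) :
    ∃ l l' : Fin 2, l ≠ l' ∧ (∃ α : k, Q.1 (b l - algebraMap k K α) = exp (-1 : ℤ)) ∧
      Q.1 (aeval b (pderiv l' g)) = 1 := by
  classical
  choose α hα using fun i => exists_value Q (deg_eq_one hK Q) (hb i)
  let S := Algebra.adjoin k (Set.range b)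
  let bS : Fin 2 → S := fun i => ⟨b i, Algebra.subset_adjoin ⟨i, rfl⟩⟩
  have hSle : ∀ z : S, Q.1 (z : K) ≤ 1 := fun z => by
    refine Algebra.adjoin_induction (p := fun x _ => Q.1 x ≤ 1) ?_ Q.2.1 ?_ ?_ z.2
    · rintro _ ⟨i, rfl⟩; exact hb i
    · exact fun x y _ _ hx hy => (Q.1.map_add x y).trans (max_le hx hy)
    · exact fun x y _ _ hx hy => by rw [map_mul]; exact Left.mul_le_one hx hy
  have hcoe : ∀ p, ((aeval bS p : S) : K) = aeval b p := fun p => comp_aeval_apply bS S.val p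
  have hI : ∀ r : WithZero (Multiplicative ℤ), (∀ i, Q.1 (b i - algebraMap k K (α i)) ≤ r) →
      ∀ p, Q.1 (aeval b p - algebraMap k K (eval α p)) ≤ r := fun r hr p => by
    have h := (pointIdeal_taylor bS α p).1
    change _ ∈ Submodule.span S (Set.range fun i => bS i - algebraMap k S (α i)) at h
    suffices ∀ z ∈ Submodule.span S (Set.range fun i => bS i - algebraMap k S (α i)), Q.1 (z : K) ≤ r by
      have := this _ h
      rwa [AddSubgroupClass.coe_sub, hcoe] at this
    intro z hz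
    refine Submodule.span_induction ?_ (by simp) (fun x y _ _ hx hy => (Q.1.map_add _ _).trans (max_le hx hy)) ?_ hz
    · rintro _ ⟨i, rfl⟩; exact hr i
    · intro a x _ hx
      show Q.1 ((a : K) * x) ≤ r
      rw [map_mul]
      exact (mul_le_mul' (hSle a) hx).trans_eq (one_mul _)
  have hconst : ∀ c : k, Q.1 (algebraMap k K c) < 1 → c = 0 := fun c hc => by
    by_contra h
    exact hc.ne (val_const Q h)
  have heval : ∀ p, Q.1 (aeval b p) < 1 → eval α p = 0 := fun p hp => hconst _ (by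
    rw [← sub_sub_cancel (aeval b p) (algebraMap k K (eval α p))]
    refine Q.1.map_sub_lt hp ((hI (exp (-1)) (fun i => lt_one_le_exp (hα i)) p).trans_lt ?_)
    exact exp_lt_one'.2 (by norm_num))
  have heval1 : ∀ p, Q.1 (aeval b p) = 1 → eval α p ≠ 0 := fun p hp h0 => by
    have := hI (exp (-1)) (fun i => lt_one_le_exp (hα i)) p
    rw [h0, map_zero, sub_zero, hp, ← exp_zero, exp_le_exp] at this
    omega
  have hS : ∀ z ∈ S, ∃ p, aeval b p = z := fun z hz => by
    have h' : z ∈ Algebra.adjoin k (Set.range b) := hz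
    rwa [Algebra.adjoin_range_eq_range_aeval] at h'
  obtain ⟨t, -, ht⟩ := exists_val_eq Q (-1)
  obtain ⟨l, hl⟩ : ∃ l, Q.1 (b l - algebraMap k K (α l)) = exp (-1 : ℤ) := by
    by_contra hne
    simp only [not_exists] at hne
    obtain ⟨A, hA, B, hB, hB1, hAB⟩ := hloc t (by rw [ht, exp_le_one']; norm_num)
    obtain ⟨p, rfl⟩ := hS A hA
    have hv : Q.1 (aeval b p) = exp (-1) := by rw [← hAB, map_mul, ht, hB1, mul_one]
    have h2 := hI (exp (-2)) (fun i => (le_exp_sub_one (lt_of_le_of_ne (lt_one_le_exp (hα i)) (hne i))).trans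
      (exp_le_exp.2 (by norm_num))) p
    rw [heval p (by rw [hv, exp_lt_one']; norm_num), map_zero, sub_zero, hv, exp_le_exp] at h2
    omega
  obtain ⟨l', hl'⟩ : ∃ l' : Fin 2, l ≠ l' := by
    fin_cases l
    · exact ⟨1, by decide⟩
    · exact ⟨0, by decide⟩
  refine ⟨l, l', hl', ⟨α l, hl⟩, ?_⟩
  have ht0 : b l - algebraMap k K (α l) ≠ 0 := fun h => by rw [h, map_zero] at hl; exact exp_ne_zero hl.symm
  have hq1 : Q.1 ((b l' - algebraMap k K (α l')) / (b l - algebraMap k K (α l))) ≤ 1 := by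
    rw [map_div₀, hl]; exact div_le_one_of_le₀ (lt_one_le_exp (hα l')) zero_le
  obtain ⟨c, hc⟩ := exists_value Q (deg_eq_one hK Q) hq1
  set h := b l - algebraMap k K (α l)
  set h' := b l' - algebraMap k K (α l')
  have hz : Q.1 ((h' / h - algebraMap k K c) / h) ≤ 1 := by
    rw [map_div₀, hl]; exact div_le_one_of_le₀ (lt_one_le_exp hc) zero_le
  obtain ⟨A, hA, B, hB, hB1, hAB⟩ := hloc _ hz
  obtain ⟨q, rfl⟩ := hS A hA
  obtain ⟨W, rfl⟩ := hS B hB
  let G : MvPolynomial (Fin 2) k := ((X l' - C (α l')) - C c * (X l - C (α l))) * W - q * (X l - C (α l)) ^ 2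
  have hG : aeval b G = 0 := by
    simp only [G, map_sub, map_mul, map_pow, aeval_X, aeval_C]
    show (h' - algebraMap k K c * h) * aeval b W - aeval b q * h ^ 2 = 0
    rw [← hAB]
    field_simp
    ring
  obtain ⟨r, hr⟩ := hker G hG
  have hgα : eval α g = 0 := heval g (by rw [hgb, map_zero]; exact zero_lt_one)
  have hd := congrArg (fun P => eval α (pderiv l' P)) hr
  simp only [G, map_sub, pderiv_mul, map_add, map_mul, pderiv_X, pderiv_C, eval_X, eval_C, pow_two, hgα,
    Pi.single_eq_same, Pi.single_eq_of_ne hl', map_one, sub_self, mul_zero, zero_mul, sub_zero, add_zero,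
    one_mul, zero_add, map_zero] at hd
  have hW := heval1 W hB1
  have hgne : eval α (pderiv l' g) ≠ 0 := fun h0 => hW (by rw [hd, h0, zero_mul])
  refine le_antisymm ?_ (not_lt.1 fun hlt => hgne (heval _ hlt))
  rw [← hcoe]
  exact hSle _

/-- The local theorem in an affine chart. -/
theorem plane_delta [IsAlgClosed k] (hK : IsFunctionField k K) {s w : K}
    (hgen : IntermediateField.adjoin k ({s, w} : Set K) = ⊤)
    {g : MvPolynomial (Fin 2) k} (hgsw : aeval ![s, w] g = 0)
    (hker : ∀ p, aeval ![s, w] p = 0 → g ∣ p)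
    (Q : Place k K) {ψ : K →ₐ[k] LaurentSeries k} (hψ : LocRes.IsExpansionAt Q.1 ψ)
    (hs : Q.1 s ≤ 1) (hw : Q.1 w ≤ 1) (hds : LocRes.vDiff ψ 1 s ≠ 0) :
    0 ≤ Q.ord (aeval ![s, w] (pderiv 1 g)) - LocRes.ordDiff ψ 1 s ∧
    (Q.ord (aeval ![s, w] (pderiv 1 g)) - LocRes.ordDiff ψ 1 s = 0 ↔
      ∀ z : K, Q.1 z ≤ 1 → ∃ a ∈ Algebra.adjoin k (Set.range ![s, w]),
        ∃ b ∈ Algebra.adjoin k (Set.range ![s, w]), Q.1 b = 1 ∧ z * b = a) := by
  obtain ⟨hgw0, hge, hns⟩ := plane_local hK hgen hgsw hker Q hψ hs hw hds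
  refine ⟨by omega, fun h => hns (by omega), fun hloc => ?_⟩
  obtain ⟨l, l', hll, ⟨α, hα⟩, hunit⟩ :=
    exists_unit_pderiv hK Q (fun i => by fin_cases i; exacts [hs, hw]) hgsw hker hloc
  have h1 := Res.vDiff_uniformizer hψ hα
  rw [Res.vDiff_eq, map_one, map_one, one_mul, map_sub, map_sub,
    Res.D_map_eq_zero ψ (v := algebraMap k K α) (Derivation.map_algebraMap _ α), sub_zero] at h1
  have key := congrArg (fun z => LocRes.D k (ψ z)) hgsw
  simp only [map_zero, D_expansion_aeval, Fin.sum_univ_two] at key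
  have key' := congrArg Valued.v (eq_neg_of_add_eq_zero_left key)
  simp only [map_mul, Valuation.map_neg, Res.val_map hψ, Matrix.cons_val_zero, Matrix.cons_val_one] at key'
  fin_cases l <;> fin_cases l' <;> simp only [ne_eq, not_true_eq_false] at hll
  · -- `s` is a local parameter
    have hu : Q.1 (aeval ![s, w] (pderiv 1 g)) = 1 := hunit
    have h1' : Valued.v (LocRes.D k (ψ s)) = 1 := h1
    rw [FunFld.Place.ord, hu, LocRes.ordDiff, Res.vDiff_eq, map_one, map_one, one_mul, h1', log_one]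
    norm_num
  · have hu : Q.1 (aeval ![s, w] (pderiv 0 g)) = 1 := hunit
    have h1' : Valued.v (LocRes.D k (ψ w)) = 1 := h1
    rw [hu, h1', one_mul, mul_one] at key'
    rw [FunFld.Place.ord, LocRes.ordDiff, Res.vDiff_eq, map_one, map_one, one_mul, key', sub_self]

lemma mapDiv_eq_neg_ord (hK : IsFF k K) {φ : Fin 3 → K} {i0 : Fin 3} (h0 : φ i0 = 1) (P : Place k K) {j : Fin 3}
    (hj : ∀ i, P.1 (φ i) ≤ P.1 (φ j)) : mapDiv k φ P = -P.ord (φ j) := by
  have h1 : 1 ≤ P.1 (φ j) := by simpa [h0] using hj i0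
  have hj0 : φ j ≠ 0 := fun h => by rw [h, map_zero] at h1; exact not_lt.2 h1 zero_lt_one
  obtain ⟨i, hi⟩ := exists_ord_eq hK φ P
  have h2 := neg_mapDiv_le hK φ P j
  have h3 : P.ord (φ j) ≤ P.ord (φ i) := by
    rcases eq_or_ne (φ i) 0 with h | h
    · rw [h, ord_zero]
      rw [val_eq_exp P hj0, ← exp_zero, exp_le_exp] at h1
      omega
    · have := hj i
      rw [val_eq_exp P h, val_eq_exp P hj0, exp_le_exp] at this
      omega
  omega

lemma exists_max3 (φ : Fin 3 → K) (P : Place k K) : ∃ j, ∀ i, P.1 (φ i) ≤ P.1 (φ j) := exists_minimal φ P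

/-- The substitution of an affine chart. -/
noncomputable def chartSubst (j o o' : Fin 3) : Fin 3 → MvPolynomial (Fin 2) k :=
  fun i => if i = j then 1 else if i = o then X 0 else if i = o' then X 1 else 0

lemma pderiv_chartSubst {j o o' : Fin 3} (hjo : o ≠ j) (hjo' : o' ≠ j) (hoo : o' ≠ o)
    (F : MvPolynomial (Fin 3) k) :
    pderiv 1 (aeval (chartSubst (k := k) j o o') F) = aeval (chartSubst (k := k) j o o') (pderiv o' F) := by
  induction F using MvPolynomial.induction_on with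
  | C c => simp
  | add p q hp hq => rw [map_add, map_add, map_add, map_add, hp, hq]
  | mul_X p l hp =>
    have hl : pderiv 1 (chartSubst (k := k) j o o' l) =
        aeval (chartSubst j o o') (pderiv o' (X l : MvPolynomial (Fin 3) k)) := by
      rcases eq_or_ne l o' with rfl | hne
      · simp [chartSubst, hjo', hoo]
      · rw [pderiv_X, Pi.single_eq_of_ne' hne.symm, map_zero]
        simp only [chartSubst, if_neg hne]
        split_ifs <;> simp
    rw [map_mul, aeval_X, pderiv_mul, pderiv_mul, map_add, map_mul, map_mul, aeval_X, hp, hl]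

lemma totalDegree_chartSubst_le {e : ℕ} (j o o' : Fin 3) {F : MvPolynomial (Fin 3) k} (hF : F.IsHomogeneous e) :
    (aeval (chartSubst (k := k) j o o') F).totalDegree ≤ e := by
  rw [aeval_def, eval₂_eq']
  refine (totalDegree_finsetSum _ _).trans (Finset.sup_le fun d hd => ?_)
  refine (totalDegree_mul _ _).trans ?_
  rw [show (algebraMap k (MvPolynomial (Fin 2) k)) (coeff d F) = C (coeff d F) from rfl, totalDegree_C, zero_add]
  refine (totalDegree_finsetProd _ _).trans ?_
  have hdm : ∑ i, d i = e := by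
    have := hF (mem_support_iff.1 hd)
    rw [Finsupp.weight_apply, Finsupp.sum_fintype _ _ (fun i => by simp)] at this
    simpa using this
  rw [← hdm]
  refine Finset.sum_le_sum fun i _ => (totalDegree_pow _ _).trans ?_
  have : (chartSubst (k := k) j o o' i).totalDegree ≤ 1 := by
    unfold chartSubst
    split_ifs <;> simp
  exact (Nat.mul_le_mul_left _ this).trans (mul_one _).le

theorem adjoint_coeff [IsAlgClosed k] (hK : IsFunctionField k K) (x y : K)
    (hxy : IntermediateField.adjoin k ({x, y} : Set K) = ⊤)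
    (f : MvPolynomial (Fin 2) k) (hf : Irreducible f) (hfxy : MvPolynomial.aeval ![x, y] f = 0)
    (Q : Place k K) (ψ : K →ₐ[k] LaurentSeries k) (hψ : LocRes.IsExpansionAt Q.1 ψ)
    (hne : LocRes.vDiff ψ (MvPolynomial.aeval ![x, y] (MvPolynomial.pderiv 1 f))⁻¹ x ≠ 0) :
    0 ≤ ((mapDiv k ![(1 : K), x, y]).deg - 3) * mapDiv k ![(1 : K), x, y] Q -
        LocRes.ordDiff ψ (MvPolynomial.aeval ![x, y] (MvPolynomial.pderiv 1 f))⁻¹ x ∧
    (((mapDiv k ![(1 : K), x, y]).deg - 3) * mapDiv k ![(1 : K), x, y] Q -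
        LocRes.ordDiff ψ (MvPolynomial.aeval ![x, y] (MvPolynomial.pderiv 1 f))⁻¹ x = 0 ↔
      IsNonsingularAt ![(1 : K), x, y] Q) := by
  classical
  set Φ : Fin 3 → K := ![(1 : K), x, y] with hΦ
  set e := f.totalDegree with he
  obtain ⟨f₀, hf₀, hf₀xy, hf₀deg, hdvd⟩ := plane_relation hK x y hxy
  have hdeg : (mapDiv k Φ).deg = e := by
    obtain ⟨q, hq⟩ := hdvd f hfxy
    rcases hf.isUnit_or_isUnit hq with h | h
    · exact absurd h hf₀.not_isUnit
    · rw [he, ← hf₀deg, hq, totalDegree_mul_of_isDomain hf₀.ne_zero h.ne_zero]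
      simp [(isUnit_iff_totalDegree_of_isReduced.1 h).2]
  -- homogenization
  let F : MvPolynomial (Fin 3) k :=
    ∑ i ∈ Finset.range (e + 1), X 0 ^ (e - i) * rename Fin.succ (homogeneousComponent i f)
  have hF : F.IsHomogeneous e := IsHomogeneous.sum _ _ _ fun i hi => by
    have hi' : e - i + i = e := Nat.sub_add_cancel (Nat.lt_succ_iff.1 (Finset.mem_range.1 hi))
    have h2 := (isHomogeneous_X_pow (R := k) (0 : Fin 3) (e - i)).mul
      ((homogeneousComponent_isHomogeneous i f).rename_isHomogeneous (f := Fin.succ))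
    rwa [hi'] at h2
  have hev : ∀ p : MvPolynomial (Fin 2) k, aeval Φ (rename Fin.succ p) = aeval ![x, y] p := fun p => by
    rw [aeval_rename]
    congr 1
  have hFΦ : aeval Φ F = 0 := by
    simp only [F, map_sum, map_mul, map_pow, aeval_X, hev, show Φ 0 = 1 from rfl, one_pow, one_mul]
    rw [← map_sum, sum_homogeneousComponent, hfxy]
  have hF2 : aeval Φ (pderiv 2 F) = aeval ![x, y] (pderiv 1 f) := by
    simp only [F, map_sum, pderiv_mul, pderiv_pow, pderiv_X, map_add, map_mul, map_pow, aeval_X,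
      Pi.single_eq_of_ne (show (0 : Fin 3) ≠ 2 by decide), map_zero, mul_zero, zero_mul, zero_add]
    have : ∀ p : MvPolynomial (Fin 2) k, aeval Φ (pderiv 2 (rename Fin.succ p)) = aeval ![x, y] (pderiv 1 p) :=
      fun p => by rw [show (2 : Fin 3) = Fin.succ 1 from rfl, pderiv_rename (Fin.succ_injective _), hev]
    simp only [this, show Φ 0 = 1 from rfl, one_pow, one_mul]
    rw [← map_sum, ← map_sum, sum_homogeneousComponent]
  have hfy0 : aeval ![x, y] (pderiv 1 f) ≠ 0 := by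
    intro h
    apply hne
    rw [h, inv_zero, Res.vDiff_eq, map_zero, map_zero, zero_mul]
  set fy := aeval ![x, y] (pderiv 1 f)
  have hDx : LocRes.D k (ψ x) ≠ 0 := fun h => hne (by rw [Res.vDiff_eq, h, map_zero, mul_zero])
  have he1 : 1 ≤ e := by
    by_contra h0
    have h2 : f.totalDegree = 0 := by omega
    rw [totalDegree_eq_zero_iff_eq_C] at h2
    apply hfy0
    show aeval ![x, y] (pderiv 1 f) = 0
    rw [h2, pderiv_C, map_zero]
  -- the chart
  obtain ⟨j, hj⟩ := exists_max3 Φ Q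
  have hj1 : 1 ≤ Q.1 (Φ j) := by simpa [Φ] using hj 0
  have hj0 : Φ j ≠ 0 := fun h => by rw [h, map_zero] at hj1; exact not_lt.2 hj1 zero_lt_one
  set b : Fin 3 → K := fun i => Φ i / Φ j with hb
  have hbj : b j = 1 := div_self hj0
  have hb0 : b 0 = (Φ j)⁻¹ := by show (1 : K) / Φ j = _; rw [one_div]
  have hb1 : b 1 = x * b 0 := by rw [hb0]; show x / Φ j = _; rw [div_eq_mul_inv]
  have hc0 : b 0 ≠ 0 := hb0 ▸ inv_ne_zero hj0
  have hbeq : b = fun i => b 0 * Φ i := funext fun i => by rw [hb0]; exact div_eq_inv_mul _ _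
  have hbv : ∀ i, Q.1 (b i) ≤ 1 := fun i => by
    show Q.1 (Φ i / Φ j) ≤ 1
    rw [map_div₀]; exact div_le_one_of_le₀ (hj i) zero_le
  have hFb : aeval b F = 0 := by rw [hbeq, aeval_mul_left' hF, hFΦ, mul_zero]
  set A : Fin 3 → LaurentSeries k := fun i => ψ (aeval b (pderiv i F)) with hA
  set d : Fin 3 → LaurentSeries k := fun i => LocRes.D k (ψ (b i)) with hd
  have hdj : d j = 0 := by
    show LocRes.D k (ψ (b j)) = 0
    rw [hbj, map_one, Derivation.map_one_eq_zero]
  have R1 : ∑ i, ψ (b i) * A i = 0 := by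
    have := congrArg (fun p => ψ (aeval b p)) hF.sum_X_mul_pderiv
    simp only [map_sum, map_mul, aeval_X, map_nsmul, hFb, smul_zero, map_zero] at this
    exact this
  have R2 : ∑ i, A i * d i = 0 := by
    have := congrArg (fun z => LocRes.D k (ψ z)) hFb
    simp only [map_zero, D_expansion_aeval] at this
    exact this
  have R3 : d 1 = ψ x * d 0 + ψ (b 0) * LocRes.D k (ψ x) := by
    show LocRes.D k (ψ (b 1)) = _
    rw [hb1, map_mul, Derivation.leibniz, smul_eq_mul, smul_eq_mul]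
  have hx0 : ψ (b 1) = ψ x * ψ (b 0) := by rw [hb1, map_mul]
  simp only [Fin.sum_univ_three] at R1 R2
  obtain ⟨o, o', hjo, hjo', hoo, hdo, hkey⟩ : ∃ o o' : Fin 3, o ≠ j ∧ o' ≠ j ∧ o' ≠ o ∧ d o ≠ 0 ∧
      (A 2 * d o = A o' * (ψ (b 0) ^ 2 * LocRes.D k (ψ x)) ∨
        A 2 * d o = -(A o' * (ψ (b 0) ^ 2 * LocRes.D k (ψ x)))) := by
    have hψc : ψ (b 0) ≠ 0 := (map_ne_zero ψ).2 hc0
    fin_cases j <;> simp only [Fin.zero_eta, Fin.mk_one, Fin.reduceFinMk] at hbj hdj ⊢
    · refine ⟨1, 2, by decide, by decide, by decide, ?_, Or.inl ?_⟩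
      · rw [R3, hdj, mul_zero, zero_add]; exact mul_ne_zero hψc hDx
      · rw [R3, hdj, mul_zero, zero_add, hbj, map_one]; ring
    · refine ⟨0, 2, by decide, by decide, by decide, ?_, Or.inr ?_⟩
      · intro h
        rw [hdj, h, mul_zero, zero_add] at R3
        exact mul_ne_zero hψc hDx R3.symm
      · have h1 : ψ x * ψ (b 0) = 1 := by rw [← hx0, hbj, map_one]
        rw [hdj] at R3
        linear_combination (-(A 2 * ψ (b 0))) * R3 - (A 2 * d 0) * h1
    · by_cases h0 : d 0 = 0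
      · refine ⟨1, 0, by decide, by decide, by decide, ?_, Or.inr ?_⟩
        · rw [R3, h0, mul_zero, zero_add]; exact mul_ne_zero hψc hDx
        · have h2 : ψ (b 2) = 1 := by rw [hbj, map_one]
          linear_combination (d 1) * R1 - ψ (b 1) * R2 - (A 2 * d 1) * h2 + (ψ (b 1) * A 2) * hdj -
            (A 0 * ψ (b 0)) * R3 + (A 0 * d 0) * hx0
      · refine ⟨0, 1, by decide, by decide, by decide, h0, Or.inl ?_⟩
        have h2 : ψ (b 2) = 1 := by rw [hbj, map_one]
        linear_combination (d 0) * R1 - ψ (b 0) * R2 - (A 2 * d 0) * h2 + (ψ (b 0) * A 2) * hdj +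
          (A 1 * ψ (b 0)) * R3 - (A 1 * d 0) * hx0
  -- the affine equation
  set g := aeval (chartSubst (k := k) j o o') F with hg
  have hsub : ∀ p, aeval ![b o, b o'] (aeval (chartSubst (k := k) j o o') p) = aeval b p := fun p => by
    rw [← AlgHom.comp_apply, comp_aeval]
    congr 2
    funext i
    have hi : i = j ∨ i = o ∨ i = o' := fin3_cases _ _ _ _ hjo hjo' hoo
    rcases hi with rfl | rfl | rfl
    · simp [chartSubst, hbj]
    · simp [chartSubst, hjo]
    · simp [chartSubst, hjo', hoo]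
  have hgsw : aeval ![b o, b o'] g = 0 := by rw [hg, hsub, hFb]
  have hgw : aeval ![b o, b o'] (pderiv 1 g) = aeval b (pderiv o' F) := by
    rw [hg, pderiv_chartSubst hjo hjo' hoo, hsub]
  have hA2 : aeval b (pderiv 2 F) = b 0 ^ (e - 1) * fy := by
    conv_lhs => rw [hbeq]
    rw [aeval_mul_left' hF.pderiv, hF2]
  have hA2ne : A 2 ≠ 0 := (map_ne_zero ψ).2 (hA2 ▸ mul_ne_zero (pow_ne_zero _ hc0) hfy0)
  have hAo' : aeval b (pderiv o' F) ≠ 0 := fun h => by
    have : A o' = 0 := by show ψ (aeval b (pderiv o' F)) = 0; rw [h, map_zero]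
    rw [this, zero_mul, neg_zero, or_self] at hkey
    exact mul_ne_zero hA2ne hdo hkey
  have hg0 : g ≠ 0 := fun h => hAo' (by rw [← hgw, h, map_zero, map_zero])
  have hgen : IntermediateField.adjoin k ({b o, b o'} : Set K) = ⊤ := by
    rw [eq_top_iff, ← hxy, IntermediateField.adjoin_le_iff]
    have hmem : ∀ i, b i ∈ IntermediateField.adjoin k ({b o, b o'} : Set K) := fun i => by
      have hi : i = j ∨ i = o ∨ i = o' := fin3_cases _ _ _ _ hjo hjo' hoo
      rcases hi with rfl | rfl | rfl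
      · rw [hbj]; exact one_mem _
      · exact IntermediateField.subset_adjoin _ _ (Set.mem_insert _ _)
      · exact IntermediateField.subset_adjoin _ _ (Set.mem_insert_of_mem _ rfl)
    have hΦmem : ∀ i, Φ i ∈ IntermediateField.adjoin k ({b o, b o'} : Set K) := fun i => by
      rw [show Φ i = b i / b 0 by show _ = (Φ i / Φ j) / (1 / Φ j); field_simp]
      exact div_mem (hmem i) (hmem 0)
    rintro z (rfl | rfl)
    · exact hΦmem 1
    · exact hΦmem 2
  have hker : ∀ p, aeval ![b o, b o'] p = 0 → g ∣ p := by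
    obtain ⟨g₀, hg₀, -, hg₀deg, hg₀dvd⟩ := plane_relation hK (b o) (b o') hgen
    have hmd : mapDiv k ![(1 : K), b o, b o'] = mapDiv k Φ + div k (Φ j) := by
      refine Finsupp.ext fun P => ?_
      obtain ⟨j', hj'⟩ := exists_max3 Φ P
      have hbj' : ∃ i', ![(1 : K), b o, b o'] i' = b j' := by
        have hi : j' = j ∨ j' = o ∨ j' = o' := fin3_cases _ _ _ _ hjo hjo' hoo
        rcases hi with rfl | rfl | rfl
        exacts [⟨0, hbj.symm⟩, ⟨1, rfl⟩, ⟨2, rfl⟩]
      obtain ⟨i', hi'⟩ := hbj'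
      have hmax : ∀ i, P.1 (![(1 : K), b o, b o'] i) ≤ P.1 (![(1 : K), b o, b o'] i') := fun i => by
        rw [hi']
        have : ∀ l, P.1 (b l) ≤ P.1 (b j') := fun l => by
          show P.1 (Φ l / Φ j) ≤ P.1 (Φ j' / Φ j)
          rw [map_div₀, map_div₀]
          exact div_le_div_of_nonneg_right (hj' l) zero_le
        fin_cases i
        · rw [← hbj]; exact this j
        · exact this o
        · exact this o'
      rw [Finsupp.add_apply, div_apply hK.1, mapDiv_eq_neg_ord hK.1 (i0 := 0) rfl P hmax,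
        mapDiv_eq_neg_ord hK.1 (i0 := 0) (φ := Φ) rfl P hj', hi']
      have hj'0 : Φ j' ≠ 0 := fun h => by
        have := hj' 0
        rw [h, map_zero, show Φ 0 = 1 from rfl, map_one] at this
        exact not_lt.2 this zero_lt_one
      show -P.ord (Φ j' / Φ j) = _
      rw [div_eq_mul_inv, ord_mul P hj'0 (inv_ne_zero hj0), ord_inv]
      ring
    have hd' : (g₀.totalDegree : ℤ) = e := by rw [hg₀deg, hmd, deg_add, deg_div hK.1, add_zero, hdeg]
    obtain ⟨r, hr⟩ := hg₀dvd g hgsw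
    have hr0 : r ≠ 0 := fun h => hg0 (by rw [hr, h, mul_zero])
    have hrdeg : r.totalDegree = 0 := by
      have h1 := totalDegree_chartSubst_le (k := k) j o o' hF
      rw [← hg, hr, totalDegree_mul_of_isDomain hg₀.ne_zero hr0] at h1
      omega
    have hru : IsUnit r := by
      rw [totalDegree_eq_zero_iff_eq_C] at hrdeg
      rw [hrdeg]
      exact (Ne.isUnit fun h => hr0 (by rw [hrdeg, h, map_zero])).map C
    exact fun p hp => hr ▸ (hru.mul_right_dvd.2 (hg₀dvd p hp))
  have hds : LocRes.vDiff ψ 1 (b o) ≠ 0 := by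
    rw [Res.vDiff_eq, map_one, map_one, one_mul]
    exact (Valuation.ne_zero_iff _).2 hdo
  obtain ⟨hnonneg, hiff⟩ := plane_delta hK hgen hgsw hker Q hψ (hbv o) (hbv o') hds
  rw [hgw] at hnonneg hiff
  -- comparison of the differentials
  have hv := congrArg Valued.v (Classical.choose_spec (show ∃ ε : LaurentSeries k, (ε = 1 ∨ ε = -1) ∧
      A 2 * d o = ε * (A o' * (ψ (b 0) ^ 2 * LocRes.D k (ψ x))) from
    hkey.elim (fun h => ⟨1, Or.inl rfl, by rw [h, one_mul]⟩) fun h => ⟨-1, Or.inr rfl, by rw [h, neg_one_mul]⟩)).2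
  have hε : ∀ ε : LaurentSeries k, ε = 1 ∨ ε = -1 → Valued.v ε = 1 := by
    rintro ε (rfl | rfl) <;> simp
  rw [map_mul, map_mul, hε _ (Classical.choose_spec (show ∃ ε : LaurentSeries k, (ε = 1 ∨ ε = -1) ∧
      A 2 * d o = ε * (A o' * (ψ (b 0) ^ 2 * LocRes.D k (ψ x))) from
    hkey.elim (fun h => ⟨1, Or.inl rfl, by rw [h, one_mul]⟩) fun h => ⟨-1, Or.inr rfl, by rw [h, neg_one_mul]⟩)).1,
    one_mul, map_mul, map_mul, map_pow] at hv
  simp only [A, d, Res.val_map hψ] at hv
  rw [hA2, map_mul, map_pow, val_eq_exp Q hc0, val_eq_exp Q hfy0, val_eq_exp Q hAo'] at hv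
  obtain ⟨n, hn⟩ : ∃ n : ℤ, Valued.v (LocRes.D k (ψ x)) = exp n :=
    ⟨_, (exp_log ((Valuation.ne_zero_iff _).2 hDx)).symm⟩
  obtain ⟨m, hm⟩ : ∃ m : ℤ, Valued.v (LocRes.D k (ψ (b o))) = exp m :=
    ⟨_, (exp_log ((Valuation.ne_zero_iff _).2 hdo)).symm⟩
  rw [hn, hm, ← exp_nsmul, ← exp_nsmul, ← exp_add, ← exp_add, ← exp_add, ← exp_add, exp_inj] at hv
  simp only [nsmul_eq_mul, Nat.cast_sub he1, Nat.cast_one, Nat.cast_ofNat] at hv
  have hordω : LocRes.ordDiff ψ fy⁻¹ x = -(Q.ord fy) - n := by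
    rw [LocRes.ordDiff, Res.vDiff_eq, Res.val_map hψ, map_inv₀, val_eq_exp Q hfy0, hn, ← exp_neg, ← exp_add, log_exp]
    ring
  have hordb : LocRes.ordDiff ψ 1 (b o) = -m := by
    rw [LocRes.ordDiff, Res.vDiff_eq, map_one, map_one, one_mul, hm, log_exp]
  have hmap : mapDiv k Φ Q = Q.ord (b 0) := by
    rw [mapDiv_eq_neg_ord hK.1 (i0 := 0) rfl Q hj, hb0, ord_inv]
  have hΔ : ((mapDiv k Φ).deg - 3) * mapDiv k Φ Q - LocRes.ordDiff ψ fy⁻¹ x =
      Q.ord (aeval b (pderiv o' F)) - LocRes.ordDiff ψ 1 (b o) := by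
    rw [hdeg, hmap, hordω, hordb]
    linarith
  rw [hΔ]
  refine ⟨hnonneg, hiff.trans ?_⟩
  have haff : aff k Φ j = Algebra.adjoin k (Set.range ![b o, b o']) := by
    refine le_antisymm (Algebra.adjoin_le ?_) (Algebra.adjoin_le ?_)
    · rintro _ ⟨i, rfl⟩
      have hi : i = j ∨ i = o ∨ i = o' := fin3_cases _ _ _ _ hjo hjo' hoo
      show b i ∈ _
      rcases hi with rfl | rfl | rfl
      · rw [hbj]; exact one_mem _
      · exact Algebra.subset_adjoin ⟨0, rfl⟩
      · exact Algebra.subset_adjoin ⟨1, rfl⟩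
    · rintro _ ⟨i, rfl⟩
      fin_cases i
      · exact Algebra.subset_adjoin ⟨o, rfl⟩
      · exact Algebra.subset_adjoin ⟨o', rfl⟩
  refine forall₂_congr fun z _ => ?_
  rw [inLocRing_iff hj0 hj]
  show _ ↔ ∃ u ∈ aff k Φ j, ∃ w ∈ aff k Φ j, _
  rw [haff]

end Groth.Agent.FF
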