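/-
Wronskians of polynomials in characteristic zero: degree and root orders.
-/
import Mathlib.LinearAlgebra.Vandermonde
import Mathlib.Algebra.Polynomial.Derivative
import Mathlib.Algebra.Polynomial.RingDivision
import Mathlib.Algebra.Polynomial.Roots
import Mathlib.Algebra.Polynomial.BigOperators
import Mathlib.RingTheory.Polynomial.Pochhammer
import Mathlib.Algebra.CharP.Algebra

open Polynomial Matrix

namespace Groth.Agent.FF

variable {k : Type*} [Field k] {m : ℕ}

/-- The Wronskian of a family of polynomials. -/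
noncomputable def wr (f : Fin m → k[X]) : k[X] :=
  (Matrix.of fun i j : Fin m => derivative^[(j : ℕ)] (f i)).det

lemma coeff_prod_top {ι : Type*} (s : Finset ι) (f : ι → k[X]) (n : ι → ℕ)
    (h : ∀ i ∈ s, (f i).natDegree ≤ n i) :
    (∏ i ∈ s, f i).natDegree ≤ ∑ i ∈ s, n i ∧
      (∏ i ∈ s, f i).coeff (∑ i ∈ s, n i) = ∏ i ∈ s, (f i).coeff (n i) := by
  classical
  induction s using Finset.induction with
  | empty => simp
  | insert a s ha ih =>
    obtain ⟨h1, h2⟩ := ih fun i hi => h i (Finset.mem_insert_of_mem hi)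
    simp only [Finset.prod_insert ha, Finset.sum_insert ha]
    refine ⟨natDegree_mul_le.trans (add_le_add (h a (Finset.mem_insert_self a s)) h1), ?_⟩
    rw [coeff_mul_add_eq_of_natDegree_le (h a (Finset.mem_insert_self a s)) h1, h2]

lemma wr_linear (A : Matrix (Fin m) (Fin m) k) (f : Fin m → k[X]) :
    wr (fun i => ∑ l, C (A i l) * f l) = C A.det * wr f := by
  rw [wr, wr, RingHom.map_det, ← Matrix.det_mul]
  congr 1
  refine Matrix.ext fun i j => ?_
  rw [Matrix.mul_apply, Matrix.of_apply, iterate_derivative_sum]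
  exact Finset.sum_congr rfl fun l _ => iterate_derivative_C_mul _ _ _

lemma pow_dvd_wr (a : k) (f : Fin m → k[X]) (e : Fin m → ℕ)
    (h : ∀ i, (X - C a) ^ e i ∣ f i) :
    (X - C a) ^ ((∑ i, e i) - ∑ j : Fin m, (j : ℕ)) ∣ wr f := by
  rw [wr, Matrix.det_apply]
  refine Finset.dvd_sum fun σ _ => ?_
  rw [Units.smul_def, zsmul_eq_mul]
  refine dvd_mul_of_dvd_right ?_ _
  refine Dvd.dvd.trans (pow_dvd_pow _ (?_ : _ ≤ ∑ i, (e (σ i) - (i : ℕ)))) ?_
  · rw [← Equiv.sum_comp σ e, Nat.sub_le_iff_le_add, ← Finset.sum_add_distrib]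
    exact Finset.sum_le_sum fun i _ => le_tsub_add
  · rw [← Finset.prod_pow_eq_pow_sum]
    exact Finset.prod_dvd_prod_of_dvd _ _ fun i _ =>
      pow_sub_dvd_iterate_derivative_of_pow_dvd _ (h (σ i))

lemma natDegree_term_le (f : Fin m → k[X]) (σ : Equiv.Perm (Fin m)) :
    ((∏ i : Fin m, derivative^[(i : ℕ)] (f (σ i))).natDegree ≤
        (∑ i, (f i).natDegree) - ∑ j : Fin m, (j : ℕ)) ∧
      (∏ i : Fin m, derivative^[(i : ℕ)] (f (σ i))).coeff
        ((∑ i, (f i).natDegree) - ∑ j : Fin m, (j : ℕ)) =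
      ∏ i : Fin m, (((f (σ i)).natDegree.descFactorial (i : ℕ) : ℕ) : k) * (f (σ i)).leadingCoeff := by
  by_cases hσ : ∀ i : Fin m, (i : ℕ) ≤ (f (σ i)).natDegree
  · have hs : ∑ i, ((f (σ i)).natDegree - (i : ℕ)) =
        (∑ i, (f i).natDegree) - ∑ j : Fin m, (j : ℕ) := by
      rw [← Equiv.sum_comp σ fun i => (f i).natDegree, Finset.sum_tsub_distrib _ fun i _ => hσ i]
    obtain ⟨h1, h2⟩ := coeff_prod_top Finset.univ (fun i : Fin m => derivative^[(i : ℕ)] (f (σ i)))
      (fun i : Fin m => (f (σ i)).natDegree - (i : ℕ)) fun i _ => natDegree_iterate_derivative _ _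
    rw [hs] at h1 h2
    refine ⟨h1, h2.trans (Finset.prod_congr rfl fun i _ => ?_)⟩
    rw [coeff_iterate_derivative, nsmul_eq_mul, Nat.sub_add_cancel (hσ i)]
    rfl
  · push Not at hσ
    obtain ⟨i, hi⟩ := hσ
    rw [Finset.prod_eq_zero (Finset.mem_univ i) (iterate_derivative_eq_zero hi)]
    refine ⟨by simp, ?_⟩
    rw [coeff_zero, Finset.prod_eq_zero (Finset.mem_univ i)]
    rw [Nat.descFactorial_of_lt hi]
    simp

lemma natDegree_wr_le (f : Fin m → k[X]) :
    (wr f).natDegree ≤ (∑ i, (f i).natDegree) - ∑ j : Fin m, (j : ℕ) := by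
  rw [wr, Matrix.det_apply]
  refine natDegree_sum_le_of_forall_le _ _ fun σ _ => ?_
  exact (natDegree_smul_le _ _).trans (natDegree_term_le f σ).1

lemma wr_ne_zero [CharZero k] (f : Fin m → k[X]) (h0 : ∀ i, f i ≠ 0)
    (hinj : Function.Injective fun i => (f i).natDegree) : wr f ≠ 0 := by
  intro hw
  have h1 := congrArg (fun p => p.coeff ((∑ i, (f i).natDegree) - ∑ j : Fin m, (j : ℕ))) hw
  simp only [wr, Matrix.det_apply, finsetSum_coeff, coeff_smul, coeff_zero, Matrix.of_apply,
    (natDegree_term_le f _).2] at h1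
  have h2 : (Matrix.of fun i j : Fin m =>
      (((f i).natDegree.descFactorial (j : ℕ) : ℕ) : k) * (f i).leadingCoeff).det = 0 := by
    rw [Matrix.det_apply]
    exact h1
  rw [show (Matrix.of fun i j : Fin m =>
      (((f i).natDegree.descFactorial (j : ℕ) : ℕ) : k) * (f i).leadingCoeff) =
      Matrix.diagonal (fun i => (f i).leadingCoeff) *
        Matrix.of fun i j : Fin m => ((descPochhammer k j).eval ((f i).natDegree : k)) by
    refine Matrix.ext fun i j => ?_
    rw [Matrix.diagonal_mul, Matrix.of_apply, Matrix.of_apply,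
      descPochhammer_eval_eq_descFactorial, mul_comm],
    Matrix.det_mul, Matrix.det_diagonal,
    ← Matrix.det_eval_matrixOfPolynomials_eq_det_vandermonde (fun i => ((f i).natDegree : k))
      (fun j : Fin m => descPochhammer k j) (fun j => descPochhammer_natDegree k j)
      (fun j => monic_descPochhammer k j)] at h2
  rcases mul_eq_zero.1 h2 with h3 | h3
  · obtain ⟨i, -, hi⟩ := Finset.prod_eq_zero_iff.1 h3
    exact h0 i (leadingCoeff_eq_zero.1 hi)
  · exact Matrix.det_vandermonde_ne_zero_iff.2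
      (fun i j hij => hinj (Nat.cast_injective (R := k) hij)) h3

lemma sum_rootMultiplicity_le {p : k[X]} (S : Finset k) :
    ∑ a ∈ S, p.rootMultiplicity a ≤ p.natDegree := by
  classical
  refine le_trans ?_ (card_roots' p)
  simp only [← count_roots]
  rw [← Multiset.toFinset_sum_count_eq p.roots]
  calc ∑ a ∈ S, p.roots.count a ≤ ∑ a ∈ S ∪ p.roots.toFinset, p.roots.count a :=
        Finset.sum_le_sum_of_subset Finset.subset_union_left
    _ = _ := (Finset.sum_subset Finset.subset_union_right fun x _ hx =>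
        Multiset.count_eq_zero.2 fun h => hx (Multiset.mem_toFinset.2 h)).symm

end Groth.Agent.FF
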