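/-
The ramification bound for linear series in genus zero, characteristic zero.
-/
import Groth.Agent.L26.FF.Series
import Groth.Agent.L26.FF.Wr
import Mathlib.LinearAlgebra.Matrix.Basis

open WithZero IntermediateField Polynomial

namespace Groth.Agent.FF

open FunFld

lemma sum_range_card_le (s : Finset ℕ) : ∑ i ∈ Finset.range s.card, i ≤ ∑ i ∈ s, i := by
  induction s using Finset.induction_on_max with
  | empty => simp
  | insert a s ha ih =>
    have hns : a ∉ s := fun h => lt_irrefl a (ha a h)
    have hc : s.card ≤ a := by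
      simpa using Finset.card_le_card (show s ⊆ Finset.range a from
        fun x hx => Finset.mem_range.2 (ha x hx))
    rw [Finset.card_insert_of_notMem hns, Finset.sum_insert hns, Finset.sum_range_succ]
    omega

variable {k K : Type*} [Field k] [IsAlgClosed k] [Field K] [Algebra k K]

/-- A coordinate on a genus zero field: a function with a single simple pole at `P0`. -/
structure Coord (t : K) (P0 : Place k K) : Prop where
  hK : IsFunctionField k K
  hord : P0.ord t = -1
  hreg : ∀ Q, Q ≠ P0 → 0 ≤ Q.ord t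

namespace Coord

variable {t : K} {P0 : Place k K} (T : Coord t P0)
include T

lemma transcendental : Transcendental k t :=
  (adjoin_eq_top_of_simple_pole T.hK (deg_eq_one T.hK P0) T.hord T.hreg).1

lemma val_inf : P0.1 t = exp 1 := by
  have : t ≠ 0 := fun h => by have := T.hord; rw [h, ord_zero] at this; omega
  rw [val_eq_exp P0 this, T.hord]; norm_num

lemma aeval_ne_zero {p : k[X]} (hp : p ≠ 0) : Polynomial.aeval t p ≠ 0 := fun h =>
  hp (transcendental_iff_injective.1 T.transcendental (h.trans (map_zero _).symm))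

lemma sub_ne_zero (a : k) : t - algebraMap k K a ≠ 0 := by
  have := T.aeval_ne_zero (Polynomial.X_sub_C_ne_zero a)
  simpa using this

lemma val_le_one {Q : Place k K} (hQ : Q ≠ P0) : Q.1 t ≤ 1 := by
  have : t ≠ 0 := fun h => by have := T.hord; rw [h, ord_zero] at this; omega
  exact (val_le_one_iff Q this).2 (T.hreg Q hQ)

lemma exists_val {Q : Place k K} (hQ : Q ≠ P0) : ∃ a : k, 0 < Q.ord (t - algebraMap k K a) := by
  obtain ⟨a, ha⟩ := exists_value Q (deg_eq_one T.hK Q) (T.val_le_one hQ)
  exact ⟨a, (val_lt_one_iff Q (T.sub_ne_zero a)).1 ha⟩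

lemma ord_sub_inf (a : k) : P0.ord (t - algebraMap k K a) = -1 := by
  have h : P0.1 (t - algebraMap k K a) = exp 1 := by
    rw [sub_eq_add_neg, P0.1.map_add_eq_of_lt_left, T.val_inf]
    rw [Valuation.map_neg, T.val_inf]
    exact (P0.2.1 a).trans_lt (by rw [one_lt_exp']; norm_num)
  rw [ord_eq_of_val P0 h]

/-- `t - a` has exactly one zero, which is simple. -/
lemma ord_sub {Q : Place k K} (hQ : Q ≠ P0) {a : k} (ha : 0 < Q.ord (t - algebraMap k K a)) :
    Q.ord (t - algebraMap k K a) = 1 ∧
      ∀ R, R ≠ Q → R ≠ P0 → R.ord (t - algebraMap k K a) = 0 := by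
  classical
  let E : Divisor k K := FunFld.div k (t - algebraMap k K a) + Finsupp.single P0 1
  have hE : 0 ≤ E := fun R => by
    simp only [E, Finsupp.zero_apply, Finsupp.add_apply, div_apply T.hK.1, Finsupp.single_apply]
    split_ifs with h
    · subst h; rw [T.ord_sub_inf]; norm_num
    · rcases eq_or_ne t (algebraMap k K a) with h' | h'
      · exact absurd (_root_.sub_eq_zero.2 h') (T.sub_ne_zero a)
      · have h1 : R.1 (t - algebraMap k K a) ≤ 1 :=
          (R.1.map_sub _ _).trans (max_le (T.val_le_one (Ne.symm h)) (R.2.1 a))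
        have := (val_le_one_iff R (T.sub_ne_zero a)).1 h1
        omega
  obtain ⟨P, -, hP⟩ := exists_single_of_deg_one T.hK hE (by
    simp only [E, deg_add, deg_div T.hK.1, deg_single, deg_eq_one T.hK]; norm_num)
  have hEQ : E Q = Q.ord (t - algebraMap k K a) := by
    simp [E, div_apply T.hK.1, Finsupp.single_eq_of_ne hQ]
  have hPQ : P = Q := by
    by_contra h
    rw [hP, Finsupp.single_eq_of_ne (Ne.symm h)] at hEQ
    omega
  subst hPQ
  refine ⟨by rw [← hEQ, hP, Finsupp.single_eq_same], fun R hR hR0 => ?_⟩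
  have : E R = R.ord (t - algebraMap k K a) := by
    simp [E, div_apply T.hK.1, Finsupp.single_eq_of_ne hR0]
  rw [← this, hP, Finsupp.single_eq_of_ne hR]

lemma ord_aeval {Q : Place k K} (hQ : Q ≠ P0) {a : k} (ha : 0 < Q.ord (t - algebraMap k K a))
    {p : k[X]} (hp : p ≠ 0) : Q.ord (Polynomial.aeval t p) = (p.rootMultiplicity a : ℤ) := by
  obtain ⟨q, hq, hndvd⟩ := p.exists_eq_pow_rootMultiplicity_mul_and_not_dvd hp a
  have hqa : q.eval a ≠ 0 := fun h => hndvd (Polynomial.dvd_iff_isRoot.2 h)
  obtain ⟨s, hs⟩ := (Polynomial.X_sub_C_dvd_sub_C_eval : (X - C a) ∣ q - C (q.eval a))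
  have hint : ∀ s : k[X], Q.1 (Polynomial.aeval t s) ≤ 1 := fun s => by
    induction s using Polynomial.induction_on' with
    | add f g hf hg => rw [map_add]; exact (Q.1.map_add _ _).trans (max_le hf hg)
    | monomial n c =>
      rw [Polynomial.aeval_monomial, map_mul, map_pow]
      exact mul_le_one' (Q.2.1 c) (pow_le_one₀ zero_le (T.val_le_one hQ))
  have hvq : Q.1 (Polynomial.aeval t q) = 1 := by
    rw [sub_eq_iff_eq_add.1 hs, map_add, map_mul, Polynomial.aeval_C, map_sub, Polynomial.aeval_X,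
      Polynomial.aeval_C, Q.1.map_add_eq_of_lt_right, val_const Q hqa]
    rw [val_const Q hqa, map_mul]
    exact mul_lt_one_of_lt_of_le ((val_lt_one_iff Q (T.sub_ne_zero a)).2 ha) (hint s)
  have h1 : Q.1 (Polynomial.aeval t p) = exp (-(p.rootMultiplicity a : ℤ)) := by
    conv_lhs => rw [hq]
    rw [map_mul, map_pow, map_mul, map_pow, hvq, mul_one, map_sub, Polynomial.aeval_X,
      Polynomial.aeval_C, val_eq_exp Q (T.sub_ne_zero a), (T.ord_sub hQ ha).1, ← exp_nsmul]
    simp
  rw [ord_eq_of_val Q h1, neg_neg]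

lemma ord_aeval_inf {p : k[X]} (hp : p ≠ 0) :
    P0.ord (Polynomial.aeval t p) = -(p.natDegree : ℤ) := by
  have h1 : P0.1 (Polynomial.aeval t p) = exp (p.natDegree : ℤ) := by
    have hlc : p.coeff p.natDegree ≠ 0 := by simpa using hp
    have htop : P0.1 (p.coeff p.natDegree • t ^ p.natDegree) = exp (p.natDegree : ℤ) := by
      rw [Algebra.smul_def, map_mul, val_const P0 hlc, one_mul, map_pow, T.val_inf, ← exp_nsmul]
      simp
    rw [Polynomial.aeval_eq_sum_range, P0.1.map_sum_eq_of_lt
      (Finset.mem_range.2 (Nat.lt_succ_self _)) (fun i hi => ?_), htop]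
    rw [htop]
    obtain ⟨hir, hid⟩ : i < p.natDegree + 1 ∧ i ≠ p.natDegree := by simpa using hi
    rw [Algebra.smul_def, map_mul, map_pow, T.val_inf, ← exp_nsmul]
    refine (mul_le_of_le_one_left zero_le (P0.2.1 _)).trans_lt (exp_lt_exp.2 ?_)
    simp
    omega
  rw [ord_eq_of_val P0 h1]

lemma exists_poly (hg : genus k K = 0) {d : ℕ} {x : K}
    (hx : x ∈ L (Finsupp.single P0 (d : ℤ))) :
    ∃ p : k[X], p.natDegree ≤ d ∧ Polynomial.aeval t p = x := by
  classical
  have hdeg : ∀ p : Polynomial.degreeLT k (d + 1), (p : k[X]).natDegree ≤ d := fun p => by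
    by_cases h0 : (p : k[X]) = 0
    · simp [h0]
    · have := Polynomial.mem_degreeLT.1 p.2
      rw [Polynomial.degree_eq_natDegree h0] at this
      exact Nat.lt_succ_iff.1 (WithBot.coe_lt_coe.1 this)
  let Φ : Polynomial.degreeLT k (d + 1) →ₗ[k] L (Finsupp.single P0 (d : ℤ)) :=
    ((Polynomial.aeval t).toLinearMap.comp (Polynomial.degreeLT k (d + 1)).subtype).codRestrict _
      fun p => by
        show Polynomial.aeval t (p : k[X]) ∈ _
        by_cases h0 : (p : k[X]) = 0
        · rw [h0, map_zero]; exact zero_mem _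
        rw [mem_L_iff_ord (T.aeval_ne_zero h0)]
        intro Q
        by_cases hQ : Q = P0
        · subst hQ
          rw [T.ord_aeval_inf h0, Finsupp.single_eq_same]
          have := hdeg p
          omega
        · obtain ⟨a, ha⟩ := T.exists_val hQ
          rw [T.ord_aeval hQ ha h0, Finsupp.single_eq_of_ne hQ]
          omega
  have hinj : Function.Injective Φ := fun p q hpq =>
    Subtype.ext (transcendental_iff_injective.1 T.transcendental (congrArg Subtype.val hpq))
  have hfr : Module.finrank k (Polynomial.degreeLT k (d + 1)) =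
      Module.finrank k (L (Finsupp.single P0 (d : ℤ))) := by
    rw [(Polynomial.degreeLTEquiv k (d + 1)).finrank_eq, Module.finrank_fin_fun]
    have := ell_eq_of_deg_ge T.hK (D := Finsupp.single P0 (d : ℤ))
      (by rw [deg_single, deg_eq_one T.hK, hg]; omega)
    rw [deg_single, deg_eq_one T.hK, hg] at this
    simp only [ell] at this
    omega
  have : Module.Finite k (Polynomial.degreeLT k (d + 1)) :=
    Module.Finite.equiv (Polynomial.degreeLTEquiv k (d + 1)).symm
  have := finite_L T.hK.1 (Finsupp.single P0 (d : ℤ))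
  obtain ⟨p, hp⟩ := (LinearMap.injective_iff_surjective_of_finrank_eq_finrank hfr).1 hinj ⟨x, hx⟩
  exact ⟨p, hdeg p, congrArg Subtype.val hp⟩

end Coord

/-- Weights of a genus zero linear series add up to at most `(r+1)(d-r)`. -/
lemma pluecker [CharZero k] {D : Divisor k K} {V : Submodule k K} {d r : ℕ} (S : Ser D V d r)
    (hg : genus k K = 0) (Ps : Finset (Place k K)) :
    2 * ∑ P ∈ Ps, (wt D V P d : ℤ) ≤
      (Ps.card : ℤ) * (r * (r + 1)) + 2 * (r + 1) * ((d : ℤ) - r) := by
  classical
  obtain ⟨P0, -⟩ : ∃ P0 : Place k K, True := ⟨(nonempty_place S.hK).some, trivial⟩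
  suffices h : 2 * ∑ P ∈ insert P0 Ps, (wt D V P d : ℤ) ≤
      ((insert P0 Ps).card : ℤ) * (r * (r + 1)) + 2 * (r + 1) * ((d : ℤ) - r) by
    by_cases h0 : P0 ∈ Ps
    · rwa [Finset.insert_eq_of_mem h0] at h
    · rw [Finset.sum_insert h0, Finset.card_insert_of_notMem h0] at h
      have : (r : ℤ) * (r + 1) ≤ 2 * (wt D V P0 d : ℤ) := by exact_mod_cast S.two_wt_ge P0
      push_cast at h
      linarith
  obtain ⟨t, ht1, ht2⟩ := exists_coord S.hK hg (deg_eq_one S.hK P0)
  have T : Coord t P0 := ⟨S.hK, ht1, ht2⟩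
  obtain ⟨z, hz, hz0⟩ : ∃ z ∈ L (D - Finsupp.single P0 (d : ℤ)), z ≠ 0 := by
    refine exists_ne_zero_of_ell_pos ?_
    have := ell_eq_of_deg_ge S.hK (D := D - Finsupp.single P0 (d : ℤ))
      (by rw [deg_sub, deg_single, deg_eq_one S.hK, S.hD, hg]; omega)
    rw [deg_sub, deg_single, deg_eq_one S.hK, S.hD, hg] at this
    omega
  have hzdiv : FunFld.div k z + D = Finsupp.single P0 (d : ℤ) := by
    have := eq_zero_of_deg_zero S.hK ((mem_L_iff_div S.hK.1 hz0).1 hz)
      (by rw [deg_add, deg_div S.hK.1, deg_sub, deg_single, deg_eq_one S.hK, S.hD]; omega)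
    rw [← _root_.sub_eq_zero, ← this]; abel
  have hzord : ∀ Q : Place k K, Q.ord z + D Q = Finsupp.single P0 (d : ℤ) Q := fun Q => by
    rw [← hzdiv, Finsupp.add_apply, div_apply S.hK.1]
  have hpoly : ∀ x ∈ V, ∃ p : k[X], Polynomial.aeval t p * z = x := fun x hx => by
    have hx' : x / z ∈ L (Finsupp.single P0 (d : ℤ)) := by
      rcases eq_or_ne x 0 with rfl | hx0
      · simp
      rw [mem_L_iff_ord (div_ne_zero hx0 hz0)]
      intro Q
      rw [div_eq_mul_inv, ord_mul Q hx0 (inv_ne_zero hz0), ord_inv, ← hzord Q]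
      have := (mem_L_iff_ord hx0).1 (S.hV hx) Q
      omega
    obtain ⟨p, -, hp⟩ := T.exists_poly hg hx'
    exact ⟨p, by rw [hp, div_mul_cancel₀ x hz0]⟩
  obtain ⟨f, mf, hmf, hfV, hf0, hford, hfli, hfsum⟩ := S.exists_adapted P0
  choose pf hpf using fun i => hpoly (f i) (hfV i)
  have hpf0 : ∀ i, pf i ≠ 0 := fun i h => hf0 i (by rw [← hpf i, h, map_zero, zero_mul])
  have hne : ∀ {p : k[X]}, p ≠ 0 → ∀ Q : Place k K,
      Q.ord (Polynomial.aeval t p * z) + D Q =
        Q.ord (Polynomial.aeval t p) + Finsupp.single P0 (d : ℤ) Q := fun hp Q => by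
    rw [ord_mul Q (T.aeval_ne_zero hp) hz0, add_assoc, hzord]
  have hdf : ∀ i, ((pf i).natDegree : ℤ) + mf i = d := fun i => by
    rw [← hford i, ← hpf i, hne (hpf0 i), T.ord_aeval_inf (hpf0 i), Finsupp.single_eq_same]
    ring
  have hinj : Function.Injective fun i => (pf i).natDegree := fun i j hij => by
    apply hmf
    have := hdf i; have := hdf j; simp only at hij; omega
  have hW := wr_ne_zero pf hpf0 hinj
  choose! a ha using fun (Q : Place k K) (hQ : Q ≠ P0) => T.exists_val hQ
  have key : ∀ P ∈ Ps.erase P0,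
      (wt D V P d : ℤ) ≤ ((wr pf).rootMultiplicity (a P) : ℤ) + (∑ j : Fin (r + 1), (j : ℕ) : ℕ) := by
    intro P hP
    have hPne := (Finset.mem_erase.1 hP).1
    obtain ⟨g, mg, -, hgV, hg0, hgord, hgli, hgsum⟩ := S.exists_adapted P
    choose pg hpg using fun i => hpoly (g i) (hgV i)
    have hpg0 : ∀ i, pg i ≠ 0 := fun i h => hg0 i (by rw [← hpg i, h, map_zero, zero_mul])
    have hmul : ∀ i, (pg i).rootMultiplicity (a P) = mg i := fun i => by
      have h1 := hgord i
      rw [← hpg i, hne (hpg0 i), T.ord_aeval hPne (ha P hPne) (hpg0 i),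
        Finsupp.single_eq_of_ne hPne, add_zero] at h1
      exact_mod_cast h1
    let bf : Module.Basis (Fin (r + 1)) k V :=
      basisOfLinearIndependentOfCardEqFinrank (b := fun i => (⟨f i, hfV i⟩ : V))
        (LinearIndependent.of_comp V.subtype hfli) (by rw [Fintype.card_fin, S.hr])
    let bg : Module.Basis (Fin (r + 1)) k V :=
      basisOfLinearIndependentOfCardEqFinrank (b := fun i => (⟨g i, hgV i⟩ : V))
        (LinearIndependent.of_comp V.subtype hgli) (by rw [Fintype.card_fin, S.hr])
    let A : Matrix (Fin (r + 1)) (Fin (r + 1)) k := fun i l => bf.repr (bg i) l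
    have hA : A.det ≠ 0 := by
      have : IsUnit (bf.toMatrix bg) := by
        have := bf.invertibleToMatrix bg
        exact isUnit_of_invertible _
      have h2 : A = (bf.toMatrix bg).transpose := rfl
      rw [h2, Matrix.det_transpose]
      exact ((Matrix.isUnit_iff_isUnit_det _).1 this).ne_zero
    have hpgA : pg = fun i => ∑ l, Polynomial.C (A i l) * pf l := by
      funext i
      apply transcendental_iff_injective.1 T.transcendental
      apply mul_right_cancel₀ hz0
      rw [hpg i, map_sum, Finset.sum_mul]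
      have := congrArg Subtype.val (bf.sum_repr (bg i))
      simp only [bf, bg, coe_basisOfLinearIndependentOfCardEqFinrank,
        AddSubmonoidClass.coe_finsetSum, SetLike.val_smul] at this
      rw [← this]
      refine Finset.sum_congr rfl fun l _ => ?_
      rw [map_mul, Polynomial.aeval_C, mul_assoc, hpf l, ← Algebra.smul_def]
      simp only [A, bf, bg, coe_basisOfLinearIndependentOfCardEqFinrank]
    have hdvd := pow_dvd_wr (a P) pg (fun i => mg i) fun i => hmul i ▸ pow_rootMultiplicity_dvd _ _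
    rw [hpgA, wr_linear, IsUnit.dvd_mul_left (Polynomial.isUnit_C.2 (isUnit_iff_ne_zero.2 hA)),
      ← le_rootMultiplicity_iff hW] at hdvd
    rw [← hgsum]
    omega
  have hinjA : Set.InjOn a (Ps.erase P0) := by
    intro P hP Q hQ h
    by_contra hPQ
    have hP0 := (Finset.mem_erase.1 hP).1
    have hQ0 := (Finset.mem_erase.1 hQ).1
    have h1 := (T.ord_sub hP0 (ha P hP0)).2 Q (Ne.symm hPQ) hQ0
    have h2 := ha Q hQ0
    rw [← h] at h2
    omega
  have h1 := Finset.sum_le_sum key
  have h2 : ∑ P ∈ Ps.erase P0, (wr pf).rootMultiplicity (a P) ≤ (wr pf).natDegree := by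
    rw [← Finset.sum_image (f := fun b => (wr pf).rootMultiplicity b) hinjA]
    exact sum_rootMultiplicity_le _
  have h3 := natDegree_wr_le pf
  have h4 : 2 * (∑ j : Fin (r + 1), (j : ℕ)) = r * (r + 1) := by
    rw [Fin.sum_univ_eq_sum_range (fun j => j), mul_comm, Finset.sum_range_id_mul_two]
    simp [mul_comm]
  have h5 : ((∑ i, (pf i).natDegree : ℕ) : ℤ) + (wt D V P0 d : ℤ) = (r + 1) * d := by
    rw [← hfsum]
    push_cast
    rw [← Finset.sum_add_distrib]
    simp [hdf]
  have h6 : (∑ j : Fin (r + 1), (j : ℕ)) ≤ ∑ i, (pf i).natDegree := by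
    have hc : (Finset.univ.image fun i => (pf i).natDegree).card = r + 1 := by
      rw [Finset.card_image_of_injective _ hinj, Finset.card_univ, Fintype.card_fin]
    rw [← Finset.sum_image (f := fun x => x) fun i _ j _ h => hinj h,
      Fin.sum_univ_eq_sum_range (fun j => j)]
    conv_lhs => rw [← hc]
    exact sum_range_card_le _
  have hins : insert P0 Ps = insert P0 (Ps.erase P0) := by
    ext x; simp; tauto
  rw [hins, Finset.sum_insert (Finset.notMem_erase P0 Ps),
    Finset.card_insert_of_notMem (Finset.notMem_erase P0 Ps)]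
  rw [Finset.sum_add_distrib, Finset.sum_const, nsmul_eq_mul] at h1
  push_cast at h1 ⊢
  zify at h2 h3 h4 h6
  rw [Nat.cast_sub (by exact_mod_cast h6)] at h3
  push_cast at h3 h5
  have h7 : 2 * ((Ps.erase P0).card : ℤ) * (∑ j : Fin (r + 1), ((j : ℕ) : ℤ)) =
      ((Ps.erase P0).card : ℤ) * (r * (r + 1)) := by rw [mul_comm 2, mul_assoc, h4]
  linarith

end Groth.Agent.FF
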