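/-
Limit linear series on chains.
-/
import Groth.Agent.L26.FF.Pluecker

namespace Groth.Agent.FF

open FunFld

lemma two_half (r : ℕ) : 2 * (r * (r + 1) / 2) = r * (r + 1) :=
  Nat.mul_div_cancel' (Nat.even_mul_succ_self r).two_dvd

variable {k K : Type*} [Field k] [Field K] [Algebra k K]

/-- Twice the weight. -/
noncomputable def w2 (D : Divisor k K) (V : Submodule k K) (P : Place k K) (d r : ℕ) : ℤ :=
  2 * (wt D V P d : ℤ) - r * (r + 1)

/-- Twice `(r+1)(d-r)`. -/
def M2 (d r : ℕ) : ℤ := 2 * (r + 1) * ((d : ℤ) - r)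

namespace Ser

variable [IsAlgClosed k] {D : Divisor k K} {V : Submodule k K} {d r : ℕ} (S : Ser D V d r)
include S

lemma w2_nonneg (P : Place k K) : 0 ≤ w2 D V P d r := by
  have h : (r : ℤ) * (r + 1) ≤ 2 * (wt D V P d : ℤ) := by exact_mod_cast S.two_wt_ge P
  rw [w2]; linarith

lemma w2_cusp (P : Place k K) (h : r ≤ prof D V P 2) : 2 * (r : ℤ) ≤ w2 D V P d r := by
  have h : (r : ℤ) * (r + 1) + 2 * r ≤ 2 * (wt D V P d : ℤ) := by
    exact_mod_cast S.two_wt_ge_of_cusp P r le_rfl (Or.inr h)
  rw [w2]; linarith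

lemma w2_pair {P Q : Place k K} (h : P ≠ Q) : w2 D V P d r + w2 D V Q d r ≤ M2 d r := by
  have h : (wt D V P d : ℤ) + wt D V Q d ≤ (r + 1) * d := by exact_mod_cast S.wt_pair_le h
  rw [w2, w2, M2]; linarith

lemma sum_w2_le [CharZero k] (hg : genus k K = 0) (Ps : Finset (Place k K)) :
    ∑ P ∈ Ps, w2 D V P d r ≤ M2 d r := by
  have h := pluecker S hg Ps
  simp only [w2, M2, Finset.sum_sub_distrib, Finset.sum_const, nsmul_eq_mul, ← Finset.mul_sum]
  linarith

end Ser

lemma w2_compat {KY KZ : Type*} [Field KY] [Algebra k KY] [Field KZ] [Algebra k KZ]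
    {d r : ℕ} {DY : Divisor k KY} {VY : Submodule k KY} {DZ : Divisor k KZ}
    {VZ : Submodule k KZ} {P : Place k KY} {Q : Place k KZ}
    (hcomp : ∀ n : ℕ, n ≤ d + 1 →
      prof DY VY P (n : ℤ) + prof DZ VZ Q ((d : ℤ) + 1 - n) = r + 1) :
    w2 DY VY P d r + w2 DZ VZ Q d r = M2 d r := by
  have h : (wt DY VY P d : ℤ) + wt DZ VZ Q d = (r + 1) * d := by exact_mod_cast wt_compat hcomp
  rw [w2, w2, M2]; linarith

variable [IsAlgClosed k] {N : ℕ} {Z : Fin (N + 1) → Type*} [∀ i, Field (Z i)] [∀ i, Algebra k (Z i)]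

/-- A chain of aspects of a limit linear series. -/
structure Chain (d r : ℕ) (D : ∀ i, Divisor k (Z i)) (V : ∀ i, Submodule k (Z i))
    (A B : ∀ i, Place k (Z i)) : Prop where
  ser : ∀ i, Ser (D i) (V i) d r
  hAB : ∀ i : Fin (N + 1), 0 < (i : ℕ) → (i : ℕ) < N → A i ≠ B i
  comp : ∀ (l : Fin N) (m : ℕ), m ≤ d + 1 →
    prof (D l.castSucc) (V l.castSucc) (B l.castSucc) (m : ℤ) +
      prof (D l.succ) (V l.succ) (A l.succ) ((d : ℤ) + 1 - m) = r + 1

namespace Chain

variable {d r : ℕ} {D : ∀ i, Divisor k (Z i)} {V : ∀ i, Submodule k (Z i)}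
  {A B : ∀ i, Place k (Z i)} (C : Chain d r D V A B)
include C

lemma compat (l : Fin N) :
    w2 (D l.castSucc) (V l.castSucc) (B l.castSucc) d r +
      w2 (D l.succ) (V l.succ) (A l.succ) d r = M2 d r :=
  w2_compat (C.comp l)

section Backbone

variable [CharZero k] (hrat : ∀ i, genus k (Z i) = 0) (T : Finset (Fin (N + 1)))
  (Q : ∀ i, Place k (Z i))
  (hQA : ∀ i ∈ T, 0 < (i : ℕ) → Q i ≠ A i) (hQB : ∀ i ∈ T, (i : ℕ) < N → Q i ≠ B i)
  (hcusp : ∀ i ∈ T, r ≤ prof (D i) (V i) (Q i) 2)
include hrat hQA hQB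

lemma points (i : Fin (N + 1)) (S : Finset (Place k (Z i))) (hA : 0 < (i : ℕ) → A i ∉ S)
    (hB : (i : ℕ) < N → B i ∉ S) (hQ : i ∈ T → Q i ∉ S) :
    (if 0 < (i : ℕ) then w2 (D i) (V i) (A i) d r else 0) +
      (if (i : ℕ) < N then w2 (D i) (V i) (B i) d r else 0) +
      (if i ∈ T then w2 (D i) (V i) (Q i) d r else 0) + ∑ P ∈ S, w2 (D i) (V i) P d r ≤ M2 d r := by
  classical
  let S₁ : Finset (Place k (Z i)) := if i ∈ T then insert (Q i) S else S
  have e₁ : ∑ P ∈ S₁, w2 (D i) (V i) P d r =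
      (if i ∈ T then w2 (D i) (V i) (Q i) d r else 0) + ∑ P ∈ S, w2 (D i) (V i) P d r := by
    simp only [S₁]
    split_ifs with h
    · rw [Finset.sum_insert (hQ h)]
    · rw [zero_add]
  have hB₁ : (i : ℕ) < N → B i ∉ S₁ := fun h => by
    simp only [S₁]
    split_ifs with h'
    · rw [Finset.mem_insert, not_or]; exact ⟨Ne.symm (hQB i h' h), hB h⟩
    · exact hB h
  have hA₁ : 0 < (i : ℕ) → A i ∉ S₁ := fun h => by
    simp only [S₁]
    split_ifs with h'
    · rw [Finset.mem_insert, not_or]; exact ⟨Ne.symm (hQA i h' h), hA h⟩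
    · exact hA h
  let S₂ : Finset (Place k (Z i)) := if (i : ℕ) < N then insert (B i) S₁ else S₁
  have e₂ : ∑ P ∈ S₂, w2 (D i) (V i) P d r =
      (if (i : ℕ) < N then w2 (D i) (V i) (B i) d r else 0) + ∑ P ∈ S₁, w2 (D i) (V i) P d r := by
    simp only [S₂]
    split_ifs with h
    · rw [Finset.sum_insert (hB₁ h)]
    · rw [zero_add]
  have hA₂ : 0 < (i : ℕ) → A i ∉ S₂ := fun h => by
    simp only [S₂]
    split_ifs with h'
    · rw [Finset.mem_insert, not_or]; exact ⟨C.hAB i h h', hA₁ h⟩
    · exact hA₁ h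
  let S₃ : Finset (Place k (Z i)) := if 0 < (i : ℕ) then insert (A i) S₂ else S₂
  have e₃ : ∑ P ∈ S₃, w2 (D i) (V i) P d r =
      (if 0 < (i : ℕ) then w2 (D i) (V i) (A i) d r else 0) + ∑ P ∈ S₂, w2 (D i) (V i) P d r := by
    simp only [S₃]
    split_ifs with h
    · rw [Finset.sum_insert (hA₂ h)]
    · rw [zero_add]
  have key := (C.ser i).sum_w2_le (hrat i) S₃
  rw [e₃, e₂, e₁] at key
  linarith

include hcusp

lemma step (i : Fin (N + 1)) (S : Finset (Place k (Z i))) (hA : 0 < (i : ℕ) → A i ∉ S)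
    (hB : (i : ℕ) < N → B i ∉ S) (hQ : i ∈ T → Q i ∉ S) :
    (if 0 < (i : ℕ) then w2 (D i) (V i) (A i) d r else 0) +
      (if (i : ℕ) < N then w2 (D i) (V i) (B i) d r else 0) +
      (if i ∈ T then 2 * (r : ℤ) else 0) + ∑ P ∈ S, w2 (D i) (V i) P d r ≤ M2 d r := by
  refine le_trans ?_ (C.points hrat T Q hQA hQB i S hA hB hQ)
  gcongr
  split_ifs with h
  · exact (C.ser i).w2_cusp _ (hcusp i h)
  · exact le_rfl

lemma left (i : Fin (N + 1)) : 2 * (r : ℤ) * (T.filter fun j => j < i).card ≤
    if 0 < (i : ℕ) then w2 (D i) (V i) (A i) d r else 0 := by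
  classical
  induction i using Fin.induction with
  | zero => simp
  | succ l ih =>
    have hT : (T.filter fun j => j < l.succ).card =
        (T.filter fun j => j < l.castSucc).card + (if l.castSucc ∈ T then 1 else 0) := by
      have hset : (T.filter fun j => j < l.succ) =
          if l.castSucc ∈ T then insert l.castSucc (T.filter fun j => j < l.castSucc)
          else T.filter fun j => j < l.castSucc := by
        ext j
        split_ifs with h <;> simp only [Finset.mem_filter, Finset.mem_insert, Fin.lt_def, Fin.ext_iff,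
          Fin.val_succ, Fin.val_castSucc]
        · constructor
          · rintro ⟨h1, h2⟩
            rcases Nat.lt_succ_iff_lt_or_eq.1 h2 with h3 | h3
            exacts [Or.inr ⟨h1, h3⟩, Or.inl h3]
          · rintro (h1 | ⟨h1, h2⟩)
            · exact ⟨by rwa [show j = l.castSucc from Fin.ext (by simpa using h1)], by omega⟩
            · exact ⟨h1, by omega⟩
        · constructor
          · rintro ⟨h1, h2⟩
            refine ⟨h1, lt_of_le_of_ne (Nat.lt_succ_iff.1 h2) fun h3 => h ?_⟩
            rwa [← show j = l.castSucc from Fin.ext (by simpa using h3)]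
          · rintro ⟨h1, h2⟩
            exact ⟨h1, by omega⟩
      rw [hset]
      split_ifs with h
      · rw [Finset.card_insert_of_notMem (by simp)]
      · rw [add_zero]
    have h1 := C.step hrat T Q hQA hQB hcusp l.castSucc ∅ (by simp) (by simp) (by simp)
    have h2 := C.compat l
    have hl : (l.castSucc : ℕ) < N := by simp
    rw [if_pos hl, Finset.sum_empty, add_zero] at h1
    rw [if_pos (by simp : 0 < (l.succ : ℕ)), hT]
    push_cast
    split_ifs at h1 ih ⊢ with a b <;> push_cast <;> nlinarith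

lemma right (i : Fin (N + 1)) : 2 * (r : ℤ) * (T.filter fun j => i < j).card ≤
    if (i : ℕ) < N then w2 (D i) (V i) (B i) d r else 0 := by
  classical
  induction i using Fin.reverseInduction with
  | last => simp [Finset.filter_false_of_mem (s := T) (p := fun j => Fin.last N < j)
      (fun j _ => not_lt.2 (Fin.le_last j))]
  | cast l ih =>
    have hT : (T.filter fun j => l.castSucc < j).card =
        (T.filter fun j => l.succ < j).card + (if l.succ ∈ T then 1 else 0) := by
      have hset : (T.filter fun j => l.castSucc < j) =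
          if l.succ ∈ T then insert l.succ (T.filter fun j => l.succ < j)
          else T.filter fun j => l.succ < j := by
        ext j
        split_ifs with h <;> simp only [Finset.mem_filter, Finset.mem_insert, Fin.lt_def, Fin.ext_iff,
          Fin.val_succ, Fin.val_castSucc]
        · constructor
          · rintro ⟨h1, h2⟩
            rcases Nat.lt_or_eq_of_le (show (l : ℕ) + 1 ≤ (j : ℕ) from h2) with h3 | h3
            exacts [Or.inr ⟨h1, h3⟩, Or.inl h3.symm]
          · rintro (h1 | ⟨h1, h2⟩)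
            · exact ⟨by rwa [show j = l.succ from Fin.ext (by simpa using h1)], by omega⟩
            · exact ⟨h1, by omega⟩
        · constructor
          · rintro ⟨h1, h2⟩
            refine ⟨h1, lt_of_le_of_ne (show (l : ℕ) + 1 ≤ (j : ℕ) from h2) fun h3 => h ?_⟩
            rwa [← show j = l.succ from Fin.ext (by simpa using h3.symm)]
          · rintro ⟨h1, h2⟩
            exact ⟨h1, by omega⟩
      rw [hset]
      split_ifs with h
      · rw [Finset.card_insert_of_notMem (by simp)]
      · rw [add_zero]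
    have h1 := C.step hrat T Q hQA hQB hcusp l.succ ∅ (by simp) (by simp) (by simp)
    have h2 := C.compat l
    have hl : 0 < (l.succ : ℕ) := by simp
    rw [if_pos hl, Finset.sum_empty, add_zero] at h1
    rw [if_pos (by simp : (l.castSucc : ℕ) < N), hT]
    push_cast
    split_ifs at h1 ih ⊢ with a b <;> push_cast <;> nlinarith

omit hrat hQA hQB hcusp in
lemma card_split (i : Fin (N + 1)) : T.card = (T.filter fun j => j < i).card +
    (T.filter fun j => i < j).card + (if i ∈ T then 1 else 0) := by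
  classical
  have h1 : T.filter (fun j => j = i) = if i ∈ T then {i} else ∅ := Finset.filter_eq' T i
  rw [← Finset.card_filter_add_card_filter_not (s := T) fun j => j < i, add_assoc]
  congr 1
  rw [← Finset.card_filter_add_card_filter_not (s := T.filter fun j => ¬ j < i) fun j => i < j,
    Finset.filter_filter, Finset.filter_filter]
  congr 1
  · congr 1
    exact Finset.filter_congr fun j _ => ⟨fun h => h.2, fun h => ⟨not_lt.2 h.le, h⟩⟩
  · rw [Finset.filter_congr fun j _ => (⟨fun h => le_antisymm (not_lt.1 h.2) (not_lt.1 h.1),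
      fun h => ⟨by rw [h]; exact lt_irrefl _, by rw [h]; exact lt_irrefl _⟩⟩ :
        (¬ j < i ∧ ¬ i < j) ↔ j = i), h1]
    split_ifs <;> simp

end Backbone

lemma prof_top_le_one (hpos : 0 < genus k (Z (Fin.last N))) (hr : 1 ≤ r) (i : Fin (N + 1))
    (hi : 0 < (i : ℕ) ∨ N = 0) (hne : ∀ l : Fin (N + 1), 0 < (l : ℕ) → (l : ℕ) < N → A l ≠ B l) :
    prof (D i) (V i) (A i) ((d : ℤ) - 1) ≤ 1 := by
  induction i using Fin.reverseInduction with
  | last =>
    have S := C.ser (Fin.last N)
    have := finite_L S.hK.1 (D (Fin.last N) - Finsupp.single (A (Fin.last N)) ((d : ℤ) - 1))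
    refine (Submodule.finrank_mono inf_le_right).trans ?_
    exact ell_le_one_of_deg_le_one S.hK hpos (by rw [deg_sub, deg_single, deg_eq_one S.hK, S.hD]; omega)
  | cast l ih =>
    have h1 := ih (Or.inl (by simp))
    have S := C.ser l.castSucc
    have hd := S.r_le
    have h2 := C.comp l 2 (by omega)
    rw [show (d : ℤ) + 1 - ((2 : ℕ) : ℤ) = (d : ℤ) - 1 by push_cast; ring] at h2
    have hl : 0 < (l.castSucc : ℕ) := by
      rcases hi with h | h
      · exact h
      · have := l.isLt; omega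
    have h3 := S.prof_pair_le (hne _ hl (by simp)) (a := (d : ℤ) - 1) (b := 2) (by omega)
    push_cast at h2
    omega

lemma cusp_of_pos (hpos : 0 < genus k (Z (Fin.last N))) (l : Fin N) :
    r ≤ prof (D l.castSucc) (V l.castSucc) (B l.castSucc) 2 := by
  rcases Nat.eq_zero_or_pos r with hr | hr
  · omega
  have h1 := C.prof_top_le_one hpos hr l.succ (Or.inl (by simp)) C.hAB
  have hd := (C.ser l.castSucc).r_le
  have h2 := C.comp l 2 (by omega)
  rw [show (d : ℤ) + 1 - ((2 : ℕ) : ℤ) = (d : ℤ) - 1 by push_cast; ring] at h2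
  push_cast at h2
  omega

lemma down (c : ℕ) (hc : w2 (D 0) (V 0) (B 0) d r + 2 * c ≤ M2 d r) (i : Fin (N + 1))
    (hi : 0 < (i : ℕ)) : 2 * (c : ℤ) ≤ w2 (D i) (V i) (A i) d r := by
  induction i using Fin.induction with
  | zero => simp at hi
  | succ l ih =>
    have h2 := C.compat l
    rcases Nat.eq_zero_or_pos (l.castSucc : ℕ) with h | h
    · rw [show l.castSucc = 0 from Fin.ext h] at h2
      linarith
    · have h1 := (C.ser l.castSucc).w2_pair (C.hAB _ h (by simp))
      have h3 := ih h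
      linarith

end Chain

end Groth.Agent.FF
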