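/-
Constant field extensions `k₁ ⊗ K`: degrees over rational subfields, finite fields of definition.
-/
import Groth.Agent.L26.FF.Ext
import Mathlib.RingTheory.Flat.Basic
import Mathlib.RingTheory.TensorProduct.Free
import Mathlib.LinearAlgebra.Basis.Basic
import Mathlib.Algebra.Polynomial.Basis

open scoped TensorProduct
open Polynomial IntermediateField

namespace Groth.Agent.FF

open FunFld

variable {k k₁ K L : Type*} [Field k] [Field k₁] [Field K] [Field L] [Algebra k k₁] [Algebra k K]
  [Algebra K L] [Algebra k₁ L] [Algebra k L] [IsScalarTower k k₁ L] [IsScalarTower k K L]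

lemma tensor_mem_adjoin (h : Function.Surjective (Algebra.TensorProduct.productMap
    (IsScalarTower.toAlgHom k k₁ L) (IsScalarTower.toAlgHom k K L))) (z : L) :
    ∃ s : Finset k₁, ∀ T : Set k₁, ↑s ⊆ T → z ∈ Algebra.adjoin K (algebraMap k₁ L '' T) := by
  classical
  obtain ⟨w, rfl⟩ := h z
  induction w using TensorProduct.induction_on with
  | zero => exact ⟨∅, fun T _ => by rw [map_zero]; exact zero_mem _⟩
  | tmul c x =>
    refine ⟨{c}, fun T hT => ?_⟩
    rw [Algebra.TensorProduct.productMap_apply_tmul]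
    exact mul_mem (Algebra.subset_adjoin ⟨c, hT (Finset.mem_singleton_self c), rfl⟩)
      ((Algebra.adjoin K _).algebraMap_mem x)
  | add a b ha hb =>
    obtain ⟨s₁, h₁⟩ := ha
    obtain ⟨s₂, h₂⟩ := hb
    refine ⟨s₁ ∪ s₂, fun T hT => ?_⟩
    rw [map_add]
    rw [Finset.coe_union] at hT
    exact add_mem (h₁ T (Set.subset_union_left.trans hT)) (h₂ T (Set.subset_union_right.trans hT))

/-- Spanning: the degree does not go up. -/
theorem finite_adjoin_const (h : Function.Surjective (Algebra.TensorProduct.productMap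
    (IsScalarTower.toAlgHom k k₁ L) (IsScalarTower.toAlgHom k K L))) (y : K) [FiniteDimensional k⟮y⟯ K] :
    FiniteDimensional k₁⟮algebraMap K L y⟯ L ∧
      Module.finrank k₁⟮algebraMap K L y⟯ L ≤ Module.finrank k⟮y⟯ K := by
  classical
  let F₁ := k₁⟮algebraMap K L y⟯
  let b := Module.finBasis k⟮y⟯ K
  let v : Fin (Module.finrank k⟮y⟯ K) → L := fun j => algebraMap K L (b j)
  have hr : ∀ r : k⟮y⟯, algebraMap K L (r : K) ∈ F₁ := fun r => by
    have h1 : (k⟮y⟯).map (IsScalarTower.toAlgHom k K L) ≤ F₁.restrictScalars k := by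
      rw [adjoin_map, Set.image_singleton, adjoin_simple_le_iff]
      exact mem_adjoin_simple_self k₁ _
    exact h1 ⟨r, r.2, rfl⟩
  have hsp : Submodule.span F₁ (Set.range v) = ⊤ := by
    rw [eq_top_iff]
    rintro z -
    obtain ⟨w, rfl⟩ := h z
    induction w using TensorProduct.induction_on with
    | zero => rw [map_zero]; exact zero_mem _
    | tmul c x =>
      rw [Algebra.TensorProduct.productMap_apply_tmul, IsScalarTower.toAlgHom_apply, IsScalarTower.toAlgHom_apply,
        ← b.sum_repr x, map_sum, Finset.mul_sum]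
      refine Submodule.sum_mem _ fun j _ => ?_
      have hmem : algebraMap k₁ L c * algebraMap K L (b.repr x j : K) ∈ F₁ :=
        mul_mem (F₁.algebraMap_mem c) (hr _)
      have := Submodule.smul_mem (Submodule.span F₁ (Set.range v)) ⟨_, hmem⟩ (Submodule.subset_span ⟨j, rfl⟩)
      convert this using 1
      rw [IntermediateField.smul_def, smul_eq_mul, IntermediateField.smul_def, smul_eq_mul, map_mul]
      ring
    | add a b ha hb => rw [map_add]; exact add_mem ha hb
  refine ⟨⟨⟨(Finset.univ.image v), by rw [Finset.coe_image, Finset.coe_univ, Set.image_univ]; exact hsp⟩⟩, ?_⟩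
  rw [← finrank_top F₁ L, ← hsp]
  exact (finrank_range_le_card v).trans_eq (Fintype.card_fin _)

variable {ι : Type*} [Fintype ι]

/-- The map `(p_j) ↦ ∑ p_j(x) v_j`. -/
noncomputable def polyComb (F : Type*) {E : Type*} [Field F] [Field E] [Algebra F E] (x : E) (v : ι → E) :
    (ι → F[X]) →ₗ[F] E where
  toFun p := ∑ j, aeval x (p j) * v j
  map_add' p q := by simp [add_mul, Finset.sum_add_distrib]
  map_smul' c p := by simp [Finset.mul_sum, Finset.smul_sum, Algebra.smul_def, mul_assoc]

lemma polyComb_injective {F E : Type*} [Field F] [Field E] [Algebra F E] {x : E} (hx : Transcendental F x)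
    {v : ι → E} (hv : LinearIndependent F⟮x⟯ v) : Function.Injective (polyComb F x v) := by
  rw [injective_iff_map_eq_zero]
  intro p hp
  funext j
  have hmem : ∀ j, aeval x (p j) ∈ F⟮x⟯ := fun j =>
    algebra_adjoin_le_adjoin F {x} (aeval_mem_adjoin_singleton F x)
  have h1 := Fintype.linearIndependent_iff.1 hv (fun j => ⟨_, hmem j⟩) hp j
  have h2 : aeval x (p j) = 0 := congrArg Subtype.val h1
  exact transcendental_iff.1 hx _ h2

lemma linearIndependent_of_polyComb {F E : Type*} [Field F] [Field E] [Algebra F E] {x : E}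
    (hx : Transcendental F x) {v : ι → E} (h : Function.Injective (polyComb F x v)) :
    LinearIndependent F⟮x⟯ v := by
  classical
  rw [Fintype.linearIndependent_iff]
  intro r hr i
  choose P Q hPQ using fun j => (IntermediateField.mem_adjoin_simple_iff F (r j : E)).1 (r j).2
  by_contra hri
  have hr0 : (r i : E) ≠ 0 := fun h0 => hri (Subtype.ext h0)
  have hne : ∀ R : F[X], R ≠ 0 → aeval x R ≠ 0 := fun R hR h0 => hR (transcendental_iff.1 hx _ h0)
  let T := Finset.univ.filter fun j => (r j : E) ≠ 0
  have hQ : ∀ j ∈ T, Q j ≠ 0 := fun j hj h0 => (Finset.mem_filter.1 hj).2 (by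
    rw [hPQ j, h0, map_zero, div_zero])
  have hPi : P i ≠ 0 := fun h0 => hr0 (by rw [hPQ i, h0, map_zero, zero_div])
  let R : ι → F[X] := fun j => if j ∈ T then P j * ∏ l ∈ T.erase j, Q l else 0
  have hR : polyComb F x v R = (∑ j, (r j : E) * v j) * ∏ l ∈ T, aeval x (Q l) := by
    show ∑ j, aeval x (R j) * v j = _
    rw [Finset.sum_mul]
    refine Finset.sum_congr rfl fun j _ => ?_
    by_cases hj : j ∈ T
    · simp only [R, if_pos hj]
      rw [map_mul, map_prod, ← Finset.mul_prod_erase T _ hj, hPQ j,
        show aeval x (P j) / aeval x (Q j) * v j * (aeval x (Q j) * ∏ l ∈ T.erase j, aeval x (Q l)) =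
          (aeval x (P j) / aeval x (Q j) * aeval x (Q j)) * v j * ∏ l ∈ T.erase j, aeval x (Q l) by ring,
        div_mul_cancel₀ _ (hne _ (hQ j hj))]
      ring
    · simp only [R, if_neg hj, map_zero, zero_mul]
      rw [show (r j : E) = 0 by simpa [T] using hj, zero_mul, zero_mul]
  rw [show (∑ j, (r j : E) * v j) = 0 from hr, zero_mul, ← map_zero (polyComb F x v)] at hR
  have h0 := congrFun (h hR) i
  simp only [R, if_pos (show i ∈ T from Finset.mem_filter.2 ⟨Finset.mem_univ i, hr0⟩), Pi.zero_apply] at h0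
  rcases mul_eq_zero.1 h0 with h4 | h4
  · exact hPi h4
  · obtain ⟨l, hl, hl0⟩ := Finset.prod_eq_zero_iff.1 h4
    exact hQ l (Finset.mem_of_mem_erase hl) hl0

/-- Independence: the degree does not go down. -/
theorem finrank_adjoin_const_ge (h : Function.Injective (Algebra.TensorProduct.productMap
    (IsScalarTower.toAlgHom k k₁ L) (IsScalarTower.toAlgHom k K L))) {y : K} (hy : Transcendental k y)
    (hy₁ : Transcendental k₁ (algebraMap K L y))
    [FiniteDimensional k⟮y⟯ K] [FiniteDimensional k₁⟮algebraMap K L y⟯ L] :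
    Module.finrank k⟮y⟯ K ≤ Module.finrank k₁⟮algebraMap K L y⟯ L := by
  classical
  let b := Module.finBasis k⟮y⟯ K
  let v : Fin (Module.finrank k⟮y⟯ K) → L := fun j => algebraMap K L (b j)
  let B := Pi.basis fun _ : Fin (Module.finrank k⟮y⟯ K) => Polynomial.basisMonomials k
  let B₁ := Pi.basis fun _ : Fin (Module.finrank k⟮y⟯ K) => Polynomial.basisMonomials k₁
  have hfam : LinearIndependent k fun p => polyComb k y b (B p) :=
    B.linearIndependent.map' _ (LinearMap.ker_eq_bot.2 (polyComb_injective hy b.linearIndependent))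
  let φ : k₁ ⊗[k] K →ₐ[k₁] L :=
    Algebra.TensorProduct.lift (Algebra.ofId k₁ L) (IsScalarTower.toAlgHom k K L) fun _ _ => Commute.all _ _
  have hφ : Function.Injective φ := by
    intro a a' haa
    apply h
    have e : ∀ z : k₁ ⊗[k] K, φ z = Algebra.TensorProduct.productMap
        (IsScalarTower.toAlgHom k k₁ L) (IsScalarTower.toAlgHom k K L) z := fun z => by
      induction z using TensorProduct.induction_on with
      | zero => simp
      | tmul a b => simp [φ, Algebra.ofId_apply]
      | add a b ha hb => rw [map_add, map_add, ha, hb]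
    rw [← e, ← e]
    exact haa
  have hfam₁ := (Module.Flat.linearIndependent_one_tmul (S := k₁) hfam).map' φ.toLinearMap (LinearMap.ker_eq_bot.2 hφ)
  have hinj : Function.Injective (polyComb k₁ (algebraMap K L y) v) := by
    rw [← LinearMap.ker_eq_bot, ← B₁.constr_self (S := k₁) (polyComb k₁ (algebraMap K L y) v)] 
    rw [LinearMap.ker_eq_bot, injective_iff_map_eq_zero]
    intro p hp
    rw [B₁.constr_apply] at hp
    have e : (fun q => polyComb k₁ (algebraMap K L y) v (B₁ q)) =
        φ.toLinearMap ∘ fun q => (1 : k₁) ⊗ₜ[k] polyComb k y b (B q) := funext fun q => by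
      show _ = φ (1 ⊗ₜ[k] polyComb k y b (B q))
      rw [Algebra.TensorProduct.lift_tmul, map_one, one_mul, IsScalarTower.toAlgHom_apply]
      obtain ⟨j, m⟩ := q
      show ∑ i, aeval (algebraMap K L y) (B₁ ⟨j, m⟩ i) * v i = algebraMap K L (∑ i, aeval y (B ⟨j, m⟩ i) * b i)
      rw [map_sum]
      refine Finset.sum_congr rfl fun i _ => ?_
      rw [map_mul]
      congr 1
      simp only [B, B₁, Pi.basis_apply, coe_basisMonomials]
      rcases eq_or_ne i j with rfl | hne
      · simp [Pi.single_eq_same, aeval_monomial]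
      · simp [Pi.single_eq_of_ne hne]
    have h1 : B₁.repr p = 0 := linearIndependent_iff.1 hfam₁ (B₁.repr p) (by
      change Finsupp.linearCombination k₁ (φ.toLinearMap ∘ _) _ = 0
      rw [← e, Finsupp.linearCombination_apply]
      exact hp)
    exact B₁.repr.map_eq_zero_iff.1 h1
  exact (linearIndependent_of_polyComb hy₁ hinj).fintype_card_le_finrank.trans' (le_of_eq (Fintype.card_fin _).symm)

lemma transcendental_const [Algebra.IsAlgebraic k k₁] {y : K} (hy : Transcendental k y) :
    Transcendental k₁ (algebraMap K L y) :=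
  ((transcendental_algebraMap_iff (algebraMap K L).injective).2 hy).extendScalars k₁

/-- The constant extension is a field of transcendence degree one. -/
lemma isFF_const [Algebra.IsAlgebraic k k₁] (h : Function.Surjective (Algebra.TensorProduct.productMap
    (IsScalarTower.toAlgHom k k₁ L) (IsScalarTower.toAlgHom k K L))) (hK : IsFF k K) : IsFF k₁ L := by
  obtain ⟨x, hx, hfin⟩ := hK
  exact ⟨algebraMap K L x, transcendental_const hx, (finite_adjoin_const h x).1⟩

end Groth.Agent.FF

namespace Groth.Agent.FF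

open FunFld

universe u v

/-- Geometric fields stay fields after any algebraic constant extension. -/
theorem isField_tensor_of_isAlgebraic {k : Type u} {K : Type v} [Field k] [Field K] [Algebra k K]
    (hg : IsGeometric k K) (k₁ : Type u) [Field k₁] [Algebra k k₁] [Algebra.IsAlgebraic k k₁] :
    IsField (k₁ ⊗[k] K) := by
  classical
  have key : ∀ w : k₁ ⊗[k] K, ∃ s : Finset k₁, ∀ k' : IntermediateField k k₁, ↑s ⊆ (k' : Set k₁) →
      ∃ w', Algebra.TensorProduct.map k'.val (AlgHom.id k K) w' = w := fun w => by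
    induction w using TensorProduct.induction_on with
    | zero => exact ⟨∅, fun k' _ => ⟨0, map_zero _⟩⟩
    | tmul c x => exact ⟨{c}, fun k' h => ⟨(⟨c, h (Finset.mem_singleton_self c)⟩ : k') ⊗ₜ x, rfl⟩⟩
    | add a b ha hb =>
      obtain ⟨s₁, h₁⟩ := ha
      obtain ⟨s₂, h₂⟩ := hb
      refine ⟨s₁ ∪ s₂, fun k' h => ?_⟩
      rw [Finset.coe_union] at h
      obtain ⟨a', rfl⟩ := h₁ k' (Set.subset_union_left.trans h)
      obtain ⟨b', rfl⟩ := h₂ k' (Set.subset_union_right.trans h)
      exact ⟨a' + b', map_add _ _ _⟩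
  refine ⟨⟨0, 1, ?_⟩, mul_comm, fun {w} hw => ?_⟩
  · have hbot := hg k inferInstance
    obtain ⟨a, b, hab⟩ := hbot.exists_pair_ne
    have : Nontrivial (k₁ ⊗[k] K) :=
      (Algebra.TensorProduct.includeRight_injective (R := k) (A := k₁) (B := K) (algebraMap k k₁).injective).nontrivial
    exact zero_ne_one
  · obtain ⟨s, hs⟩ := key w
    let k' := IntermediateField.adjoin k (↑s : Set k₁)
    have hfin : FiniteDimensional k k' :=
      IntermediateField.finiteDimensional_adjoin fun z _ => (Algebra.IsAlgebraic.isAlgebraic z).isIntegral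
    obtain ⟨w', rfl⟩ := hs k' (IntermediateField.subset_adjoin k _)
    obtain ⟨u, hu⟩ := (hg k' hfin).mul_inv_cancel (a := w') (fun h0 => hw (by rw [h0, map_zero]))
    exact ⟨Algebra.TensorProduct.map k'.val (AlgHom.id k K) u, by rw [← map_mul, hu, map_one]⟩

end Groth.Agent.FF
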