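/-
Linear changes of coordinates of plane curves.
-/
import Mathlib.RingTheory.MvPolynomial.EulerIdentity
import Mathlib.RingTheory.Kaehler.Basic
import Mathlib.LinearAlgebra.Matrix.Determinant.Basic
import Mathlib.RingTheory.Derivation.Basic
import Mathlib.Tactic.Module
import Mathlib.Tactic.FieldSimp
import Mathlib.Tactic.Ring
import Mathlib.Tactic.LinearCombination
import Mathlib.Tactic.FinCases
import Mathlib.FieldTheory.Minpoly.Field

open MvPolynomial

namespace Groth.Agent.FF

variable {k K : Type*} [Field k] [Field K] [Algebra k K]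

/-- Scaling of homogeneous polynomials. -/
lemma aeval_scale {σ : Type*} [Fintype σ] {f : MvPolynomial σ k} {e : ℕ} (hf : f.IsHomogeneous e)
    (c : K) (w : σ → K) : aeval (fun i => c * w i) f = c ^ e * aeval w f := by
  rw [aeval_def, aeval_def, eval₂_eq', eval₂_eq', Finset.mul_sum]
  refine Finset.sum_congr rfl fun d hd => ?_
  have hde : ∑ i, d i = e := by
    have := hf (mem_support_iff.1 hd)
    rw [Finsupp.weight_apply, Finsupp.sum_fintype _ _ (fun i => by simp)] at this
    simpa using this
  simp only [mul_pow, Finset.prod_mul_distrib, Finset.prod_pow_eq_pow_sum, hde]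
  ring

/-- Chain rule for derivations. -/
lemma derivation_aeval {σ : Type*} [Fintype σ] {M : Type*} [AddCommGroup M] [Module K M] [Module k M]
    (d : Derivation k K M) (w : σ → K) (f : MvPolynomial σ k) :
    d (aeval w f) = ∑ i, aeval w (pderiv i f) • d (w i) := by
  classical
  induction f using MvPolynomial.induction_on with
  | C a => simp
  | add p q hp hq => simp [hp, hq, add_smul, Finset.sum_add_distrib]
  | mul_X p i hp =>
    simp only [map_mul, aeval_X, d.leibniz, hp, pderiv_mul, pderiv_X, map_add, add_smul,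
      Finset.sum_add_distrib, Finset.smul_sum, smul_smul]
    rw [add_comm]
    congr 1
    · exact Finset.sum_congr rfl fun j _ => by rw [mul_comm]
    · rw [Finset.sum_eq_single i (fun j _ hj => by simp [Pi.single_eq_of_ne (Ne.symm hj)]) (by simp)]
      simp

lemma aeval_subst (A : Matrix (Fin 3) (Fin 3) k) (w : Fin 3 → K) (f : MvPolynomial (Fin 3) k) :
    aeval w (aeval (fun i : Fin 3 => ∑ j, C (A i j) * X j) f) =
      aeval (fun i => ∑ j, algebraMap k K (A i j) * w j) f := by
  rw [← AlgHom.comp_apply, comp_aeval]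
  congr 1
  simp

lemma pderiv_subst (A : Matrix (Fin 3) (Fin 3) k) (l : Fin 3) (f : MvPolynomial (Fin 3) k) :
    pderiv l (aeval (fun i : Fin 3 => ∑ j, C (A i j) * X j) f) =
      ∑ i, aeval (fun i : Fin 3 => ∑ j, C (A i j) * X j) (pderiv i f) * C (A i l) := by
  induction f using MvPolynomial.induction_on with
  | C a => simp
  | add p q hp hq => simp [hp, hq, add_mul, Finset.sum_add_distrib]
  | mul_X p i hp =>
    have hd : pderiv l (∑ j, C (A i j) * X j : MvPolynomial (Fin 3) k) = C (A i l) := by
      rw [map_sum, Finset.sum_eq_single l (fun j _ hj => by simp [pderiv_X, Pi.single_eq_of_ne hj, Pi.single_eq_of_ne' hj]) (by simp)]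
      simp
    simp only [map_mul, aeval_X, pderiv_mul, hp, hd, pderiv_X, map_add, add_mul, Finset.sum_add_distrib,
      Finset.sum_mul]
    congr 1
    · exact Finset.sum_congr rfl fun j _ => by ring
    · rw [Finset.sum_eq_single i (fun j _ hj => by simp [Pi.single_eq_of_ne (Ne.symm hj)]) (by simp)]
      simp

/-- `dx / f_y` in new coordinates. -/
theorem omega_change {M : Type*} [AddCommGroup M] [Module K M] [Module k M] [IsScalarTower k K M]
    (d : Derivation k K M) (f : MvPolynomial (Fin 3) k) (e : ℕ) (hf : f.IsHomogeneous e)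
    (x y : K) (hfxy : aeval ![(1 : K), x, y] f = 0)
    (A : Matrix (Fin 3) (Fin 3) k)
    (u : Fin 3 → K) (hu : ∀ i, ∑ j, algebraMap k K (A i j) * u j = ![(1 : K), x, y] i)
    (hu0 : u 0 ≠ 0)
    (hfy : aeval ![(1 : K), x, y] (pderiv 2 f) ≠ 0)
    (hfy' : aeval ![(1 : K), u 1 / u 0, u 2 / u 0]
      (pderiv 2 (aeval (fun i : Fin 3 => ∑ j, C (A i j) * X j) f)) ≠ 0) :
    (aeval ![(1 : K), x, y] (pderiv 2 f))⁻¹ • d x =
      (algebraMap k K A.det * (u 0)⁻¹ ^ ((e : ℤ) - 3) *
        (aeval ![(1 : K), u 1 / u 0, u 2 / u 0]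
          (pderiv 2 (aeval (fun i : Fin 3 => ∑ j, C (A i j) * X j) f)))⁻¹) • d (u 1 / u 0) := by
  classical
  set p : Fin 3 → K := ![(1 : K), x, y] with hp
  set G : Fin 3 → K := fun i => aeval p (pderiv i f) with hG
  set fy' := aeval ![(1 : K), u 1 / u 0, u 2 / u 0]
    (pderiv 2 (aeval (fun i : Fin 3 => ∑ j, C (A i j) * X j) f)) with hfy'def
  have he : 1 ≤ e := by
    by_contra h
    obtain rfl : e = 0 := by omega
    refine hfy ?_
    rw [← totalDegree_zero_iff_isHomogeneous, totalDegree_eq_zero_iff_eq_C] at hf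
    rw [hf, pderiv_C, map_zero]
  -- the chain rule and Euler
  have h1 : G 1 • d x + G 2 • d y = 0 := by
    have h := derivation_aeval d p f
    rw [hfxy, map_zero, Fin.sum_univ_three] at h
    simpa [hp, hG] using h.symm
  have h2 : G 0 + G 1 * x + G 2 * y = 0 := by
    have h := congrArg (aeval p) hf.sum_X_mul_pderiv
    rw [map_nsmul, hfxy, smul_zero, map_sum, Fin.sum_univ_three] at h
    simpa [hp, hG, mul_comm] using h
  set ω := (G 2)⁻¹ • d x with hω
  have hω2 : G 2 • ω = d x := by rw [hω, smul_smul, mul_inv_cancel₀ hfy, one_smul]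
  have hω1 : G 1 • ω = -d y := by
    have : G 2 • (G 1 • ω) = G 2 • (-d y) := by
      rw [smul_comm, hω2, smul_neg]
      exact eq_neg_of_add_eq_zero_left h1
    exact smul_right_injective M hfy this
  have hω0 : G 0 • ω = x • d y - y • d x := by
    rw [show G 0 = -(x * G 1) - y * G 2 by linear_combination h2, sub_smul, neg_smul, mul_smul, mul_smul,
      hω1, hω2, smul_neg, neg_neg]
  -- the new partial derivative
  have hscale : fy' = (u 0)⁻¹ ^ (e - 1) * ∑ i, G i * algebraMap k K (A i 2) := by
    rw [hfy'def, pderiv_subst, map_sum, Finset.mul_sum]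
    refine Finset.sum_congr rfl fun i _ => ?_
    rw [map_mul, aeval_C, aeval_subst]
    have e1 : (fun i => ∑ j, algebraMap k K (A i j) * (![(1 : K), u 1 / u 0, u 2 / u 0] : Fin 3 → K) j) =
        fun i => (u 0)⁻¹ * p i := funext fun l => by
      rw [← hu l, Finset.mul_sum]
      refine Finset.sum_congr rfl fun j _ => ?_
      fin_cases j <;> simp <;> field_simp
    rw [e1, aeval_scale hf.pderiv]
    ring
  have hp0 : (fun i => ∑ j, algebraMap k K (A i j) * u j) = p := funext hu
  have hdp : ∀ i, d (p i) = ∑ j, algebraMap k K (A i j) • d (u j) := fun i => by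
    rw [← hu i, map_sum]
    exact Finset.sum_congr rfl fun j _ => by rw [d.leibniz, d.map_algebraMap, smul_zero, add_zero]
  have key : (∑ i, G i * algebraMap k K (A i 2)) • ω =
      algebraMap k K A.det • (u 0 • d (u 1) - u 1 • d (u 0)) := by
    rw [Finset.sum_smul, Fin.sum_univ_three, mul_comm (G 0), mul_comm (G 1), mul_comm (G 2), mul_smul,
      mul_smul, mul_smul, hω0, hω1, hω2]
    have ex : x = ∑ j, algebraMap k K (A 1 j) * u j := (hu 1).symm
    have ey : y = ∑ j, algebraMap k K (A 2 j) * u j := (hu 2).symm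
    have e0 : (1 : K) = ∑ j, algebraMap k K (A 0 j) * u j := (hu 0).symm
    have dx : d x = ∑ j, algebraMap k K (A 1 j) • d (u j) := hdp 1
    have dy : d y = ∑ j, algebraMap k K (A 2 j) • d (u j) := hdp 2
    have d0 : (0 : M) = ∑ j, algebraMap k K (A 0 j) • d (u j) := by
      have := hdp 0
      simp only [hp, Matrix.cons_val_zero, Derivation.map_one_eq_zero] at this
      exact this
    calc algebraMap k K (A 0 2) • (x • d y - y • d x) + algebraMap k K (A 1 2) • -d y + algebraMap k K (A 2 2) • d x
        = algebraMap k K (A 0 2) • (x • d y - y • d x) +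
          algebraMap k K (A 1 2) • (y • (0 : M) - (1 : K) • d y) +
          algebraMap k K (A 2 2) • ((1 : K) • d x - x • (0 : M)) := by simp
      _ = _ := by
        rw [d0, e0, dx, dy, ex, ey]
        simp only [Fin.sum_univ_three, Matrix.det_fin_three, map_add, map_sub, map_mul]
        module
  have hdx' : u 0 • d (u 1) - u 1 • d (u 0) = (u 0) ^ 2 • d (u 1 / u 0) := by
    rw [Derivation.leibniz_div, smul_smul, ← mul_pow, mul_inv_cancel₀ hu0, one_pow, one_smul]
  rw [hdx'] at key
  simp only [smul_smul] at key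
  have hS : (∑ i, G i * algebraMap k K (A i 2)) ≠ 0 := fun h => hfy' (by
    rw [hscale, h, mul_zero])
  have e2 : ω = ((∑ i, G i * algebraMap k K (A i 2))⁻¹ * (algebraMap k K A.det * u 0 ^ 2)) • d (u 1 / u 0) := by
    rw [mul_smul, ← key, smul_smul, inv_mul_cancel₀ hS, one_smul]
  show ω = _
  rw [e2, hscale]
  congr 1
  rw [mul_inv, inv_pow, inv_inv, show (e : ℤ) - 3 = ((e - 1 : ℕ) : ℤ) - 2 by omega,
    zpow_sub₀ (inv_ne_zero hu0), zpow_natCast, inv_pow]
  field_simp

end Groth.Agent.FF
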