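/-
A function field of genus at least two has at most one rational subfield of index two.
-/
import Groth.Agent.L26.FF.Closed
import Groth.Agent.L26.FF.Quadratic
import Mathlib.RingTheory.AlgebraTower
import Mathlib.Algebra.Polynomial.Basis

open WithZero

namespace Groth.Agent.FF

open FunFld

variable {k K : Type*} [Field k] [Field K] [Algebra k K]

theorem mem_adjoin_of_genus_two (hK : IsFunctionField k K) (hg : 2 ≤ genus k K) {x x' : K}
    (hx : Module.finrank (IntermediateField.adjoin k ({x} : Set K)) K = 2)
    (hx' : Transcendental k x') (hx'' : Module.finrank (IntermediateField.adjoin k ({x'} : Set K)) K = 2) :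
    x' ∈ IntermediateField.adjoin k ({x} : Set K) := by
  classical
  by_contra hmem
  set F := IntermediateField.adjoin k ({x} : Set K) with hF
  have htx : Transcendental k x := fun halg => by
    have h1 : FiniteDimensional k F := IntermediateField.adjoin.finiteDimensional halg.isIntegral
    have : Module.Finite F K := Module.finite_of_finrank_pos (by omega)
    have : Module.Finite k K := Module.Finite.trans F K
    exact hx' (Algebra.IsAlgebraic.isAlgebraic x')
  set n : ℕ := genus k K + 1 with hn
  set D : Divisor k K := n • poles k x + poles k x' with hD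
  have hdeg : D.deg = 2 * (n : ℤ) + 2 := by
    rw [hD, deg_add, deg_nsmul, deg_poles hK.1 htx, deg_poles hK.1 hx', hx, hx'']
    push_cast; ring
  -- independence
  let v : Fin (n + 1) × Fin 2 → K := fun p => x ^ (p.1 : ℕ) * x' ^ (p.2 : ℕ)
  have hv : ∀ p, v p ∈ L D := fun p => by
    intro Q
    have h1 : ∀ (z : K), Q.1 z ≤ exp (poles k z Q) := fun z => val_le_poles hK.1 z Q
    have h2 : ∀ z : K, (0 : ℤ) ≤ poles k z Q := fun z => by simpa using poles_nonneg (k := k) z Q
    rw [map_mul, map_pow, map_pow, hD, Finsupp.add_apply, Finsupp.smul_apply, exp_add]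
    refine mul_le_mul' ((pow_le_pow_left₀ zero_le (h1 x) _).trans ?_) ((pow_le_pow_left₀ zero_le (h1 x') _).trans ?_)
    · rw [← exp_nsmul, exp_le_exp, nsmul_eq_mul, nsmul_eq_mul]
      exact mul_le_mul_of_nonneg_right (by exact_mod_cast (Nat.lt_succ_iff.1 p.1.2)) (h2 x)
    · rw [← exp_nsmul, exp_le_exp, nsmul_eq_mul]
      exact mul_le_of_le_one_left (h2 x') (by exact_mod_cast (Nat.lt_succ_iff.1 p.2.2))
  have hli : LinearIndependent k v := by
    have hb : LinearIndependent F ![(1 : K), x'] := by
      refine LinearIndependent.pair_iff.2 fun s t h => ?_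
      by_cases ht : t = 0
      · subst ht; simpa using h
      · refine absurd ?_ hmem
        have ht' : (t : K) ≠ 0 := fun h0 => ht (Subtype.ext h0)
        rw [Algebra.smul_def, Algebra.smul_def, mul_one] at h
        change (s : K) + (t : K) * x' = 0 at h
        have h' : x' = ((-s / t : F) : K) := by
          push_cast
          rw [eq_div_iff ht']
          linear_combination h
        rw [h']; exact SetLike.coe_mem _
    have hp : LinearIndependent k (fun i : Fin (n + 1) =>
        (⟨x, IntermediateField.mem_adjoin_simple_self k x⟩ : F) ^ (i : ℕ)) := by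
      have htF : Transcendental k (⟨x, IntermediateField.mem_adjoin_simple_self k x⟩ : F) := fun h =>
        htx (h.algHom F.val)
      have := ((Polynomial.basisMonomials k).linearIndependent.map'
        (Polynomial.aeval (⟨x, IntermediateField.mem_adjoin_simple_self k x⟩ : F)).toLinearMap
        (LinearMap.ker_eq_bot.2 (transcendental_iff_injective.1 htF))).comp _ (Fin.val_injective (n := n + 1))
      simpa [Function.comp_def, Polynomial.aeval_monomial] using this
    refine (linearIndependent_equiv' (Equiv.refl _) ?_).1 (linearIndependent_smul hp hb)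
    funext p
    obtain ⟨i, j⟩ := p
    fin_cases j <;> simp [v, Algebra.smul_def]
  have := finite_L hK.1 D
  have hcard : Fintype.card (Fin (n + 1) × Fin 2) ≤ ell D :=
    (LinearIndependent.of_comp (L D).subtype (v := fun p => (⟨v p, hv p⟩ : L D)) hli).fintype_card_le_finrank
  rw [Fintype.card_prod, Fintype.card_fin, Fintype.card_fin] at hcard
  have h := ell_eq_of_deg_ge hK (D := D) (by rw [hdeg, hn]; push_cast; omega)
  rw [hdeg] at h
  omega

theorem adjoin_eq_of_genus_two (hK : IsFunctionField k K) (hg : 2 ≤ genus k K) {x x' : K}
    (hx : Module.finrank (IntermediateField.adjoin k ({x} : Set K)) K = 2)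
    (hx' : Module.finrank (IntermediateField.adjoin k ({x'} : Set K)) K = 2) :
    IntermediateField.adjoin k ({x} : Set K) = IntermediateField.adjoin k ({x'} : Set K) := by
  have key : ∀ {z : K}, Module.finrank (IntermediateField.adjoin k ({z} : Set K)) K = 2 → Transcendental k z := by
    intro z hz halg
    obtain ⟨t, ht⟩ := exists_transcendental hK
    have h1 : FiniteDimensional k (IntermediateField.adjoin k ({z} : Set K)) :=
      IntermediateField.adjoin.finiteDimensional halg.isIntegral
    have : Module.Finite (IntermediateField.adjoin k ({z} : Set K)) K := Module.finite_of_finrank_pos (by omega)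
    have : Module.Finite k K := Module.Finite.trans (IntermediateField.adjoin k ({z} : Set K)) K
    exact ht (Algebra.IsAlgebraic.isAlgebraic t)
  exact le_antisymm
    (IntermediateField.adjoin_simple_le_iff.2 (mem_adjoin_of_genus_two hK hg hx' (key hx) hx))
    (IntermediateField.adjoin_simple_le_iff.2 (mem_adjoin_of_genus_two hK hg hx (key hx') hx'))

end Groth.Agent.FF
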