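/-
Almost all places are nonsingular: a place where a plane model is smooth is nonsingular with
respect to every algebraic constant extension.
-/
import Groth.Agent.L26.FF.ConstBase
import Groth.Agent.L26.FF.PlaneRelation
import Groth.Agent.L26.FF.RR
import Groth.Agent.L26.Res.Sep
import Mathlib.RingTheory.DedekindDomain.Different

open WithZero Polynomial IntermediateField

namespace Groth.Agent.FF

open FunFld

universe u v

section algebra

variable {k K : Type*} [Field k] [Field K] [Algebra k K]

lemma isIntegrallyClosed_adjoin {x : K} (hx : Transcendental k x) :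
    IsIntegrallyClosed (Algebra.adjoin k ({x} : Set K)) := by
  let e : k[X] ≃ₐ[k] Algebra.adjoin k ({x} : Set K) :=
    (AlgEquiv.ofInjective (aeval x : k[X] →ₐ[k] K) (transcendental_iff_injective.1 hx)).trans
      (Subalgebra.equivOfEq _ _ (Algebra.adjoin_singleton_eq_range_aeval k x).symm)
  exact IsIntegrallyClosed.of_equiv e.toRingEquiv

/-- a monic equation of an integral element of a separable extension of `k(x)` -/
lemma exists_separable_equation {x : K} (hx : Transcendental k x)
    [Algebra.IsSeparable k⟮x⟯ K] {y : K} (hy : IsIntegral (Algebra.adjoin k ({x} : Set K)) y) :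
    ∃ f : (Algebra.adjoin k ({x} : Set K))[X], f.Monic ∧ aeval y f = 0 ∧ aeval y (derivative f) ≠ 0 := by
  have := isIntegrallyClosed_adjoin hx
  refine ⟨minpoly (Algebra.adjoin k ({x} : Set K)) y, minpoly.monic hy, minpoly.aeval _ _, ?_⟩
  open scoped IntermediateField.algebraAdjoinAdjoin in
  have h1 : minpoly k⟮x⟯ y = (minpoly (Algebra.adjoin k ({x} : Set K)) y).map
      (algebraMap (Algebra.adjoin k ({x} : Set K)) k⟮x⟯) :=
    minpoly.isIntegrallyClosed_eq_field_fractions' _ hy
  open scoped IntermediateField.algebraAdjoinAdjoin in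
  have h2 := (Algebra.IsSeparable.isSeparable k⟮x⟯ y).aeval_derivative_ne_zero (minpoly.aeval k⟮x⟯ y)
  open scoped IntermediateField.algebraAdjoinAdjoin in
  rwa [h1, derivative_map, aeval_map_algebraMap] at h2

/-- a generator integral over `k[x]` -/
lemma exists_integral_generator (hK : IsFunctionField k K) {x : K} (hx : Transcendental k x)
    [Algebra.IsSeparable k⟮x⟯ K] :
    ∃ y : K, IsIntegral (Algebra.adjoin k ({x} : Set K)) y ∧ adjoin k ({x, y} : Set K) = ⊤ := by
  have := finite_over_adjoin hK.1 hx
  obtain ⟨y, hy⟩ := Field.exists_primitive_element k⟮x⟯ K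
  have hxy : adjoin k ({x, y} : Set K) = ⊤ := by
    rw [← IntermediateField.adjoin_simple_adjoin_simple, hy, IntermediateField.restrictScalars_top]
  open scoped IntermediateField.algebraAdjoinAdjoin in
  have halg : IsAlgebraic (Algebra.adjoin k ({x} : Set K)) y :=
    (IsFractionRing.isAlgebraic_iff (Algebra.adjoin k ({x} : Set K)) k⟮x⟯ K).2
      (Algebra.IsIntegral.isIntegral y).isAlgebraic
  obtain ⟨r, hr0, hr⟩ := halg.exists_integral_multiple
  refine ⟨r • y, hr, ?_⟩
  rw [eq_top_iff, ← hxy, adjoin_le_iff]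
  have hxm : x ∈ adjoin k ({x, r • y} : Set K) := subset_adjoin _ _ (Set.mem_insert _ _)
  have hrm : (r : K) ∈ adjoin k ({x, r • y} : Set K) :=
    (Algebra.adjoin_le (S := (adjoin k ({x, r • y} : Set K)).toSubalgebra)
      (Set.singleton_subset_iff.2 hxm)) r.2
  rintro t (rfl | rfl)
  · exact hxm
  · have hy' : (r : K) * t ∈ adjoin k ({x, r • t} : Set K) :=
      subset_adjoin _ _ (Set.mem_insert_of_mem _ rfl)
    have hr0' : (r : K) ≠ 0 := fun h => hr0 (Subtype.ext h)
    have := mul_mem (inv_mem hrm) hy'
    rwa [inv_mul_cancel_left₀ hr0'] at this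

lemma finite_val_ne_one (hK : IsFunctionField k K) {z : K} (hz : z ≠ 0) :
    {P : Place k K | P.1 z ≠ 1}.Finite :=
  (finite_support_ord hK.1 z).subset fun P hP h0 => hP ((val_eq_one_iff P hz).2 h0)

lemma finite_one_lt_val (hK : IsFunctionField k K) (z : K) :
    {P : Place k K | 1 < P.1 z}.Finite := by
  rcases eq_or_ne z 0 with rfl | hz
  · exact Set.Finite.subset Set.finite_empty fun P hP => by simp at hP
  · exact (finite_val_ne_one hK hz).subset fun P hP => (ne_of_lt hP).symm

/-- a multiplier making finitely many elements integral over `k[x]`, a unit at `P` -/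
lemma exists_multiplier (hK : IsFunctionField k K) {x : K} (hx : Transcendental k x)
    (P : Place k K) (hPx : P.1 x ≤ 1) (t : Finset K) (ht : ∀ a ∈ t, P.1 a ≤ 1) :
    ∃ s : K, P.1 s = 1 ∧ (∀ Q : Place k K, Q.1 x ≤ 1 → Q.1 s ≤ 1) ∧
      ∀ (a : K) (j : ℕ), a ∈ t → 0 < j → ∀ Q : Place k K, Q.1 x ≤ 1 → Q.1 (a * s ^ j) ≤ 1 := by
  classical
  obtain ⟨R, hR⟩ := exists_pole hK.1 hx
  have hfin : ({Q : Place k K | Q.1 x ≤ 1 ∧ ∃ a ∈ t, 1 < Q.1 a}).Finite :=
    (t.finite_toSet.biUnion fun a _ => finite_one_lt_val hK a).subset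
      fun Q ⟨_, a, ha, h⟩ => Set.mem_biUnion (Finset.mem_coe.2 ha) h
  let S := hfin.toFinset
  have hPS : P ∉ S := fun h => by
    obtain ⟨_, a, ha, h'⟩ := hfin.mem_toFinset.1 h
    exact absurd h' (not_lt.2 (ht a ha))
  have hRS : R ∉ insert P S := by
    rw [Finset.mem_insert]
    rintro (rfl | h)
    · exact absurd hR (not_lt.2 hPx)
    · exact absurd hR (not_lt.2 (hfin.mem_toFinset.1 h).1)
  obtain ⟨h, hh, hh'⟩ := strong_approximation hK R (insert P S) hRS
    (fun Q => if Q = P then 1 else 0) (fun _ => 1)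
  have hP1 : P.1 h = 1 := by
    have h1 := hh P (Finset.mem_insert_self _ _)
    rw [if_pos rfl] at h1
    have h2 : P.1 (h - 1) < P.1 1 := by rw [h1, map_one, exp_lt_one']; omega
    calc P.1 h = P.1 ((h - 1) + 1) := by rw [sub_add_cancel]
      _ = P.1 1 := P.1.map_add_eq_of_lt_right h2
      _ = 1 := map_one _
  have hQS : ∀ Q ∈ S, Q.1 h = exp (-1) := fun Q hQ => by
    have h1 := hh Q (Finset.mem_insert_of_mem hQ)
    rwa [if_neg (fun e : Q = P => hPS (e ▸ hQ)), sub_zero] at h1
  have haff : ∀ Q : Place k K, Q.1 x ≤ 1 → Q.1 h ≤ 1 := fun Q hQ => by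
    by_cases hQ' : Q ∈ insert P S
    · rcases Finset.mem_insert.1 hQ' with rfl | hQ''
      · exact hP1.le
      · rw [hQS Q hQ'', exp_le_one']; omega
    · exact hh' Q (fun e => absurd hR (not_lt.2 (e ▸ hQ))) hQ'
  obtain ⟨N, hN⟩ : ∃ N : ℕ, ∀ Q ∈ S, ∀ a ∈ t, -(Q.ord a) ≤ (N : ℤ) := by
    refine ⟨S.sup fun Q => t.sup fun a => (-(Q.ord a)).toNat, fun Q hQ a ha => ?_⟩
    have h2 : (-(Q.ord a)).toNat ≤ S.sup fun Q => t.sup fun a => (-(Q.ord a)).toNat :=
      (Finset.le_sup (f := fun a => (-(Q.ord a)).toNat) ha).trans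
        (Finset.le_sup (f := fun Q => t.sup fun a => (-(Q.ord a)).toNat) hQ)
    omega
  refine ⟨h ^ N, by rw [map_pow, hP1, one_pow], fun Q hQ => ?_, fun a j ha hj Q hQ => ?_⟩
  · rw [map_pow]
    exact pow_le_one₀ zero_le (haff Q hQ)
  · rw [map_mul, map_pow, map_pow, ← pow_mul]
    by_cases hQS' : Q ∈ S
    · rcases eq_or_ne a 0 with rfl | ha0
      · simp
      rw [hQS Q hQS', val_eq_exp Q ha0, ← exp_nsmul, ← exp_add, exp_le_one', nsmul_eq_mul]
      have h1 := hN Q hQS' a ha
      have h2 : N ≤ N * j := Nat.le_mul_of_pos_right N hj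
      push_cast
      nlinarith [h1, (show (N : ℤ) ≤ (N : ℤ) * j by exact_mod_cast h2)]
    · have h1 : Q.1 a ≤ 1 := not_lt.1 fun h' => hQS' (hfin.mem_toFinset.2 ⟨hQ, a, ha, h'⟩)
      exact mul_le_one₀ h1 zero_le (pow_le_one₀ zero_le (haff Q hQ))

/-- The trace argument: `f'(y)` times an integral element lies in `A[y]`. -/
lemma derivative_mul_mem_adjoin {A F L : Type*} [CommRing A] [IsDomain A] [IsIntegrallyClosed A]
    [Field F] [Field L] [Algebra A F] [IsFractionRing A F] [Algebra F L] [Algebra A L]
    [IsScalarTower A F L] {y w : L} {f : A[X]} (hfm : f.Monic) (hf0 : aeval y f = 0)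
    (hfd : aeval y (derivative f) ≠ 0) (hgen : F⟮y⟯ = ⊤) (hw : IsIntegral A w) :
    aeval y (derivative f) * w ∈ Algebra.adjoin A ({y} : Set L) := by
  have : FaithfulSMul A L := FaithfulSMul.trans A F L
  have : Module.IsTorsionFree A L := FaithfulSMul.to_isTorsionFree ..
  have hy : IsIntegral A y := ⟨f, hfm, hf0⟩
  obtain ⟨q, hq⟩ := minpoly.isIntegrallyClosed_dvd hy hf0
  have hfac : aeval y (derivative f) = aeval y (derivative (minpoly A y)) * aeval y q := by
    rw [hq, derivative_mul, map_add, map_mul, map_mul, minpoly.aeval, zero_mul, add_zero]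
  have hd0 : aeval y (derivative (minpoly A y)) ≠ 0 := fun e => hfd (by rw [hfac, e, zero_mul])
  have hμd : aeval y (derivative (minpoly F y)) = aeval y (derivative (minpoly A y)) := by
    rw [minpoly.isIntegrallyClosed_eq_field_fractions' F hy, derivative_map, aeval_map_algebraMap]
  have hyF : IsIntegral F y := hy.tower_top
  have hsep : IsSeparable F y := (separable_iff_derivative_ne_zero (minpoly.irreducible hyF)).2
    fun e => hd0 (by rw [← hμd, e, map_zero])
  have : FiniteDimensional F L := by
    have := IntermediateField.adjoin.finiteDimensional hyF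
    rw [hgen] at this
    exact (IntermediateField.topEquiv (F := F) (E := L)).toLinearEquiv.finiteDimensional
  have : Algebra.IsSeparable F L := by
    have := (isSeparable_adjoin_simple_iff_isSeparable F L).2 hsep
    rw [hgen] at this
    exact Algebra.IsSeparable.of_algHom F _ (IntermediateField.topEquiv (F := F) (E := L)).symm.toAlgHom
  have hadj : Algebra.adjoin F ({y} : Set L) = ⊤ := by
    rw [← IntermediateField.adjoin_simple_toSubalgebra_of_isAlgebraic hyF.isAlgebraic, hgen, top_toSubalgebra]
  have hdual : w ∈ (Algebra.traceForm F L).dualSubmodule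
      (Subalgebra.toSubmodule (Algebra.adjoin A ({y} : Set L))) := by
    rw [LinearMap.BilinForm.mem_dualSubmodule]
    intro b hb
    have hbint : IsIntegral A b :=
      (Algebra.adjoin_le (S := integralClosure A L) (Set.singleton_subset_iff.2 hy)) hb
    rw [Algebra.traceForm_apply, Submodule.mem_one]
    exact IsIntegrallyClosed.isIntegral_iff.1 (Algebra.isIntegral_trace (hw.mul hbint))
  rw [traceForm_dualSubmodule_adjoin A F hadj hy, hμd] at hdual
  have hmem : aeval y (derivative (minpoly A y)) * w ∈ Algebra.adjoin A ({y} : Set L) := by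
    open Pointwise in
    obtain ⟨b, hb, e⟩ := hdual
    change _ = w at e
    rw [← e]
    simp only [DistribSMul.toLinearMap_apply, smul_eq_mul, mul_inv_cancel_left₀ hd0]
    exact hb
  rw [hfac, mul_comm (aeval y (derivative (minpoly A y))), mul_assoc]
  exact mul_mem (Polynomial.aeval_mem_adjoin_singleton A y) hmem

end algebra

section main

attribute [-instance] Algebra.instCommRingAdjoinSingleton

variable {k k' : Type*} {K K' : Type*} [Field k] [Field k'] [Field K] [Field K']
  [Algebra k k'] [Algebra k K] [Algebra K K'] [Algebra k' K'] [Algebra k K']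
  [IsScalarTower k k' K'] [IsScalarTower k K K']

/-- A place at which the affine plane curve `f(x, y) = 0` is smooth in the `y` direction is
nonsingular with respect to every algebraic constant extension that is a field. -/
theorem integralClosure_eq_of_smooth [Algebra.IsAlgebraic k k']
    (h : Function.Surjective (Algebra.TensorProduct.productMap
      (IsScalarTower.toAlgHom k k' K') (IsScalarTower.toAlgHom k K K')))
    (hK : IsFunctionField k K) {x y : K} (hx : Transcendental k x)
    (hxy : adjoin k ({x, y} : Set K) = ⊤)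
    (f : (Algebra.adjoin k ({x} : Set K))[X]) (hfm : f.Monic) (hf0 : aeval y f = 0)
    (hfd : aeval y (derivative f) ≠ 0)
    (P : Place k K) (hPx : P.1 x ≤ 1) (hPy : P.1 y ≤ 1) (hPd : P.1 (aeval y (derivative f)) = 1) :
    integralClosure (P.O.toSubring.map (algebraMap K K')) K' =
      Algebra.adjoin (P.O.toSubring.map (algebraMap K K')) (Set.range (algebraMap k' K')) := by
  classical
  set S := P.O.toSubring.map (algebraMap K K') with hS
  set B := Algebra.adjoin S (Set.range (algebraMap k' K')) with hB
  have hO : ∀ a : K, P.1 a ≤ 1 → algebraMap K K' a ∈ B := fun a ha =>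
    B.algebraMap_mem (⟨algebraMap K K' a, Subring.mem_map.2 ⟨a, ha, rfl⟩⟩ : S)
  have hk' : ∀ c : k', algebraMap k' K' c ∈ B := fun c => Algebra.subset_adjoin ⟨c, rfl⟩
  apply le_antisymm
  swap
  · rw [Algebra.adjoin_le_iff]
    rintro _ ⟨c, rfl⟩
    have hc : IsIntegral k c := (Algebra.IsAlgebraic.isAlgebraic c).isIntegral
    have hc' : IsIntegral k (algebraMap k' K' c) := hc.map (IsScalarTower.toAlgHom k k' K')
    let φ : k →+* S := (algebraMap k K').codRestrict S fun c' =>
      Subring.mem_map.2 ⟨algebraMap k K c', P.2.1 c', (IsScalarTower.algebraMap_apply k K K' c').symm⟩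
    exact hc'.map_of_comp_eq φ (RingHom.id K') (by ext; rfl)
  intro z hz
  -- notation
  set x' := algebraMap K K' x with hx'def
  set y' := algebraMap K K' y with hy'def
  have hx' : Transcendental k' x' := transcendental_const hx
  let R := Algebra.adjoin k ({x} : Set K)
  let A := Algebra.adjoin k' ({x'} : Set K')
  have hRA : ∀ a ∈ R, algebraMap K K' a ∈ A := fun a ha => by
    have h1 : R.map (IsScalarTower.toAlgHom k K K') ≤ A.restrictScalars k := by
      rw [AlgHom.map_adjoin, Set.image_singleton, Algebra.adjoin_le_iff, Set.singleton_subset_iff]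
      show algebraMap K K' x ∈ A
      exact Algebra.subset_adjoin (Set.mem_singleton (algebraMap K K' x))
    exact h1 (Subalgebra.mem_map.2 ⟨a, ha, rfl⟩)
  let φ : R →+* A := ((algebraMap K K').comp R.val.toRingHom).codRestrict A fun a => hRA a a.2
  have hφ : (algebraMap A K').comp φ = (algebraMap K K').comp (algebraMap R K) := by ext; rfl
  have hint : ∀ a : K, IsIntegral R a → IsIntegral A (algebraMap K K' a) := fun a ha =>
    ha.map_of_comp_eq φ (algebraMap K K') hφ
  have : IsIntegrallyClosed A := isIntegrallyClosed_adjoin hx'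
  -- the equation over `A`
  set f' := f.map φ with hf'
  have hev : ∀ g : R[X], aeval y' (g.map φ) = algebraMap K K' (aeval y g) := fun g => by
    rw [aeval_def, eval₂_map, hφ, ← hom_eval₂, ← aeval_def]
  have hf'm : f'.Monic := hfm.map _
  have hf'0 : aeval y' f' = 0 := by rw [hev, hf0, map_zero]
  have hf'd : aeval y' (derivative f') = algebraMap K K' (aeval y (derivative f)) := by
    rw [derivative_map, hev]
  have hf'd0 : aeval y' (derivative f') ≠ 0 := by
    rw [hf'd]; exact fun e => hfd ((map_eq_zero _).1 e)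
  have hgen : (k'⟮x'⟯)⟮y'⟯ = ⊤ := by
    set E := (k'⟮x'⟯)⟮y'⟯
    have hxE : x' ∈ E := E.algebraMap_mem ⟨x', mem_adjoin_simple_self k' x'⟩
    have hyE : y' ∈ E := mem_adjoin_simple_self _ y'
    have hkE : ∀ c : k', algebraMap k' K' c ∈ E := fun c => E.algebraMap_mem (algebraMap k' k'⟮x'⟯ c)
    have hKE : ∀ a : K, algebraMap K K' a ∈ E := fun a => by
      let F₀ : IntermediateField k K :=
        { E.toSubfield.comap (algebraMap K K') with
          algebraMap_mem' := fun c => show algebraMap K K' (algebraMap k K c) ∈ E by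
            rw [← IsScalarTower.algebraMap_apply k K K', IsScalarTower.algebraMap_apply k k' K']
            exact hkE _ }
      have h1 : adjoin k ({x, y} : Set K) ≤ F₀ := adjoin_le_iff.2 (by
        rintro t (rfl | rfl)
        · exact hxE
        · exact hyE)
      exact (hxy ▸ h1) (mem_top : a ∈ (⊤ : IntermediateField k K))
    rw [eq_top_iff]
    intro w hwtop
    clear hwtop
    obtain ⟨v, rfl⟩ := h w
    induction v using TensorProduct.induction_on with
    | zero => rw [map_zero]; exact zero_mem _
    | tmul c a =>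
      rw [Algebra.TensorProduct.productMap_apply_tmul]
      exact mul_mem (hkE c) (hKE a)
    | add a b ha hb => rw [map_add]; exact add_mem ha hb
  -- an integral equation of `z`
  obtain ⟨p, hpm, hp0⟩ := hz
  let ψ : P.O →+* K' := (algebraMap K K').comp P.O.subtype
  have hψ : p.map S.subtype ∈ lifts ψ := (lifts_iff_coeff_lifts _).2 fun i => by
    obtain ⟨a, ha, ha'⟩ := Subring.mem_map.1 (p.coeff i).2
    exact ⟨⟨a, ha⟩, by rw [coeff_map]; exact ha'⟩
  obtain ⟨p₀, hp₀, -, hp₀m⟩ := lifts_and_natDegree_eq_and_monic hψ (hpm.map _)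
  set g := p₀.map P.O.subtype with hg
  have hgm : g.Monic := hp₀m.map _
  have hg0 : eval₂ (algebraMap K K') z g = 0 := by
    rw [hg, eval₂_map, ← eval_map, show (algebraMap K K').comp P.O.subtype = ψ from rfl, hp₀,
      eval_map]
    exact hp0
  have hgO : ∀ i, P.1 (g.coeff i) ≤ 1 := fun i => by rw [hg, coeff_map]; exact (p₀.coeff i).2
  obtain ⟨s, hs1, hs2, hs3⟩ := exists_multiplier hK hx P hPx
    ((Finset.range g.natDegree).image g.coeff) (fun a ha => by
      obtain ⟨i, -, rfl⟩ := Finset.mem_image.1 ha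
      exact hgO i)
  -- `z * s` is integral over `A`
  set w := algebraMap K K' s * z with hw
  have hwroot : eval₂ (algebraMap K K') w (scaleRoots g s) = 0 := scaleRoots_eval₂_eq_zero _ hg0
  have hcoef : ∀ i, IsIntegral A ((scaleRoots g s).map (algebraMap K K') |>.coeff i) := fun i => by
    rw [coeff_map, coeff_scaleRoots]
    refine hint _ (isIntegral_adjoin_of_val hK fun Q hQ => ?_)
    rcases lt_trichotomy i g.natDegree with hi | hi | hi
    · exact hs3 _ _ (Finset.mem_image_of_mem _ (Finset.mem_range.2 hi)) (by omega) Q hQ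
    · rw [hi, Nat.sub_self, pow_zero, mul_one, ← leadingCoeff, hgm.leadingCoeff, map_one]
    · rw [coeff_eq_zero_of_natDegree_lt hi, zero_mul, map_zero]; exact zero_le
  have hwint : IsIntegral A w := by
    have hl : (scaleRoots g s).map (algebraMap K K') ∈ lifts (algebraMap (integralClosure A K') K') :=
      (lifts_iff_coeff_lifts _).2 fun i => ⟨⟨_, hcoef i⟩, rfl⟩
    obtain ⟨g', hg', -, hg'm⟩ :=
      lifts_and_natDegree_eq_and_monic hl (((monic_scaleRoots_iff s).2 hgm).map _)
    refine isIntegral_trans (A := integralClosure A K') w ⟨g', hg'm, ?_⟩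
    rw [← eval_map, hg', eval_map]
    exact hwroot
  -- the trace argument
  have hmem' : aeval y' (derivative f') * w ∈ Algebra.adjoin A ({y'} : Set K') := by
    open scoped IntermediateField.algebraAdjoinAdjoin in
    exact @derivative_mul_mem_adjoin (Algebra.adjoin k' ({x'} : Set K')) k'⟮x'⟯ K' _ _ _ _ _ _ (IntermediateField.algebraAdjoinAdjoin.instIsFractionRingSubtypeMemSubalgebraAdjoinAdjoin k' ({x'} : Set K')) _ _ _ _ _ _ hf'm hf'0 hf'd0 hgen hwint
  have hAB : ∀ a ∈ Algebra.adjoin A ({y'} : Set K'), a ∈ B := fun a ha => by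
    induction ha using Algebra.adjoin_induction with
    | mem t ht => rw [Set.mem_singleton_iff.1 ht]; exact hO y hPy
    | algebraMap r =>
      obtain ⟨r, hr⟩ := r
      show r ∈ B
      induction hr using Algebra.adjoin_induction with
      | mem t ht => rw [Set.mem_singleton_iff.1 ht]; exact hO x hPx
      | algebraMap c => exact hk' c
      | add a b _ _ ha hb => exact add_mem ha hb
      | mul a b _ _ ha hb => exact mul_mem ha hb
    | add a b _ _ ha hb => exact add_mem ha hb
    | mul a b _ _ ha hb => exact mul_mem ha hb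
  have hfin := hAB _ hmem'
  rw [hf'd, hw, ← mul_assoc, ← map_mul] at hfin
  have hu : P.1 (aeval y (derivative f) * s) = 1 := by rw [map_mul, hPd, hs1, one_mul]
  have hu0 : algebraMap K K' (aeval y (derivative f) * s) ≠ 0 := fun e => by
    rw [(map_eq_zero _).1 e, map_zero] at hu
    exact zero_ne_one hu
  have := mul_mem (hO (aeval y (derivative f) * s)⁻¹ (by rw [map_inv₀, hu, inv_one])) hfin
  rwa [map_inv₀, inv_mul_cancel_left₀ hu0] at this

end main

/-- Almost all places are nonsingular. -/
theorem finite_singular {k : Type u} {K : Type v} [Field k] [Field K] [Algebra k K]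
    (hK : IsFunctionField k K) (hg : IsGeometric k K) :
    ∃ T : Finset (Place k K), ∀ P ∉ T, ∀ (k' : Type u) (K' : Type (max u v)) [Field k'] [Field K']
      [Algebra k k'] [Algebra.IsAlgebraic k k'] [Algebra K K'] [Algebra k' K'] [Algebra k K']
      [IsScalarTower k k' K'] [IsScalarTower k K K'],
      Function.Surjective (Algebra.TensorProduct.productMap
        (IsScalarTower.toAlgHom k k' K') (IsScalarTower.toAlgHom k K K')) →
      integralClosure (P.O.toSubring.map (algebraMap K K')) K' =
        Algebra.adjoin (P.O.toSubring.map (algebraMap K K')) (Set.range (algebraMap k' K')) := by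
  classical
  obtain ⟨x, hx, hsep⟩ := Res.exists_separating hK hg
  obtain ⟨y, hy, hxy⟩ := exists_integral_generator hK hx
  obtain ⟨f, hfm, hf0, hfd⟩ := exists_separable_equation hx hy
  refine ⟨((finite_one_lt_val hK x).union ((finite_one_lt_val hK y).union
    (finite_val_ne_one hK hfd))).toFinset, fun P hP k' K' => ?_⟩
  simp only [Set.Finite.mem_toFinset, Set.mem_union, Set.mem_ofPred_eq, not_or, not_lt, not_not] at hP
  intro _ _ _ _ _ _ _ _ _ h
  exact integralClosure_eq_of_smooth h hK hx hxy f hfm hf0 hfd P hP.1 hP.2.1 hP.2.2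

end Groth.Agent.FF
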