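/-
Small facts on linear equivalence in genus two.
-/
import Groth.Agent.L26.FF.RR
import Groth.Agent.L26.FF.Closed

open WithZero

namespace Groth.Agent.FF

open FunFld

variable {k K : Type*} [Field k] [IsAlgClosed k] [Field K] [Algebra k K]

lemma one_mem_L_of_nonneg {D : Divisor k K} (h : 0 ≤ D) : (1 : K) ∈ L D :=
  (mem_L_iff_ord one_ne_zero).2 fun R => by
    rw [show R.ord (1 : K) = 0 from (val_eq_one_iff R one_ne_zero).1 (map_one _)]
    have := h R
    simp only [Finsupp.zero_apply] at this
    omega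

/-- A degree zero divisor with a section is principal. -/
lemma principal_of_deg_zero (hK : IsFunctionField k K) {D : Divisor k K} (hd : D.deg = 0) (hl : 0 < ell D) :
    ∃ z : K, z ≠ 0 ∧ div k z + D = 0 := by
  obtain ⟨z, hz, hz0⟩ := exists_ne_zero_of_ell_pos hl
  exact ⟨z, hz0, eq_zero_of_deg_zero hK ((mem_L_iff_div hK.1 hz0).1 hz)
    (by rw [deg_add, deg_div hK.1, hd, add_zero])⟩

/-- The only effective divisor equivalent to `D ≥ 0` with `ℓ(D) = 1` is `D`. -/
lemma eq_of_equiv_of_ell_one (hK : IsFunctionField k K) {D E : Divisor k K} (hD : 0 ≤ D) (hE : 0 ≤ E)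
    (hl : ell D = 1) {x : K} (hx : x ≠ 0) (h : div k x + D = E) : E = D := by
  have hxD : x ∈ L D := (mem_L_iff_div hK.1 hx).2 (h ▸ hE)
  haveI := finite_L hK.1 D
  obtain ⟨c, hc⟩ := (finrank_eq_one_iff_of_nonzero' (⟨1, one_mem_L_of_nonneg hD⟩ : L D)
    (fun e => one_ne_zero (congrArg Subtype.val e))).1 hl ⟨x, hxD⟩
  have e : x = algebraMap k K c := by
    have := congrArg Subtype.val hc
    simpa [Algebra.smul_def] using this.symm
  rw [← h, e, div_const hK.1, zero_add]

/-- A base point of `C + S`. -/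
lemma base_point (hK : IsFunctionField k K) (hg : genus k K = 2) {C : Divisor k K}
    (hC : IsCanonical k K C) (S : Place k K) {x : K} (hx : x ≠ 0) {E : Divisor k K} (hE : 0 ≤ E)
    (h : div k x + (C + Finsupp.single S 1) = E) : 1 ≤ E S := by
  classical
  obtain ⟨eC, dC⟩ := ell_canonical hK hC
  have hd : ell (C + Finsupp.single S 1) = 2 := by
    have := ell_eq_of_deg_ge hK (D := C + Finsupp.single S 1)
      (by rw [deg_add, deg_single, deg_eq_one hK, dC, hg]; norm_num)
    rw [deg_add, deg_single, deg_eq_one hK, dC, hg] at this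
    omega
  have hle : (C : Divisor k K) ≤ C + Finsupp.single S 1 := fun Q => by
    rw [Finsupp.add_apply, Finsupp.single_apply]; split_ifs <;> omega
  haveI := finite_L hK.1 (C + Finsupp.single S 1)
  have heq : L C = L (C + Finsupp.single S 1) :=
    Submodule.eq_of_le_of_finrank_le (L_mono hle) (by
      show ell (C + Finsupp.single S 1) ≤ ell C
      rw [eC, hg, hd])
  have hxC : x ∈ L C := heq ▸ (mem_L_iff_div hK.1 hx).2 (h ▸ hE)
  have h1 := (mem_L_iff_div hK.1 hx).1 hxC S
  rw [← h]
  simp only [Finsupp.add_apply, Finsupp.zero_apply, Finsupp.single_eq_same] at h1 ⊢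
  omega

end Groth.Agent.FF
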