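/-
A separably generated function field with algebraically closed constant field is geometric.
-/
import Groth.Agent.L26.FF.Basic
import Mathlib.FieldTheory.PrimitiveElement
import Mathlib.FieldTheory.SeparableClosure
import Mathlib.FieldTheory.PurelyInseparable.Tower
import Mathlib.FieldTheory.IsAlgClosed.AlgebraicClosure
import Mathlib.RingTheory.IntegralClosure.IntegrallyClosed
import Mathlib.RingTheory.Polynomial.GaussLemma
import Mathlib.LinearAlgebra.FreeModule.Finite.Basic

open scoped TensorProduct
open Polynomial IntermediateField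

namespace Groth.Agent.FF

open FunFld

universe u v

variable {k : Type u} {K : Type v} [Field k] [Field K] [Algebra k K]

/-- A separable constant extension stays of the same degree over `K`. -/
theorem lift_injective_of_separable (hK : IsFunctionField k K) {k' : Type u} [Field k'] [Algebra k k']
    [FiniteDimensional k k'] [Algebra.IsSeparable k k'] {Ω : Type*} [Field Ω] [Algebra k Ω] [Algebra K Ω]
    [IsScalarTower k K Ω] (σ : k' →ₐ[k] Ω) :
    Function.Injective (Algebra.TensorProduct.lift (Algebra.ofId K Ω) σ fun _ _ => Commute.all _ _) := by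
  obtain ⟨θ, hθ⟩ := Field.exists_primitive_element k k'
  have hθi : IsIntegral k θ := .of_finite k θ
  set p := minpoly k θ with hp
  have hpn : p.natDegree = Module.finrank k k' := by
    rw [hp, ← IntermediateField.adjoin.finrank hθi, hθ, IntermediateField.finrank_top']
  have hσi : IsIntegral K (σ θ) := (hθi.map σ).tower_top
  set q := minpoly K (σ θ) with hq
  have hqp : q ∣ p.map (algebraMap k K) :=
    minpoly.dvd K _ (by rw [aeval_map_algebraMap, aeval_algHom_apply, minpoly.aeval, map_zero])
  obtain ⟨g, hg, -, -⟩ := Polynomial.lifts_and_natDegree_eq_and_monic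
    (f := algebraMap (integralClosure k K) K)
    (integralClosure.mem_lifts_of_monic_of_dvd_map (R := k) K (minpoly.monic hθi) (minpoly.monic hσi) hqp)
    (minpoly.monic hσi)
  have hq0 : q ∈ lifts (algebraMap k K) := by
    refine (lifts_iff_coeff_lifts q).2 fun n => hK.2 _ ?_
    rw [hq, ← hg, coeff_map]
    exact (g.coeff n).2.isAlgebraic
  obtain ⟨q₀, hq₀, hq₀d, hq₀m⟩ := lifts_and_natDegree_eq_and_monic hq0 (minpoly.monic hσi)
  have hle : p.natDegree ≤ q.natDegree := by
    rw [← hq₀d]
    refine natDegree_le_of_dvd (minpoly.dvd k θ (σ.toRingHom.injective ?_)) hq₀m.ne_zero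
    show σ (aeval θ q₀) = σ 0
    rw [map_zero, ← aeval_algHom_apply, ← aeval_map_algebraMap K, hq₀, hq, minpoly.aeval]
  let f : K ⊗[k] k' →ₐ[K] Ω :=
    Algebra.TensorProduct.lift (Algebra.ofId K _) σ fun _ _ => Commute.all _ _
  have hmem : Algebra.adjoin K {σ θ} ≤ f.range := Algebra.adjoin_le fun z hz => by
    rw [Set.mem_singleton_iff] at hz
    exact ⟨1 ⊗ₜ θ, by show f (1 ⊗ₜ θ) = z; rw [Algebra.TensorProduct.lift_tmul, map_one, one_mul, hz]⟩
  have h1 : q.natDegree ≤ Module.finrank K f.range := by
    have h2 : Module.finrank K (Algebra.adjoin K {σ θ}) = q.natDegree := by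
      rw [← IntermediateField.adjoin_simple_toSubalgebra_of_isAlgebraic hσi.isAlgebraic]
      exact IntermediateField.adjoin.finrank hσi
    have : Module.Finite K (LinearMap.range f.toLinearMap) := Module.Finite.range _
    rw [← h2]
    exact Submodule.finrank_mono (s := Subalgebra.toSubmodule (Algebra.adjoin K {σ θ}))
      (t := LinearMap.range f.toLinearMap) hmem
  have h3 := LinearMap.finrank_range_add_finrank_ker f.toLinearMap
  rw [Module.finrank_baseChange, ← hpn] at h3
  have h4 : Module.finrank K (LinearMap.range f.toLinearMap) = Module.finrank K f.range := rfl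
  exact LinearMap.ker_eq_bot.1 (Submodule.finrank_eq_zero.1 (by omega) : LinearMap.ker f.toLinearMap = ⊥)

/-- A basis of `k'` over `s` stays independent over `s(x)`, `x` transcendental over `k'`. -/
lemma linearIndependent_over_adjoin {s k' Ω : Type*} [Field s] [Field k'] [Field Ω] [Algebra s k']
    [Algebra k' Ω] [Algebra s Ω] [IsScalarTower s k' Ω] {xΩ : Ω} (hxT : Transcendental k' xΩ)
    {ι : Type*} [Fintype ι] (b : ι → k') (hb : LinearIndependent s b) :
    LinearIndependent s⟮xΩ⟯ fun i => algebraMap k' Ω (b i) := by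
  classical
  rw [Fintype.linearIndependent_iff]
  intro r hr'
  replace hr' : ∑ i, (r i : Ω) * algebraMap k' Ω (b i) = 0 := hr'
  choose P Q hPQ using fun i => (IntermediateField.mem_adjoin_simple_iff s (r i : Ω)).1 (r i).2
  have hne : ∀ R : s[X], R ≠ 0 → aeval xΩ R ≠ 0 := fun R hR h0 => hR (by
    refine Polynomial.map_injective (algebraMap s k') (algebraMap s k').injective ?_
    rw [Polynomial.map_zero]
    refine transcendental_iff.1 hxT _ ?_
    rwa [aeval_map_algebraMap])
  intro i
  by_contra hri
  have hr0 : (r i : Ω) ≠ 0 := fun h0 => hri (Subtype.ext h0)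
  have hPi : P i ≠ 0 := fun h0 => hr0 (by rw [hPQ i, h0, map_zero, zero_div])
  -- the indices with nonzero coefficient
  let T := Finset.univ.filter fun i => (r i : Ω) ≠ 0
  have hQ : ∀ j ∈ T, Q j ≠ 0 := fun j hj h0 => (Finset.mem_filter.1 hj).2 (by
    rw [hPQ j, h0, map_zero, div_zero])
  let R : ι → s[X] := fun j => P j * ∏ l ∈ T.erase j, Q l
  have hsum : ∑ j ∈ T, C (b j) * (R j).map (algebraMap s k') = 0 := by
    refine transcendental_iff.1 hxT _ ?_
    rw [map_sum]
    have h1 : ∀ j ∈ T, aeval xΩ (C (b j) * (R j).map (algebraMap s k')) =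
        ((r j : Ω) * algebraMap k' Ω (b j)) * ∏ l ∈ T, aeval xΩ (Q l) := fun j hj => by
      rw [map_mul, aeval_C, aeval_map_algebraMap, map_mul, map_prod, ← Finset.mul_prod_erase T _ hj, hPQ j]
      rw [show aeval xΩ (P j) / aeval xΩ (Q j) * algebraMap k' Ω (b j) * (aeval xΩ (Q j) * ∏ l ∈ T.erase j, aeval xΩ (Q l)) =
        (aeval xΩ (P j) / aeval xΩ (Q j) * aeval xΩ (Q j)) * algebraMap k' Ω (b j) * ∏ l ∈ T.erase j, aeval xΩ (Q l) by ring,
        div_mul_cancel₀ _ (hne _ (hQ j hj))]
      ring
    rw [Finset.sum_congr rfl h1, ← Finset.sum_mul, Finset.sum_filter_of_ne, hr', zero_mul]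
    intro j _ hj h0
    exact hj (by rw [h0, zero_mul])
  have hRi : R i = 0 := by
    ext n : 1
    have h2 := congrArg (fun f => f.coeff n) hsum
    simp only [finsetSum_coeff, coeff_C_mul, coeff_map, coeff_zero] at h2
    have h3 := linearIndependent_iff'.1 hb T (fun j => (R j).coeff n) (by
      rw [← h2]
      exact Finset.sum_congr rfl fun j _ => by rw [Algebra.smul_def, mul_comm])
    rw [coeff_zero]
    exact h3 i (Finset.mem_filter.2 ⟨Finset.mem_univ i, hr0⟩)
  rcases mul_eq_zero.1 hRi with h4 | h4
  · exact hPi h4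
  · obtain ⟨l, hl, hl0⟩ := Finset.prod_eq_zero_iff.1 h4
    exact hQ l (Finset.mem_of_mem_erase hl) hl0

set_option maxHeartbeats 400000 in
/-- A separating variable and an algebraically closed constant field give a geometric field. -/
theorem isGeometric_of_separating (hK : IsFunctionField k K) {x : K} (hx : Transcendental k x)
    [Algebra.IsSeparable k⟮x⟯ K] : IsGeometric k K := by
  classical
  intro k' _ _ hfin
  let Ω := AlgebraicClosure K
  let σ : k' →ₐ[k] Ω := IsAlgClosed.lift
  let : Algebra k' Ω := σ.toRingHom.toAlgebra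
  have : IsScalarTower k k' Ω := IsScalarTower.of_algebraMap_eq fun c => (σ.commutes c).symm
  obtain ⟨q, _⟩ := ExpChar.exists k
  let s := separableClosure k k'
  let xΩ : Ω := algebraMap K Ω x
  have hxT : Transcendental k' xΩ :=
    ((transcendental_algebraMap_iff (algebraMap K Ω).injective).2 hx).extendScalars k'
  have hxs : xΩ ∈ s⟮xΩ⟯ := mem_adjoin_simple_self s xΩ
  let F₀ := s⟮xΩ⟯
  let E₀ : IntermediateField F₀ Ω := IntermediateField.adjoin F₀ (Set.range (algebraMap k' Ω))
  let S : IntermediateField F₀ Ω := IntermediateField.adjoin F₀ (Set.range (algebraMap K Ω))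
  have hexp : ExpChar F₀ q := expChar_of_injective_algebraMap (algebraMap k F₀).injective q
  have : ExpChar s q := expChar_of_injective_algebraMap (algebraMap k s).injective q
  have : IsPurelyInseparable F₀ E₀ := by
    rw [IntermediateField.isPurelyInseparable_adjoin_iff_pow_mem F₀ Ω q]
    rintro _ ⟨t, rfl⟩
    obtain ⟨n, c, hc⟩ := (isPurelyInseparable_iff_pow_mem s q).1 (inferInstance : IsPurelyInseparable s k') t
    refine ⟨n, algebraMap s F₀ c, ?_⟩
    rw [← map_pow, ← hc]
    rfl
  have : Algebra.IsSeparable F₀ S := by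
    rw [IntermediateField.isSeparable_adjoin_iff_isSeparable]
    rintro _ ⟨z, rfl⟩
    let φ : k⟮x⟯ →+* F₀ := ((algebraMap K Ω).comp (algebraMap k⟮x⟯ K)).codRestrict F₀ fun a => by
      have h1 : (k⟮x⟯).map (IsScalarTower.toAlgHom k K Ω) ≤ F₀.restrictScalars k := by
        rw [adjoin_map, Set.image_singleton, adjoin_simple_le_iff]
        exact hxs
      exact h1 ⟨a, a.2, rfl⟩
    let : Algebra k⟮x⟯ F₀ := φ.toAlgebra
    have : IsScalarTower k⟮x⟯ F₀ Ω := IsScalarTower.of_algebraMap_eq fun a => rfl
    exact ((Algebra.IsSeparable.isSeparable k⟮x⟯ z).map (f := IsScalarTower.toAlgHom k⟮x⟯ K Ω)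
      (algebraMap K Ω).injective).tower_top F₀
  have hdisj : S.LinearDisjoint E₀ := S.linearDisjoint_of_isPurelyInseparable_of_isSeparable E₀
  let b := Module.finBasis s k'
  have hbF : LinearIndependent F₀ fun i => (⟨algebraMap k' Ω (b i),
      subset_adjoin F₀ _ ⟨b i, rfl⟩⟩ : E₀) := by
    refine (LinearIndependent.of_comp E₀.val.toLinearMap ?_)
    exact linearIndependent_over_adjoin hxT b b.linearIndependent
  have hbS' := hdisj.linearIndependent_right' hbF
  have hbS : LinearIndependent S fun i => algebraMap k' Ω (b i) :=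
    linearIndependent_iff'.2 fun T g hg => linearIndependent_iff'.1 hbS' T g hg
  let c := Module.finBasis k s
  let σs : s →ₐ[k] Ω := σ.comp s.val
  have hinj := lift_injective_of_separable hK σs
  have hcK : LinearIndependent K fun j => σs (c j) := by
    have h := (Algebra.TensorProduct.basis K c).linearIndependent.map'
      (Algebra.TensorProduct.lift (Algebra.ofId K Ω) σs fun _ _ => Commute.all _ _).toLinearMap
      (LinearMap.ker_eq_bot.2 hinj)
    have e : (fun j => σs (c j)) = (Algebra.TensorProduct.lift (Algebra.ofId K Ω) σs fun _ _ => Commute.all _ _).toLinearMap ∘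
        (Algebra.TensorProduct.basis K c) := funext fun j => by
      show σs (c j) = Algebra.TensorProduct.lift (Algebra.ofId K Ω) σs (fun _ _ => Commute.all _ _) (Algebra.TensorProduct.basis K c j)
      rw [Algebra.TensorProduct.basis_apply, Algebra.TensorProduct.lift_tmul, map_one, one_mul]
    rw [e]
    exact h
  let f : K ⊗[k] k' →ₐ[K] Ω :=
    Algebra.TensorProduct.lift (Algebra.ofId K _) σ fun _ _ => Commute.all _ _
  have hf : Function.Injective f := by
    rw [injective_iff_map_eq_zero]
    intro z hz
    let B := Algebra.TensorProduct.basis K (c.smulTower b)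
    set a := B.repr z with ha
    have hz' : ∑ i, (∑ j, algebraMap K Ω (a (j, i)) * σs (c j)) * algebraMap k' Ω (b i) = 0 := by
      rw [← hz, ← B.sum_repr z, map_sum, Fintype.sum_prod_type, Finset.sum_comm]
      refine Finset.sum_congr rfl fun i _ => ?_
      rw [Finset.sum_mul]
      refine Finset.sum_congr rfl fun j _ => ?_
      rw [map_smul, Algebra.TensorProduct.basis_apply, Algebra.TensorProduct.lift_tmul, map_one, one_mul,
        Algebra.smul_def, mul_assoc, Module.Basis.smulTower_apply, Algebra.smul_def, map_mul]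
      rfl
    have hmem : ∀ i, ∑ j, algebraMap K Ω (a (j, i)) * σs (c j) ∈ S := fun i => by
      refine sum_mem fun j _ => mul_mem (subset_adjoin F₀ _ ⟨_, rfl⟩) ?_
      exact S.algebraMap_mem (algebraMap s F₀ (c j))
    have h1 := Fintype.linearIndependent_iff.1 hbS (fun i => ⟨_, hmem i⟩) hz'
    have h2 : ∀ i j, a (j, i) = 0 := fun i => Fintype.linearIndependent_iff.1 hcK (fun j => a (j, i)) (by
      simp only [Algebra.smul_def]
      exact congrArg (fun e : S => (e : Ω)) (h1 i))
    refine B.repr.injective (Finsupp.ext fun ⟨j, i⟩ => ?_)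
    rw [map_zero, Finsupp.zero_apply]
    exact h2 i j
  have : IsDomain (K ⊗[k] k') := hf.isDomain f.toRingHom
  have hfield : IsField (K ⊗[k] k') := isField_of_isIntegral_of_isField' (Field.toIsField K)
  exact MulEquiv.isField hfield (Algebra.TensorProduct.comm k k' K).toMulEquiv

end Groth.Agent.FF
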