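/-
The genus of a hyperelliptic function field in characteristic different from two.
-/
import Groth.Agent.L26.FF.Hyperelliptic
import Groth.Agent.L26.FF.Quadratic
import Groth.Agent.L26.FF.Galois
import Mathlib.RingTheory.Polynomial.Basic

open WithZero Polynomial

namespace Groth.Agent.FF

open FunFld

variable {k K : Type*} [Field k] [Field K] [Algebra k K] [Algebra (RatFunc k) K] [IsScalarTower k (RatFunc k) K]

local notation "φ" => algebraMap k[X] (RatFunc k)
local notation "ι" => algebraMap (RatFunc k) K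
local notation "x'" => algebraMap (RatFunc k) K (RatFunc.X : RatFunc k)

theorem genus_hyperelliptic (h2 : ringChar k ≠ 2) (hdeg : Module.finrank (RatFunc k) K = 2) {y : K} {f : k[X]}
    (hf : Squarefree f) (hd : 1 ≤ f.natDegree) (heq : y ^ 2 = ι (φ f)) :
    genus k K = (f.natDegree - 1) / 2 := by
  have hfin := finite_of_deg_two hdeg
  have hyr : y ∉ Set.range ι := by
    rintro ⟨r, hr⟩
    exact not_sq hf hd r ((algebraMap (RatFunc k) K).injective (by rw [map_pow, hr, heq]))
  have htop := QuadExt.adjoin_eq_top hdeg hyr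
  have hK : IsFunctionField k K := isFunctionField_sqrt h2 htop hf hd heq
  have htx : Transcendental k x' := transcendental_map transcendental_ratFunc_X
  -- values of polynomials
  have hge1 : ∀ Q : Place k K, (1 : WithZero (Multiplicative ℤ)) ≤ max 1 (Q.1 x') := fun Q => le_max_left _ _
  have hval : ∀ (Q : Place k K) (p : k[X]) (n : ℕ), p.natDegree ≤ n → Q.1 (ι (φ p)) ≤ max 1 (Q.1 x') ^ n := by
    intro Q p n hn
    rw [p.as_sum_range_C_mul_X_pow, map_sum, map_sum]
    refine Q.1.map_sum_le fun i hi => ?_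
    rw [map_mul, map_pow, RatFunc.algebraMap_X, map_mul, map_pow, map_mul, map_pow, ← Polynomial.algebraMap_eq,
      ← IsScalarTower.algebraMap_apply k k[X] (RatFunc k), ← IsScalarTower.algebraMap_apply k (RatFunc k) K]
    refine (mul_le_of_le_one_left zero_le (Q.2.1 _)).trans ((pow_le_pow_left₀ zero_le (le_max_right 1 _) i).trans ?_)
    exact pow_le_pow_right₀ (hge1 Q) (by have := Finset.mem_range.1 hi; omega)
  have hinfval : ∀ (Q : Place k K), 1 < Q.1 x' → ∀ p : k[X], p ≠ 0 → Q.1 (ι (φ p)) = Q.1 x' ^ p.natDegree := by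
    intro Q hQ p hp
    obtain ⟨P, e, he⟩ := exists_below (isFF_ratFunc (k := k)) Q
    have hP : P.ord (RatFunc.X : RatFunc k) < 0 := by
      by_contra h
      exact not_le.2 hQ ((he.le_one_iff _).2 ((val_le_one_iff P RatFunc.X_ne_zero).2 (not_lt.1 h)))
    rw [he, he, val_inf_poly hP hp, val_eq_exp P RatFunc.X_ne_zero, (inf_place hP).1, ← pow_mul, mul_comm e,
      pow_mul, ← exp_nsmul, neg_neg]
    simp
  have hpoly : ∀ (r : RatFunc k) (n : ℕ), (∀ Q : Place k K, Q.1 (ι r) ≤ max 1 (Q.1 x') ^ n) →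
      ∃ p : k[X], r = φ p ∧ p.natDegree ≤ n := by
    intro r n hr
    have hD0 : φ r.denom ≠ 0 := (map_ne_zero_iff _ (RatFunc.algebraMap_injective k)).2 r.denom_ne_zero
    have hdd : r.denom.natDegree = 0 := by
      by_contra hc
      obtain ⟨Q, hQ⟩ := exists_zero hK.1 (transcendental_map (K' := K)
        (transcendental_algebraMap_poly (k := k) (p := r.denom) (Nat.pos_of_ne_zero hc)))
      have hx1 : Q.1 x' ≤ 1 := by
        by_contra h
        rw [hinfval Q (not_le.1 h) _ r.denom_ne_zero] at hQ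
        exact not_le.2 hQ (one_le_pow₀ (not_le.1 h).le)
      have hle1 : ∀ g : k[X], Q.1 (ι (φ g)) ≤ 1 := fun g =>
        (hval Q g g.natDegree le_rfl).trans (by rw [max_eq_left hx1, one_pow])
      obtain ⟨u, w, huw⟩ := RatFunc.isCoprime_num_denom r
      have h1 := congrArg (fun z => Q.1 (ι (φ z))) huw
      simp only [map_add, map_mul, map_one] at h1
      have h3 := hr Q
      rw [max_eq_left hx1, one_pow, ← RatFunc.num_div_denom r, map_div₀, map_div₀,
        div_le_one₀ (zero_lt_iff.2 (val_ne_zero Q ((_root_.map_ne_zero _).2 hD0)))] at h3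
      have h4 : Q.1 (ι (φ r.num)) < 1 := h3.trans_lt hQ
      refine (Q.1.map_add_lt ?_ ?_).ne h1
      · rw [map_mul]; exact (mul_le_of_le_one_left zero_le (hle1 u)).trans_lt h4
      · rw [map_mul]; exact (mul_le_of_le_one_left zero_le (hle1 w)).trans_lt hQ
    have hden : r.denom = 1 := (RatFunc.monic_denom r).natDegree_eq_zero.1 hdd
    have hre : r = φ r.num := by conv_lhs => rw [← RatFunc.num_div_denom r, hden, map_one, div_one]
    refine ⟨r.num, hre, ?_⟩
    rcases eq_or_ne r.num 0 with h0 | h0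
    · rw [h0, natDegree_zero]; exact Nat.zero_le n
    obtain ⟨Q, hQ⟩ := exists_pole hK.1 htx
    have := hr Q
    rw [hre, hinfval Q hQ _ h0, max_eq_right hQ.le] at this
    exact (pow_le_pow_iff_right₀ hQ).1 this
  -- the conjugation
  have hint : IsIntegral (RatFunc k) y := .of_finite _ y
  let B : PowerBasis (RatFunc k) K := (IntermediateField.adjoin.powerBasis hint).map
    ((IntermediateField.equivOfEq htop).trans IntermediateField.topEquiv)
  have hmin : minpoly (RatFunc k) y = X ^ 2 - C (φ f) := (minpoly.eq_of_irreducible_of_monic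
    (X_pow_sub_C_irreducible_of_prime Nat.prime_two (not_sq hf hd)) (by simp [heq]) (monic_X_pow_sub_C _ two_ne_zero)).symm
  have hgen : B.gen = y := rfl
  let σ₀ : K →ₐ[RatFunc k] K := B.lift (-y) (by rw [hgen, hmin]; simp [heq])
  let σ : K ≃ₐ[RatFunc k] K := AlgEquiv.ofBijective σ₀ (Algebra.IsAlgebraic.algHom_bijective σ₀)
  have hσy : σ y = -y := by
    show σ₀ y = -y
    conv_lhs => rw [← hgen]
    exact B.lift_gen _ _
  have hdecomp : ∀ z : K, ∃ a b : RatFunc k, z = ι a + ι b * y := by
    intro z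
    have hdim : B.dim = 2 := by
      show (minpoly (RatFunc k) y).natDegree = 2
      rw [hmin, natDegree_X_pow_sub_C]
    refine ⟨B.basis.repr z ⟨0, by omega⟩, B.basis.repr z ⟨1, by omega⟩, ?_⟩
    conv_lhs => rw [← B.basis.sum_repr z]
    rw [← (finCongr hdim).symm.sum_comp, Fin.sum_univ_two]
    simp [B.basis_eq_pow, hgen, Algebra.smul_def]
    rfl
  -- the Riemann-Roch spaces
  set d := f.natDegree
  set c := (d + 1) / 2
  let g := genus k K
  let m : ℕ := c + g + 1
  let Dm : Divisor k K := m • poles k x'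
  have hmemL : ∀ z : K, z ∈ L Dm ↔ ∀ Q : Place k K, Q.1 z ≤ max 1 (Q.1 x') ^ m := by
    intro z
    rw [mem_L]
    refine forall_congr' fun Q => ?_
    have h1 : max 1 (Q.1 x') = exp (poles k x' Q) := by
      rw [poles_apply hK.1, val_eq_exp Q ((_root_.map_ne_zero _).2 RatFunc.X_ne_zero)]
      rcases le_total (-Q.ord x') 0 with h | h
      · rw [max_eq_left (exp_le_one'.2 h), max_eq_right h, exp_zero]
      · rw [max_eq_right (by rw [← exp_zero, exp_le_exp]; exact h), max_eq_left h]
    rw [h1, ← exp_nsmul]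
    simp [Dm]
  have h2K := two_ne_zero' (k := k) K h2
  have hhalf : ∀ (Q : Place k K), Q.1 (2 : K)⁻¹ = 1 := fun Q => by
    rw [← map_ofNat (algebraMap k K), ← map_inv₀, val_const Q (inv_ne_zero (Ring.two_ne_zero h2))]
  have hL : ∀ z : K, z ∈ L Dm ↔ ∃ a b : k[X], a.natDegree ≤ m ∧ (b ≠ 0 → b.natDegree + c ≤ m) ∧ z = ι (φ a) + ι (φ b) * y := by
    intro z
    constructor
    · intro hz
      rw [hmemL] at hz
      obtain ⟨a, b, hab⟩ := hdecomp z
      have hσz : ∀ Q : Place k K, Q.1 (σ z) ≤ max 1 (Q.1 x') ^ m := fun Q => by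
        have := hz (galPlace σ.symm Q)
        rwa [galPlace_apply, galPlace_apply, AlgEquiv.symm_symm, AlgEquiv.commutes] at this
      have hσab : σ z = ι a - ι b * y := by rw [hab, map_add, map_mul, AlgEquiv.commutes, AlgEquiv.commutes, hσy]; ring
      have ha : ∀ Q : Place k K, Q.1 (ι a) ≤ max 1 (Q.1 x') ^ m := fun Q => by
        rw [show ι a = (2 : K)⁻¹ * (z + σ z) by rw [hσab, hab]; field_simp; ring, map_mul, hhalf, one_mul]
        exact Q.1.map_add_le (hz Q) (hσz Q)
      have hb : ∀ Q : Place k K, Q.1 (ι (b ^ 2 * φ f)) ≤ max 1 (Q.1 x') ^ (2 * m) := fun Q => by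
        rw [map_mul, map_pow, ← heq, ← mul_pow, show ι b * y = (2 : K)⁻¹ * (z - σ z) by rw [hσab, hab]; field_simp; ring,
          map_pow, map_mul, hhalf, one_mul, mul_comm 2 m, pow_mul]
        exact pow_le_pow_left₀ zero_le (Q.1.map_sub_le (hz Q) (hσz Q)) 2
      obtain ⟨a', rfl, ha'⟩ := hpoly a m ha
      obtain ⟨q, hq, hq'⟩ := hpoly _ _ hb
      have hD0 : φ b.denom ≠ 0 := (map_ne_zero_iff _ (RatFunc.algebraMap_injective k)).2 b.denom_ne_zero
      have h1 : b.num ^ 2 * f = q * b.denom ^ 2 := by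
        apply RatFunc.algebraMap_injective k
        rw [map_mul, map_mul, map_pow, map_pow, ← hq]
        have hb2 : b * φ b.denom = φ b.num := (eq_div_iff hD0).1 (RatFunc.num_div_denom b).symm
        rw [← hb2]
        ring
      have hden : b.denom = 1 := by
        have h2' : b.denom ^ 2 ∣ f := ((RatFunc.isCoprime_num_denom b).symm.pow (m := 2) (n := 2)).dvd_of_dvd_mul_left
          ⟨q, by rw [h1]; ring⟩
        exact (RatFunc.monic_denom b).eq_one_of_isUnit (hf _ (by rwa [← sq]))
      have hbe : b = φ b.num := by conv_lhs => rw [← RatFunc.num_div_denom b, hden, map_one, div_one]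
      refine ⟨a', b.num, ha', fun hb0 => ?_, by rw [hab, ← hbe]⟩
      rw [hden, one_pow, mul_one] at h1
      rw [← h1, natDegree_mul (pow_ne_zero _ hb0) hf.ne_zero, natDegree_pow] at hq'
      omega
    · rintro ⟨a, b, ha, hb, rfl⟩
      refine (hmemL _).2 fun Q => Q.1.map_add_le (hval Q a m ha) ?_
      rcases eq_or_ne b 0 with rfl | hb0
      · simp
      refine le_of_pow_le_pow_left₀ two_ne_zero zero_le ?_
      rw [← map_pow, mul_pow, heq, ← map_pow, ← map_mul, ← map_pow, ← map_mul, ← pow_mul]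
      refine hval Q _ _ (natDegree_mul_le.trans ?_)
      have := hb hb0
      rw [natDegree_pow]
      omega
  -- the dimension
  have hell : ell Dm = (m + 1) + (m + 1 - c) := by
    let ψ : (degreeLT k (m + 1) × degreeLT k (m + 1 - c)) →ₗ[k] K :=
      LinearMap.coprod (((IsScalarTower.toAlgHom k (RatFunc k) K).toLinearMap ∘ₗ
          (IsScalarTower.toAlgHom k k[X] (RatFunc k)).toLinearMap) ∘ₗ (degreeLT k (m + 1)).subtype)
        ((LinearMap.mulRight k y) ∘ₗ ((IsScalarTower.toAlgHom k (RatFunc k) K).toLinearMap ∘ₗ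
          (IsScalarTower.toAlgHom k k[X] (RatFunc k)).toLinearMap) ∘ₗ (degreeLT k (m + 1 - c)).subtype)
    have hψ : ∀ p, ψ p = ι (φ p.1.1) + ι (φ p.2.1) * y := fun p => rfl
    have hinj : Function.Injective ψ := by
      rw [injective_iff_map_eq_zero]
      intro p hp
      rw [hψ] at hp
      have hb0 : p.2.1 = 0 := by
        by_contra hb
        refine hyr ⟨-(φ p.1.1) / φ p.2.1, ?_⟩
        have hb' : ι (φ p.2.1) ≠ 0 := (_root_.map_ne_zero _).2 ((map_ne_zero_iff _ (RatFunc.algebraMap_injective k)).2 hb)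
        rw [map_div₀, map_neg, div_eq_iff hb']
        linear_combination -hp
      rw [hb0, map_zero, map_zero, zero_mul, add_zero, _root_.map_eq_zero,
        map_eq_zero_iff _ (RatFunc.algebraMap_injective k)] at hp
      exact Prod.ext (Subtype.ext hp) (Subtype.ext hb0)
    have hrange : LinearMap.range ψ = L Dm := by
      ext z
      rw [hL]
      constructor
      · rintro ⟨⟨⟨a, ha⟩, b, hb⟩, rfl⟩
        rw [mem_degreeLT] at ha hb
        refine ⟨a, b, ?_, fun hb0 => ?_, rfl⟩
        · rcases eq_or_ne a 0 with rfl | h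
          · simp
          · rw [degree_eq_natDegree h, Nat.cast_lt] at ha; omega
        · rw [degree_eq_natDegree hb0, Nat.cast_lt] at hb; omega
      · rintro ⟨a, b, ha, hb, rfl⟩
        refine ⟨⟨⟨a, ?_⟩, b, ?_⟩, rfl⟩ <;> rw [mem_degreeLT]
        · exact degree_le_natDegree.trans_lt (Nat.cast_lt.2 (by omega))
        · rcases eq_or_ne b 0 with rfl | hb0
          · rw [degree_zero]; exact WithBot.bot_lt_coe _
          · rw [degree_eq_natDegree hb0, Nat.cast_lt]; have := hb hb0; omega
    have : ∀ n, Module.Finite k (degreeLT k n) := fun n => Module.Finite.equiv (degreeLTEquiv k n).symm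
    rw [ell, ← hrange, LinearMap.finrank_range_of_inj hinj, Module.finrank_prod,
      (degreeLTEquiv k _).finrank_eq, (degreeLTEquiv k _).finrank_eq, Module.finrank_fin_fun, Module.finrank_fin_fun]
  have hdegD : Dm.deg = 2 * (m : ℤ) := by
    rw [show Dm = m • poles k x' from rfl, deg_nsmul, deg_poles hK.1 htx, finrank_adjoin_map, hdeg, RatFunc.adjoin_X,
      IntermediateField.finrank_top]
    ring
  have := ell_eq_of_deg_ge hK (D := Dm) (by rw [hdegD]; show 2 * (g : ℤ) - 1 ≤ _; simp only [m]; push_cast; omega)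
  rw [hell, hdegD] at this
  show g = _
  have hc : c ≤ m := by simp only [m]; omega
  omega

end Groth.Agent.FF
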