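/-
The inertia group of a place in a Galois extension has order the ramification index.
-/
import Groth.Agent.L26.FF.Galois
import Groth.Agent.L26.FF.Approx
import Mathlib.FieldTheory.Fixed
import Mathlib.FieldTheory.PurelyInseparable.Basic

open WithZero Polynomial
open scoped Pointwise

namespace Groth.Agent.FF

open FunFld

variable {k K K' : Type*} [Field k] [Field K] [Field K'] [Algebra k K] [Algebra K K'] [Algebra k K']
  [IsScalarTower k K K'] [FiniteDimensional K K'] [IsGalois K K']

lemma card_inertia_mul (Q : Place k K') :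
    Nat.card ((Q.O).inertiaSubgroup K) *
      Nat.card (MulSemiringAction.toRingAut ((Q.O).decompositionSubgroup K)
        (IsLocalRing.ResidueField Q.O)).range = Nat.card ((Q.O).decompositionSubgroup K) := by
  rw [← Subgroup.index_ker, ValuationSubring.inertiaSubgroup, Subgroup.card_mul_index]

lemma fixed_mem_range (hK : IsFF k K) {Q : Place k K'} {P : Place k K} {e : ℕ} (he : IsOverWith Q P e)
    [Algebra.IsSeparable k (IsLocalRing.ResidueField Q.O)]
    (ψ : P.O →+* Q.O) (hψ : ∀ a, (ψ a : K') = algebraMap K K' (a : K)) [IsLocalHom ψ]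
    {a : IsLocalRing.ResidueField Q.O}
    (ha : ∀ g : (Q.O).decompositionSubgroup K, g • a = a) :
    a ∈ (IsLocalRing.ResidueField.map ψ).fieldRange := by
  classical
  let R := IsLocalRing.residue Q.O
  obtain ⟨z₀, rfl⟩ := IsLocalRing.residue_surjective a
  let S := (finite_over (K' := K') hK P).toFinset
  have hQS : Q ∈ S := (finite_over (K' := K') hK P).mem_toFinset.2 ⟨e, he⟩
  obtain ⟨z, hz⟩ := approx S (fun Q' => if Q' = Q then (z₀ : K') else 0) 1
  have hzQ : Q.1 (z - (z₀ : K')) < 1 :=
    (by simpa using hz Q hQS : Q.1 (z - (z₀ : K')) ≤ exp (-1 : ℤ)).trans_lt (by rw [exp_lt_one']; norm_num)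
  have hz' : ∀ Q', IsOver Q' P → Q' ≠ Q → Q'.1 z < 1 := fun Q' h hne => by
    refine (?_ : Q'.1 z ≤ exp (-1 : ℤ)).trans_lt (by rw [exp_lt_one']; norm_num)
    simpa [hne] using hz Q' ((finite_over (K' := K') hK P).mem_toFinset.2 h)
  -- conjugates
  have hconj : ∀ σ : K' ≃ₐ[K] K', galPlace σ.symm Q = Q ∨ Q.1 (σ z) < 1 := fun σ => by
    by_cases h : galPlace σ.symm Q = Q
    · exact Or.inl h
    · exact Or.inr (hz' _ ⟨e, galPlace_isOverWith _ he⟩ h)
  have hD : ∀ σ : K' ≃ₐ[K] K', galPlace σ.symm Q = Q → σ ∈ (Q.O).decompositionSubgroup K := fun σ h => by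
    have h1 : σ.symm • Q.O = Q.O := by rw [← galPlace_O, h]
    show σ • Q.O = Q.O
    conv_lhs => rw [← h1]
    exact smul_inv_smul σ Q.O
  have hzO : Q.1 z ≤ 1 := by
    rw [← sub_add_cancel z (z₀ : K')]
    exact Q.1.map_add_le hzQ.le z₀.2
  let zO : Q.O := ⟨z, hzO⟩
  have hR : R zO = R z₀ := by
    rw [← sub_eq_zero, ← map_sub]
    exact (IsLocalRing.residue_eq_zero_iff _).2 (Valuation.Integer.not_isUnit_iff_valuation_lt_one.2 hzQ)
  have hmem : ∀ σ : K' ≃ₐ[K] K', Q.1 (σ z) ≤ 1 := fun σ => (hconj σ).elim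
    (fun h => by
      have := congrArg (fun T : Place k K' => T.1 z) h
      rw [galPlace_apply, AlgEquiv.symm_symm] at this
      exact this ▸ hzO) (fun h => h.le)
  let c : (K' ≃ₐ[K] K') → Q.O := fun σ => ⟨σ z, hmem σ⟩
  have hc : ∀ σ, R (c σ) = if galPlace σ.symm Q = Q then R z₀ else 0 := fun σ => by
    split_ifs with h
    · have h1 := ha ⟨σ, hD σ h⟩
      rw [← hR] at h1 ⊢
      exact h1
    · exact (IsLocalRing.residue_eq_zero_iff _).2
        (Valuation.Integer.not_isUnit_iff_valuation_lt_one.2 ((hconj σ).resolve_left h))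
  -- the characteristic polynomial has coefficients in `O_P`
  let F : Polynomial Q.O := ∏ σ, (X - C (c σ))
  have hF : ∀ i, ∃ b : P.O, ψ b = F.coeff i := by
    intro i
    have hfix : ∀ τ : K' ≃ₐ[K] K', τ ((F.coeff i : K')) = (F.coeff i : K') := by
      intro τ
      have h1 : (F.map Q.O.subtype).map (τ : K' →+* K') = F.map Q.O.subtype := by
        simp only [F, Polynomial.map_prod, Polynomial.map_sub, map_X, map_C]
        exact Fintype.prod_equiv (Equiv.mulLeft τ) _ _ fun σ => rfl
      have h2 := congrArg (fun q => Polynomial.coeff q i) h1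
      simp only [coeff_map] at h2
      exact h2
    obtain ⟨b, hb⟩ := (IsGalois.mem_range_algebraMap_iff_fixed (F.coeff i : K')).2 hfix
    have hb1 : P.1 b ≤ 1 := (he.le_one_iff b).1 (by rw [hb]; exact (F.coeff i).2)
    exact ⟨⟨b, hb1⟩, Subtype.ext ((hψ _).trans hb)⟩
  set σ₀ := IsLocalRing.ResidueField.map ψ
  let κ := IsLocalRing.ResidueField P.O
  let : Algebra κ (IsLocalRing.ResidueField Q.O) := σ₀.toAlgebra
  let : Algebra k κ := inferInstance
  have : IsScalarTower k κ (IsLocalRing.ResidueField Q.O) := IsScalarTower.of_algebraMap_eq fun x => by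
    show R _ = σ₀ (IsLocalRing.residue P.O _)
    rw [← RingHom.comp_apply σ₀, IsLocalRing.ResidueField.map_comp_residue]
    exact congrArg R (Subtype.ext ((IsScalarTower.algebraMap_apply k K K' x).trans (hψ (algebraMap k P.O x)).symm))
  have : Algebra.IsSeparable κ (IsLocalRing.ResidueField Q.O) := Algebra.isSeparable_tower_top_of_isSeparable k κ _
  let n := (Finset.univ.filter fun σ : K' ≃ₐ[K] K' => galPlace σ.symm Q = Q).card
  let m := (Finset.univ.filter fun σ : K' ≃ₐ[K] K' => ¬ galPlace σ.symm Q = Q).card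
  have hFR : F.map R = (X - C (R z₀)) ^ n * X ^ m := by
    simp only [F, Polynomial.map_prod, Polynomial.map_sub, map_X, map_C, hc]
    rw [Finset.prod_congr rfl (g := fun σ : K' ≃ₐ[K] K' => if galPlace σ.symm Q = Q then X - C (R z₀) else X)
      (fun σ _ => by split_ifs <;> simp), Finset.prod_ite, Finset.prod_const, Finset.prod_const]
  obtain ⟨G, hG⟩ : ∃ G : Polynomial κ, G.map σ₀ = F.map R := by
    choose b hb using hF
    obtain ⟨G, hG⟩ : F.map R ∈ Polynomial.lifts σ₀ := (lifts_iff_coeff_lifts _).2 fun i => ⟨IsLocalRing.residue _ (b i), by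
      rw [← RingHom.comp_apply σ₀, IsLocalRing.ResidueField.map_comp_residue, RingHom.comp_apply, hb, coeff_map]⟩
    exact ⟨G, hG⟩
  -- separability
  by_contra hnot
  have hint : IsIntegral κ (R z₀) := Algebra.IsSeparable.isIntegral κ _
  have hn : 0 < n := Finset.card_pos.2 ⟨1, Finset.mem_filter.2 ⟨Finset.mem_univ _, place_ext_O (by
    rw [galPlace_O]; exact one_smul _ Q.O)⟩⟩
  have hroot : aeval (R z₀) G = 0 := by
    rw [aeval_def, ← eval_map, show (algebraMap κ (IsLocalRing.ResidueField Q.O)) = σ₀ from rfl, hG, hFR]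
    simp [hn.ne']
  have hdvd : (minpoly κ (R z₀)).map σ₀ ∣ (X - C (R z₀)) ^ n * X ^ m := by
    rw [← hFR, ← hG]
    exact Polynomial.map_dvd σ₀ (minpoly.dvd κ _ hroot)
  have hne : R z₀ ≠ 0 := fun h => hnot ⟨0, by rw [map_zero, h]⟩
  have hcop : IsCoprime ((minpoly κ (R z₀)).map σ₀) (X ^ m) := by
    refine IsCoprime.pow_right (IsCoprime.symm ((Polynomial.irreducible_X).coprime_iff_not_dvd.2 ?_))
    rw [X_dvd_iff, coeff_map, map_eq_zero]
    exact minpoly.coeff_zero_ne_zero hint hne
  have h1 := hcop.dvd_of_dvd_mul_right hdvd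
  obtain ⟨j, -, hj⟩ := (dvd_prime_pow (prime_X_sub_C (R z₀)) n).1 h1
  have hj' : (minpoly κ (R z₀)).map σ₀ = (X - C (R z₀)) ^ j :=
    eq_of_monic_of_associated ((minpoly.monic hint).map _) ((monic_X_sub_C _).pow _) hj
  have hsep : ((minpoly κ (R z₀)).map σ₀).Separable := Polynomial.Separable.map (Algebra.IsSeparable.isSeparable κ (R z₀) : (minpoly κ (R z₀)).Separable)
  have hdeg : 0 < j := by
    rcases Nat.eq_zero_or_pos j with rfl | h
    · exfalso
      have := congrArg natDegree hj'
      rw [natDegree_map, pow_zero, natDegree_one] at this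
      exact (minpoly.natDegree_pos hint).ne' this
    · exact h
  rw [hj'] at hsep
  have hj1 : j = 1 := (hsep.of_pow (not_isUnit_X_sub_C _) hdeg.ne').2
  rw [hj1, pow_one] at hj'
  have := congrArg (fun q => Polynomial.coeff q 0) hj'
  rw [coeff_map, coeff_sub, coeff_X_zero, coeff_C_zero, zero_sub] at this
  exact hnot ⟨-(minpoly κ (R z₀)).coeff 0, by rw [map_neg, this, neg_neg]⟩

theorem card_inertia (hK : IsFunctionField k K) {Q : Place k K'} {P : Place k K} {e : ℕ}
    (he : IsOverWith Q P e) [Algebra.IsSeparable k (IsLocalRing.ResidueField Q.O)] :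
    Nat.card ((Q.O).inertiaSubgroup K) = e := by
  classical
  let ψ : P.O →+* Q.O := ((algebraMap K K').comp P.O.subtype).codRestrict Q.O
    fun a => (he.le_one_iff _).2 a.2
  have hlocal : IsLocalHom ψ := ⟨fun a ha => by
    by_contra hna
    exact (Valuation.Integer.not_isUnit_iff_valuation_lt_one.2
      ((he.lt_one_iff _).2 (Valuation.Integer.not_isUnit_iff_valuation_lt_one.1 hna)) : ¬ IsUnit (ψ a)) ha⟩
  set σ₀ := IsLocalRing.ResidueField.map ψ
  let κ := IsLocalRing.ResidueField P.O
  let F := IsLocalRing.ResidueField Q.O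
  let : Algebra κ F := σ₀.toAlgebra
  have htower : IsScalarTower k κ F := IsScalarTower.of_algebraMap_eq fun x => by
    show IsLocalRing.residue _ _ = σ₀ (IsLocalRing.residue P.O _)
    rw [← RingHom.comp_apply σ₀, IsLocalRing.ResidueField.map_comp_residue]
    exact congrArg (IsLocalRing.residue _) (Subtype.ext (IsScalarTower.algebraMap_apply k K K' x))
  set H := (MulSemiringAction.toRingAut ((Q.O).decompositionSubgroup K) F).range
  have : Finite H := Finite.of_surjective _ (MonoidHom.rangeRestrict_surjective _)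
  have : Fintype H := Fintype.ofFinite _
  have hfix : FixedPoints.subfield H F = σ₀.fieldRange := by
    apply le_antisymm
    · intro a ha
      exact fixed_mem_range hK.1 he ψ (fun _ => rfl) fun g => ha ⟨_, g, rfl⟩
    · rintro _ ⟨x, rfl⟩ ⟨_, g, rfl⟩
      obtain ⟨b, rfl⟩ := IsLocalRing.residue_surjective x
      show g • σ₀ (IsLocalRing.residue _ b) = σ₀ (IsLocalRing.residue _ b)
      rw [← RingHom.comp_apply σ₀, IsLocalRing.ResidueField.map_comp_residue]
      exact congrArg (IsLocalRing.residue _) (Subtype.ext (AlgEquiv.commutes g.1 (b : K)))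
  have hcard : Nat.card H = Module.finrank κ F := by
    rw [Nat.card_eq_fintype_card, ← FixedPoints.finrank_eq_card H F, hfix]
    exact (Algebra.finrank_eq_of_equiv_equiv (RingEquiv.ofBijective σ₀.rangeRestrictField
      ⟨fun a b h => σ₀.injective (congrArg Subtype.val h), fun ⟨y, a, ha⟩ => ⟨a, Subtype.ext ha⟩⟩)
      (RingEquiv.refl F) (by ext; rfl)).symm
  have hdeg : P.deg * Nat.card H = Q.deg := by
    rw [hcard]
    have := htower
    exact @Module.finrank_mul_finrank k κ F _ _ _ _ _ _ htower _ _ (Module.Free.of_divisionRing k κ) (Module.Free.of_divisionRing κ F)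
  have h1 := card_decomposition_mul_deg hK he
  rw [← card_inertia_mul Q, ← hdeg] at h1
  have hpos : 0 < P.deg * Nat.card H := by
    rw [hdeg]
    have := one_le_deg (isFF_ext hK.1) Q
    omega
  exact Nat.eq_of_mul_eq_mul_right hpos (by linarith)

end Groth.Agent.FF
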