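/-
In characteristic zero only finitely many places are exceptional for a linear series.
-/
import Groth.Agent.L26.FF.Family
import Groth.Agent.L26.FF.DiffUse

open WithZero
open scoped PowerSeries

namespace Groth.Agent.FF

open FunFld

variable {k K : Type*} [Field k] [IsAlgClosed k] [Field K] [Algebra k K] {n : ℕ}

lemma succ_le_of_pos {J : Fin n → ℕ} (hJ : StrictMono J) (h1 : ∀ l, 1 ≤ J l) :
    ∀ l : Fin n, (l : ℕ) + 1 ≤ J l := by
  rintro ⟨l, hl⟩
  induction l with
  | zero => exact h1 _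
  | succ l ih =>
    exact (Nat.succ_le_succ (ih (by omega))).trans
      (hJ (show (⟨l, by omega⟩ : Fin n) < ⟨l + 1, hl⟩ from Nat.lt_succ_self l))

lemma binom_succ_det_ne_zero [CharZero k] {J : Fin n → ℕ} (hJ : StrictMono J) (h1 : ∀ l, 1 ≤ J l) :
    (binomMat k J fun l : Fin n => (l : ℕ) + 1).det ≠ 0 := by
  rcases Nat.eq_zero_or_pos n with rfl | hn
  · simp
  let a : Fin (n + 1) → ℕ := Fin.cases 0 J
  have ha : Function.Injective a := by
    intro x z
    rcases Fin.eq_zero_or_eq_succ x with rfl | ⟨x, rfl⟩ <;>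
      rcases Fin.eq_zero_or_eq_succ z with rfl | ⟨z, rfl⟩ <;>
      intro h
    · rfl
    · have := h1 z
      change 0 = J z at h
      omega
    · have := h1 x
      change J x = 0 at h
      omega
    · change J x = J z at h
      rw [hJ.injective h]
  have hn' : n - 1 + 1 ≤ J ⟨n - 1, by omega⟩ := succ_le_of_pos hJ h1 ⟨n - 1, by omega⟩
  have h2 := det_binom_consecutive (R := k) a ha (J ⟨n - 1, by omega⟩)
    (Fin.cases (Nat.zero_le _)
      fun r => hJ.monotone (show r ≤ (⟨n - 1, _⟩ : Fin n) from Nat.le_sub_one_of_lt r.2))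
    (by omega) (fun p hp hpk => absurd (Nat.cast_eq_zero.1 hpk) hp.ne_zero)
  rw [Matrix.det_succ_row_zero, Fin.sum_univ_succ, Finset.sum_eq_zero, add_zero] at h2
  · have e : (binomMat k a fun s : Fin (n + 1) => (s : ℕ)).submatrix Fin.succ (0 : Fin (n + 1)).succAbove =
        binomMat k J fun l : Fin n => (l : ℕ) + 1 := by
      ext i l
      simp [binomMat, a]
    rw [e] at h2
    exact fun h0 => h2 (by rw [h0, mul_zero])
  · intro l _
    simp [binomMat, a]

/-- Only finitely many places have an order exceeding `n`. -/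
theorem finite_exceptional [CharZero k] (hK : IsFunctionField k K) {φ : Fin (n + 1) → K}
    (hφ : LinearIndependent k φ) :
    {Q : Place k K | ∃ f ∈ Submodule.span k (Set.range φ), f ≠ 0 ∧
      (n : ℤ) < Q.ord f + mapDiv k φ Q}.Finite := by
  classical
  obtain ⟨s, H, hH⟩ := exists_hasse_family hK
  obtain ⟨J, hJ⟩ := exists_orders hK hφ (AlgHom.id k K) hH
  obtain ⟨Φ, hΦ⟩ := exists_expansions hK hH
  refine (wDiv (AlgHom.id k K) H Φ s φ J).support.finite_toSet.subset fun Q hQ => ?_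
  obtain ⟨f, hf, hf0, hfn⟩ := hQ
  rw [Finset.mem_coe, Finsupp.mem_support_iff]
  obtain ⟨t, Ht, ht, hHt⟩ := exists_local hK hH Q
  obtain ⟨y, hy, hyφ, heff, hnorm, hM, -⟩ := exists_normalised hK hφ Q
  have hφ0 : φ ≠ 0 := fun h => hφ.ne_zero 0 (congrFun h 0)
  obtain ⟨hJt, -⟩ := det_variable hK hH hHt hφ0 hJ
  obtain ⟨hJy, -⟩ := det_scale hHt hφ0 hJt hy
  obtain ⟨J', hJ'⟩ := exists_ordersAt hK ht hHt hyφ heff hnorm
  obtain ⟨h1, -, hiff⟩ := adapted_basis hK hyφ heff hnorm ht hHt hJ'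
  have hfix : IsFixedPt (AlgHom.id k K) Q := fun z hz => hz
  have hdet := det_wrMat_ne_zero (AlgHom.id k K) Ht (fun h => hyφ.ne_zero 0 (congrFun h 0)) hJy
  -- generic orders are at most `1, …, n`
  have hI : StrictMono fun l : Fin n => (l : ℕ) + 1 := fun a b h => Nat.succ_lt_succ h
  have hne : (wrMat (AlgHom.id k K) Ht (y • φ) fun l : Fin n => (l : ℕ) + 1).det ≠ 0 := fun h0 => by
    have h := ((wr_at_fixed hK hfix hyφ heff hnorm ht hHt hJ' fun l : Fin n => (l : ℕ) + 1).2
      (Or.inl fun l => Nat.succ_pos _)).2 (binom_succ_det_ne_zero hJ'.1 h1)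
    rw [h0, map_zero] at h
    exact exp_ne_zero h.symm
  rw [wrMat_eq] at hne
  have hJI := isOrders_of_det (hcol_zero_ne (AlgHom.id k K) Ht fun h0 => hyφ.ne_zero 0 (congrFun h0 0))
    hJy hI hne
  -- an exceptional order
  have hmy : mapDiv k φ Q = Q.ord y := by
    rw [mapDiv_smul hK.1 hφ.ne_zero hy, Finsupp.sub_apply, div_apply hK.1] at hM
    omega
  have hord : Q.ord (y * f) = Q.ord f + mapDiv k φ Q := by rw [ord_mul Q hy hf0, hmy]; ring
  have hmem : y * f ∈ Submodule.span k (Set.range (y • φ)) := by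
    have := Submodule.mem_map_of_mem (f := LinearMap.mulLeft k y) hf
    rwa [Submodule.map_span, ← Set.range_comp] at this
  obtain ⟨j, hj⟩ : ∃ j : ℕ, Q.ord (y * f) = j := ⟨(Q.ord (y * f)).toNat, by omega⟩
  have hjmem := (hiff j).2 ⟨_, hmem, by rw [val_eq_exp Q (mul_ne_zero hy hf0), hj]⟩
  obtain ⟨l₀, hl₀⟩ := hjmem.resolve_left (by omega)
  have h2 := (wr_at_fixed hK hfix hyφ heff hnorm ht hHt hJ' J).1
  rw [val_le_exp_iff Q hdet] at h2
  rw [wDiv_apply hK hΦ hφ hH hJ ht hHt hy, hM, mapDiv_fixed_zero hK hfix hyφ.ne_zero heff hnorm]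
  have h3 : ∑ _l : Fin n, (0 : ℤ) < ∑ l : Fin n, ((J' l : ℤ) - J l) := by
    refine Finset.sum_lt_sum (fun l _ => ?_) ⟨l₀, Finset.mem_univ _, ?_⟩
    · have := hJI l
      have := succ_le_of_pos hJ'.1 h1 l
      omega
    · have := hJI l₀
      have := l₀.2
      omega
  simp only [Finset.sum_const_zero] at h3
  omega

end Groth.Agent.FF
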