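/-
Places with separable residue field are nonsingular.
-/
import Groth.Agent.L26.FF.Ext
import Groth.Agent.L26.Res.Sep
import Mathlib.RingTheory.Unramified.Field
import Mathlib.RingTheory.Unramified.Basic
import Mathlib.LinearAlgebra.TensorProduct.Basis
import Mathlib.RingTheory.TensorProduct.Finite

open WithZero TensorProduct

namespace Groth.Agent.FF

open FunFld

universe u v

variable {k k' : Type u} {K K' : Type v} [Field k] [Field k'] [Field K] [Field K']
  [Algebra k k'] [FiniteDimensional k k'] [Algebra k K] [Algebra K K'] [Algebra k' K'] [Algebra k K']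
  [IsScalarTower k k' K'] [IsScalarTower k K K']

theorem integralClosure_eq_of_separable_residue'
    (h : Function.Bijective (Algebra.TensorProduct.productMap
      (IsScalarTower.toAlgHom k k' K') (IsScalarTower.toAlgHom k K K')))
    (P : Place k K) [Algebra P.O K'] [IsScalarTower P.O K K']
    (F : Type v) [Field F] [Algebra k F] [FiniteDimensional k F] [Algebra.IsSeparable k F]
    (res : P.O →ₐ[k] F) (hres : ∀ a : P.O, res a = 0 ↔ P.1 (a : K) < 1) :
    (integralClosure P.O K').toSubring =
      (Algebra.adjoin P.O (Set.range (algebraMap k' K'))).toSubring := by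
  classical
  set A := Algebra.adjoin P.O (Set.range (algebraMap k' K'))
  have hkO : ∀ c : k, algebraMap k K' c = algebraMap P.O K' (algebraMap k P.O c) := fun c => by
    rw [IsScalarTower.algebraMap_apply P.O K K', IsScalarTower.algebraMap_apply k K K']
    rfl
  let iO : P.O →ₐ[k] K' := { algebraMap P.O K' with commutes' := fun c => (hkO c).symm }
  let ψ := Algebra.TensorProduct.productMap (IsScalarTower.toAlgHom k k' K') iO
  have hψA : ∀ u, ψ u ∈ A := fun u => by
    induction u using TensorProduct.induction_on with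
    | zero => rw [map_zero]; exact zero_mem _
    | tmul a c =>
      rw [Algebra.TensorProduct.productMap_apply_tmul]
      exact mul_mem (Algebra.subset_adjoin ⟨a, rfl⟩) (Subalgebra.algebraMap_mem _ c)
    | add a c ha hc => rw [map_add]; exact add_mem ha hc
  let ρ : k' ⊗[k] P.O →ₐ[k] k' ⊗[k] F :=
    Algebra.TensorProduct.map (AlgHom.id k k') res
  have hred : IsReduced (k' ⊗[k] F) := by
    have := Algebra.FormallyUnramified.of_isSeparable k F
    exact Algebra.FormallyUnramified.isReduced_of_field k' (k' ⊗[k] F)
  obtain ⟨t, ht0, ht⟩ := exists_val_eq P (-1)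
  let t' : P.O := ⟨t, show P.1 t ≤ 1 by rw [ht, exp_le_one']; omega⟩
  have htK : iO t' = algebraMap K K' t := IsScalarTower.algebraMap_apply P.O K K' t'
  have hψt : ψ (1 ⊗ₜ t') = algebraMap K K' t := by
    rw [Algebra.TensorProduct.productMap_apply_tmul, map_one, one_mul, htK]
  let b := Module.finBasis k k'
  let eR := TensorProduct.equivFinsuppOfBasisLeft (M := k') (N := P.O) b
  let eF := TensorProduct.equivFinsuppOfBasisLeft (M := k') (N := F) b
  have hcomm : ∀ u i, eF (ρ u) i = res (eR u i) := fun u i => by
    induction u using TensorProduct.induction_on with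
    | zero => simp
    | tmul a c => simp [eF, eR, ρ]
    | add a c ha hc => simp only [map_add, Finsupp.add_apply, ha, hc]
  -- divisibility
  have hdiv : ∀ u, ρ u = 0 → ∃ u', u = (1 ⊗ₜ t') * u' := by
    intro u hu
    have hi : ∀ i, ∃ c : P.O, eR u i = t' * c := fun i => by
      have h0 : res (eR u i) = 0 := by
        have := hcomm u i
        rw [hu, map_zero] at this
        exact this.symm
      have h1 : P.1 ((eR u i : P.O) : K) < 1 := (hres _).1 h0
      refine ⟨⟨((eR u i : P.O) : K) / t, show P.1 _ ≤ 1 by
        rw [map_div₀, ht, div_le_one₀ (zero_lt_iff.2 exp_ne_zero)]; exact lt_one_le_exp h1⟩, Subtype.ext ?_⟩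
      exact (mul_div_cancel₀ _ ht0).symm
    choose c hc using hi
    refine ⟨∑ i, b i ⊗ₜ c i, ?_⟩
    rw [Finset.mul_sum]
    conv_lhs => rw [← eR.symm_apply_apply u]
    rw [TensorProduct.equivFinsuppOfBasisLeft_symm_apply,
      Finsupp.sum_fintype _ _ (fun i => TensorProduct.tmul_zero _ _)]
    exact Finset.sum_congr rfl fun i _ => by rw [Algebra.TensorProduct.tmul_mul_tmul, one_mul, ← hc]
  -- descent
  have key : ∀ w : K', IsIntegral P.O w → ∀ u, algebraMap K K' t * w = ψ u → ∃ v, w = ψ v := by
    intro w hw u hu
    have hu0 : ρ u = 0 := by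
      obtain ⟨p, hp, hp0⟩ := hw
      set n := p.natDegree
      let v := -∑ i ∈ Finset.range n, (1 ⊗ₜ[k] (p.coeff i * t' ^ (n - i - 1))) * u ^ i
      have hn : ψ (u ^ n) = ψ ((1 ⊗ₜ t') * v) := by
        have h1 := hp0
        rw [Polynomial.eval₂_eq_sum_range, Finset.sum_range_succ, hp.coeff_natDegree, map_one, one_mul] at h1
        have h2 : w ^ n = -∑ i ∈ Finset.range n, iO (p.coeff i) * w ^ i := eq_neg_of_add_eq_zero_right h1
        simp only [v, map_pow, ← hu, map_mul, map_neg, map_sum, hψt, mul_pow, h2, mul_neg, Finset.mul_sum, neg_inj,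
          ψ, Algebra.TensorProduct.productMap_apply_tmul, map_one, one_mul]
        refine Finset.sum_congr rfl fun i hi => ?_
        have := Finset.mem_range.1 hi
        rw [htK, show n = (n - i - 1) + i + 1 by omega]
        rw [show n - i - 1 + i + 1 - i - 1 = n - i - 1 by omega]
        ring
      have hψinj : Function.Injective ψ := by
        have hi : Function.Injective (Algebra.TensorProduct.map (AlgHom.id k k')
            ({ P.O.subtype with commutes' := fun c => rfl } : P.O →ₐ[k] K)) :=
          Module.Flat.lTensor_preserves_injective_linearMap (M := k')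
            ({ P.O.subtype with commutes' := fun c => rfl } : P.O →ₐ[k] K).toLinearMap Subtype.val_injective
        have e : ψ = (Algebra.TensorProduct.productMap (IsScalarTower.toAlgHom k k' K') (IsScalarTower.toAlgHom k K K')).comp
            (Algebra.TensorProduct.map (AlgHom.id k k') ({ P.O.subtype with commutes' := fun c => rfl } : P.O →ₐ[k] K)) := by
          refine Algebra.TensorProduct.ext' fun a c => ?_
          simp only [ψ, AlgHom.comp_apply, Algebra.TensorProduct.map_tmul, Algebra.TensorProduct.productMap_apply_tmul]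
          exact congrArg _ (IsScalarTower.algebraMap_apply P.O K K' c)
        rw [e]
        exact h.1.comp hi
      have hρn : ρ u ^ n = 0 := by
        rw [← map_pow, hψinj hn, map_mul, show ρ (1 ⊗ₜ t') = 0 from ?_, zero_mul]
        show (1 : k') ⊗ₜ[k] res t' = 0
        rw [(hres t').2 (show P.1 t < 1 by rw [ht, exp_lt_one']; omega), TensorProduct.tmul_zero]
      exact IsNilpotent.eq_zero ⟨n, hρn⟩
    obtain ⟨v, rfl⟩ := hdiv u hu0
    refine ⟨v, mul_left_cancel₀ ((_root_.map_ne_zero (algebraMap K K')).2 ht0) ?_⟩
    rw [hu, map_mul, hψt]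
  have hscale : ∀ z : K', ∃ m : ℕ, ∃ u, algebraMap K K' t ^ m * z = ψ u := by
    intro z
    obtain ⟨w, rfl⟩ := h.2 z
    induction w using TensorProduct.induction_on with
    | zero => exact ⟨0, 0, by simp⟩
    | tmul a x =>
      obtain ⟨m, hm⟩ : ∃ m : ℕ, P.1 (t ^ m * x) ≤ 1 := by
        rcases eq_or_ne x 0 with rfl | hx
        · exact ⟨0, by simp⟩
        · refine ⟨(-P.ord x).toNat, ?_⟩
          rw [map_mul, map_pow, ht, val_eq_exp P hx, ← exp_nsmul, ← exp_add, exp_le_one']
          simp only [nsmul_eq_mul]
          omega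
      refine ⟨m, a ⊗ₜ ⟨_, hm⟩, ?_⟩
      simp only [ψ, Algebra.TensorProduct.productMap_apply_tmul]
      rw [show iO (⟨t ^ m * x, hm⟩ : P.O) = algebraMap K K' (t ^ m * x) from IsScalarTower.algebraMap_apply P.O K K' _,
        map_mul, map_pow]
      show _ * (_ * algebraMap K K' x) = _
      ring
    | add a c ha hc =>
      obtain ⟨m, u, hu⟩ := ha
      obtain ⟨n, v, hv⟩ := hc
      refine ⟨m + n, (1 ⊗ₜ t') ^ n * u + (1 ⊗ₜ t') ^ m * v, ?_⟩
      rw [map_add, map_add, map_mul, map_mul, map_pow, map_pow, hψt, ← hu, ← hv]
      ring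
  apply le_antisymm
  · intro z hz
    obtain ⟨m, u, hu⟩ := hscale z
    suffices ∀ (m : ℕ) u, algebraMap K K' t ^ m * z = ψ u → ∃ v, z = ψ v by
      obtain ⟨v, rfl⟩ := this m u hu
      exact hψA v
    intro m
    induction m with
    | zero => intro u hu; exact ⟨u, by simpa using hu⟩
    | succ m ih =>
      intro u hu
      obtain ⟨v, hv⟩ := key (algebraMap K K' t ^ m * z)
        ((htK ▸ (isIntegral_algebraMap : IsIntegral P.O (algebraMap P.O K' t'))).pow m |>.mul hz) u
        (by rw [← hu, pow_succ]; ring)
      exact ih v hv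
  · have hle : A ≤ integralClosure P.O K' := by
      refine Algebra.adjoin_le ?_
      rintro _ ⟨c, rfl⟩
      obtain ⟨q, hq, hq0⟩ := (Algebra.IsIntegral.isIntegral (R := k) c).algebraMap (B := K')
      refine ⟨q.map (algebraMap k P.O), hq.map _, ?_⟩
      rw [Polynomial.eval₂_map, show (algebraMap P.O K').comp (algebraMap k P.O) = algebraMap k K' from
        RingHom.ext fun c => (hkO c).symm]
      exact hq0
    exact fun z hz => hle hz

theorem integralClosure_eq_of_separable_residue
    (h : Function.Bijective (Algebra.TensorProduct.productMap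
      (IsScalarTower.toAlgHom k k' K') (IsScalarTower.toAlgHom k K K')))
    (hK : IsFF k K) (P : Place k K) [Algebra.IsSeparable k (IsLocalRing.ResidueField P.O)]
    [Algebra P.O K'] [IsScalarTower P.O K K'] :
    (integralClosure P.O K').toSubring =
      (Algebra.adjoin P.O (Set.range (algebraMap k' K'))).toSubring := by
  have hfin := finite_residueField hK P
  refine @integralClosure_eq_of_separable_residue' k k' K K' _ _ _ _ _ _ _ _ _ _ _ _ h P _ _
    (IsLocalRing.ResidueField P.O) _ _ ?_ _ { IsLocalRing.residue P.O with commutes' := fun c => rfl } fun a => ?_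
  · exact hfin
  · exact (IsLocalRing.residue_eq_zero_iff a).trans Valuation.Integer.not_isUnit_iff_valuation_lt_one

end Groth.Agent.FF
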