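/-
A finite purely inseparable constant extension making a geometric function field nonsingular.
-/
import Groth.Agent.L26.FF.FiniteSingular
import Groth.Agent.L26.FF.Nonsingular
import Mathlib.FieldTheory.PurelyInseparable.PerfectClosure
import Mathlib.RingTheory.AdjoinRoot
import Mathlib.LinearAlgebra.Dimension.Constructions

open WithZero Polynomial IntermediateField TensorProduct

namespace Groth.Agent.FF

open FunFld

universe u v

section equation

variable {k k' K K' : Type*} [Field k] [Field k'] [Field K] [Field K']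
  [Algebra k k'] [Algebra k K] [Algebra K K'] [Algebra k' K'] [Algebra k K']
  [IsScalarTower k k' K'] [IsScalarTower k K K']

lemma exists_map_equation {x y : K} (f : (Algebra.adjoin k ({x} : Set K))[X]) (hfm : f.Monic)
    (hf0 : aeval y f = 0) :
    ∃ f' : (Algebra.adjoin k' ({algebraMap K K' x} : Set K'))[X], f'.Monic ∧
      aeval (algebraMap K K' y) f' = 0 ∧
      aeval (algebraMap K K' y) (derivative f') = algebraMap K K' (aeval y (derivative f)) := by
  set A := Algebra.adjoin k' ({algebraMap K K' x} : Set K')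
  have hRA : ∀ a ∈ Algebra.adjoin k ({x} : Set K), algebraMap K K' a ∈ A := fun a ha => by
    have h1 : (Algebra.adjoin k ({x} : Set K)).map (IsScalarTower.toAlgHom k K K') ≤
        A.restrictScalars k := by
      rw [AlgHom.map_adjoin, Set.image_singleton, Algebra.adjoin_le_iff, Set.singleton_subset_iff]
      show algebraMap K K' x ∈ A
      exact Algebra.subset_adjoin (Set.mem_singleton (algebraMap K K' x))
    exact h1 (Subalgebra.mem_map.2 ⟨a, ha, rfl⟩)
  let φ : Algebra.adjoin k ({x} : Set K) →+* A :=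
    ((algebraMap K K').comp (Algebra.adjoin k ({x} : Set K)).val.toRingHom).codRestrict A
      fun a => hRA a a.2
  have hφ : (algebraMap A K').comp φ =
      (algebraMap K K').comp (algebraMap (Algebra.adjoin k ({x} : Set K)) K) := by ext; rfl
  have hev : ∀ g : (Algebra.adjoin k ({x} : Set K))[X],
      aeval (algebraMap K K' y) (g.map φ) = algebraMap K K' (aeval y g) := fun g => by
    rw [aeval_def, eval₂_map, hφ, ← hom_eval₂, ← aeval_def]
  exact ⟨f.map φ, hfm.map _, by rw [hev, hf0, map_zero], by rw [derivative_map, hev]⟩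

lemma adjoin_map_eq_top (h : Function.Surjective (Algebra.TensorProduct.productMap
    (IsScalarTower.toAlgHom k k' K') (IsScalarTower.toAlgHom k K K'))) {x y : K}
    (hxy : adjoin k ({x, y} : Set K) = ⊤) :
    adjoin k' ({algebraMap K K' x, algebraMap K K' y} : Set K') = ⊤ := by
  set E := adjoin k' ({algebraMap K K' x, algebraMap K K' y} : Set K')
  have hkE : ∀ c : k', algebraMap k' K' c ∈ E := E.algebraMap_mem
  have hKE : ∀ a : K, algebraMap K K' a ∈ E := fun a => by
    let F₀ : IntermediateField k K :=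
      { E.toSubfield.comap (algebraMap K K') with
        algebraMap_mem' := fun c => show algebraMap K K' (algebraMap k K c) ∈ E by
          rw [← IsScalarTower.algebraMap_apply k K K', IsScalarTower.algebraMap_apply k k' K']
          exact hkE _ }
    have h1 : adjoin k ({x, y} : Set K) ≤ F₀ := adjoin_le_iff.2 (by
      rintro t (rfl | rfl)
      · exact subset_adjoin _ _ (Set.mem_insert _ _)
      · exact subset_adjoin _ _ (Set.mem_insert_of_mem _ rfl))
    exact (hxy ▸ h1) (mem_top : a ∈ (⊤ : IntermediateField k K))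
  rw [eq_top_iff]
  intro w hw
  clear hw
  obtain ⟨v, rfl⟩ := h w
  induction v using TensorProduct.induction_on with
  | zero => rw [map_zero]; exact zero_mem _
  | tmul c a =>
    rw [Algebra.TensorProduct.productMap_apply_tmul]
    exact mul_mem (hkE c) (hKE a)
  | add a b ha hb => rw [map_add]; exact add_mem ha hb

end equation

/-- The constants of a constant extension of a geometric function field. -/
theorem isFunctionField_constExt {k k' : Type u} {K K' : Type v} [Field k] [Field k'] [Field K] [Field K']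
    [Algebra k k'] [FiniteDimensional k k'] [Algebra k K] [Algebra K K'] [Algebra k' K'] [Algebra k K']
    [IsScalarTower k k' K'] [IsScalarTower k K K']
    (h : Function.Bijective (Algebra.TensorProduct.productMap
      (IsScalarTower.toAlgHom k k' K') (IsScalarTower.toAlgHom k K K')))
    (hK : IsFunctionField k K) (hg : IsGeometric k K) : IsFunctionField k' K' := by
  refine ⟨isFF_const h.2 hK.1, fun w hw => ?_⟩
  have hwi : IsIntegral k' w := hw.isIntegral
  set q := minpoly k' w with hq
  have : Fact (Irreducible q) := ⟨minpoly.irreducible hwi⟩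
  have : FiniteDimensional k' (AdjoinRoot q) := (AdjoinRoot.powerBasis (minpoly.ne_zero hwi)).finite
  have : FiniteDimensional k (AdjoinRoot q) := Module.Finite.trans k' (AdjoinRoot q)
  let σ : AdjoinRoot q →ₐ[k'] K' :=
    AdjoinRoot.liftAlgHom q (Algebra.ofId k' K') w (minpoly.aeval k' w)
  let Ψ : K ⊗[k] (AdjoinRoot q) →ₐ[K] K' :=
    Algebra.TensorProduct.lift (Algebra.ofId K K') (σ.restrictScalars k) (fun _ _ => .all _ _)
  let Φ : K ⊗[k] k' →ₐ[K] K' :=
    Algebra.TensorProduct.lift (Algebra.ofId K K') (IsScalarTower.toAlgHom k k' K') (fun _ _ => .all _ _)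
  have hΦ : ∀ z : K ⊗[k] k', Φ z = Algebra.TensorProduct.productMap
      (IsScalarTower.toAlgHom k k' K') (IsScalarTower.toAlgHom k K K')
      (Algebra.TensorProduct.comm k K k' z) := fun z => by
    induction z using TensorProduct.induction_on with
    | zero => simp
    | tmul a b => simp [Φ, mul_comm, Algebra.ofId_apply]
    | add a b ha hb => simp only [map_add, ha, hb]
  have hΦb : Function.Bijective Φ := by
    rw [show (Φ : K ⊗[k] k' → K') = _ ∘ _ from funext hΦ]
    exact h.comp (Algebra.TensorProduct.comm k K k').bijective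
  have hΨi : Function.Injective Ψ := by
    have hfld := hg (AdjoinRoot q) inferInstance
    let _ := hfld.toField
    let Ψ' : (AdjoinRoot q) ⊗[k] K →+* K' :=
      Ψ.toRingHom.comp (Algebra.TensorProduct.comm k (AdjoinRoot q) K).toAlgHom.toRingHom
    intro a b hab
    obtain ⟨a', rfl⟩ := (Algebra.TensorProduct.comm k (AdjoinRoot q) K).surjective a
    obtain ⟨b', rfl⟩ := (Algebra.TensorProduct.comm k (AdjoinRoot q) K).surjective b
    exact congrArg _ (Ψ'.injective hab)
  have : FiniteDimensional K K' :=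
    (LinearEquiv.ofBijective Φ.toLinearMap hΦb).finiteDimensional
  have h1 := LinearMap.finrank_le_finrank_of_injective (f := Ψ.toLinearMap) hΨi
  rw [← (LinearEquiv.ofBijective Φ.toLinearMap hΦb).finrank_eq, Module.finrank_baseChange,
    Module.finrank_baseChange, ← Module.finrank_mul_finrank k k' (AdjoinRoot q),
    (AdjoinRoot.powerBasis (minpoly.ne_zero hwi)).finrank, AdjoinRoot.powerBasis_dim] at h1
  have h2 : q.natDegree = 1 := le_antisymm (by
    have h3 : 0 < Module.finrank k k' := Module.finrank_pos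
    nlinarith [h1]) (minpoly.natDegree_pos hwi)
  exact minpoly.natDegree_eq_one_iff.1 h2

/-- Integral closure over the image of a valuation ring. -/
lemma integralClosure_map_le {K L : Type*} [Field K] [Field L] [Algebra K L] (O : ValuationSubring K)
    [Algebra O L] [IsScalarTower O K L] (s : Set L)
    (h : (integralClosure O L).toSubring = (Algebra.adjoin O s).toSubring) :
    integralClosure (O.toSubring.map (algebraMap K L)) L ≤
      Algebra.adjoin (O.toSubring.map (algebraMap K L)) s := by
  intro z hz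
  let e : O.toSubring ≃+* O.toSubring.map (algebraMap K L) :=
    O.toSubring.equivMapOfInjective (algebraMap K L) (algebraMap K L).injective
  have hz' : IsIntegral O z := by
    refine IsIntegral.map_of_comp_eq (e.symm.toRingHom : _ →+* O) (RingHom.id L) ?_ hz
    ext a
    show algebraMap O L (e.symm a) = (a : L)
    rw [IsScalarTower.algebraMap_apply O K L]
    exact congrArg Subtype.val (e.apply_symm_apply a)
  have hmem : z ∈ (Algebra.adjoin O s).toSubring := h ▸ hz'
  have hmem' : z ∈ Algebra.adjoin O s := hmem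
  clear hmem hz' hz
  induction hmem' using Algebra.adjoin_induction with
  | mem t ht => exact Algebra.subset_adjoin ht
  | algebraMap r =>
    refine Subalgebra.algebraMap_mem _
      (⟨algebraMap O L r, Subring.mem_map.2 ⟨(r : K), r.2, ?_⟩⟩ : O.toSubring.map (algebraMap K L))
    exact (IsScalarTower.algebraMap_apply O K L r).symm
  | add a b _ _ ha hb => exact add_mem ha hb
  | mul a b _ _ ha hb => exact mul_mem ha hb

section pinsep

variable {k k₁ K L : Type*} [Field k] [Field k₁] [Field K] [Field L] [Algebra k k₁] [Algebra k K]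
  [Algebra K L] [Algebra k₁ L] [Algebra k L] [IsScalarTower k k₁ L] [IsScalarTower k K L]

lemma exists_pow_mem_range [IsPurelyInseparable k k₁]
    (h : Function.Surjective (Algebra.TensorProduct.productMap
      (IsScalarTower.toAlgHom k k₁ L) (IsScalarTower.toAlgHom k K L))) (z : L) :
    ∃ n : ℕ, z ^ (ringExpChar k) ^ n ∈ (algebraMap K L).range := by
  have : ExpChar L (ringExpChar k) := expChar_of_injective_algebraMap (algebraMap k L).injective _
  obtain ⟨w, rfl⟩ := h z
  induction w using TensorProduct.induction_on with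
  | zero => exact ⟨0, by rw [map_zero, zero_pow (pow_ne_zero _ (expChar_ne_zero k _))]; exact zero_mem _⟩
  | tmul c a =>
    obtain ⟨n, c', hc'⟩ := IsPurelyInseparable.pow_mem k (ringExpChar k) c
    refine ⟨n, ?_⟩
    rw [Algebra.TensorProduct.productMap_apply_tmul, mul_pow]
    refine mul_mem ?_ (pow_mem (show algebraMap K L a ∈ (algebraMap K L).range from ⟨a, rfl⟩) _)
    rw [IsScalarTower.toAlgHom_apply, ← map_pow, ← hc', ← IsScalarTower.algebraMap_apply,
      IsScalarTower.algebraMap_apply k K L]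
    exact ⟨_, rfl⟩
  | add a b ha hb =>
    obtain ⟨m, hm⟩ := ha
    obtain ⟨n, hn⟩ := hb
    refine ⟨m + n, ?_⟩
    rw [map_add, add_pow_expChar_pow]
    refine add_mem ?_ ?_
    · rw [pow_add, pow_mul]; exact pow_mem hm _
    · rw [pow_add, mul_comm, pow_mul]; exact pow_mem hn _

lemma place_ext_of_pow [IsPurelyInseparable k k₁]
    (h : Function.Surjective (Algebra.TensorProduct.productMap
      (IsScalarTower.toAlgHom k k₁ L) (IsScalarTower.toAlgHom k K L))) {P P' : Place k₁ L}
    (he : ∀ a : K, P.1 (algebraMap K L a) ≤ 1 → P'.1 (algebraMap K L a) ≤ 1) : P = P' := by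
  refine eq_of_le fun z hz => ?_
  obtain ⟨n, a, ha⟩ := exists_pow_mem_range h z
  have hq : (ringExpChar k) ^ n ≠ 0 := pow_ne_zero _ (expChar_ne_zero k _)
  rw [← pow_le_one_iff_of_nonneg zero_le hq, ← map_pow, ← ha]
  apply he
  rw [ha, map_pow]
  exact pow_le_one₀ zero_le hz

end pinsep

section above

variable {k k₁ K L : Type*} [Field k] [Field k₁] [Field K] [Field L] [Algebra k k₁] [Algebra k K]
  [Algebra K L] [Algebra k₁ L] [Algebra k L] [IsScalarTower k k₁ L] [IsScalarTower k K L]

/-- A place above a given one, in a possibly infinite constant extension. -/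
lemma exists_place_above [Algebra.IsAlgebraic k k₁] (hL : IsFF k₁ L) (Q : Place k K) :
    ∃ P : Place k₁ L, (∀ z, Q.1 z ≤ 1 → P.1 (algebraMap K L z) ≤ 1) ∧
      ∀ z, Q.1 z < 1 → P.1 (algebraMap K L z) < 1 := by
  classical
  letI : Algebra Q.O L := ((algebraMap K L).comp Q.O.subtype).toAlgebra
  have : IsScalarTower Q.O K L := IsScalarTower.of_algebraMap_eq fun _ => rfl
  obtain ⟨t, ht0, ht⟩ := exists_val_eq Q (-1)
  set w := algebraMap K L t⁻¹ with hw
  have hwi : ¬ IsIntegral Q.O w := fun hi => by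
    have h1 : IsIntegral Q.O t⁻¹ := (isIntegral_algebraMap_iff (algebraMap K L).injective).1 hi
    obtain ⟨r, hr⟩ := IsIntegrallyClosed.isIntegral_iff.1 h1
    have h2 : Q.1 t⁻¹ ≤ 1 := hr ▸ r.2
    rw [map_inv₀, ht, ← exp_neg, exp_le_one'] at h2
    omega
  let S : Subring L := (integralClosure Q.O L).toSubring
  have : IsIntegrallyClosedIn S L := inferInstanceAs (IsIntegrallyClosedIn (integralClosure Q.O L) L)
  obtain ⟨V, hSV, hwV⟩ := S.exists_le_valuationSubring_of_isIntegrallyClosedIn (x := w) hwi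
  have hQV : ∀ z, Q.1 z ≤ 1 → algebraMap K L z ∈ V := fun z hz =>
    hSV (isIntegral_algebraMap : IsIntegral Q.O (algebraMap Q.O L ⟨z, hz⟩))
  have hw0 : w ≠ 0 := fun h0 => hwV (h0 ▸ zero_mem V)
  have hwn : w⁻¹ ∈ V.nonunits := V.mem_nonunits_iff_or.2 (Or.inr (by rwa [inv_inv]))
  have hc : ∀ c : k₁, algebraMap k₁ L c ∈ V := fun c => by
    refine hSV ?_
    have h1 : IsIntegral k (algebraMap k₁ L c) :=
      (Algebra.IsAlgebraic.isAlgebraic c).isIntegral.map (IsScalarTower.toAlgHom k k₁ L)
    refine h1.map_of_comp_eq (algebraMap k Q.O) (RingHom.id L) ?_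
    ext a
    show algebraMap K L (algebraMap k K a) = algebraMap k L a
    exact (IsScalarTower.algebraMap_apply k K L a).symm
  obtain ⟨P, hP1, hP2⟩ := exists_place_of_valuationSubring V hc hL ⟨w⁻¹, hwn, inv_ne_zero hw0⟩
  refine ⟨P, fun z hz => hP1 _ (hQV z hz), fun z hz => ?_⟩
  have hu : Q.1 (z / t) ≤ 1 := by
    rw [map_div₀, ht, div_le_one₀ (zero_lt_iff.2 exp_ne_zero)]
    exact lt_one_le_exp hz
  have h1 := hP2 _ hwn
  rw [hw, map_inv₀ (algebraMap K L) t, inv_inv] at h1
  calc P.1 (algebraMap K L z) = P.1 (algebraMap K L t) * P.1 (algebraMap K L (z / t)) := by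
        rw [← map_mul, ← map_mul, mul_div_cancel₀ _ ht0]
    _ ≤ P.1 (algebraMap K L t) * 1 := mul_le_mul_right (hP1 _ (hQV _ hu)) _
    _ < 1 := by rwa [mul_one]

/-- The restriction of a place having a uniformizer below. -/
noncomputable def restrictPlace (P : Place k₁ L) (t : K) (ht : P.1 (algebraMap K L t) = exp (-1 : ℤ)) :
    Place k K :=
  ⟨P.1.comap (algebraMap K L), fun c => by
    show P.1 (algebraMap K L (algebraMap k K c)) ≤ 1
    rw [← IsScalarTower.algebraMap_apply, IsScalarTower.algebraMap_apply k k₁ L]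
    exact P.2.1 _,
   fun v => by
    rcases eq_or_ne v 0 with rfl | hv
    · exact ⟨0, map_zero _⟩
    · refine ⟨t ^ (-(log v)), ?_⟩
      show P.1 (algebraMap K L (t ^ (-(log v)))) = v
      rw [map_zpow₀, map_zpow₀, ht, ← exp_zsmul, smul_eq_mul, neg_mul_neg, mul_one, exp_log hv]⟩

lemma restrictPlace_apply (P : Place k₁ L) (t : K) (ht : P.1 (algebraMap K L t) = exp (-1 : ℤ)) (z : K) :
    (restrictPlace (k := k) P t ht).1 z = P.1 (algebraMap K L z) := rfl

attribute [local instance 2000] Algebra.toModule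

/-- Residue fields: spanning gives the inequality of degrees, equality gives separability. -/
theorem residue_descend [PerfectField k₁] (Q : Place k K) (P : Place k₁ L)
    (hov : ∀ z, P.1 (algebraMap K L z) = Q.1 z)
    [FiniteDimensional k (IsLocalRing.ResidueField Q.O)]
    [FiniteDimensional k₁ (IsLocalRing.ResidueField P.O)]
    {n : ℕ} (θ : Fin n → K) (hθ : ∀ i, Q.1 (θ i) ≤ 1)
    (hspan : ∀ a : L, P.1 a ≤ 1 → ∃ c : Fin n → k₁,
      P.1 (a - ∑ i, algebraMap k₁ L (c i) * algebraMap K L (θ i)) < 1) :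
    P.deg ≤ Q.deg ∧ (Q.deg ≤ P.deg → Algebra.IsSeparable k (IsLocalRing.ResidueField Q.O)) := by
  classical
  set F := IsLocalRing.ResidueField Q.O
  set F₁ := IsLocalRing.ResidueField P.O
  let incl : Q.O →+* P.O := ((algebraMap K L).comp Q.O.subtype).codRestrict P.O fun a =>
    show P.1 (algebraMap K L a) ≤ 1 from (hov a).trans_le a.2
  have : IsLocalHom incl := ⟨fun a ha => by
    by_contra h
    have h1 : Q.1 (a : K) < 1 := Valuation.Integer.not_isUnit_iff_valuation_lt_one.1 h
    rw [← hov] at h1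
    exact (Valuation.Integer.not_isUnit_iff_valuation_lt_one (x := incl a)).2 h1 ha⟩
  let r : F →+* F₁ := IsLocalRing.ResidueField.map incl
  have hr : ∀ a : Q.O, r (IsLocalRing.residue Q.O a) = IsLocalRing.residue P.O (incl a) :=
    fun a => rfl
  have hrk : ∀ c : k, r (algebraMap k F c) = algebraMap k₁ F₁ (algebraMap k k₁ c) := fun c => by
    show r (IsLocalRing.residue Q.O (algebraMap k Q.O c)) =
      IsLocalRing.residue P.O (algebraMap k₁ P.O (algebraMap k k₁ c))
    rw [hr]
    refine congrArg (IsLocalRing.residue P.O) (Subtype.ext ?_)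
    show algebraMap K L (algebraMap k K c) = algebraMap k₁ L (algebraMap k k₁ c)
    rw [← IsScalarTower.algebraMap_apply, ← IsScalarTower.algebraMap_apply]
  have key : ∀ (m : ℕ) (b : Module.Basis (Fin m) k F),
      (⊤ : Submodule k₁ F₁) ≤ Submodule.span k₁ (Set.range fun i => r (b i)) := by
    intro m b x _
    obtain ⟨a, rfl⟩ := IsLocalRing.residue_surjective x
    obtain ⟨c, hc⟩ := hspan a a.2
    let θ' : Fin n → Q.O := fun i => ⟨θ i, hθ i⟩
    have hx : IsLocalRing.residue P.O a =
        ∑ i, algebraMap k₁ F₁ (c i) * r (IsLocalRing.residue Q.O (θ' i)) := by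
      have h0 : IsLocalRing.residue P.O (a - ∑ i, algebraMap k₁ P.O (c i) * incl (θ' i)) = 0 := by
        refine (IsLocalRing.residue_eq_zero_iff _).2
          (Valuation.Integer.not_isUnit_iff_valuation_lt_one.2 ?_)
        refine lt_of_eq_of_lt (congrArg P.1 ?_) hc
        show P.O.subtype (a - ∑ i, algebraMap k₁ P.O (c i) * incl (θ' i)) = _
        rw [map_sub, map_sum]
        rfl
      rw [map_sub, map_sum, sub_eq_zero] at h0
      rw [h0]
      exact Finset.sum_congr rfl fun i _ => by rw [map_mul]; rfl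
    rw [hx]
    refine Submodule.sum_mem _ fun i _ => ?_
    rw [← Algebra.smul_def]
    refine Submodule.smul_mem _ _ ?_
    rw [← b.sum_repr (IsLocalRing.residue Q.O (θ' i)), map_sum]
    refine Submodule.sum_mem _ fun j _ => ?_
    rw [show ∀ (e : k) (f : F), e • f = algebraMap k F e * f from fun e f => Algebra.smul_def e f,
      map_mul, hrk, ← Algebra.smul_def]
    exact Submodule.smul_mem _ _ (Submodule.subset_span ⟨j, rfl⟩)
  have hdQ : Q.deg = Module.finrank k F := rfl
  have hdP : P.deg = Module.finrank k₁ F₁ := rfl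
  have hle₁ : Module.finrank k₁ F₁ ≤ Module.finrank k F := by
    refine (finrank_top k₁ F₁).symm.trans_le ((Submodule.finrank_mono (key _ (Module.finBasis k F))).trans ?_)
    exact (finrank_range_le_card _).trans_eq (Fintype.card_fin _)
  refine ⟨by rw [hdQ, hdP]; exact hle₁, fun hle => ⟨fun α => ?_⟩⟩
  rw [hdQ, hdP] at hle
  have heqd : Module.finrank k F = Module.finrank k₁ F₁ := le_antisymm hle hle₁
  have hαi : IsIntegral k α := IsIntegral.of_finite k α
  set d := (minpoly k α).natDegree
  have hpow : LinearIndependent k fun j : Fin d => α ^ (j : ℕ) := linearIndependent_pow α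
  let b := Module.Basis.extend hpow.linearIndepOn_id
  have := FiniteDimensional.fintypeBasisIndex b
  have hli : LinearIndependent k₁ fun i => r (b i) := by
    let e := Fintype.equivFin (hpow.linearIndepOn_id.extend (Set.subset_univ _))
    have h1 : LinearIndependent k₁ fun i => r ((b.reindex e) i) :=
      linearIndependent_of_top_le_span_of_card_eq_finrank (key _ (b.reindex e))
        (by rw [Fintype.card_fin, ← heqd, Module.finrank_eq_card_basis b])
    have h2 := h1.comp e e.injective
    convert h2 using 1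
    funext i
    simp
  have hmem : ∀ j : Fin d, α ^ (j : ℕ) ∈ hpow.linearIndepOn_id.extend (Set.subset_univ _) :=
    fun j => hpow.linearIndepOn_id.subset_extend _ ⟨j, rfl⟩
  have hli' : LinearIndependent k₁ fun j : Fin d => r α ^ (j : ℕ) := by
    have h1 := hli.comp (fun j : Fin d => (⟨α ^ (j : ℕ), hmem j⟩ : _)) fun i j hij =>
      hpow.injective (congrArg Subtype.val hij)
    convert h1 using 1
    funext j
    show r α ^ (j : ℕ) = r (b ⟨α ^ (j : ℕ), hmem j⟩)
    rw [Module.Basis.extend_apply_self, map_pow]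
  set g := (minpoly k α).map (algebraMap k k₁) with hg
  have hg0 : aeval (r α) g = 0 := by
    rw [hg, aeval_def, eval₂_map, ← show r.comp (algebraMap k F) = (algebraMap k₁ F₁).comp (algebraMap k k₁) from RingHom.ext hrk,
      ← hom_eval₂, ← aeval_def, minpoly.aeval, map_zero]
  have hri : IsIntegral k₁ (r α) := IsIntegral.of_finite k₁ _
  have hdeg : d ≤ (minpoly k₁ (r α)).natDegree := by
    by_contra hlt
    push Not at hlt
    have h0 := minpoly.aeval k₁ (r α)
    rw [aeval_eq_sum_range] at h0
    have h1 := linearIndependent_iff'.1 hli'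
      (Finset.univ.filter fun j : Fin d => (j : ℕ) < (minpoly k₁ (r α)).natDegree + 1)
      (fun j => (minpoly k₁ (r α)).coeff j) ?_ ⟨(minpoly k₁ (r α)).natDegree, hlt⟩ (by simp)
    · simp [(minpoly.monic hri).coeff_natDegree] at h1
    · rw [← h0]
      refine Finset.sum_bij (fun j _ => (j : ℕ)) (fun j hj => by simpa using hj)
        (fun i _ j _ hij => Fin.ext hij) (fun i hi => ?_) fun j _ => rfl
      have hi' := Finset.mem_range.1 hi
      exact ⟨⟨i, by omega⟩, Finset.mem_filter.2 ⟨Finset.mem_univ _, hi'⟩, rfl⟩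
  have heq : g = minpoly k₁ (r α) := by
    refine (eq_of_monic_of_dvd_of_natDegree_le (minpoly.monic hri) ((minpoly.monic hαi).map _)
      (minpoly.dvd _ _ hg0) ?_)
    rw [natDegree_map]; exact hdeg
  have hs : g.Separable := by rw [heq]; exact PerfectField.separable_of_irreducible (minpoly.irreducible hri)
  exact (separable_map (algebraMap k k₁)).1 hs

end above

lemma adjoin_const_le {k k' K' : Type*} [Field k] [Field k'] [Field K'] [Algebra k k']
    [Algebra.IsAlgebraic k k'] [Algebra k' K'] [Algebra k K'] [IsScalarTower k k' K']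
    (S : Subring K') (hS : ∀ c : k, algebraMap k K' c ∈ S) :
    Algebra.adjoin S (Set.range (algebraMap k' K')) ≤ integralClosure S K' := by
  rw [Algebra.adjoin_le_iff]
  rintro _ ⟨c, rfl⟩
  have h1 : IsIntegral k (algebraMap k' K' c) :=
    (Algebra.IsAlgebraic.isAlgebraic c).isIntegral.map (IsScalarTower.toAlgHom k k' K')
  exact h1.map_of_comp_eq ((algebraMap k K').codRestrict S hS) (RingHom.id K') (by ext; rfl)

lemma adjoin_inv {k K : Type*} [Field k] [Field K] [Algebra k K] (a : K) : k⟮a⁻¹⟯ = k⟮a⟯ :=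
  le_antisymm (adjoin_simple_le_iff.2 (inv_mem (mem_adjoin_simple_self k a)))
    (adjoin_simple_le_iff.2 (by simpa using inv_mem (mem_adjoin_simple_self k a⁻¹)))

section core

attribute [local instance 2000] Algebra.toModule

variable {k : Type u} {K : Type v} [Field k] [Field K] [Algebra k K]

/-- Over finitely many places one can make all residue fields separable. -/
theorem exists_separable_over_zeros (hK : IsFunctionField k K) {g : K} (hg : Transcendental k g)
    (k₁ L : Type*) [Field k₁] [Field L] [PerfectField k₁] [Algebra k k₁] [IsPurelyInseparable k k₁]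
    [Algebra K L] [Algebra k₁ L] [Algebra k L] [IsScalarTower k k₁ L] [IsScalarTower k K L]
    (h₁ : Function.Bijective (Algebra.TensorProduct.productMap
      (IsScalarTower.toAlgHom k k₁ L) (IsScalarTower.toAlgHom k K L))) :
    ∃ s : Finset k₁, ∀ (k' : Type u) (K' : Type v) [Field k'] [Field K'] [Algebra k k']
      [FiniteDimensional k k'] [Algebra k' k₁] [IsScalarTower k k' k₁]
      [Algebra K K'] [Algebra k' K'] [Algebra k K'] [IsScalarTower k k' K'] [IsScalarTower k K K']
      [Algebra K' L] [Algebra k' L] [IsScalarTower k' k₁ L] [IsScalarTower k' K' L] [IsScalarTower K K' L],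
      ↑s ⊆ Set.range (algebraMap k' k₁) →
      Function.Bijective (Algebra.TensorProduct.productMap
        (IsScalarTower.toAlgHom k k' K') (IsScalarTower.toAlgHom k K K')) →
      ∀ Q : Place k' K', Q.1 (algebraMap K K' g) < 1 →
        Algebra.IsSeparable k' (IsLocalRing.ResidueField Q.O) := by
  classical
  have hL : IsFF k₁ L := isFF_const h₁.2 hK.1
  have hgL : Transcendental k₁ (algebraMap K L g) := transcendental_const hg
  have hZf : {P : Place k₁ L | P.1 (algebraMap K L g) < 1}.Finite := finite_zeros hL hgL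
  have hdata : ∀ P : Place k₁ L, ∃ s : Finset k₁, ∃ t : L, P.1 t = exp (-1 : ℤ) ∧
      t ∈ Algebra.adjoin K (algebraMap k₁ L '' s) ∧ ∃ (n : ℕ) (θ : Fin n → L), (∀ i, P.1 (θ i) ≤ 1) ∧
        (∀ i, θ i ∈ Algebra.adjoin K (algebraMap k₁ L '' s)) ∧
        ∀ a : L, P.1 a ≤ 1 → ∃ c : Fin n → k₁, P.1 (a - ∑ i, algebraMap k₁ L (c i) * θ i) < 1 := by
    intro P
    obtain ⟨t, -, ht⟩ := exists_val_eq P (-1)
    have : FiniteDimensional k₁ (IsLocalRing.ResidueField P.O) := finite_residueField hL P
    let b := Module.finBasis k₁ (IsLocalRing.ResidueField P.O)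
    choose θ hθ using fun i => IsLocalRing.residue_surjective (R := P.O) (b i)
    obtain ⟨s₀, hs₀⟩ := tensor_mem_adjoin (k := k) h₁.2 t
    choose si hsi using fun i => tensor_mem_adjoin (k := k) h₁.2 (θ i : L)
    refine ⟨s₀ ∪ Finset.univ.biUnion si, t, ht, hs₀ _ (by simp),
      _, fun i => (θ i : L), fun i => (θ i).2, fun i => hsi i _ ?_, fun a ha => ?_⟩
    · intro z hz
      rw [Finset.coe_union]
      exact Or.inr (Finset.mem_coe.2 (Finset.mem_biUnion.2 ⟨i, Finset.mem_univ _, hz⟩))
    refine ⟨fun i => b.repr (IsLocalRing.residue P.O ⟨a, ha⟩) i, ?_⟩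
    set c := fun i => b.repr (IsLocalRing.residue P.O ⟨a, ha⟩) i
    have h0 : IsLocalRing.residue P.O (⟨a, ha⟩ - ∑ i, algebraMap k₁ P.O (c i) * θ i) = 0 := by
      rw [map_sub, map_sum, sub_eq_zero]
      refine (b.sum_repr _).symm.trans (Finset.sum_congr rfl fun i _ => ?_)
      rw [map_mul, hθ]
      exact Algebra.smul_def _ _
    have h1 := Valuation.Integer.not_isUnit_iff_valuation_lt_one.1 ((IsLocalRing.residue_eq_zero_iff _).1 h0)
    refine lt_of_eq_of_lt (congrArg P.1 ?_) h1
    show _ = P.O.subtype (⟨a, ha⟩ - ∑ i, algebraMap k₁ P.O (c i) * θ i)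
    rw [map_sub, map_sum]
    rfl
  choose sP tP htP htPm nP θP hθP hθPm hspanP using hdata
  refine ⟨hZf.toFinset.biUnion sP, ?_⟩
  intro k' K' _ _ _ _ _ _ _ _ _ _ _ _ _ _ _ _ hs h' Q hQ
  haveI : Algebra.IsAlgebraic k' k₁ := Algebra.IsAlgebraic.tower_top (K := k) k'
  have hK' : IsFF k' K' := isFF_const h'.2 hK.1
  have hgK' : Transcendental k' (algebraMap K K' g) := transcendental_const hg
  set Z := hZf.toFinset with hZ
  have hrange : ∀ P ∈ Z, ∀ a ∈ Algebra.adjoin K (algebraMap k₁ L '' (sP P : Set k₁)),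
      ∃ a' : K', algebraMap K' L a' = a := by
    intro P hP a ha
    have h1 : Algebra.adjoin K (algebraMap k₁ L '' (sP P : Set k₁)) ≤
        (IsScalarTower.toAlgHom K K' L).range := by
      rw [Algebra.adjoin_le_iff]
      rintro _ ⟨c, hc, rfl⟩
      obtain ⟨c', rfl⟩ := hs (Finset.mem_coe.2 (Finset.mem_biUnion.2 ⟨P, hP, hc⟩))
      refine ⟨algebraMap k' K' c', ?_⟩
      show algebraMap K' L (algebraMap k' K' c') = _
      rw [← IsScalarTower.algebraMap_apply, ← IsScalarTower.algebraMap_apply]
    exact h1 ha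
  choose! tK htK using fun P (hP : P ∈ Z) => hrange P hP _ (htPm P)
  have htK' : ∀ P : Z, P.1.1 (algebraMap K' L (tK P.1)) = exp (-1 : ℤ) := fun P => by
    rw [htK P.1 P.2]; exact htP P.1
  let Qr : Z → Place k' K' := fun P => restrictPlace (k := k') P.1 (tK P.1) (htK' P)
  have hQr : ∀ (P : Z) (z : K'), P.1.1 (algebraMap K' L z) = (Qr P).1 z := fun P z => rfl
  have hgLK : algebraMap K' L (algebraMap K K' g) = algebraMap K L g :=
    (IsScalarTower.algebraMap_apply K K' L g).symm
  have hinj : Function.Injective Qr := fun P P' e => Subtype.ext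
    (place_ext_of_pow (k := k) h₁.2 fun a ha => by
      rw [IsScalarTower.algebraMap_apply K K' L, hQr, e] at ha
      rwa [IsScalarTower.algebraMap_apply K K' L, hQr])
  have hres : ∀ P : Z, P.1.deg ≤ (Qr P).deg ∧ ((Qr P).deg ≤ P.1.deg →
      Algebra.IsSeparable k' (IsLocalRing.ResidueField (Qr P).O)) := fun P => by
    have : FiniteDimensional k₁ (IsLocalRing.ResidueField P.1.O) := finite_residueField hL P.1
    have : FiniteDimensional k' (IsLocalRing.ResidueField (Qr P).O) := finite_residueField hK' (Qr P)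
    choose θ hθ using fun i => hrange P.1 P.2 _ (hθPm P.1 i)
    refine residue_descend (Qr P) P.1 (hQr P) θ (fun i => ?_) fun a ha => ?_
    · rw [← hQr, hθ]; exact hθP P.1 i
    · obtain ⟨c, hc⟩ := hspanP P.1 a ha
      exact ⟨c, by simpa only [hθ] using hc⟩
  -- degrees
  have hgL0 : algebraMap K L g ≠ 0 := fun e => hgL (e ▸ isAlgebraic_zero)
  have := finite_over_adjoin hK.1 hg
  have hn₁ : Module.finrank k₁⟮algebraMap K L g⟯ L = Module.finrank k⟮g⟯ K := by
    obtain ⟨hf, hle⟩ := finite_adjoin_const (k := k) (k₁ := k₁) (L := L) h₁.2 g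
    exact le_antisymm hle (finrank_adjoin_const_ge h₁.1 hg hgL)
  have hn' : Module.finrank k'⟮algebraMap K K' g⟯ K' = Module.finrank k⟮g⟯ K := by
    obtain ⟨hf, hle⟩ := finite_adjoin_const (k := k) (k₁ := k') (L := K') h'.2 g
    exact le_antisymm hle (finrank_adjoin_const_ge h'.1 hg hgK')
  have hmemZ : ∀ P : Place k₁ L, P ∈ Z ↔ P.1 (algebraMap K L g) < 1 := fun P => hZf.mem_toFinset
  have hsumL : ∑ P ∈ Z.attach, P.1.ord (algebraMap K L g) * P.1.deg = Module.finrank k⟮g⟯ K := by
    have hi : Transcendental k₁ (algebraMap K L g)⁻¹ := fun e => hgL (by simpa using e.inv)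
    have h1 := deg_poles hL hi
    rw [adjoin_inv, hn₁] at h1
    rw [← h1, deg_eq_sum (s := Z) fun P hP => ?_,
      Finset.sum_attach Z fun P => P.ord (algebraMap K L g) * P.deg]
    · refine Finset.sum_congr rfl fun P hP => ?_
      rw [poles_apply hL, ord_inv, neg_neg, max_eq_left]
      exact ((val_lt_one_iff P hgL0).1 ((hmemZ P).1 hP)).le
    · rw [Finsupp.mem_support_iff, poles_apply hL, ord_inv, neg_neg] at hP
      exact (hmemZ P).2 ((val_lt_one_iff P hgL0).2 (by omega))
  have hsumK : ∑ P ∈ Z.attach, (Qr P).ord (algebraMap K K' g) * (Qr P).deg ≤ Module.finrank k⟮g⟯ K := by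
    have h1 := sum_ord_le hK' hgK' (Z.attach.image Qr) fun Q' hQ' => by
      obtain ⟨P, -, rfl⟩ := Finset.mem_image.1 hQ'
      rw [← hQr, hgLK]
      exact (hmemZ P.1).1 P.2
    rw [Finset.sum_image hinj.injOn, hn'] at h1
    exact h1
  have hord : ∀ P : Z, (Qr P).ord (algebraMap K K' g) = P.1.ord (algebraMap K L g) := fun P => by
    rw [Place.ord, Place.ord, ← hQr, hgLK]
  have hterm : ∀ P ∈ Z.attach, P.1.ord (algebraMap K L g) * (P.1.deg : ℤ) ≤
      (Qr P).ord (algebraMap K K' g) * (Qr P).deg := fun P _ => by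
    rw [hord]
    exact mul_le_mul_of_nonneg_left (by exact_mod_cast (hres P).1)
      ((val_lt_one_iff P.1 hgL0).1 ((hmemZ P.1).1 P.2)).le
  have heq := (Finset.sum_eq_sum_iff_of_le hterm).1
    (le_antisymm (Finset.sum_le_sum hterm) (hsumK.trans_eq hsumL.symm))
  -- the given place
  obtain ⟨P, hP1, hP2⟩ := exists_place_above (k₁ := k₁) hL Q
  have hPZ : P ∈ Z := (hmemZ P).2 (hgLK ▸ hP2 _ hQ)
  obtain rfl : Q = Qr ⟨P, hPZ⟩ := eq_of_le fun z hz => hP1 z hz
  refine (hres ⟨P, hPZ⟩).2 ?_
  have h2 := heq ⟨P, hPZ⟩ (Finset.mem_attach _ _)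
  rw [hord] at h2
  have h3 := mul_left_cancel₀ ((val_lt_one_iff P hgL0).1 ((hmemZ P).1 hPZ)).ne' h2
  omega

/-- A finite purely inseparable constant extension making `K` nonsingular. -/
theorem exists_nonsingular_const (hK : IsFunctionField k K) (hg : IsGeometric k K) :
    ∃ (k' : Type u) (_ : Field k') (_ : Algebra k k'), FiniteDimensional k k' ∧ IsPurelyInseparable k k' ∧
      ∀ (K' : Type v) [Field K'] [Algebra K K'] [Algebra k' K'] [Algebra k K']
        [IsScalarTower k k' K'] [IsScalarTower k K K'],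
        Function.Bijective (Algebra.TensorProduct.productMap
          (IsScalarTower.toAlgHom k k' K') (IsScalarTower.toAlgHom k K K')) →
        ∀ (Q : Place k' K') (k'' : Type u) [Field k''] [Algebra k' k''] [FiniteDimensional k' k'']
          (K'' : Type v) [Field K''] [Algebra K' K''] [Algebra k'' K''] [Algebra k' K'']
          [IsScalarTower k' k'' K''] [IsScalarTower k' K' K''],
          Function.Bijective (Algebra.TensorProduct.productMap
            (IsScalarTower.toAlgHom k' k'' K'') (IsScalarTower.toAlgHom k' K' K'')) →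
          integralClosure (Q.O.toSubring.map (algebraMap K' K'')) K'' =
            Algebra.adjoin (Q.O.toSubring.map (algebraMap K' K'')) (Set.range (algebraMap k'' K'')) := by
  classical
  obtain ⟨x, hx, hsep⟩ := Res.exists_separating hK hg
  obtain ⟨y, hy, hxy⟩ := exists_integral_generator hK hx
  obtain ⟨f, hfm, hf0, hfd⟩ := exists_separable_equation hx hy
  let k₁ := perfectClosure k (AlgebraicClosure k)
  have hfld := isField_tensor_of_isAlgebraic hg k₁
  letI : Field (k₁ ⊗[k] K) := hfld.toField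
  letI : Algebra K (k₁ ⊗[k] K) := Algebra.TensorProduct.rightAlgebra
  haveI : IsScalarTower k K (k₁ ⊗[k] K) := Algebra.TensorProduct.right_isScalarTower
  have hpm : ∀ z : k₁ ⊗[k] K, Algebra.TensorProduct.productMap
      (IsScalarTower.toAlgHom k k₁ (k₁ ⊗[k] K)) (IsScalarTower.toAlgHom k K (k₁ ⊗[k] K)) z = z := fun z => by
    induction z using TensorProduct.induction_on with
    | zero => exact map_zero _
    | tmul a b =>
      rw [Algebra.TensorProduct.productMap_apply_tmul]
      show (a ⊗ₜ[k] (1 : K)) * ((1 : k₁) ⊗ₜ[k] b) = a ⊗ₜ[k] b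
      rw [Algebra.TensorProduct.tmul_mul_tmul, mul_one, one_mul]
    | add a b ha hb => rw [map_add, ha, hb]
  have h₁ : Function.Bijective (Algebra.TensorProduct.productMap
      (IsScalarTower.toAlgHom k k₁ (k₁ ⊗[k] K)) (IsScalarTower.toAlgHom k K (k₁ ⊗[k] K))) :=
    ⟨fun a b e => by rwa [hpm, hpm] at e, fun z => ⟨z, hpm z⟩⟩
  let d := aeval y (derivative f)
  let G : Finset K := ({x⁻¹, y⁻¹, d, d⁻¹} : Finset K).filter (Transcendental k ·)
  choose! sg hsg using fun g (hgG : g ∈ G) =>
    exists_separable_over_zeros hK (Finset.mem_filter.1 hgG).2 k₁ (k₁ ⊗[k] K) h₁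
  let k' := IntermediateField.adjoin k ((G.biUnion sg : Finset k₁) : Set k₁)
  haveI hfin : FiniteDimensional k k' :=
    finiteDimensional_adjoin (S := ((G.biUnion sg : Finset k₁) : Set k₁))
      fun c _ => (Algebra.IsAlgebraic.isAlgebraic c).isIntegral
  refine ⟨k', inferInstance, inferInstance, hfin, inferInstance, ?_⟩
  intro K' _ _ _ _ _ _ h Q k'' _ _ _ K'' _ _ _ _ _ _ h''
  have hS : ∀ c : k', algebraMap k' K'' c ∈ Q.O.toSubring.map (algebraMap K' K'') := fun c =>
    Subring.mem_map.2 ⟨algebraMap k' K' c, Q.2.1 c, (IsScalarTower.algebraMap_apply k' K' K'' c).symm⟩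
  have hK' := isFunctionField_constExt h hK hg
  obtain ⟨f', hf'm, hf'0, hf'd⟩ := exists_map_equation (k' := k') (K' := K') f hfm hf0
  by_cases hgood : Q.1 (algebraMap K K' x) ≤ 1 ∧ Q.1 (algebraMap K K' y) ≤ 1 ∧
      Q.1 (algebraMap K K' d) = 1
  · refine integralClosure_eq_of_smooth h''.2 hK' (transcendental_const hx)
      (adjoin_map_eq_top h.2 hxy) f' hf'm hf'0 ?_ Q hgood.1 hgood.2.1 ?_
    · rw [hf'd]; exact (_root_.map_ne_zero _).2 hfd
    · rw [hf'd]; exact hgood.2.2
  refine le_antisymm ?_ (adjoin_const_le _ hS)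
  have halg : ∀ z : K, ¬ Transcendental k z → z ≠ 0 → Q.1 (algebraMap K K' z) = 1 := fun z hz hz0 => by
    obtain ⟨c, rfl⟩ := hK.2 z (not_not.1 hz)
    rw [← IsScalarTower.algebraMap_apply, IsScalarTower.algebraMap_apply k k' K']
    exact val_const Q ((_root_.map_ne_zero _).2 fun e => hz0 (by rw [e, map_zero]))
  obtain ⟨g, hgG, hgQ⟩ : ∃ g ∈ G, Q.1 (algebraMap K K' g) < 1 := by
    have mk : ∀ z ∈ ({x⁻¹, y⁻¹, d, d⁻¹} : Finset K), z ≠ 0 → Q.1 (algebraMap K K' z) < 1 →
        ∃ g ∈ G, Q.1 (algebraMap K K' g) < 1 := fun z hz hz0 hlt =>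
      ⟨z, Finset.mem_filter.2 ⟨hz, by_contra fun ht => absurd (halg z ht hz0) hlt.ne⟩, hlt⟩
    by_cases h1 : Q.1 (algebraMap K K' x) ≤ 1
    · by_cases h2 : Q.1 (algebraMap K K' y) ≤ 1
      · rcases lt_or_gt_of_ne (fun e => hgood ⟨h1, h2, e⟩) with h3 | h3
        · exact mk d (by simp) hfd h3
        · exact mk d⁻¹ (by simp) (inv_ne_zero hfd) (by rw [map_inv₀, map_inv₀]; exact inv_lt_one_of_one_lt₀ h3)
      · push Not at h2
        have hy0 : y ≠ 0 := fun e => by simp [e] at h2
        exact mk y⁻¹ (by simp) (inv_ne_zero hy0) (by rw [map_inv₀, map_inv₀]; exact inv_lt_one_of_one_lt₀ h2)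
    · push Not at h1
      have hx0 : x ≠ 0 := fun e => by simp [e] at h1
      exact mk x⁻¹ (by simp) (inv_ne_zero hx0) (by rw [map_inv₀, map_inv₀]; exact inv_lt_one_of_one_lt₀ h1)
  let e := AlgEquiv.ofBijective _ h
  let ι : K' →ₐ[k] k₁ ⊗[k] K := (Algebra.TensorProduct.map k'.val (AlgHom.id k K)).comp e.symm.toAlgHom
  have hιk : ∀ c : k', ι (algebraMap k' K' c) = (c : k₁) ⊗ₜ[k] (1 : K) := fun c => by
    have h1 : e (c ⊗ₜ[k] (1 : K)) = algebraMap k' K' c := by simp [e]
    show Algebra.TensorProduct.map k'.val (AlgHom.id k K) (e.symm (algebraMap k' K' c)) = _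
    rw [← h1, AlgEquiv.symm_apply_apply]
    simp
  have hιK : ∀ a : K, ι (algebraMap K K' a) = (1 : k₁) ⊗ₜ[k] a := fun a => by
    have h1 : e ((1 : k') ⊗ₜ[k] a) = algebraMap K K' a := by simp [e]
    show Algebra.TensorProduct.map k'.val (AlgHom.id k K) (e.symm (algebraMap K K' a)) = _
    rw [← h1, AlgEquiv.symm_apply_apply]
    simp
  letI : Algebra K' (k₁ ⊗[k] K) := ι.toRingHom.toAlgebra
  haveI : IsScalarTower K K' (k₁ ⊗[k] K) := IsScalarTower.of_algebraMap_eq fun a => (hιK a).symm
  haveI : @IsScalarTower k' K' (k₁ ⊗[k] K) Algebra.toSMul Algebra.toSMul Algebra.toSMul := IsScalarTower.of_algebraMap_eq fun c => (hιk c).symm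
  have hsep' : Algebra.IsSeparable k' (IsLocalRing.ResidueField Q.O) :=
    hsg g hgG k' K' (fun c hc => ⟨⟨c, subset_adjoin k _ (Finset.mem_coe.2
      (Finset.mem_biUnion.2 ⟨g, hgG, hc⟩))⟩, rfl⟩) h Q hgQ
  letI : Algebra Q.O K'' := ((algebraMap K' K'').comp Q.O.subtype).toAlgebra
  haveI : IsScalarTower Q.O K' K'' := IsScalarTower.of_algebraMap_eq fun _ => rfl
  exact integralClosure_map_le Q.O _ (integralClosure_eq_of_separable_residue h'' hK'.1 Q)

end core

end Groth.Agent.FF
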