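/-
Intersection multiplicities of plane curves as lengths of local rings.
-/
import Groth.Agent.L26.FF.PlaneRelation
import Groth.Agent.L26.FF.Embed
import Groth.Agent.L26.FF.IntClosure
import Groth.Agent.L26.FF.Closed
import Mathlib.RingTheory.Localization.AtPrime.Basic

open WithZero

namespace Groth.Agent.FF

open FunFld

variable {k K : Type*} [Field k] [Field K] [Algebra k K]

lemma relQ_finite_right {M : Type*} [AddCommGroup M] [Module k M] {A B C : Submodule k M} (h : A ≤ B)
    [FiniteDimensional k (RelQ A C)] : FiniteDimensional k (RelQ B C) := by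
  refine Module.Finite.of_surjective
    (Submodule.mapQ (Submodule.comap C.subtype A) (Submodule.comap C.subtype B) LinearMap.id fun x hx => h hx)
    fun y => ?_
  obtain ⟨x, rfl⟩ := Submodule.Quotient.mk_surjective _ y
  exact ⟨Submodule.Quotient.mk x, rfl⟩

lemma relQ_finite_left {M : Type*} [AddCommGroup M] [Module k M] {A B C : Submodule k M} (h : B ≤ C)
    [FiniteDimensional k (RelQ A C)] : FiniteDimensional k (RelQ A B) :=
  (relQ_of_map ((Submodule.comap C.subtype A).mkQ.comp (Submodule.inclusion h))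
    (by ext x; simp [Submodule.Quotient.mk_eq_zero])).1

/-- `dim R/gR = dim B/gB` for a finite index subspace. -/
lemma finrank_relQ_mul {R B : Submodule k K} (hRB : R ≤ B) [FiniteDimensional k (RelQ R B)] {g : K}
    (hg0 : g ≠ 0) (hgR : R.map (LinearMap.mulLeft k g) ≤ R) (hgB : B.map (LinearMap.mulLeft k g) ≤ B)
    [FiniteDimensional k (RelQ (B.map (LinearMap.mulLeft k g)) B)] :
    FiniteDimensional k (RelQ (R.map (LinearMap.mulLeft k g)) R) ∧
      Module.finrank k (RelQ (R.map (LinearMap.mulLeft k g)) R) =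
        Module.finrank k (RelQ (B.map (LinearMap.mulLeft k g)) B) := by
  set gR := R.map (LinearMap.mulLeft k g)
  set gB := B.map (LinearMap.mulLeft k g)
  have hmem : ∀ z : gB, g⁻¹ * (z : K) ∈ B := fun z => by
    obtain ⟨b, hb, hbz⟩ := z.2
    rwa [← hbz, LinearMap.mulLeft_apply, ← mul_assoc, inv_mul_cancel₀ hg0, one_mul]
  let f : gB →ₗ[k] RelQ R B := (Submodule.comap B.subtype R).mkQ.comp
    (((LinearMap.mulLeft k g⁻¹).comp gB.subtype).codRestrict B hmem)
  have hker : LinearMap.ker f = Submodule.comap gB.subtype gR := by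
    ext z
    rw [LinearMap.mem_ker]
    show Submodule.Quotient.mk _ = 0 ↔ _
    rw [Submodule.Quotient.mk_eq_zero]
    show g⁻¹ * (z : K) ∈ R ↔ (z : K) ∈ gR
    constructor
    · exact fun h => ⟨_, h, show g * (g⁻¹ * (z : K)) = _ by rw [← mul_assoc, mul_inv_cancel₀ hg0, one_mul]⟩
    · rintro ⟨b, hb, hbz⟩
      rwa [← hbz, LinearMap.mulLeft_apply, ← mul_assoc, inv_mul_cancel₀ hg0, one_mul]
  have hsurj : Function.Surjective f := fun y => by
    obtain ⟨b, rfl⟩ := Submodule.Quotient.mk_surjective _ y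
    refine ⟨⟨g * (b : K), b, b.2, rfl⟩, congrArg Submodule.Quotient.mk (Subtype.ext ?_)⟩
    show g⁻¹ * (g * (b : K)) = b
    rw [← mul_assoc, inv_mul_cancel₀ hg0, one_mul]
  obtain ⟨hfin, hdim⟩ := relQ_of_surj f hker hsurj
  obtain ⟨hfin', hdim'⟩ := relQ_add (Submodule.map_mono hRB) hgB hfin ‹_›
  have h3 : FiniteDimensional k (RelQ gR R) := relQ_finite_left hRB
  obtain ⟨-, hdim''⟩ := relQ_add hgR hRB h3 ‹_›
  change Module.finrank k (RelQ gR B) = Module.finrank k (RelQ gR gB) + Module.finrank k (RelQ gB B) at hdim'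
  exact ⟨h3, by omega⟩

theorem intersectionMult [IsAlgClosed k] (hK : IsFunctionField k K) (x y : K)
    (hxy : IntermediateField.adjoin k ({x, y} : Set K) = ⊤) (f g : MvPolynomial (Fin 2) k)
    (hf : Irreducible f) (hfxy : MvPolynomial.aeval ![x, y] f = 0)
    (hgxy : MvPolynomial.aeval ![x, y] g ≠ 0) (P : Place k K) (c : Fin 2 → k)
    (hc : ∀ i, P.1 (![x, y] i - algebraMap k K (c i)) < 1)
    (M : Ideal (MvPolynomial (Fin 2) k)) [M.IsMaximal]
    (hM : M = Ideal.span {MvPolynomial.X 0 - MvPolynomial.C (c 0), MvPolynomial.X 1 - MvPolynomial.C (c 1)}) :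
    ∑ᶠ Q ∈ {Q : Place k K | SameImage ![(1 : K), x, y] P Q},
        Q.ord (MvPolynomial.aeval ![x, y] g) =
      (Module.finrank k (Localization.AtPrime M ⧸
        Ideal.map (algebraMap (MvPolynomial (Fin 2) k) (Localization.AtPrime M))
          (Ideal.span {f, g})) : ℤ) := by
  classical
  set b : Fin 2 → K := ![x, y]
  set T : Set (Place k K) := {Q | SameImage ![(1 : K), x, y] P Q}
  -- the fibre
  have hT : ∀ Q, Q ∈ T ↔ ∀ i, Q.1 (b i - algebraMap k K (c i)) < 1 := fun Q => by
    have hle : ∀ (R : Place k K), (∀ i, R.1 (b i - algebraMap k K (c i)) < 1) →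
        ∀ i, R.1 (![(1 : K), x, y] i) ≤ R.1 (![(1 : K), x, y] 0) := fun R h i => by
      have hb : ∀ i, R.1 (b i) ≤ 1 := fun i => by
        rw [← sub_add_cancel (b i) (algebraMap k K (c i))]
        exact (R.1.map_add _ _).trans (max_le (h i).le (R.2.1 _))
      fin_cases i
      · exact le_rfl
      · show R.1 x ≤ R.1 1; rw [map_one]; exact hb 0
      · show R.1 y ≤ R.1 1; rw [map_one]; exact hb 1
    constructor
    · rintro ⟨j, hj0, hPj, hQj, hA⟩
      obtain ⟨d, hd, hd'⟩ := hA 0
      set Φ := (![(1 : K), x, y])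
      have hP1 : P.1 (Φ j) = 1 := le_antisymm ((hle P hc j).trans_eq (map_one _)) ((map_one P.1).ge.trans (hPj 0))
      have hd0 : d ≠ 0 := by
        rintro rfl
        rw [map_zero, sub_zero, map_div₀, hP1, show P.1 (Φ 0) = 1 from map_one _, div_one] at hd
        exact lt_irrefl _ hd
      have hu : Q.1 (Φ 0 / Φ j) = 1 := by
        have h3 := Q.1.map_add_eq_of_lt_right (hd'.trans_eq (val_const Q hd0).symm)
        rw [sub_add_cancel] at h3
        exact h3.trans (val_const Q hd0)
      intro i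
      obtain ⟨e, he, he'⟩ := hA i.succ
      have hΦi : Φ i.succ = b i := by fin_cases i <;> rfl
      have key : ∀ R : Place k K, R.1 (Φ i.succ / Φ j - algebraMap k K e) < 1 →
          R.1 (Φ 0 / Φ j - algebraMap k K d) < 1 → R.1 (Φ 0 / Φ j) = 1 →
          R.1 (b i - algebraMap k K (e / d)) < 1 := fun R h1 h2 h3 => by
        have heq : b i - algebraMap k K (e / d) =
            ((Φ i.succ / Φ j - algebraMap k K e) - algebraMap k K (e / d) * (Φ 0 / Φ j - algebraMap k K d)) /
              (Φ 0 / Φ j) := by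
          have : algebraMap k K d ≠ 0 := (map_ne_zero _).2 hd0
          rw [← hΦi, show Φ 0 = 1 from rfl, map_div₀]
          field_simp
          ring
        rw [heq, map_div₀, h3, div_one]
        refine R.1.map_sub_lt h1 ?_
        rw [map_mul]
        exact (mul_le_of_le_one_left' (R.2.1 _)).trans_lt h2
      have hP0 : P.1 (Φ 0 / Φ j) = 1 := by rw [map_div₀, hP1, show P.1 (Φ 0) = 1 from map_one _, div_one]
      have hPi := key P he hd hP0
      have hce : c i = e / d := by
        by_contra hne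
        have h4 := P.1.map_sub_lt hPi (hc i)
        rw [sub_sub_sub_cancel_left, ← map_sub, val_const P (sub_ne_zero.2 hne)] at h4
        exact lt_irrefl _ h4
      rw [hce]
      exact key Q he' hd' hu
    · intro h
      refine ⟨0, one_ne_zero, hle P hc, hle Q h, fun i => ?_⟩
      fin_cases i
      · exact ⟨1, by simp, by simp⟩
      · exact ⟨c 0, by simpa [b] using hc 0, by simpa [b] using h 0⟩
      · exact ⟨c 1, by simpa [b] using hc 1, by simpa [b] using h 1⟩
  have hTfin : T.Finite := by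
    obtain ⟨i, hi⟩ : ∃ i, b i - algebraMap k K (c i) ≠ 0 := by
      by_contra hne
      simp only [not_exists, not_not, sub_eq_zero] at hne
      obtain ⟨z, hz, -⟩ := hK.1
      have htop : (⊤ : IntermediateField k K) ≤ ⊥ := by
        rw [← hxy, IntermediateField.adjoin_le_iff]
        rintro w (rfl | rfl)
        · exact IntermediateField.mem_bot.2 ⟨c 0, (hne 0).symm⟩
        · exact IntermediateField.mem_bot.2 ⟨c 1, (hne 1).symm⟩
      obtain ⟨d, rfl⟩ := IntermediateField.mem_bot.1 (htop (IntermediateField.mem_top (x := z)))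
      exact hz (isAlgebraic_algebraMap d)
    refine (div k (b i - algebraMap k K (c i))).support.finite_toSet.subset fun Q hQ => ?_
    rw [Finset.mem_coe, Finsupp.mem_support_iff, div_apply hK.1]
    have := (val_lt_one_iff Q hi).1 ((hT Q).1 hQ i)
    omega
  -- the chart
  obtain ⟨hgen', hspan, hmap⟩ := plane_normalize hK x y hxy
  set φ := (![(1 : K), nz x, nz y]) with hφdef
  have hne : ∀ i, φ i ≠ 0 := plane_ne_zero (nz_ne_zero x) (nz_ne_zero y)
  have haff : aff k φ 0 = Algebra.adjoin k (Set.range b) := by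
    have hS : ∀ {s : Set K}, Subalgebra.toSubmodule (Algebra.adjoin k s) ≥ Submodule.span k s := fun {s} =>
      Submodule.span_le.2 Algebra.subset_adjoin
    have hr : Set.range (ratio φ 0) = Set.range φ := by
      congr 1; funext i; show φ i / φ 0 = φ i; rw [show φ 0 = 1 from rfl, div_one]
    show Algebra.adjoin k (Set.range (ratio φ 0)) = _
    rw [hr]
    refine le_antisymm (Algebra.adjoin_le ?_) (Algebra.adjoin_le ?_)
    · rintro z hz
      have : z ∈ Submodule.span k (Set.range ![(1 : K), x, y]) := hspan.symm ▸ Submodule.subset_span hz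
      refine (Submodule.span_le.2 ?_ : Submodule.span k _ ≤ Subalgebra.toSubmodule (Algebra.adjoin k (Set.range b))) this
      rintro _ ⟨i, rfl⟩
      fin_cases i
      · show (1 : K) ∈ Algebra.adjoin k (Set.range b)
        exact one_mem _
      · exact Algebra.subset_adjoin ⟨0, rfl⟩
      · exact Algebra.subset_adjoin ⟨1, rfl⟩
    · rintro _ ⟨i, rfl⟩
      refine hS (s := Set.range φ) ?_
      rw [← hspan]
      exact Submodule.subset_span ⟨i.succ, by fin_cases i <;> rfl⟩
  have hbP : ∀ i, P.1 (b i) ≤ 1 := fun i => by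
    rw [← sub_add_cancel (b i) (algebraMap k K (c i))]
    exact (P.1.map_add _ _).trans (max_le (hc i).le (P.2.1 _))
  have hnz : ∀ (R : Place k K) (z : K), R.1 z ≤ 1 → R.1 (nz z) ≤ 1 := fun R z hz => by
    simp only [nz]; split_ifs <;> simp [hz]
  have hj : ∀ i, P.1 (φ i) ≤ P.1 (φ 0) := fun i => by
    rw [show φ 0 = 1 from rfl, map_one]
    fin_cases i
    · exact (map_one _).le
    · exact hnz P x (hbP 0)
    · exact hnz P y (hbP 1)
  have hbdry : bdry k φ 0 ≠ 0 := by
    intro h
    obtain ⟨z, hz, -⟩ := hK.1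
    have htop : (⊤ : IntermediateField k K) ≤ ⊥ := by
      rw [← hgen', IntermediateField.adjoin_le_iff]
      have hmem : ∀ i, φ i ∈ (⊥ : IntermediateField k K) := fun i => by
        have h1 := ratio_mem_L hK.1 hne i 0
        rw [h, L_zero hK, Submodule.mem_one] at h1
        obtain ⟨d, hd⟩ := h1
        exact IntermediateField.mem_bot.2 ⟨d, by rw [hd]; show φ i / φ 0 = _; rw [show φ 0 = 1 from rfl, div_one]⟩
      rintro w (rfl | rfl)
      · exact hmem 1
      · exact hmem 2
    obtain ⟨d, rfl⟩ := IntermediateField.mem_bot.1 (htop (IntermediateField.mem_top (x := z)))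
    exact hz (isAlgebraic_algebraMap d)
  have hbir : IntermediateField.adjoin k (Set.range (ratio φ 0)) = ⊤ := by
    rw [eq_top_iff, ← hgen', IntermediateField.adjoin_le_iff]
    rintro w (rfl | rfl)
    · exact IntermediateField.subset_adjoin _ _ ⟨1, div_one _⟩
    · exact IntermediateField.subset_adjoin _ _ ⟨2, div_one _⟩
  obtain ⟨N, hN⟩ := exists_bound hK hne 0 P hj hbdry hbir
  have hTA : ∀ Q, bdry k φ 0 Q = 0 → Agree φ 0 P Q → Q ∈ T := fun Q hQ hA => (hT Q).2 fun i => by
    have hmem : b i - algebraMap k K (c i) ∈ aff k φ 0 :=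
      haff ▸ sub_mem (Algebra.subset_adjoin ⟨i, rfl⟩) (Subalgebra.algebraMap_mem _ _)
    exact agree_lt_one hA hmem (hc i)
  -- values on the local ring
  have hTval : ∀ Q ∈ T, ∀ u ∈ aff k φ 0, ∃ d : k, Q.1 (u - algebraMap k K d) < 1 ∧ P.1 (u - algebraMap k K d) < 1 := by
    intro Q hQ
    have : aff k φ 0 ≤ agreeAlg k Q P := by
      rw [haff]
      refine Algebra.adjoin_le ?_
      rintro _ ⟨i, rfl⟩
      exact ⟨c i, (hT Q).1 hQ i, hc i⟩
    exact fun u hu => this hu
  have hTle : ∀ Q ∈ T, ∀ z ∈ locAlg k φ 0 P, Q.1 z ≤ 1 := by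
    rintro Q hQ z ⟨u, hu, w, hw, hw1, h⟩
    have hle : ∀ u ∈ aff k φ 0, Q.1 u ≤ 1 := fun u hu => by
      obtain ⟨d, hd, -⟩ := hTval Q hQ u hu
      rw [← sub_add_cancel u (algebraMap k K d)]
      exact (Q.1.map_add _ _).trans (max_le hd.le (Q.2.1 _))
    have hQw : Q.1 w = 1 := by
      obtain ⟨d, hd, hd'⟩ := hTval Q hQ w hw
      have hd0 : d ≠ 0 := fun h0 => by
        rw [h0, map_zero, sub_zero, hw1] at hd'
        exact lt_irrefl _ hd'
      have h3 := Q.1.map_add_eq_of_lt_right (hd.trans_eq (val_const Q hd0).symm)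
      rw [sub_add_cancel] at h3
      exact h3.trans (val_const Q hd0)
    have := hle u hu
    rwa [← h, map_mul, hQw, mul_one] at this
  set Ts := hTfin.toFinset
  let B : Submodule k K := ⨅ Q ∈ Ts, ball Q 0
  have hB : ∀ z, z ∈ B ↔ ∀ Q ∈ T, Q.1 z ≤ 1 := fun z => by
    simp [B, Ts, Submodule.mem_iInf, mem_ball]
  let R : Submodule k K := Subalgebra.toSubmodule (locAlg k φ 0 P)
  have hRB : R ≤ B := fun z hz => (hB z).2 fun Q hQ => hTle Q hQ z hz
  set G := MvPolynomial.aeval b g
  have hGA : G ∈ aff k φ 0 := by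
    rw [haff, Algebra.adjoin_range_eq_range_aeval]
    exact ⟨g, rfl⟩
  have hGR : G ∈ locAlg k φ 0 P := aff_le_locAlg φ 0 P hGA
  have hord : ∀ Q ∈ T, 0 ≤ Q.ord G := fun Q hQ => (val_le_one_iff Q hgxy).1 (hTle Q hQ G hGR)
  have hBN : FiniteDimensional k (RelQ (⨅ Q ∈ Ts, ball Q (-(N : ℤ))) B) :=
    (relQ_ballInf hK.1 Ts (fun _ => -(N : ℤ)) (fun _ => 0) fun Q => by simp).1
  have hBNR : (⨅ Q ∈ Ts, ball Q (-(N : ℤ))) ≤ R := fun z hz => hN z fun Q hQ hA => by
    simp only [Submodule.mem_iInf, mem_ball] at hz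
    exact hz Q ((Set.Finite.mem_toFinset _).2 (hTA Q hQ hA))
  have hRBfin : FiniteDimensional k (RelQ R B) := relQ_finite_right hBNR
  have hgB : B.map (LinearMap.mulLeft k G) = ⨅ Q ∈ Ts, ball Q (if Q ∈ T then -Q.ord G else 0) := by
    ext z
    simp only [Submodule.mem_map, LinearMap.mulLeft_apply, Submodule.mem_iInf, mem_ball, hB, Ts,
      Set.Finite.mem_toFinset]
    constructor
    · rintro ⟨w, hw, rfl⟩ Q hQ
      rw [if_pos hQ, map_mul, val_eq_exp Q hgxy]
      exact mul_le_of_le_one_right' (hw Q hQ)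
    · intro h
      refine ⟨z / G, fun Q hQ => ?_, mul_div_cancel₀ _ hgxy⟩
      have := h Q hQ
      rw [if_pos hQ, ← val_eq_exp Q hgxy] at this
      rw [map_div₀]
      exact div_le_one_of_le₀ this zero_le
  obtain ⟨hfinB, hdimB⟩ := relQ_ballInf hK.1 Ts (fun Q => if Q ∈ T then -Q.ord G else 0) (fun _ => 0) fun Q => by
    split_ifs with h
    · have := hord Q h; omega
    · rfl
  change FiniteDimensional k (RelQ _ B) at hfinB
  rw [← hgB] at hfinB
  have hgRle : R.map (LinearMap.mulLeft k G) ≤ R := by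
    rintro _ ⟨r, hr, rfl⟩
    exact (mul_mem hGR hr : G * r ∈ locAlg k φ 0 P)
  have hgBle : B.map (LinearMap.mulLeft k G) ≤ B := by
    rintro _ ⟨r, hr, rfl⟩
    refine (hB _).2 fun Q hQ => ?_
    rw [LinearMap.mulLeft_apply, map_mul]
    exact Left.mul_le_one (hTle Q hQ G hGR) ((hB r).1 hr Q hQ)
  obtain ⟨hfinR, hdimR⟩ := finrank_relQ_mul hRB hgxy hgRle hgBle
  have hsum : (Module.finrank k (RelQ (R.map (LinearMap.mulLeft k G)) R) : ℤ) = ∑ Q ∈ Ts, Q.ord G := by
    rw [hdimR, hgB]
    refine hdimB.trans (Finset.sum_congr rfl fun Q hQ => ?_)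
    rw [if_pos ((Set.Finite.mem_toFinset _).1 hQ), deg_eq_one hK Q]
    simp
  rw [finsum_mem_eq_finite_toFinset_sum _ hTfin, ← hsum]
  congr 1
  -- the local ring of the plane maps onto the local ring of the curve
  set A := Localization.AtPrime M
  have hevM : ∀ p, p ∈ M ↔ MvPolynomial.eval c p = 0 := by
    have hMle : M ≤ RingHom.ker (MvPolynomial.eval c) := by
      rw [hM, Ideal.span_le]
      rintro _ (rfl | rfl) <;> simp [RingHom.mem_ker]
    have heq : RingHom.ker (MvPolynomial.eval c) = M :=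
      (Ideal.IsMaximal.eq_of_le ‹M.IsMaximal› (RingHom.ker_ne_top _) hMle).symm
    intro p
    rw [← heq, RingHom.mem_ker]
  have hval1 : ∀ p, p ∉ M → P.1 (MvPolynomial.aeval b p) = 1 := fun p hp => by
    have hmem : ∀ q, ∃ d : k, P.1 (MvPolynomial.aeval b q - algebraMap k K d) < 1 ∧ MvPolynomial.eval c q = d := by
      intro q
      induction q using MvPolynomial.induction_on with
      | C a => exact ⟨a, by simp, by simp⟩
      | add p q hp hq =>
        obtain ⟨d, hd, hd'⟩ := hp
        obtain ⟨e, he, he'⟩ := hq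
        exact ⟨d + e, by rw [map_add, map_add, add_sub_add_comm]; exact P.1.map_add_lt hd he, by rw [map_add, hd', he']⟩
      | mul_X p i hp =>
        obtain ⟨d, hd, hd'⟩ := hp
        refine ⟨d * c i, ?_, by rw [map_mul, hd', MvPolynomial.eval_X]⟩
        rw [map_mul, MvPolynomial.aeval_X, map_mul,
          show MvPolynomial.aeval b p * b i - algebraMap k K d * algebraMap k K (c i) =
            (MvPolynomial.aeval b p - algebraMap k K d) * b i + algebraMap k K d * (b i - algebraMap k K (c i)) by ring]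
        refine P.1.map_add_lt ?_ ?_ <;> rw [map_mul]
        · exact (mul_le_of_le_one_right' (hbP i)).trans_lt hd
        · exact (mul_le_of_le_one_left' (P.2.1 d)).trans_lt (hc i)
    obtain ⟨d, hd, hd'⟩ := hmem p
    have hd0 : d ≠ 0 := fun h0 => hp ((hevM p).2 (hd'.trans h0))
    have h3 := P.1.map_add_eq_of_lt_right (hd.trans_eq (val_const P hd0).symm)
    rw [sub_add_cancel] at h3
    exact h3.trans (val_const P hd0)
  have hmemM : ∀ p, P.1 (MvPolynomial.aeval b p) = 1 → p ∉ M := fun p hp hpM => by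
    have h1 : P.1 (MvPolynomial.aeval b p) < 1 := by
      rw [hM] at hpM
      obtain ⟨u, v, rfl⟩ := Ideal.mem_span_pair.1 hpM
      rw [map_add]
      have hle : ∀ q, P.1 (MvPolynomial.aeval b q) ≤ 1 := fun q => by
        refine aff_val_le (hne 0) hj ?_
        rw [haff, Algebra.adjoin_range_eq_range_aeval]
        exact ⟨q, rfl⟩
      refine P.1.map_add_lt ?_ ?_ <;> rw [map_mul, map_mul, map_sub, MvPolynomial.aeval_X, MvPolynomial.aeval_C]
      · exact (mul_le_of_le_one_left' (hle u)).trans_lt (hc 0)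
      · exact (mul_le_of_le_one_left' (hle v)).trans_lt (hc 1)
    exact h1.ne hp
  have hunit : ∀ s : M.primeCompl, IsUnit ((MvPolynomial.aeval b : MvPolynomial (Fin 2) k →ₐ[k] K) s) := fun s => by
    refine Ne.isUnit fun h0 => ?_
    have := hval1 s.1 s.2
    rw [h0, map_zero] at this
    exact zero_ne_one this
  let ev : A →ₐ[k] K :=
    { IsLocalization.lift (M := M.primeCompl) hunit with
      commutes' := fun a => by
        show IsLocalization.lift (M := M.primeCompl) hunit (algebraMap k A a) = _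
        rw [IsScalarTower.algebraMap_apply k (MvPolynomial (Fin 2) k) A, IsLocalization.lift_eq]
        exact AlgHom.commutes _ a }
  have hev : ∀ p, ev (algebraMap (MvPolynomial (Fin 2) k) A p) = MvPolynomial.aeval b p := fun p =>
    IsLocalization.lift_eq hunit p
  have haffev : ∀ u, u ∈ aff k φ 0 ↔ ∃ p, MvPolynomial.aeval b p = u := fun u => by
    rw [haff, Algebra.adjoin_range_eq_range_aeval]; rfl
  have hevR : ∀ a : A, ev a ∈ R := fun a => by
    obtain ⟨⟨p, s⟩, hps⟩ := IsLocalization.surj M.primeCompl a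
    exact ⟨_, (haffev _).2 ⟨p, rfl⟩, _, (haffev _).2 ⟨s.1, rfl⟩, hval1 s.1 s.2, by rw [← hev, ← hev, ← map_mul, hps]⟩
  have hevsurj : ∀ r ∈ R, ∃ a : A, ev a = r := by
    rintro r ⟨u, hu, w, hw, hw1, h⟩
    obtain ⟨p, rfl⟩ := (haffev u).1 hu
    obtain ⟨q, rfl⟩ := (haffev w).1 hw
    refine ⟨IsLocalization.mk' A p (⟨q, hmemM q hw1⟩ : M.primeCompl), ?_⟩
    have hq0 : MvPolynomial.aeval b q ≠ 0 := fun h0 => by rw [h0, map_zero] at hw1; exact zero_ne_one hw1
    refine mul_right_cancel₀ hq0 ?_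
    rw [h, ← hev, ← hev, ← map_mul, IsLocalization.mk'_spec]
  obtain ⟨f₀, hf₀, -, -, hdvd⟩ := plane_relation hK x y hxy
  have hker : ∀ p, MvPolynomial.aeval b p = 0 → f ∣ p := fun p hp => by
    obtain ⟨q, hq⟩ := hdvd f hfxy
    rcases hf.isUnit_or_isUnit hq with h | h
    · exact absurd h hf₀.not_isUnit
    · rw [hq]; exact h.mul_right_dvd.2 (hdvd p hp)
  set J := Ideal.map (algebraMap (MvPolynomial (Fin 2) k) A) (Ideal.span {f, g})
  let Ψ : A →ₗ[k] RelQ (R.map (LinearMap.mulLeft k G)) R :=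
    (Submodule.comap R.subtype _).mkQ.comp (ev.toLinearMap.codRestrict R hevR)
  have hΨ : LinearMap.ker Ψ = J.restrictScalars k := by
    ext a
    rw [LinearMap.mem_ker, Submodule.restrictScalars_mem]
    show Submodule.Quotient.mk _ = 0 ↔ _
    rw [Submodule.Quotient.mk_eq_zero]
    show (∃ r ∈ R, G * r = ev a) ↔ _
    have hJf : algebraMap _ A f ∈ J := Ideal.mem_map_of_mem _ (Ideal.subset_span (by simp))
    have hJg : algebraMap _ A g ∈ J := Ideal.mem_map_of_mem _ (Ideal.subset_span (by simp))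
    constructor
    · rintro ⟨r, hr, hra⟩
      obtain ⟨a', ha'⟩ := hevsurj r hr
      obtain ⟨⟨p, s⟩, hps⟩ := IsLocalization.surj M.primeCompl (a - algebraMap _ A g * a')
      have h0 : ev (a - algebraMap _ A g * a') = 0 := by
        rw [map_sub, map_mul, hev, ha', ← hra, sub_self]
      have hp : MvPolynomial.aeval b p = 0 := by rw [← hev, ← hps, map_mul, h0, zero_mul]
      obtain ⟨q, rfl⟩ := hker p hp
      have h1 : (a - algebraMap _ A g * a') * algebraMap (MvPolynomial (Fin 2) k) A s.1 ∈ J := by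
        rw [hps, map_mul]
        exact J.mul_mem_right _ hJf
      rw [Ideal.mul_unit_mem_iff_mem J (IsLocalization.map_units A s)] at h1
      have := J.add_mem h1 (J.mul_mem_right a' hJg)
      rwa [sub_add_cancel] at this
    · intro ha
      have hspanJ : J = Ideal.span {algebraMap _ A f, algebraMap _ A g} := by
        simp only [J, Ideal.map_span, Set.image_pair]
      rw [hspanJ] at ha
      obtain ⟨u, v, rfl⟩ := Ideal.mem_span_pair.1 ha
      refine ⟨ev v, hevR v, ?_⟩
      rw [map_add, map_mul, map_mul, hev, hev, hfxy, mul_zero, zero_add, mul_comm]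
  have hΨsurj : Function.Surjective Ψ := fun z => by
    obtain ⟨r, rfl⟩ := Submodule.Quotient.mk_surjective _ z
    obtain ⟨a, ha⟩ := hevsurj r.1 r.2
    exact ⟨a, congrArg Submodule.Quotient.mk (Subtype.ext ha)⟩
  exact (((Submodule.quotEquivOfEq _ _ hΨ.symm).trans (Ψ.quotKerEquivOfSurjective hΨsurj)).symm.trans
    (Submodule.Quotient.restrictScalarsEquiv k J)).finrank_eq

end Groth.Agent.FF
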