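/-
The Jacobian criterion.
-/
import Groth.Agent.L26.FF.JacobianTaylor
import Groth.Agent.L26.FF.LocRing
import Groth.Agent.L26.FF.Closed
import Groth.Agent.L26.FF.Quot
import Mathlib.RingTheory.Nakayama
import Mathlib.RingTheory.MvPolynomial.Basic

open WithZero MvPolynomial

namespace Groth.Agent.FF

open FunFld

variable {k K : Type*} [Field k] [Field K] [Algebra k K] {n : ℕ}

/-- The relations between the ratios are generated by the homogeneous ones and `X₀ - 1`. -/
lemma dehom_relations {φ : Fin (n + 1) → K} (hφ0 : φ 0 ≠ 0) {r : ℕ} {f : Fin r → MvPolynomial (Fin (n + 1)) k}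
    (hgen : Ideal.span (Set.range f) =
      RingHom.ker (MvPolynomial.aeval fun i => Polynomial.C (φ i) * Polynomial.X))
    {G : MvPolynomial (Fin (n + 1)) k} (hG : aeval (fun l => φ l / φ 0) G = 0) :
    G ∈ Ideal.span (Set.range f) ⊔ Ideal.span {X 0 - 1} := by
  set b : Fin (n + 1) → K := fun l => φ l / φ 0
  set d := G.totalDegree
  let H : MvPolynomial (Fin (n + 1)) k :=
    ∑ i ∈ Finset.range (d + 1), X 0 ^ (d - i) * homogeneousComponent i G
  have hH : H.IsHomogeneous d := IsHomogeneous.sum _ _ _ fun i hi => by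
    have hi' : d - i + i = d := Nat.sub_add_cancel (Nat.lt_succ_iff.1 (Finset.mem_range.1 hi))
    have h1 : ((X (R := k) (0 : Fin (n + 1))) ^ (d - i)).IsHomogeneous (d - i) := isHomogeneous_X_pow _ _
    have h2 := h1.mul (homogeneousComponent_isHomogeneous i G)
    rwa [hi'] at h2
  have hdiff : H - G ∈ Ideal.span ({X 0 - 1} : Set (MvPolynomial (Fin (n + 1)) k)) := by
    conv => enter [2, 2]; rw [← sum_homogeneousComponent G]
    rw [← Finset.sum_sub_distrib]
    refine sum_mem fun i _ => ?_
    rw [show X 0 ^ (d - i) * homogeneousComponent i G - homogeneousComponent i G =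
      homogeneousComponent i G * (X 0 ^ (d - i) - 1) by ring]
    exact Ideal.mul_mem_left _ _ (Ideal.mem_span_singleton.2 (sub_one_dvd_pow_sub_one _ _))
  have hHb : aeval b H = 0 := by
    have := hdiff
    rw [Ideal.mem_span_singleton] at this
    obtain ⟨c, hc⟩ := this
    have h1 := congrArg (aeval b) hc
    rw [map_sub, hG, sub_zero, map_mul, map_sub, aeval_X, map_one, show b 0 = 1 from div_self hφ0, sub_self,
      zero_mul] at h1
    exact h1
  have hker : H ∈ RingHom.ker (MvPolynomial.aeval fun i => Polynomial.C (φ i) * Polynomial.X :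
      MvPolynomial (Fin (n + 1)) k →ₐ[k] Polynomial K) := by
    rw [RingHom.mem_ker, show (fun i => Polynomial.C (φ i) * Polynomial.X) =
      fun i => (Polynomial.C (φ 0) * Polynomial.X) * (IsScalarTower.toAlgHom k K (Polynomial K) (b i)) from
        funext fun i => by
          show _ = _ * Polynomial.C (φ i / φ 0)
          rw [mul_comm (Polynomial.C (φ 0)), mul_assoc, ← map_mul, mul_div_cancel₀ _ hφ0, mul_comm],
      aeval_mul_left' hH, ← comp_aeval_apply, hHb, map_zero, mul_zero]
  rw [← sub_sub_cancel H G]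
  exact sub_mem (Ideal.mem_sup_left (hgen ▸ hker)) (Ideal.mem_sup_right hdiff)

theorem nonsingular_iff_jacobian_rank [IsAlgClosed k] (hK : IsFunctionField k K) (hn : 1 ≤ n)
    (φ : Fin (n + 1) → K) (hφ : LinearIndependent k φ)
    (hbir : IntermediateField.adjoin k (Set.range fun i => φ i / φ 0) = ⊤)
    (P : Place k K) (hP : ∀ i, P.1 (φ i) ≤ P.1 (φ 0)) {r : ℕ}
    (f : Fin r → MvPolynomial (Fin (n + 1)) k)
    (hhom : ∀ i, (f i).IsHomogeneous (f i).totalDegree)
    (hgen : Ideal.span (Set.range f) =
      RingHom.ker (MvPolynomial.aeval fun i => Polynomial.C (φ i) * Polynomial.X))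
    (M : Matrix (Fin r) (Fin n) P.O)
    (hM : ∀ i j, ((M i j : P.O) : K) =
      MvPolynomial.aeval (fun l => φ l / φ 0) (MvPolynomial.pderiv j.succ (f i))) :
    IsNonsingularAt φ P ↔ (M.map (IsLocalRing.residue P.O)).rank = n - 1 := by
  classical
  have hj0 : φ 0 ≠ 0 := hφ.ne_zero 0
  set b : Fin (n + 1) → K := fun l => φ l / φ 0
  have hb0 : b 0 = 1 := div_self hj0
  have hbA : ∀ l, b l ∈ aff k φ 0 := fun l => Algebra.subset_adjoin ⟨l, rfl⟩
  have hconst : ∀ c : k, P.1 (algebraMap k K c) < 1 → c = 0 := fun c hc => by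
    by_contra h
    exact hc.ne (val_const P h)
  have hdeg := deg_eq_one hK P
  choose α hα using fun l => exists_value P hdeg (aff_val_le hj0 hP (hbA l))
  have hα0 : α 0 = 1 := by
    have := hα 0
    rw [hb0, ← map_one (algebraMap k K), ← map_sub] at this
    exact (sub_eq_zero.1 (hconst _ this)).symm
  let R : Subalgebra k K := locAlg k φ 0 P
  let bR : Fin (n + 1) → R := fun l => ⟨b l, aff_le_locAlg φ 0 P (hbA l)⟩
  let I : Ideal R := pointIdeal bR α
  let h : Fin (n + 1) → R := fun l => bR l - algebraMap k R (α l)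
  have hh0 : h 0 = 0 := by
    refine Subtype.ext ?_
    show b 0 - algebraMap k K (α 0) = 0
    rw [hb0, hα0, map_one, sub_self]
  have hcoe : ∀ p, ((aeval bR p : R) : K) = aeval b p := fun p => comp_aeval_apply bR R.val p
  have hIlt : ∀ z ∈ I, P.1 (z : K) < 1 := fun z hz => by
    refine Submodule.span_induction ?_ (by simp) (fun x y _ _ hx hy => P.1.map_add_lt hx hy) ?_ hz
    · rintro _ ⟨l, rfl⟩; exact hα l
    · intro a x _ hx
      show P.1 ((a : K) * x) < 1
      rw [map_mul]
      exact (mul_le_of_le_one_left' (locAlg_val_le hj0 hP a.2)).trans_lt hx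
  have hevalb : ∀ p : MvPolynomial (Fin (n + 1)) k, P.1 (aeval b p - algebraMap k K (eval α p)) < 1 := fun p => by
    have := hIlt _ (pointIdeal_taylor bR α p).1
    rwa [AddSubgroupClass.coe_sub, hcoe] at this
  have heval0 : ∀ p : MvPolynomial (Fin (n + 1)) k, P.1 (aeval b p) < 1 → eval α p = 0 := fun p hp => by
    refine hconst _ ?_
    rw [← sub_sub_cancel (aeval b p) (algebraMap k K (eval α p))]
    exact P.1.map_sub_lt hp (hevalb p)
  have haff : ∀ z ∈ aff k φ 0, ∃ p, aeval b p = z := fun z hz => by
    have h' : z ∈ Algebra.adjoin k (Set.range b) := hz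
    rwa [Algebra.adjoin_range_eq_range_aeval] at h'
  -- elements of the local ring
  have hfrac : ∀ z : R, ∃ Wp p, P.1 (aeval b Wp) = 1 ∧ aeval bR Wp * z = aeval bR p := fun z => by
    obtain ⟨u, hu, w, hw, hw1, hzw⟩ := z.2
    obtain ⟨p, rfl⟩ := haff u hu
    obtain ⟨Wp, rfl⟩ := haff w hw
    exact ⟨Wp, p, hw1, Subtype.ext (by rw [Subalgebra.coe_mul, hcoe, hcoe, mul_comm, hzw])⟩
  have hunit : ∀ z : R, P.1 (z : K) = 1 → IsUnit z := fun z hz => by
    have hz0 : (z : K) ≠ 0 := fun h => by rw [h, map_zero] at hz; exact zero_ne_one hz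
    exact ⟨⟨z, ⟨(z : K)⁻¹, by rw [← one_div]; exact div_mem_locAlg (one_mem _) z.2 hz⟩,
      Subtype.ext (mul_inv_cancel₀ hz0), Subtype.ext (inv_mul_cancel₀ hz0)⟩, rfl⟩
  have hnum : ∀ z : R, P.1 (z : K) < 1 → ∃ Wp, P.1 (aeval b Wp) = 1 ∧ ∃ p ∈ ptI α, aeval bR Wp * z = aeval bR p :=
    fun z hz => by
      obtain ⟨Wp, p, hW, hp⟩ := hfrac z
      refine ⟨Wp, hW, p, mem_ptI (heval0 p ?_), hp⟩
      rw [← hcoe, ← hp, Subalgebra.coe_mul, map_mul, hcoe, hW, one_mul]
      exact hz
  have hmemI : ∀ z : R, P.1 (z : K) < 1 → z ∈ I := fun z hz => by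
    obtain ⟨Wp, hW, p, hp, hzp⟩ := hnum z hz
    have hu := hunit (aeval bR Wp) (by rw [hcoe, hW])
    rw [← (Ideal.unit_mul_mem_iff_mem I hu), hzp]
    have := (pointIdeal_taylor bR α p).1
    rwa [eval_eq_zero_of_mem_ptI hp, map_zero, sub_zero] at this
  have hI2lt : ∀ z ∈ I * I, P.1 (z : K) ≤ exp (-2) := fun z hz => by
    refine Submodule.mul_induction_on hz (fun x hx y hy => ?_) fun x y hx hy =>
      (P.1.map_add _ _).trans (max_le hx hy)
    rw [Subalgebra.coe_mul, map_mul, show (-2 : ℤ) = -1 + -1 from rfl, exp_add]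
    exact mul_le_mul' (lt_one_le_exp (hIlt x hx)) (lt_one_le_exp (hIlt y hy))
  -- the matrix over the constants
  let C : Matrix (Fin r) (Fin n) k := fun i j => eval α (pderiv j.succ (f i))
  have hres : M.map (IsLocalRing.residue P.O) = C.map (algebraMap k (IsLocalRing.ResidueField P.O)) := by
    ext i j
    show resMap P (M i j) = algebraMap k _ (C i j)
    rw [← AlgHom.commutes (resMap P), ← sub_eq_zero, ← map_sub, residue_eq_zero, AddSubgroupClass.coe_sub, hM]
    exact hevalb _
  rw [hres, rank_map_bijective (residue_bijective_of_deg_one P hdeg), Matrix.rank_eq_finrank_span_row]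
  set V : Submodule k (Fin n → k) := Submodule.span k (Set.range C.row)
  -- the relations at the point
  have hfb : ∀ i, aeval b (f i) = 0 := fun i => by
    have h1 : f i ∈ RingHom.ker (MvPolynomial.aeval fun i => Polynomial.C (φ i) * Polynomial.X :
        MvPolynomial (Fin (n + 1)) k →ₐ[k] Polynomial K) := hgen ▸ Ideal.subset_span ⟨i, rfl⟩
    rw [RingHom.mem_ker] at h1
    have h2 := congrArg ((Polynomial.aeval (1 : K)).restrictScalars k) h1
    rw [comp_aeval_apply, map_zero] at h2
    have h3 : aeval φ (f i) = 0 := by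
      rw [← h2]
      congr 1
      refine congrArg _ (funext fun l => ?_)
      simp
    rw [show b = fun l => (φ 0)⁻¹ * φ l from funext fun l => div_eq_inv_mul _ _, aeval_mul_left' (hhom i), h3,
      mul_zero]
  have hfα : ∀ i, eval α (f i) = 0 := fun i => heval0 _ (by rw [hfb, map_zero]; exact zero_lt_one)
  let L : (Fin n → k) →ₗ[k] R := Fintype.linearCombination k fun l => h l.succ
  have hL : ∀ v : Fin n → k, L v = ∑ l, algebraMap k R (v l) * h l.succ := fun v => by
    simp only [L, Fintype.linearCombination_apply, Algebra.smul_def]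
  have hrow : ∀ i, L (C.row i) ∈ I * I := fun i => by
    have hz : aeval bR (f i) = 0 := Subtype.ext ((hcoe _).trans (hfb i))
    have := (pointIdeal_taylor bR α (f i)).2
    rw [hfα, map_zero, sub_zero, hz, zero_sub, neg_mem_iff, Fin.sum_univ_succ] at this
    rw [hL]
    have h1 : algebraMap k R (eval α (pderiv 0 (f i))) * (bR 0 - algebraMap k R (α 0)) = 0 := by
      rw [show bR 0 - algebraMap k R (α 0) = 0 from hh0, mul_zero]
    rw [h1, zero_add] at this
    exact this
  constructor
  · -- nonsingular: the rank is n - 1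
    intro hns
    have hO : ∀ z : K, P.1 z ≤ 1 → z ∈ R := fun z hz => (inLocRing_iff hj0 hP).1 (hns z hz)
    obtain ⟨t, ht⟩ := P.2.2 (exp (-1))
    obtain ⟨l0, hl0⟩ : ∃ l : Fin n, P.1 (h l.succ : K) = exp (-1) := by
      by_contra hne
      simp only [not_exists] at hne
      have htI : (⟨t, hO t (by rw [ht, ← exp_zero, exp_le_exp]; norm_num)⟩ : R) ∈ I :=
        hmemI _ (by show P.1 t < 1; rw [ht]; exact exp_lt_one'.2 (by norm_num))
      have : P.1 t ≤ exp (-2) := by
        change _ ∈ Submodule.span R (Set.range fun i => bR i - algebraMap k R (α i)) at htI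
        suffices ∀ z ∈ Submodule.span R (Set.range fun i => bR i - algebraMap k R (α i)),
          P.1 (z : K) ≤ exp (-2) from this _ htI
        intro z hz
        refine Submodule.span_induction ?_ (by simp)
          (fun x y _ _ hx hy => (P.1.map_add _ _).trans (max_le hx hy)) ?_ hz
        · rintro _ ⟨l, rfl⟩
          induction l using Fin.cases with
          | zero =>
            show P.1 (h 0 : K) ≤ _
            rw [hh0]; simp
          | succ l =>
            refine (le_exp_sub_one (lt_of_le_of_ne (lt_one_le_exp (hα l.succ)) (hne l))).trans ?_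
            norm_num
        · intro a x _ hx
          show P.1 ((a : K) * x) ≤ _
          rw [map_mul]
          exact (mul_le_mul' (locAlg_val_le hj0 hP a.2) hx).trans_eq (one_mul _)
      rw [ht, exp_le_exp] at this
      omega
    set e : Fin n → k := Pi.single l0 1
    have hLe : L e = h l0.succ := by simp [L, e]
    have ht0 : (h l0.succ : K) ≠ 0 := fun h' => by rw [h', map_zero] at hl0; exact exp_ne_zero hl0.symm
    have hWV : ∀ v, P.1 (L v : K) ≤ exp (-2) → v ∈ V := fun v hv => by
      have hz : P.1 ((L v : K) / (h l0.succ : K) ^ 2) ≤ 1 := by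
        rw [map_div₀, map_pow, hl0]
        refine div_le_one_of_le₀ (hv.trans_eq ?_) zero_le
        rw [← exp_nsmul]; rfl
      have hLI : L v ∈ I * I := by
        have : L v = (⟨_, hO _ hz⟩ : R) * (h l0.succ * h l0.succ) := by
          refine Subtype.ext ?_
          show (L v : K) = (L v : K) / (h l0.succ : K) ^ 2 * ((h l0.succ : K) * (h l0.succ : K))
          rw [← sq, div_mul_cancel₀ _ (pow_ne_zero _ ht0)]
        rw [this]
        exact Ideal.mul_mem_left _ _ (Ideal.mul_mem_mul (sub_mem_pointIdeal bR α _) (sub_mem_pointIdeal bR α _))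
      obtain ⟨Wp, hW, Q, hQ, hWQ⟩ : ∃ Wp, P.1 (aeval b Wp) = 1 ∧
          ∃ Q ∈ ptI α * ptI α, aeval bR Wp * L v = aeval bR Q := by
        refine Submodule.mul_induction_on hLI (fun x hx y hy => ?_) ?_
        · obtain ⟨W, hW, p, hp, hxp⟩ := hnum x (hIlt x hx)
          obtain ⟨W', hW', p', hp', hyp⟩ := hnum y (hIlt y hy)
          exact ⟨W * W', by rw [map_mul, map_mul, hW, hW', one_mul], p * p', Ideal.mul_mem_mul hp hp',
            by rw [map_mul, map_mul, ← hxp, ← hyp]; ring⟩
        · rintro x y ⟨W, hW, p, hp, hxp⟩ ⟨W', hW', p', hp', hyp⟩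
          exact ⟨W * W', by rw [map_mul, map_mul, hW, hW', one_mul], W' * p + W * p',
            add_mem (Ideal.mul_mem_left _ _ hp) (Ideal.mul_mem_left _ _ hp'),
            by rw [map_mul, map_add, map_mul, map_mul, ← hxp, ← hyp]; ring⟩
      let Lp : MvPolynomial (Fin (n + 1)) k := ∑ l, MvPolynomial.C (v l) * (X l.succ - MvPolynomial.C (α l.succ))
      have hLp : aeval bR Lp = L v := by
        simp [Lp, hL, h]
      have hG : aeval b (Wp * Lp - Q) = 0 := by
        have e1 : aeval bR (Wp * Lp - Q) = 0 := by rw [map_sub, map_mul, hLp, hWQ, sub_self]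
        rw [← hcoe, e1]; rfl
      have hwα : eval α Wp ≠ 0 := fun h0 => by
        have := hevalb Wp
        rw [h0, map_zero, sub_zero, hW] at this
        exact lt_irrefl _ this
      have hder : ∀ G ∈ Ideal.span (Set.range f) ⊔ Ideal.span ({X 0 - 1} : Set (MvPolynomial (Fin (n + 1)) k)),
          eval α G = 0 ∧ (fun l : Fin n => eval α (pderiv l.succ G)) ∈ V := fun G hG => by
        rw [← Ideal.span_union] at hG
        refine Submodule.span_induction ?_ ⟨by simp, by convert zero_mem V using 1; funext l; simp⟩ ?_ ?_ hG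
        · rintro x (⟨i, rfl⟩ | rfl)
          · exact ⟨hfα i, Submodule.subset_span ⟨i, rfl⟩⟩
          · refine ⟨by simp [hα0], ?_⟩
            convert zero_mem V using 1
            funext l
            simp
        · rintro x y _ _ ⟨hx, hx'⟩ ⟨hy, hy'⟩
          refine ⟨by rw [map_add, hx, hy, add_zero], ?_⟩
          convert add_mem hx' hy' using 1
          funext l
          simp
        · rintro a x _ ⟨hx, hx'⟩
          refine ⟨by rw [smul_eq_mul, map_mul, hx, mul_zero], ?_⟩
          convert V.smul_mem (eval α a) hx' using 1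
          funext l
          simp [pderiv_mul, hx]
      have hLpα : eval α Lp = 0 := by simp [Lp]
      have hdLp : ∀ l : Fin n, eval α (pderiv l.succ Lp) = v l := fun l => by
        simp only [Lp, map_sum, pderiv_C_mul, map_sub, pderiv_X, pderiv_C, sub_zero, map_mul, eval_C, smul_eq_mul]
        rw [Finset.sum_eq_single l (fun j _ hj => by simp [(Fin.succ_injective _).ne hj,
          (Fin.succ_injective _).ne hj.symm]) (by simp)]
        simp
      have := (hder _ (dehom_relations hj0 hgen hG)).2
      have hfun : (fun l : Fin n => eval α (pderiv l.succ (Wp * Lp - Q))) = eval α Wp • v := funext fun l => by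
        rw [map_sub, map_sub, eval_pderiv_eq_zero_of_mem hQ, sub_zero, pderiv_mul, map_add, map_mul, map_mul,
          hLpα, mul_zero, zero_add, hdLp]
        rfl
      rw [hfun] at this
      have h2 := V.smul_mem (eval α Wp)⁻¹ this
      rwa [smul_smul, inv_mul_cancel₀ hwα, one_smul] at h2
    have hVe : IsCompl V (Submodule.span k {e}) := by
      constructor
      · rw [Submodule.disjoint_def]
        intro v hvV hve
        obtain ⟨c, rfl⟩ := Submodule.mem_span_singleton.1 hve
        by_contra hne
        have hc : c ≠ 0 := fun h0 => hne (by rw [h0, zero_smul])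
        have h1 : L (c • e) ∈ I * I := by
          have : V.map L ≤ (I * I).restrictScalars k :=
            (Submodule.map_span_le L _ _).2 (by rintro _ ⟨i, rfl⟩; exact hrow i)
          exact this (Submodule.mem_map_of_mem hvV)
        have h2 := hI2lt _ h1
        rw [map_smul, hLe, Algebra.smul_def] at h2
        have h3 : P.1 (algebraMap k K c * (h l0.succ : K)) ≤ exp (-2) := h2
        rw [map_mul, val_const P hc, one_mul, hl0, exp_le_exp] at h3
        omega
      · rw [codisjoint_iff, eq_top_iff]
        intro v _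
        have hq : P.1 ((L v : K) / (h l0.succ : K)) ≤ 1 := by
          rw [map_div₀, hl0]
          refine div_le_one_of_le₀ (lt_one_le_exp (hIlt _ ?_)) zero_le
          rw [hL]
          exact sum_mem fun l _ => Ideal.mul_mem_left _ _ (sub_mem_pointIdeal bR α _)
        obtain ⟨c, hc⟩ := exists_value P hdeg hq
        refine Submodule.mem_sup.2 ⟨v - c • e, hWV _ ?_, c • e, Submodule.smul_mem _ _ (Submodule.mem_span_singleton_self e), sub_add_cancel _ _⟩
        rw [map_sub, map_smul, hLe, Algebra.smul_def]
        show P.1 ((L v : K) - algebraMap k K c * (h l0.succ : K)) ≤ _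
        rw [show (L v : K) - algebraMap k K c * (h l0.succ : K) =
          ((L v : K) / (h l0.succ : K) - algebraMap k K c) * (h l0.succ : K) by
            rw [sub_mul, div_mul_cancel₀ _ ht0], map_mul, hl0, show (-2 : ℤ) = -1 + -1 from rfl, exp_add]
        exact mul_le_mul' (lt_one_le_exp hc) le_rfl
    have := Submodule.finrank_add_eq_of_isCompl hVe
    rw [Module.finrank_fin_fun, finrank_span_singleton (fun h0 => by
      have := congrFun h0 l0; simp [e] at this)] at this
    omega
  · -- rank n - 1: nonsingular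
    intro hrank
    have hne : V ≠ ⊤ := fun htop => by rw [htop, finrank_top, Module.finrank_fin_fun] at hrank; omega
    obtain ⟨e, -, he⟩ := SetLike.exists_of_lt hne.lt_top
    have hsup : V ⊔ Submodule.span k {e} = ⊤ := by
      refine Submodule.eq_top_of_finrank_eq (le_antisymm (Submodule.finrank_le _) ?_)
      have hlt : V < V ⊔ Submodule.span k {e} :=
        lt_of_le_of_ne le_sup_left fun h' => he (h' ▸ Submodule.mem_sup_right (Submodule.mem_span_singleton_self e))
      have := Submodule.finrank_lt_finrank_of_lt hlt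
      rw [Module.finrank_fin_fun] at *
      omega
    set π : R := L e
    have hmap : ∀ v, L v ∈ Ideal.span {π} ⊔ I * I := by
      have : (⊤ : Submodule k (Fin n → k)) ≤ ((Ideal.span {π} ⊔ I * I).restrictScalars k).comap L := by
        rw [← hsup, sup_le_iff, Submodule.span_le, Submodule.span_le]
        refine ⟨?_, ?_⟩
        · rintro _ ⟨i, rfl⟩
          exact Ideal.mem_sup_right (hrow i)
        · rintro _ rfl
          exact Ideal.mem_sup_left (Ideal.mem_span_singleton_self π)
      exact fun v => this Submodule.mem_top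
    have hIle : I ≤ Ideal.span {π} := by
      refine Submodule.le_of_le_smul_of_le_jacobson_bot (I := I) ⟨Finset.univ.image h, ?_⟩ ?_ ?_
      · rw [Finset.coe_image, Finset.coe_univ, Set.image_univ]; rfl
      · intro x hx
        rw [Ideal.mem_jacobson_bot]
        intro y
        refine hunit _ ?_
        have : P.1 ((x * y : R) : K) < 1 := hIlt _ (Ideal.mul_mem_right _ _ hx)
        rw [Subalgebra.coe_add, Subalgebra.coe_one, add_comm]
        exact P.1.map_one_add_of_lt this
      · rw [smul_eq_mul]
        refine Ideal.span_le.2 ?_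
        rintro _ ⟨l, rfl⟩
        induction l using Fin.cases with
        | zero =>
          show h 0 ∈ _
          rw [hh0]; exact zero_mem _
        | succ l =>
          have := hmap (Pi.single l 1)
          rwa [show L (Pi.single l 1) = h l.succ by simp [L]] at this
    have hπI : π ∈ I := by
      show L e ∈ I
      rw [hL]
      exact sum_mem fun l _ => Ideal.mul_mem_left _ _ (sub_mem_pointIdeal bR α _)
    have hπlt := hIlt _ hπI
    have hdiv : ∀ z : R, P.1 (z : K) < 1 → ∃ y : R, z = π * y := fun z hz => by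
      obtain ⟨y, hy⟩ := Ideal.mem_span_singleton'.1 (hIle (hmemI z hz))
      exact ⟨y, by rw [← hy, mul_comm]⟩
    have hdecomp : ∀ (N : ℕ) (z : R), exp (-(N : ℤ)) ≤ P.1 (z : K) →
        ∃ (m : ℕ) (u : R), P.1 (u : K) = 1 ∧ z = π ^ m * u := by
      intro N
      induction N with
      | zero =>
        intro z hz
        refine ⟨0, z, le_antisymm (locAlg_val_le hj0 hP z.2) ?_, by rw [pow_zero, one_mul]⟩
        simpa using hz
      | succ N ih =>
        intro z hz
        rcases lt_or_eq_of_le (locAlg_val_le hj0 hP z.2 : P.1 (z : K) ≤ 1) with h1 | h1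
        · obtain ⟨y, rfl⟩ := hdiv z h1
          have hy : exp (-(N : ℤ)) ≤ P.1 (y : K) := by
            by_contra hlt
            have : P.1 ((π * y : R) : K) ≤ exp (-1) * exp (-(N : ℤ) - 1) := by
              rw [Subalgebra.coe_mul, map_mul]
              exact mul_le_mul' (lt_one_le_exp hπlt) (le_exp_sub_one (not_le.1 hlt))
            have h2 := hz.trans this
            rw [← exp_add, exp_le_exp] at h2
            omega
          obtain ⟨m, u, hu, rfl⟩ := ih y hy
          exact ⟨m + 1, u, hu, by ring⟩
        · exact ⟨0, z, h1, by rw [pow_zero, one_mul]⟩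
    have hdec : ∀ z : R, (z : K) ≠ 0 → ∃ (m : ℕ) (u : R), P.1 (u : K) = 1 ∧ z = π ^ m * u := fun z hz => by
      refine hdecomp (P.ord (z : K)).toNat z ?_
      rw [val_eq_exp P hz, exp_le_exp]
      omega
    have hgenK : ∀ z : K, z ≠ 0 → ∃ (a b' : ℕ) (u : R), P.1 (u : K) = 1 ∧ z * (π : K) ^ b' = (π : K) ^ a * u := by
      intro z hz
      have : z ∈ IntermediateField.adjoin k (Set.range fun i => φ i / φ 0) := hbir ▸ IntermediateField.mem_top
      obtain ⟨u, hu, w, hw, rfl⟩ := IntermediateField.mem_adjoin_iff_div.1 this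
      obtain ⟨a, u', hu', hue⟩ := hdec ⟨u, aff_le_locAlg φ 0 P hu⟩ (div_ne_zero_iff.1 hz).1
      obtain ⟨b', w', hw', hwe⟩ := hdec ⟨w, aff_le_locAlg φ 0 P hw⟩ (div_ne_zero_iff.1 hz).2
      obtain ⟨wi, hwi⟩ := hunit w' hw'
      refine ⟨a, b', u' * (wi⁻¹ : Rˣ), ?_, ?_⟩
      · have : P.1 (((wi⁻¹ : Rˣ) : R) : K) = 1 := by
          have h1 : P.1 (((wi⁻¹ : Rˣ) * w' : R) : K) = 1 := by rw [← hwi, Units.inv_mul]; simp
          rwa [Subalgebra.coe_mul, map_mul, hw', mul_one] at h1
        rw [Subalgebra.coe_mul, map_mul, hu', this, mul_one]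
      · have e1 : u = (π : K) ^ a * (u' : K) := by simpa using congrArg Subtype.val hue
        have e2 : w = (π : K) ^ b' * (w' : K) := by simpa using congrArg Subtype.val hwe
        have e3 : (((wi⁻¹ : Rˣ) : R) : K) * (w' : K) = 1 := by
          rw [← Subalgebra.coe_mul, ← hwi, Units.inv_mul, Subalgebra.coe_one]
        rw [div_mul_eq_mul_div, div_eq_iff (div_ne_zero_iff.1 hz).2, e1, e2, Subalgebra.coe_mul]
        linear_combination (-((π : K) ^ a * (π : K) ^ b' * (u' : K))) * e3
    have hπ0 : (π : K) ≠ 0 := fun h0 => by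
      obtain ⟨t, ht⟩ := P.2.2 (exp (-1))
      have ht0 : t ≠ 0 := fun h' => by rw [h', map_zero] at ht; exact exp_ne_zero ht.symm
      obtain ⟨a, b', u, hu, hz⟩ := hgenK t ht0
      rw [h0] at hz
      rcases Nat.eq_zero_or_pos a with rfl | ha
      · rcases Nat.eq_zero_or_pos b' with rfl | hb'
        · simp only [pow_zero, mul_one, one_mul] at hz
          rw [hz, hu] at ht
          have := ht.symm
          rw [← exp_zero, exp_inj] at this
          omega
        · rw [zero_pow hb'.ne', mul_zero, pow_zero, one_mul] at hz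
          rw [← hz, map_zero] at hu
          exact zero_ne_one hu
      · rw [zero_pow ha.ne', zero_mul] at hz
        rcases Nat.eq_zero_or_pos b' with rfl | hb'
        · rw [pow_zero, mul_one] at hz; exact ht0 hz
        · -- both sides vanish, use `t + 1` instead
          have h1 : ∀ z : R, P.1 (z : K) < 1 → (z : K) = 0 := fun z hz => by
            obtain ⟨y, rfl⟩ := hdiv z hz
            rw [Subalgebra.coe_mul, h0, zero_mul]
          have h2 : ∀ p ∈ aff k φ 0, P.1 p = 1 ∨ p = 0 := fun p hp => by
            rcases lt_or_eq_of_le (aff_val_le hj0 hP hp) with h3 | h3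
            · exact Or.inr (h1 ⟨p, aff_le_locAlg φ 0 P hp⟩ h3)
            · exact Or.inl h3
          have : t ∈ IntermediateField.adjoin k (Set.range fun i => φ i / φ 0) := hbir ▸ IntermediateField.mem_top
          obtain ⟨p, hp, q, hq, rfl⟩ := IntermediateField.mem_adjoin_iff_div.1 this
          rw [div_ne_zero_iff] at ht0
          rw [map_div₀, ((h2 p hp).resolve_right ht0.1), ((h2 q hq).resolve_right ht0.2), div_one, ← exp_zero,
            exp_inj] at ht
          omega
    intro z hz
    refine (inLocRing_iff hj0 hP).2 ?_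
    rcases eq_or_ne z 0 with rfl | hz0
    · exact zero_mem _
    obtain ⟨a, b', u, hu, hzu⟩ := hgenK z hz0
    have hba : b' ≤ a := by
      by_contra hlt
      have h1 : P.1 ((π : K) ^ a) ≤ P.1 ((π : K) ^ b') := by
        have := congrArg P.1 hzu
        rw [map_mul, map_mul _ _ (u : K), hu, mul_one] at this
        rw [← this]
        exact mul_le_of_le_one_left' hz
      rw [map_pow, map_pow, val_eq_exp P hπ0, ← exp_nsmul, ← exp_nsmul, exp_le_exp] at h1
      rw [val_lt_one_iff P hπ0] at hπlt
      simp only [nsmul_eq_mul] at h1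
      nlinarith [(Nat.cast_lt (α := ℤ)).2 (not_le.1 hlt)]
    have : z = ((π ^ (a - b') * u : R) : K) := by
      refine mul_right_cancel₀ (pow_ne_zero b' hπ0) ?_
      rw [hzu, Subalgebra.coe_mul, SubmonoidClass.coe_pow]
      conv_lhs => rw [← Nat.sub_add_cancel hba]
      rw [pow_add]; ring
    rw [this]
    exact (π ^ (a - b') * u : R).2

end Groth.Agent.FF
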