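/-
Nonsingularity and towers of constant extensions.
-/
import Groth.Agent.L26.FF.InsepNonsingular
import Groth.Agent.L26.FF.IntClosure
import Groth.Agent.L26.FF.Approx
import Mathlib.RingTheory.TensorProduct.Free

open WithZero Polynomial TensorProduct

namespace Groth.Agent.FF

open FunFld

section coord

variable {k k' K K' : Type*} [Field k] [Field k'] [Field K] [Field K']
  [Algebra k k'] [Algebra k K] [Algebra K K'] [Algebra k' K'] [Algebra k K']
  [IsScalarTower k k' K'] [IsScalarTower k K K']

/-- A basis of constants is a basis of the constant extension. -/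
lemma exists_constBasis (h : Function.Bijective (Algebra.TensorProduct.productMap
    (IsScalarTower.toAlgHom k k' K') (IsScalarTower.toAlgHom k K K'))) {ι : Type*} (b : Module.Basis ι k k') :
    ∃ B : Module.Basis ι K K', (∀ i, B i = algebraMap k' K' (b i)) ∧
      ∀ (a : K) (c : k') (i : ι),
        B.repr (algebraMap K K' a * algebraMap k' K' c) i = a * algebraMap k K (b.repr c i) := by
  let Φ : K ⊗[k] k' →ₐ[K] K' :=
    Algebra.TensorProduct.lift (Algebra.ofId K K') (IsScalarTower.toAlgHom k k' K') (fun _ _ => .all _ _)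
  have hΦ : ∀ z : K ⊗[k] k', Φ z = Algebra.TensorProduct.productMap
      (IsScalarTower.toAlgHom k k' K') (IsScalarTower.toAlgHom k K K')
      (Algebra.TensorProduct.comm k K k' z) := fun z => by
    induction z using TensorProduct.induction_on with
    | zero => simp
    | tmul a b => simp [Φ, mul_comm, Algebra.ofId_apply]
    | add a b ha hb => simp only [map_add, ha, hb]
  have hΦb : Function.Bijective Φ := by
    rw [show (Φ : K ⊗[k] k' → K') = _ ∘ _ from funext hΦ]
    exact h.comp (Algebra.TensorProduct.comm k K k').bijective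
  let e := LinearEquiv.ofBijective Φ.toLinearMap hΦb
  have he : ∀ (a : K) (c : k'), e (a ⊗ₜ[k] c) = algebraMap K K' a * algebraMap k' K' c :=
    fun a c => show Φ (a ⊗ₜ[k] c) = _ by simp [Φ, Algebra.ofId_apply]
  refine ⟨(Algebra.TensorProduct.basis K b).map e, fun i => ?_, fun a c i => ?_⟩
  · rw [Module.Basis.map_apply, Algebra.TensorProduct.basis_apply, he, map_one, one_mul]
  · rw [Module.Basis.map_repr, LinearEquiv.trans_apply, ← he, LinearEquiv.symm_apply_apply,
      Algebra.TensorProduct.basis_repr_tmul]
    simp [Algebra.smul_def]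

/-- Coordinates of the elements of `S[k']`. -/
lemma coord_mem {ι : Type*} {b : Module.Basis ι k k'} {B : Module.Basis ι K K'}
    (hB : ∀ (a : K) (c : k') (i : ι),
      B.repr (algebraMap K K' a * algebraMap k' K' c) i = a * algebraMap k K (b.repr c i))
    (S : Subring K) (hS : ∀ c : k, algebraMap k K c ∈ S) {w : K'}
    (hw : w ∈ Algebra.adjoin (S.map (algebraMap K K')) (Set.range (algebraMap k' K'))) (i : ι) :
    B.repr w i ∈ S := by
  rw [← Subalgebra.mem_toSubmodule, Algebra.adjoin_eq_span] at hw
  have hcl : (Submonoid.closure (Set.range (algebraMap k' K')) : Set K') = Set.range (algebraMap k' K') := by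
    rw [show Set.range (algebraMap k' K') = (MonoidHom.mrange (algebraMap k' K').toMonoidHom : Set K') from rfl,
      Submonoid.closure_eq]
  rw [hcl] at hw
  have key : ∀ (s : (S.map (algebraMap K K'))) (u : K'), (∀ j, B.repr u j ∈ S) →
      ∀ j, B.repr (s • u) j ∈ S := by
    rintro ⟨s, hs⟩ u hu j
    obtain ⟨a, ha, rfl⟩ := Subring.mem_map.1 hs
    show B.repr (algebraMap K K' a * u) j ∈ S
    rw [← Algebra.smul_def, map_smul, Finsupp.smul_apply, smul_eq_mul]
    exact mul_mem ha (hu j)
  revert i
  induction hw using Submodule.span_induction with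
  | mem t ht =>
    obtain ⟨c, rfl⟩ := ht
    intro i
    have h1 := hB 1 c i
    rw [map_one, one_mul, one_mul] at h1
    rw [h1]
    exact hS _
  | zero => intro i; simp [S.zero_mem]
  | add a b _ _ ha hb => intro i; simpa using S.add_mem (ha i) (hb i)
  | smul s u _ hu => exact key s u hu

lemma mem_adjoin_of_coord {ι : Type*} [Fintype ι] {b : Module.Basis ι k k'} {B : Module.Basis ι K K'}
    (hB : ∀ i, B i = algebraMap k' K' (b i)) (R : Subring K') {w : K'}
    (h : ∀ i, algebraMap K K' (B.repr w i) ∈ Algebra.adjoin R (Set.range (algebraMap k' K'))) :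
    w ∈ Algebra.adjoin R (Set.range (algebraMap k' K')) := by
  rw [← B.sum_repr w]
  refine Subalgebra.sum_mem _ fun i _ => ?_
  rw [Algebra.smul_def, hB]
  exact mul_mem (h i) (Algebra.subset_adjoin ⟨b i, rfl⟩)

end coord

section tower

variable {k k' k'' K K' K'' : Type*} [Field k] [Field k'] [Field k''] [Field K] [Field K'] [Field K'']
    [Algebra k k'] [Algebra k' k''] [Algebra k k''] [IsScalarTower k k' k'']
    [FiniteDimensional k k'] [FiniteDimensional k' k'']
    [Algebra k K] [Algebra K K'] [Algebra k' K'] [Algebra k K'] [IsScalarTower k k' K'] [IsScalarTower k K K']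
    [Algebra K' K''] [Algebra k'' K''] [Algebra k' K''] [Algebra k K''] [Algebra K K'']
    [IsScalarTower k' k'' K''] [IsScalarTower k' K' K''] [IsScalarTower K K' K''] [IsScalarTower k K K'']

theorem nonsingular_tower_iff
    (h1 : Function.Bijective (Algebra.TensorProduct.productMap
      (IsScalarTower.toAlgHom k k' K') (IsScalarTower.toAlgHom k K K')))
    (h2 : Function.Bijective (Algebra.TensorProduct.productMap
      (IsScalarTower.toAlgHom k' k'' K'') (IsScalarTower.toAlgHom k' K' K'')))
    (hK : IsFF k K) (P : Place k K) :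
    (integralClosure (P.O.toSubring.map (algebraMap K K'')) K'' =
        Algebra.adjoin (P.O.toSubring.map (algebraMap K K'')) (Set.range (algebraMap k'' K''))) ↔
      (integralClosure (P.O.toSubring.map (algebraMap K K')) K' =
          Algebra.adjoin (P.O.toSubring.map (algebraMap K K')) (Set.range (algebraMap k' K')) ∧
        ∀ Q : Place k K', FunFld.IsOver Q P →
          integralClosure (Q.O.toSubring.map (algebraMap K' K'')) K'' =
            Algebra.adjoin (Q.O.toSubring.map (algebraMap K' K'')) (Set.range (algebraMap k'' K''))) := by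
  classical
  let b₁ := Module.finBasis k k'
  let b₂ := Module.finBasis k' k''
  obtain ⟨B₁, hB₁, hB₁'⟩ := exists_constBasis h1 b₁
  obtain ⟨B₂, hB₂, hB₂'⟩ := exists_constBasis h2 b₂
  haveI : FiniteDimensional K K' := Module.Finite.of_basis B₁
  haveI : IsScalarTower k k'' K'' := IsScalarTower.of_algebraMap_eq fun c => by
    rw [IsScalarTower.algebraMap_apply k k' k'', ← IsScalarTower.algebraMap_apply k' k'' K'',
      IsScalarTower.algebraMap_apply k' K' K'', ← IsScalarTower.algebraMap_apply k k' K',
      IsScalarTower.algebraMap_apply k K K', ← IsScalarTower.algebraMap_apply K K' K'',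
      ← IsScalarTower.algebraMap_apply k K K'']
  haveI : FiniteDimensional k k'' := Module.Finite.trans k' k''
  letI : Algebra P.O K' := ((algebraMap K K').comp P.O.subtype).toAlgebra
  haveI : IsScalarTower P.O K K' := IsScalarTower.of_algebraMap_eq fun _ => rfl
  set S := P.O.toSubring.map (algebraMap K K')
  set S' := P.O.toSubring.map (algebraMap K K'')
  set A' := Algebra.adjoin S (Set.range (algebraMap k' K'))
  set A'' := Algebra.adjoin S' (Set.range (algebraMap k'' K''))
  let φ : S →+* S' := ((algebraMap K' K'').comp S.subtype).codRestrict S' fun a => by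
    obtain ⟨a, ha⟩ := a
    obtain ⟨a₀, ha₀, rfl⟩ := Subring.mem_map.1 ha
    exact Subring.mem_map.2 ⟨a₀, ha₀, IsScalarTower.algebraMap_apply K K' K'' a₀⟩
  have hmapint : ∀ z : K', IsIntegral S z → IsIntegral S' (algebraMap K' K'' z) := fun z hz =>
    hz.map_of_comp_eq φ (algebraMap K' K'') (by ext; rfl)
  have hintP : ∀ z : K', IsIntegral S z ↔ ∀ Q : Place k K', IsOver Q P → Q.1 z ≤ 1 := fun z => by
    rw [← isIntegral_iff hK P z]
    let e : P.O.toSubring ≃+* S := P.O.toSubring.equivMapOfInjective (algebraMap K K') (algebraMap K K').injective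
    refine ⟨fun hz => hz.map_of_comp_eq (e.symm.toRingHom : _ →+* P.O) (RingHom.id K') ?_,
      fun hz => hz.map_of_comp_eq (e.toRingHom : P.O →+* S) (RingHom.id K') (by ext; rfl)⟩
    ext a
    show algebraMap K K' ((e.symm a : P.O.toSubring) : K) = (a : K')
    exact congrArg Subtype.val (e.apply_symm_apply a)
  have hk : ∀ c : k, algebraMap k K' c ∈ S := fun c =>
    Subring.mem_map.2 ⟨algebraMap k K c, P.2.1 c, (IsScalarTower.algebraMap_apply k K K' c).symm⟩
  have hk'' : ∀ c : k, algebraMap k K'' c ∈ S' := fun c =>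
    Subring.mem_map.2 ⟨algebraMap k K c, P.2.1 c, (IsScalarTower.algebraMap_apply k K K'' c).symm⟩
  have hA'int : A' ≤ integralClosure S K' := adjoin_const_le S hk
  have hA''int : A'' ≤ integralClosure S' K'' := adjoin_const_le S' hk''
  -- `A'' ⊆ A'.map [k'']`
  let T : Subring K'' := A'.toSubring.map (algebraMap K' K'')
  have hA''T : ∀ w ∈ A'', w ∈ Algebra.adjoin T (Set.range (algebraMap k'' K'')) := fun w hw => by
    induction hw using Algebra.adjoin_induction with
    | mem t ht => exact Algebra.subset_adjoin ht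
    | algebraMap r =>
      obtain ⟨r, hr⟩ := r
      obtain ⟨r₀, hr₀, rfl⟩ := Subring.mem_map.1 hr
      refine Subalgebra.algebraMap_mem _ (⟨algebraMap K K'' r₀, Subring.mem_map.2
        ⟨algebraMap K K' r₀, ?_, (IsScalarTower.algebraMap_apply K K' K'' r₀).symm⟩⟩ : T)
      exact Subalgebra.algebraMap_mem A' (⟨_, Subring.mem_map.2 ⟨r₀, hr₀, rfl⟩⟩ : S)
    | add a b _ _ ha hb => exact add_mem ha hb
    | mul a b _ _ ha hb => exact mul_mem ha hb
  have hTA : ∀ a ∈ A', algebraMap K' K'' a ∈ A'' := fun a ha => by
    induction ha using Algebra.adjoin_induction with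
    | mem t ht =>
      obtain ⟨c, rfl⟩ := ht
      rw [← IsScalarTower.algebraMap_apply, IsScalarTower.algebraMap_apply k' k'' K'']
      exact Algebra.subset_adjoin ⟨_, rfl⟩
    | algebraMap r =>
      obtain ⟨r, hr⟩ := r
      exact Subalgebra.algebraMap_mem A'' (φ ⟨r, hr⟩)
    | add a b _ _ ha hb => rw [map_add]; exact add_mem ha hb
    | mul a b _ _ ha hb => rw [map_mul]; exact mul_mem ha hb
  have hOQ : ∀ Q : Place k K', IsOver Q P → ∀ a ∈ A'', a ∈
      Algebra.adjoin (Q.O.toSubring.map (algebraMap K' K'')) (Set.range (algebraMap k'' K'')) := by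
    rintro Q ⟨e, he⟩ a ha
    induction ha using Algebra.adjoin_induction with
    | mem t ht => exact Algebra.subset_adjoin ht
    | algebraMap r =>
      obtain ⟨r, hr⟩ := r
      obtain ⟨r₀, hr₀, rfl⟩ := Subring.mem_map.1 hr
      exact Subalgebra.algebraMap_mem _ (⟨algebraMap K K'' r₀, Subring.mem_map.2
        ⟨algebraMap K K' r₀, (he.le_one_iff r₀).2 hr₀, (IsScalarTower.algebraMap_apply K K' K'' r₀).symm⟩⟩ :
          Q.O.toSubring.map (algebraMap K' K''))
    | add a b _ _ ha hb => exact add_mem ha hb
    | mul a b _ _ ha hb => exact mul_mem ha hb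
  constructor
  · intro h
    refine ⟨le_antisymm (fun z hz => ?_) hA'int, fun Q hQ => le_antisymm (fun z hz => ?_) ?_⟩
    · have hz'' : algebraMap K' K'' z ∈ A'' := h ▸ hmapint z hz
      obtain ⟨i, hi⟩ : ∃ i, b₂.repr 1 i ≠ 0 := by
        by_contra hc
        push Not at hc
        exact one_ne_zero (α := k'') (b₂.repr.map_eq_zero_iff.1 (Finsupp.ext hc))
      have h3 := coord_mem hB₂' A'.toSubring (fun c => Algebra.subset_adjoin ⟨c, rfl⟩) (hA''T _ hz'') i
      have h4 := hB₂' z 1 i
      rw [map_one, mul_one] at h4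
      rw [h4] at h3
      have h5 := mul_mem h3 (show algebraMap k' K' (b₂.repr 1 i)⁻¹ ∈ A'.toSubring from
        Algebra.subset_adjoin ⟨_, rfl⟩)
      rwa [map_inv₀, mul_inv_cancel_right₀ ((_root_.map_ne_zero _).2 hi)] at h5
    · -- scale into the integral closure over `P`
      set SQ := Q.O.toSubring.map (algebraMap K' K'')
      obtain ⟨p, hpm, hp0⟩ := hz
      obtain ⟨g, hg, -, hgm⟩ := lifts_and_natDegree_eq_and_monic
        (show p.map SQ.subtype ∈ lifts ((algebraMap K' K'').comp Q.O.subtype) from
          (lifts_iff_coeff_lifts _).2 fun i => by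
            obtain ⟨a, ha, ha'⟩ := Subring.mem_map.1 (p.coeff i).2
            exact ⟨⟨a, ha⟩, by rw [coeff_map]; exact ha'⟩) (hpm.map _)
      set q := g.map Q.O.subtype with hq
      have hqm : q.Monic := hgm.map _
      have hq0 : eval₂ (algebraMap K' K'') z q = 0 := by
        rw [hq, eval₂_map, ← eval_map, hg, eval_map]
        exact hp0
      have hS := finite_over (K' := K') hK P
      let N : ℕ := hS.toFinset.sup fun R => (Finset.range q.natDegree).sup fun i => (-(R.ord (q.coeff i))).toNat
      obtain ⟨u, hu⟩ := approx_val (insert Q hS.toFinset) (fun R => if R = Q then 0 else -(N : ℤ))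
      have hQu : Q.1 u = 1 := by
        have := hu Q (Finset.mem_insert_self _ _); rwa [if_pos rfl, exp_zero] at this
      have hcoef : ∀ i, IsIntegral S' ((scaleRoots q u).map (algebraMap K' K'') |>.coeff i) := fun i => by
        rw [coeff_map, coeff_scaleRoots]
        refine hmapint _ ((hintP _).2 fun R hR => ?_)
        rcases lt_trichotomy i q.natDegree with hi | hi | hi
        · rw [map_mul, map_pow]
          rcases eq_or_ne R Q with rfl | hne
          · rw [hQu, one_pow, mul_one, hq, coeff_map]
            exact (g.coeff i).2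
          · rw [hu R (Finset.mem_insert_of_mem (hS.mem_toFinset.2 hR)), if_neg hne]
            rcases eq_or_ne (q.coeff i) 0 with h0 | h0
            · simp [h0]
            rw [val_eq_exp R h0, ← exp_nsmul, ← exp_add, exp_le_one', nsmul_eq_mul]
            have h1 : (-(R.ord (q.coeff i))).toNat ≤ N :=
              (Finset.le_sup (f := fun i => (-(R.ord (q.coeff i))).toNat) (Finset.mem_range.2 hi)).trans
                (Finset.le_sup (f := fun R => (Finset.range q.natDegree).sup fun i => (-(R.ord (q.coeff i))).toNat)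
                  (hS.mem_toFinset.2 hR))
            have h2 : (N : ℤ) ≤ ((q.natDegree - i : ℕ) : ℤ) * N :=
              le_mul_of_one_le_left (by positivity) (by omega)
            rw [mul_neg]
            omega
        · rw [hi, Nat.sub_self, pow_zero, mul_one, ← leadingCoeff, hqm.leadingCoeff, map_one]
        · rw [coeff_eq_zero_of_natDegree_lt hi, zero_mul, map_zero]; exact zero_le
      have hw : IsIntegral S' (algebraMap K' K'' u * z) := by
        have hl : (scaleRoots q u).map (algebraMap K' K'') ∈ lifts (algebraMap (integralClosure S' K'') K'') :=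
          (lifts_iff_coeff_lifts _).2 fun i => ⟨⟨_, hcoef i⟩, rfl⟩
        obtain ⟨g', hg', -, hg'm⟩ :=
          lifts_and_natDegree_eq_and_monic hl (((monic_scaleRoots_iff u).2 hqm).map _)
        refine isIntegral_trans (A := integralClosure S' K'') _ ⟨g', hg'm, ?_⟩
        rw [← eval_map, hg', eval_map]
        exact scaleRoots_eval₂_eq_zero _ hq0
      have h3 := hOQ Q hQ _ (h ▸ hw : algebraMap K' K'' u * z ∈ A'')
      have hu0 : u ≠ 0 := fun h0 => by rw [h0, map_zero] at hQu; exact zero_ne_one hQu
      have h4 := mul_mem (Subalgebra.algebraMap_mem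
        (Algebra.adjoin SQ (Set.range (algebraMap k'' K''))) (⟨algebraMap K' K'' u⁻¹, Subring.mem_map.2
          ⟨u⁻¹, show Q.1 u⁻¹ ≤ 1 by rw [map_inv₀, hQu, inv_one], rfl⟩⟩ : SQ)) h3
      change algebraMap K' K'' u⁻¹ * (algebraMap K' K'' u * z) ∈ _ at h4
      rwa [map_inv₀, inv_mul_cancel_left₀ ((_root_.map_ne_zero _).2 hu0)] at h4
    · exact adjoin_const_le _ fun c => Subring.mem_map.2 ⟨algebraMap k K' c, Q.2.1 c, by
        rw [IsScalarTower.algebraMap_apply k K K', ← IsScalarTower.algebraMap_apply K K' K'',
          ← IsScalarTower.algebraMap_apply k K K'']⟩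
  · rintro ⟨hP, hQall⟩
    refine le_antisymm (fun z hz => ?_) hA''int
    refine mem_adjoin_of_coord hB₂ _ fun i => hTA _ ?_
    show _ ∈ A'
    rw [← hP]
    refine (hintP _).2 fun Q hQ => ?_
    have hzQ : z ∈ integralClosure (Q.O.toSubring.map (algebraMap K' K'')) K'' := by
      obtain ⟨e, he⟩ := hQ
      let ψ : S' →+* Q.O.toSubring.map (algebraMap K' K'') := S'.subtype.codRestrict _ fun a => by
        obtain ⟨a, ha⟩ := a
        obtain ⟨a₀, ha₀, rfl⟩ := Subring.mem_map.1 ha
        exact Subring.mem_map.2 ⟨algebraMap K K' a₀, (he.le_one_iff a₀).2 ha₀,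
          (IsScalarTower.algebraMap_apply K K' K'' a₀).symm⟩
      exact hz.map_of_comp_eq ψ (RingHom.id K'') (by ext; rfl)
    rw [hQall Q hQ] at hzQ
    exact coord_mem hB₂' Q.O.toSubring (fun c => by
      have : IsIntegral k (algebraMap k' K' c) :=
        (Algebra.IsAlgebraic.isAlgebraic c).isIntegral.map (IsScalarTower.toAlgHom k k' K')
      rcases eq_or_ne c 0 with rfl | hc
      · rw [map_zero]; exact zero_mem _
      · exact le_of_eq ((val_eq_one_iff Q ((_root_.map_ne_zero _).2 hc)).2 (ord_algebraic this.isAlgebraic Q))) hzQ i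

end tower

end Groth.Agent.FF
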