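/-
Members of a linear series supported at two points.
-/
import Groth.Agent.L26.FF.Pluecker
import Groth.Agent.L26.FF.Clifford

open WithZero IntermediateField Polynomial

namespace Groth.Agent.FF

open FunFld

variable {k K : Type*} [Field k] [Field K] [Algebra k K]

lemma exists_const_of_ord_eq (hK : IsFunctionField k K) {x y : K} (hx : x ≠ 0) (hy : y ≠ 0)
    (h : ∀ P : Place k K, P.ord x = P.ord y) : ∃ c : k, x = c • y := by
  have hmem : x / y ∈ L (0 : Divisor k K) := by
    rw [mem_L_iff_ord (div_ne_zero hx hy)]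
    intro P
    rw [div_eq_mul_inv, ord_mul P hx (inv_ne_zero hy), ord_inv, h P]
    simp
  rw [L_zero hK, Submodule.mem_one] at hmem
  obtain ⟨c, hc⟩ := hmem
  exact ⟨c, by rw [Algebra.smul_def, hc, div_mul_cancel₀ x hy]⟩

namespace Ser

variable [IsAlgClosed k] {D : Divisor k K} {V : Submodule k K} {d r : ℕ} (S : Ser D V d r)
include S

lemma exists_pair_member {P Q : Place k K} (hPQ : P ≠ Q) {a b : ℤ} (hab : a + b = d)
    (h : r + 2 ≤ prof D V P a + prof D V Q b) :
    ∃ f ∈ V, f ≠ 0 ∧ FunFld.div k f + D = Finsupp.single P a + Finsupp.single Q b := by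
  classical
  have := S.finite
  have : FiniteDimensional k ↥(V ⊓ L (D - Finsupp.single P a)) :=
    Submodule.finiteDimensional_of_le inf_le_left
  have : FiniteDimensional k ↥(V ⊓ L (D - Finsupp.single Q b)) :=
    Submodule.finiteDimensional_of_le inf_le_left
  have h1 := Submodule.finrank_sup_add_finrank_inf_eq (V ⊓ L (D - Finsupp.single P a))
    (V ⊓ L (D - Finsupp.single Q b))
  have h2 := Submodule.finrank_mono (sup_le (inf_le_left : V ⊓ L (D - Finsupp.single P a) ≤ V)
    (inf_le_left : V ⊓ L (D - Finsupp.single Q b) ≤ V))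
  have hr := S.hr
  simp only [prof] at h
  obtain ⟨f, ⟨⟨hfV, hfP⟩, -, hfQ⟩, hf0⟩ :=
    (Submodule.ne_bot_iff ((V ⊓ L (D - Finsupp.single P a)) ⊓ (V ⊓ L (D - Finsupp.single Q b)))).1
      fun h0 => by rw [h0, finrank_bot] at h1; omega
  refine ⟨f, hfV, hf0, ?_⟩
  rw [SetLike.mem_coe, mem_L_iff_div S.hK.1 hf0] at hfP hfQ
  have hE : (0 : Divisor k K) ≤ FunFld.div k f + D - (Finsupp.single P a + Finsupp.single Q b) := by
    intro R
    have h1 := hfP R
    have h2 := hfQ R
    simp only [Finsupp.zero_apply, Finsupp.add_apply, Finsupp.sub_apply, Finsupp.single_apply] at h1 h2 ⊢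
    by_cases hP : P = R
    · subst hP; simp [Ne.symm hPQ] at h1 ⊢; omega
    · simp [hP] at h1 ⊢; split_ifs at h2 ⊢ <;> omega
  exact sub_eq_zero.1 (eq_zero_of_deg_zero S.hK hE (by
    rw [deg_sub, deg_add, deg_add, deg_div S.hK.1, deg_single, deg_single, S.hD, deg_eq_one S.hK,
      deg_eq_one S.hK]
    omega))

lemma two_pair_members {P Q : Place k K} (hPQ : P ≠ Q)
    (hw : (r + 1) * d + 1 ≤ wt D V P d + wt D V Q d + r) :
    ∃ n₁ n₂ : ℕ, n₁ < n₂ ∧ n₂ ≤ d ∧
      r + 2 ≤ prof D V P n₁ + prof D V Q ((d : ℤ) - n₁) ∧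
      r + 2 ≤ prof D V P n₂ + prof D V Q ((d : ℤ) - n₂) := by
  classical
  let u : ℕ → ℕ := fun n => prof D V P n - prof D V P ((n : ℤ) + 1)
  let T : ℕ → ℕ := fun n => prof D V P ((n : ℤ) + 1) + prof D V Q ((d : ℤ) - n)
  have hu : ∀ n : ℕ, prof D V P n = prof D V P ((n : ℤ) + 1) + u n ∧ u n ≤ 1 := fun n => by
    have := S.prof_anti P (show (n : ℤ) ≤ (n : ℤ) + 1 by omega)
    have := S.prof_step P n
    simp only [u]; omega
  have hT : ∀ n ∈ Finset.range (d + 1), T n ≤ r + 1 := fun n _ => S.prof_pair_le hPQ (by omega)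
  let E := (Finset.range (d + 1)).filter fun n => u n = 1 ∧ T n = r + 1
  suffices hE : 2 ≤ E.card by
    obtain ⟨x, hx, y, hy, hxy⟩ := Finset.one_lt_card.1 hE
    have key : ∀ n ∈ E, n ≤ d ∧ r + 2 ≤ prof D V P n + prof D V Q ((d : ℤ) - n) := fun n hn => by
      obtain ⟨h1, h2, h3⟩ := (Finset.mem_filter.1 hn)
      have := hu n
      have := Finset.mem_range.1 h1
      simp only [T] at h3
      omega
    rcases lt_or_gt_of_ne hxy with h | h
    · exact ⟨x, y, h, (key y hy).1, (key x hx).2, (key y hy).2⟩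
    · exact ⟨y, x, h, (key x hx).1, (key y hy).2, (key x hx).2⟩
  have htel : ∀ m : ℕ, ∑ n ∈ Finset.range m, u n + prof D V P m = r + 1 := fun m => by
    induction m with
    | zero => simp [S.prof_zero P]
    | succ m ih => rw [Finset.sum_range_succ]; have := hu m; push_cast; omega
  have hsumu : ∑ n ∈ Finset.range (d + 1), u n = r + 1 := by
    have := htel (d + 1)
    rw [S.prof_eq_zero P (by push_cast; omega)] at this
    omega
  have h1 : ∑ n ∈ Finset.range (d + 1), (T n + u n) ≤
      ∑ n ∈ Finset.range (d + 1), (r + 1 + if u n = 1 ∧ T n = r + 1 then 1 else 0) :=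
    Finset.sum_le_sum fun n hn => by
      have := hT n hn
      have := (hu n).2
      split_ifs with h
      · omega
      · rcases eq_or_ne (u n) 1 with h' | h'
        · have : T n ≠ r + 1 := fun h'' => h ⟨h', h''⟩
          omega
        · omega
  rw [Finset.sum_add_distrib (f := T) (g := u), hsumu,
    Finset.sum_add_distrib (f := fun _ => r + 1), Finset.sum_const, Finset.card_range,
    ← Finset.card_filter, smul_eq_mul, Finset.sum_range_succ] at h1
  have h2 : ∑ n ∈ Finset.range d, T n = wt D V P d + wt D V Q d := by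
    rw [wt, wt, ← Finset.sum_range_reflect (fun n => prof D V Q ((n : ℤ) + 1)) d,
      ← Finset.sum_add_distrib]
    refine Finset.sum_congr rfl fun n hn => ?_
    have := Finset.mem_range.1 hn
    simp only [T]
    rw [show ((d - 1 - n : ℕ) : ℤ) + 1 = (d : ℤ) - n by omega]
  have h3 : T d = r + 1 := by
    simp only [T]
    rw [S.prof_eq_zero P (by omega), sub_self, S.prof_zero Q]
    omega
  rw [h2, h3] at h1
  show 2 ≤ E.card
  simp only [E]
  nlinarith

variable [CharZero k]

lemma eq_smul_of_cusp (hg : genus k K = 0) {Q : Place k K} (hcusp : r ≤ prof D V Q 2)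
    {P P' : Place k K} (hP : P ≠ Q) (hP' : P' ≠ Q) {f g : K} (hf : f ∈ V) (hg' : g ∈ V)
    (hf0 : f ≠ 0) (hg0 : g ≠ 0)
    (hfs : ∀ R : Place k K, R ≠ P → R ≠ P' → R.ord f + D R = 0)
    (hgs : ∀ R : Place k K, R ≠ P → R ≠ P' → R.ord g + D R = 0) : ∃ c : k, g = c • f := by
  classical
  let E : Divisor k K := FunFld.div k g - FunFld.div k f
  have hE : ∀ R, E R = R.ord g - R.ord f := fun R => by simp [E, div_apply S.hK.1]
  have hEdeg : E.deg = 0 := by simp only [E, deg_sub, deg_div S.hK.1]; norm_num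
  have hsupp : ∀ R, R ≠ P → R ≠ P' → E R = 0 := fun R h1 h2 => by
    have := hfs R h1 h2; have := hgs R h1 h2; rw [hE]; omega
  by_cases hE0 : E = 0
  · refine exists_const_of_ord_eq S.hK hg0 hf0 fun R => ?_
    have := hE R
    rw [hE0, Finsupp.zero_apply] at this
    omega
  exfalso
  have hPP : P ≠ P' := fun h => hE0 (Finsupp.ext fun R => by
    by_cases hR : R = P
    · subst hR
      have h' : E = Finsupp.single R (E R) := Finsupp.ext fun R' => by
        by_cases hh : R' = R
        · subst hh; simp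
        · rw [Finsupp.single_eq_of_ne hh, hsupp R' hh (h ▸ hh)]
      rw [h', deg_single, deg_eq_one S.hK] at hEdeg
      simpa using hEdeg
    · rw [hsupp R hR (h ▸ hR), Finsupp.zero_apply])
  let e := E P
  have hEe : E = Finsupp.single P e - Finsupp.single P' e := by
    have h1 : E = Finsupp.single P (E P) + Finsupp.single P' (E P') := Finsupp.ext fun R => by
      rw [Finsupp.add_apply, Finsupp.single_apply, Finsupp.single_apply]
      by_cases h1 : P = R
      · subst h1; rw [if_pos rfl, if_neg (Ne.symm hPP), add_zero]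
      · by_cases h2 : P' = R
        · subst h2; rw [if_neg hPP, if_pos rfl, zero_add]
        · rw [if_neg h1, if_neg h2, add_zero, hsupp R (Ne.symm h1) (Ne.symm h2)]
    rw [h1, deg_add, deg_single, deg_single, deg_eq_one S.hK, deg_eq_one S.hK] at hEdeg
    rw [h1, sub_eq_add_neg, ← Finsupp.single_neg, show -e = E P' by simp only [e]; omega]
  have he : e ≠ 0 := fun h => hE0 (by rw [hEe, h]; simp)
  obtain ⟨t, ht1, ht2⟩ := exists_coord S.hK hg (deg_eq_one S.hK P')
  have T : Coord t P' := ⟨S.hK, ht1, ht2⟩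
  obtain ⟨a0, ha0⟩ := T.exists_val hPP
  obtain ⟨hs1, hs2⟩ := T.ord_sub hPP ha0
  obtain ⟨q, hq⟩ := T.exists_val (Ne.symm hP')
  have hqa : q ≠ a0 := fun h => by
    rw [h, hs2 Q (Ne.symm hP) (Ne.symm hP')] at hq; exact lt_irrefl _ hq
  have hs : t - algebraMap k K a0 ≠ 0 := T.sub_ne_zero a0
  have hordE : ∀ R, E R = e * R.ord (t - algebraMap k K a0) := fun R => by
    rw [hEe, Finsupp.sub_apply, Finsupp.single_apply, Finsupp.single_apply]
    by_cases h1 : P = R
    · subst h1; rw [if_pos rfl, if_neg (Ne.symm hPP), hs1]; ring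
    · by_cases h2 : P' = R
      · subst h2; rw [if_neg hPP, if_pos rfl, T.ord_sub_inf]; ring
      · rw [if_neg h1, if_neg h2, hs2 R (Ne.symm h1) (Ne.symm h2)]; ring
  -- exponent made natural, possibly swapping `f` and `g`
  obtain ⟨u, v, n, hu, hv, hu0, hv0, hus, hn, hord⟩ : ∃ (u v : K) (n : ℕ), u ∈ V ∧ v ∈ V ∧
      u ≠ 0 ∧ v ≠ 0 ∧ (Q.ord u + D Q = 0) ∧ 0 < n ∧
      ∀ R : Place k K, R.ord v = R.ord u + n * R.ord (t - algebraMap k K a0) := by
    rcases lt_or_gt_of_ne he with h | h
    · refine ⟨g, f, (-e).toNat, hg', hf, hg0, hf0, hgs Q (Ne.symm hP) (Ne.symm hP'), by omega, fun R => ?_⟩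
      have := hordE R; rw [hE] at this
      rw [Int.toNat_of_nonneg (by omega)]; linarith
    · refine ⟨f, g, e.toNat, hf, hg', hf0, hg0, hfs Q (Ne.symm hP) (Ne.symm hP'), by omega, fun R => ?_⟩
      have := hordE R; rw [hE] at this
      rw [Int.toNat_of_nonneg (by omega)]; linarith
  have hpow : ∀ R : Place k K, R.ord ((t - algebraMap k K a0) ^ n) =
      n * R.ord (t - algebraMap k K a0) := fun R => by
    rw [ord_eq_of_val R (n := -(n * R.ord (t - algebraMap k K a0)))]
    · ring
    · rw [map_pow, val_eq_exp R hs, ← exp_nsmul]; simp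
  obtain ⟨c, hc⟩ := exists_const_of_ord_eq S.hK hv0 (mul_ne_zero hu0 (pow_ne_zero n hs)) fun R => by
    rw [ord_mul R hu0 (pow_ne_zero n hs), hpow, hord]
  have hc0 : c ≠ 0 := fun h => hv0 (by rw [hc, h, zero_smul])
  -- a member of the pencil vanishing twice at `Q`
  have := S.finite
  let W : Submodule k K := Submodule.span k (Set.range ![u, v])
  have hWV : W ≤ V := by
    rw [Submodule.span_le]; rintro _ ⟨i, rfl⟩; fin_cases i <;> simpa
  have : FiniteDimensional k W := Submodule.finiteDimensional_of_le hWV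
  have : FiniteDimensional k ↥(V ⊓ L (D - Finsupp.single Q 2)) :=
    Submodule.finiteDimensional_of_le inf_le_left
  have hli : LinearIndependent k ![u, v] := by
    refine linearIndependent_of_ord_injective P ?_ ?_
    · intro i; fin_cases i <;> simpa
    · intro i j hij
      have h := hord P
      rw [hs1] at h
      fin_cases i <;> fin_cases j <;> simp at hij ⊢ <;> omega
  have hW2 : Module.finrank k W = 2 := by simpa using finrank_span_eq_card hli
  have h1 := Submodule.finrank_sup_add_finrank_inf_eq W (V ⊓ L (D - Finsupp.single Q 2))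
  have h2 := Submodule.finrank_mono (sup_le hWV (inf_le_left : V ⊓ L (D - Finsupp.single Q 2) ≤ V))
  have hr := S.hr
  simp only [prof] at hcusp
  obtain ⟨w, ⟨hwW, -, hwQ⟩, hw0⟩ :=
    (Submodule.ne_bot_iff (W ⊓ (V ⊓ L (D - Finsupp.single Q 2)))).1
      fun h0 => by rw [h0, finrank_bot] at h1; omega
  obtain ⟨co, hco⟩ := (Submodule.mem_span_range_iff_exists_fun k).1 hwW
  rw [Fin.sum_univ_two] at hco
  let p : k[X] := Polynomial.C (co 0) + Polynomial.C (co 1 * c) * (Polynomial.X - Polynomial.C a0) ^ n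
  have hwp : w = u * Polynomial.aeval t p := by
    rw [← hco]
    simp only [p, Matrix.cons_val_zero, Matrix.cons_val_one, map_add, map_mul, map_pow, map_sub,
      Polynomial.aeval_X, Polynomial.aeval_C, hc, Algebra.smul_def]
    ring
  have hp0 : p ≠ 0 := fun h => hw0 (by rw [hwp, h, map_zero, mul_zero])
  rw [SetLike.mem_coe, mem_L_iff_ord hw0] at hwQ
  have h3 := hwQ Q
  rw [hwp, ord_mul Q hu0 (T.aeval_ne_zero hp0), T.ord_aeval (Ne.symm hP') hq hp0,
    Finsupp.sub_apply, Finsupp.single_eq_same] at h3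
  have h4 : 1 < p.rootMultiplicity q := by omega
  obtain ⟨h5, h6⟩ := (Polynomial.one_lt_rootMultiplicity_iff_isRoot hp0).1 h4
  have h7 : co 1 * c * n * (q - a0) ^ (n - 1) = 0 := by
    rw [Polynomial.IsRoot] at h6
    simp only [p, Polynomial.derivative_add, Polynomial.derivative_C, zero_add,
      Polynomial.derivative_C_mul, Polynomial.derivative_X_sub_C_pow, Polynomial.eval_mul,
      Polynomial.eval_C, Polynomial.eval_pow, Polynomial.eval_sub, Polynomial.eval_X] at h6
    rw [← h6]; ring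
  rcases mul_eq_zero.1 h7 with h8 | h8
  · have h9 : co 1 * c = 0 := (mul_eq_zero.1 h8).resolve_right (by exact_mod_cast hn.ne')
    rw [Polynomial.IsRoot] at h5
    simp only [p, Polynomial.eval_add, Polynomial.eval_mul, Polynomial.eval_C, h9, zero_mul,
      add_zero] at h5
    exact hp0 (by simp [p, h5, h9])
  · exact hqa (sub_eq_zero.1 (eq_zero_of_pow_eq_zero h8))

end Ser

end Groth.Agent.FF
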