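/-
Plane models of geometric function fields.
-/
import Groth.Agent.L26.FF.PlaneLocal
import Groth.Agent.L26.FF.ConstBase
import Mathlib.RingTheory.Polynomial.GaussLemma
import Mathlib.RingTheory.Polynomial.UniqueFactorization
import Mathlib.RingTheory.Localization.FractionRing
import Mathlib.LinearAlgebra.TensorProduct.Basis

open scoped TensorProduct
open MvPolynomial

universe u v

namespace Groth.Agent.FF

open FunFld

variable {k : Type u} {K : Type v} [Field k] [Field K] [Algebra k K]

/-- The map from `k'[X, Y]` to `k' ⊗ K`. -/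
noncomputable def constEv (x y : K) (k' : Type u) [Field k'] [Algebra k k'] :
    MvPolynomial (Fin 2) k' →ₐ[k'] k' ⊗[k] K :=
  aeval ![(1 : k') ⊗ₜ[k] x, (1 : k') ⊗ₜ[k] y]

lemma constEv_map (x y : K) (k' : Type u) [Field k'] [Algebra k k'] (p : MvPolynomial (Fin 2) k) :
    constEv (k := k) x y k' (map (algebraMap k k') p) = (1 : k') ⊗ₜ[k] aeval ![x, y] p := by
  rw [constEv, aeval_map_algebraMap]
  show _ = (Algebra.TensorProduct.includeRight : K →ₐ[k] k' ⊗[k] K) (aeval ![x, y] p)
  rw [comp_aeval_apply]
  congr 2
  funext i
  fin_cases i <;> rfl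

/-- The kernel after a constant extension is generated by the relation. -/
lemma constEv_eq_zero_iff {x y : K} {f : MvPolynomial (Fin 2) k} (hf : aeval ![x, y] f = 0)
    (hker : ∀ p, aeval ![x, y] p = 0 → f ∣ p) (k' : Type u) [Field k'] [Algebra k k'] [FiniteDimensional k k']
    (p : MvPolynomial (Fin 2) k') : constEv (k := k) x y k' p = 0 ↔ map (algebraMap k k') f ∣ p := by
  classical
  constructor
  · intro hp
    let B := Module.finBasis k k'
    let c : Fin (Module.finrank k k') → MvPolynomial (Fin 2) k := fun i =>
      ∑ m ∈ p.support, monomial m (B.repr (coeff m p) i)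
    have hc : p = ∑ i, MvPolynomial.C (B i) * map (algebraMap k k') (c i) := by
      conv_lhs => rw [p.as_sum]
      simp only [c, map_sum, map_monomial, Finset.mul_sum, C_mul_monomial]
      rw [Finset.sum_comm]
      refine Finset.sum_congr rfl fun m _ => ?_
      rw [← map_sum]
      congr 1
      conv_lhs => rw [← B.sum_repr (coeff m p)]
      exact Finset.sum_congr rfl fun i _ => by rw [Algebra.smul_def, mul_comm]
    have h1 : ∑ i, (B i) ⊗ₜ[k] aeval ![x, y] (c i) = (0 : k' ⊗[k] K) := by
      rw [← hp]
      conv_rhs => rw [hc]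
      rw [map_sum]
      refine Finset.sum_congr rfl fun i _ => ?_
      rw [map_mul, constEv_map, constEv, aeval_C, Algebra.TensorProduct.algebraMap_apply,
        Algebra.TensorProduct.tmul_mul_tmul, one_mul, mul_one, Algebra.algebraMap_self_apply]
    have h2 : ∀ i, aeval ![x, y] (c i) = 0 := fun i => by
      have := DFunLike.congr_fun (congrArg (TensorProduct.equivFinsuppOfBasisLeft B) h1) i
      rw [map_sum, map_zero, Finsupp.finsetSum_apply, Finset.sum_eq_single i (fun j _ hj => by
        rw [TensorProduct.equivFinsuppOfBasisLeft_apply_tmul_apply, B.repr_self, Finsupp.single_eq_of_ne hj.symm,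
          zero_smul]) (fun h => absurd (Finset.mem_univ i) h),
        TensorProduct.equivFinsuppOfBasisLeft_apply_tmul_apply, B.repr_self, Finsupp.single_eq_same, one_smul] at this
      simpa using this
    rw [hc]
    exact Finset.dvd_sum fun i _ => dvd_mul_of_dvd_right (map_dvd _ (hker _ (h2 i))) _
  · rintro ⟨q, rfl⟩
    rw [map_mul, constEv_map, hf, TensorProduct.tmul_zero, zero_mul]

/-- Two-variable polynomials as polynomials over `k[X]`. -/
noncomputable def toPoly2 : MvPolynomial (Fin 2) k →ₐ[k] Polynomial (Polynomial k) :=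
  aeval ![Polynomial.C Polynomial.X, Polynomial.X]

lemma toPoly2_dvd {p q : MvPolynomial (Fin 2) k} (h : toPoly2 p ∣ toPoly2 q) : p ∣ q := by
  let Ψ : Polynomial (Polynomial k) →+* MvPolynomial (Fin 2) k :=
    Polynomial.eval₂RingHom (Polynomial.aeval (X 0) : Polynomial k →ₐ[k] MvPolynomial (Fin 2) k).toRingHom (X 1)
  have hΨ : ∀ r, Ψ (toPoly2 r) = r := fun r => by
    induction r using MvPolynomial.induction_on with
    | C c => simp [Ψ, toPoly2]
    | add a b ha hb => rw [map_add, map_add, ha, hb]
    | mul_X a i ha =>
      rw [map_mul, map_mul, ha]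
      fin_cases i <;> simp [Ψ, toPoly2]
  have := map_dvd Ψ h
  rwa [hΨ, hΨ] at this

/-- The relations between a transcendental and an algebraic element are principal. -/
lemma exists_relation_gen {x y : K} (hx : Transcendental k x)
    (hne : ∃ p : MvPolynomial (Fin 2) k, p ≠ 0 ∧ aeval ![x, y] p = 0) :
    ∃ f : MvPolynomial (Fin 2) k, Irreducible f ∧ aeval ![x, y] f = 0 ∧
      ∀ p, aeval ![x, y] p = 0 → f ∣ p := by
  classical
  set I := RingHom.ker (aeval ![x, y] : MvPolynomial (Fin 2) k →ₐ[k] K) with hI
  have : I.IsPrime := RingHom.ker_isPrime _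
  obtain ⟨p0, hp0, hp0'⟩ := hne
  obtain ⟨f, hfI, hf⟩ := Ideal.IsPrime.exists_mem_prime_of_ne_bot (I := I) inferInstance
    (fun h => hp0 (Ideal.mem_bot.1 (h ▸ (RingHom.mem_ker.2 hp0' : p0 ∈ I))))
  refine ⟨f, hf.irreducible, RingHom.mem_ker.1 hfI, fun p hp => toPoly2_dvd ?_⟩
  -- evaluation through `k(x)`
  let F := FractionRing (Polynomial k)
  have hinj : Function.Injective (Polynomial.aeval x : Polynomial k →ₐ[k] K) :=
    (transcendental_iff_injective).1 hx
  let ι : F →+* K := IsFractionRing.lift (g := (Polynomial.aeval x : Polynomial k →ₐ[k] K).toRingHom) hinj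
  let _ : Algebra F K := ι.toAlgebra
  have hev : ∀ r : MvPolynomial (Fin 2) k,
      Polynomial.aeval y ((toPoly2 r).map (algebraMap (Polynomial k) F)) = aeval ![x, y] r := fun r => by
    induction r using MvPolynomial.induction_on with
    | C c =>
      simp only [toPoly2, MvPolynomial.aeval_C, Polynomial.algebraMap_apply, Polynomial.map_C, Polynomial.aeval_C]
      show ι (algebraMap (Polynomial k) F (Polynomial.C c)) = _
      rw [show ι (algebraMap (Polynomial k) F (Polynomial.C c)) =
        (Polynomial.aeval x : Polynomial k →ₐ[k] K) (Polynomial.C c) from IsFractionRing.lift_algebraMap hinj _,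
        Polynomial.aeval_C]
    | add a b ha hb => rw [map_add, Polynomial.map_add, map_add, ha, hb, map_add]
    | mul_X a i ha =>
      rw [map_mul, Polynomial.map_mul, map_mul, ha, map_mul]
      congr 1
      fin_cases i
      · simp only [toPoly2, MvPolynomial.aeval_X]
        show Polynomial.aeval y ((Polynomial.C Polynomial.X).map (algebraMap (Polynomial k) F)) = x
        rw [Polynomial.map_C, Polynomial.aeval_C]
        show ι (algebraMap (Polynomial k) F Polynomial.X) = x
        rw [show ι (algebraMap (Polynomial k) F Polynomial.X) =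
          (Polynomial.aeval x : Polynomial k →ₐ[k] K) Polynomial.X from IsFractionRing.lift_algebraMap hinj _,
          Polynomial.aeval_X]
      · simp [toPoly2]
  have hirr : Irreducible (toPoly2 f) := by
    let Ψ : Polynomial (Polynomial k) →ₐ[k] MvPolynomial (Fin 2) k :=
      { Polynomial.eval₂RingHom (Polynomial.aeval (X 0) : Polynomial k →ₐ[k] MvPolynomial (Fin 2) k).toRingHom (X 1) with
        commutes' := fun c => by
          show Polynomial.eval₂ _ _ (algebraMap k (Polynomial (Polynomial k)) c) = _
          rw [Polynomial.algebraMap_apply, Polynomial.eval₂_C]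
          exact (Polynomial.aeval (X 0)).commutes c }
    have h1 : Ψ.comp toPoly2 = AlgHom.id k _ := MvPolynomial.algHom_ext fun i => by
      fin_cases i <;> simp [Ψ, toPoly2]
    have h2 : (toPoly2 (k := k)).comp Ψ = AlgHom.id k _ := AlgHom.ext fun q => by
      refine DFunLike.congr_fun (Polynomial.ringHom_ext (f := ((toPoly2 (k := k)).comp Ψ).toRingHom)
        (g := RingHom.id _) (fun a => ?_) (by simp [Ψ, toPoly2])) q
      refine DFunLike.congr_fun (Polynomial.ringHom_ext (f := ((toPoly2 (k := k)).comp Ψ).toRingHom.comp Polynomial.C)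
        (g := (Polynomial.C : Polynomial k →+* Polynomial (Polynomial k))) (fun c => ?_) (by simp [Ψ, toPoly2])) a
      simp [Ψ, toPoly2]
    exact (MulEquiv.irreducible_iff (AlgEquiv.ofAlgHom toPoly2 Ψ h2 h1).toRingEquiv.toMulEquiv).2 hf.irreducible
  have hdeg : (toPoly2 f).natDegree ≠ 0 := fun h0 => by
    obtain ⟨a, ha⟩ := Polynomial.natDegree_eq_zero.1 h0
    have h1 := hev f
    rw [← ha, Polynomial.map_C, Polynomial.aeval_C, RingHom.mem_ker.1 hfI] at h1
    have h2 : (Polynomial.aeval x : Polynomial k →ₐ[k] K) a = 0 := (IsFractionRing.lift_algebraMap hinj a).symm.trans h1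
    exact hirr.ne_zero (by rw [← ha, hinj (h2.trans (map_zero _).symm), Polynomial.C_0])
  have hprim := hirr.isPrimitive hdeg
  have hirrF := hprim.irreducible_iff_irreducible_map_fraction_map (K := F) |>.1 hirr
  rw [hprim.dvd_iff_fraction_map_dvd_fraction_map (K := F)]
  obtain ⟨c, hc⟩ := minpoly.dvd F y (p := (toPoly2 f).map (algebraMap (Polynomial k) F))
    ((hev f).trans (RingHom.mem_ker.1 hfI))
  have hdvd := minpoly.dvd F y (p := (toPoly2 p).map (algebraMap (Polynomial k) F)) ((hev p).trans hp)
  rcases hirrF.isUnit_or_isUnit hc with h | h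
  · exact absurd h (minpoly.not_isUnit F y)
  · exact hc ▸ (h.mul_right_dvd.2 hdvd)

lemma mem_adjoin_pair {x y : K} (h : IntermediateField.adjoin k ({x, y} : Set K) = ⊤) (z : K) :
    ∃ p q : MvPolynomial (Fin 2) k, aeval ![x, y] q ≠ 0 ∧ z * aeval ![x, y] q = aeval ![x, y] p := by
  have hz : z ∈ IntermediateField.adjoin k ({x, y} : Set K) := h ▸ IntermediateField.mem_top
  obtain ⟨r, hr, s, hs, rfl⟩ := IntermediateField.mem_adjoin_iff_div.1 hz
  have hrange : Algebra.adjoin k ({x, y} : Set K) = (aeval ![x, y] : MvPolynomial (Fin 2) k →ₐ[k] K).range := by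
    rw [← Algebra.adjoin_range_eq_range_aeval]
    congr 1
    simp [Matrix.range_cons, Set.pair_comm]
  rw [hrange] at hr hs
  obtain ⟨p, rfl⟩ := hr
  obtain ⟨q, rfl⟩ := hs
  by_cases hq : (aeval ![x, y] : MvPolynomial (Fin 2) k →ₐ[k] K) q = 0
  · refine ⟨0, 1, by simp, ?_⟩
    show _ / (aeval ![x, y] : MvPolynomial (Fin 2) k →ₐ[k] K) q * _ = _
    rw [hq, div_zero, zero_mul, map_zero]
  · exact ⟨p, q, hq, div_mul_cancel₀ _ hq⟩

theorem plane_model_iff : (IsFunctionField k K ∧ IsGeometric k K) ↔
      ∃ (x y : K) (f : MvPolynomial (Fin 2) k),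
        IntermediateField.adjoin k ({x, y} : Set K) = ⊤ ∧
        (∀ (k' : Type u) [Field k'] [Algebra k k'], FiniteDimensional k k' →
          Irreducible (MvPolynomial.map (algebraMap k k') f)) ∧
        RingHom.ker (MvPolynomial.aeval ![x, y] : MvPolynomial (Fin 2) k →ₐ[k] K) = Ideal.span {f} := by
  classical
  constructor
  · rintro ⟨hK, hg⟩
    obtain ⟨x, hx, hsep⟩ := Res.exists_separating hK hg
    have := finite_over_adjoin hK.1 hx
    obtain ⟨y, hy⟩ := Field.exists_primitive_element (IntermediateField.adjoin k ({x} : Set K)) K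
    have hxy : IntermediateField.adjoin k ({x, y} : Set K) = ⊤ := by
      rw [← IntermediateField.adjoin_simple_adjoin_simple, hy, IntermediateField.restrictScalars_top]
    have hne : ∃ p : MvPolynomial (Fin 2) k, p ≠ 0 ∧ aeval ![x, y] p = 0 := by
      obtain ⟨c, p, hc, hp⟩ := exists_overAdjoin (s := x) (minpoly (IntermediateField.adjoin k ({x} : Set K)) y)
      refine ⟨p, fun h0 => ?_, ?_⟩
      · rw [h0, map_zero] at hp
        exact mul_ne_zero (Polynomial.C_ne_zero.2 hc) (minpoly.ne_zero (Algebra.IsIntegral.isIntegral y)) hp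
      · rw [← aeval_overAdjoin, ← hp, map_mul, minpoly.aeval, mul_zero]
    obtain ⟨f, hf, hf0, hker⟩ := exists_relation_gen hx hne
    refine ⟨x, y, f, hxy, fun k' _ _ hfin => ?_, ?_⟩
    · have hfld := hg k' hfin
      let _ := hfld.toField
      have hmap0 : map (algebraMap k k') f ≠ 0 :=
        (map_ne_zero_iff _ (map_injective _ (algebraMap k k').injective)).2 hf.ne_zero
      have hker' : RingHom.ker (constEv (k := k) x y k') = Ideal.span {map (algebraMap k k') f} := by
        ext p
        rw [RingHom.mem_ker, Ideal.mem_span_singleton]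
        exact constEv_eq_zero_iff hf0 hker k' p
      have hprime : (Ideal.span {map (algebraMap k k') f}).IsPrime := hker' ▸ RingHom.ker_isPrime _
      exact ((Ideal.span_singleton_prime hmap0).1 hprime).irreducible
    · ext p
      rw [RingHom.mem_ker, Ideal.mem_span_singleton]
      exact ⟨hker p, fun ⟨q, hq⟩ => by rw [hq, map_mul, hf0, zero_mul]⟩
  · rintro ⟨x, y, f, hxy, habs, hkerI⟩
    have hf0 : aeval ![x, y] f = 0 := RingHom.mem_ker.1 (hkerI ▸ Ideal.mem_span_singleton_self f)
    have hker : ∀ p, aeval ![x, y] p = 0 → f ∣ p := fun p hp =>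
      Ideal.mem_span_singleton.1 (hkerI ▸ RingHom.mem_ker.2 hp)
    have hf : Irreducible f := by
      have := habs k inferInstance
      rwa [Algebra.algebraMap_self, MvPolynomial.map_id] at this
    have hgeo : IsGeometric k K := by
      intro k' _ _ hfin
      have hf' := habs k' hfin
      have : IsDomain (constEv (k := k) x y k').range :=
        have hprime : (RingHom.ker (constEv (k := k) x y k')).IsPrime := by
          have hker' : RingHom.ker (constEv (k := k) x y k') = Ideal.span {map (algebraMap k k') f} := by
            ext p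
            rw [RingHom.mem_ker, Ideal.mem_span_singleton]
            exact constEv_eq_zero_iff hf0 hker k' p
          rw [hker', Ideal.span_singleton_prime hf'.ne_zero]
          exact hf'.prime
        have := (Ideal.Quotient.isDomain_iff_prime (RingHom.ker (constEv (k := k) x y k'))).2 hprime
        MulEquiv.isDomain (MvPolynomial (Fin 2) k' ⧸ RingHom.ker (constEv (k := k) x y k'))
          (Ideal.quotientKerEquivRange (constEv (k := k) x y k')).toMulEquiv.symm
      have hclear : ∀ z : k' ⊗[k] K, ∃ d : K, d ≠ 0 ∧ ((1 : k') ⊗ₜ[k] d) * z ∈ (constEv (k := k) x y k').range := by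
        intro z
        induction z using TensorProduct.induction_on with
        | zero => exact ⟨1, one_ne_zero, by rw [mul_zero]; exact zero_mem _⟩
        | tmul a b =>
          obtain ⟨p, q, hq, hpq⟩ := mem_adjoin_pair hxy b
          refine ⟨aeval ![x, y] q, hq, MvPolynomial.C a * map (algebraMap k k') p, ?_⟩
          show constEv (k := k) x y k' (MvPolynomial.C a * map (algebraMap k k') p) = _
          rw [map_mul, constEv_map, constEv, aeval_C, Algebra.TensorProduct.algebraMap_apply,
            Algebra.TensorProduct.tmul_mul_tmul, Algebra.TensorProduct.tmul_mul_tmul, ← hpq]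
          simp [mul_comm]
        | add a b ha hb =>
          obtain ⟨d, hd, hd'⟩ := ha
          obtain ⟨e, he, he'⟩ := hb
          obtain ⟨pd, qd, hqd, hpqd⟩ := mem_adjoin_pair hxy d
          obtain ⟨pe, qe, hqe, hpqe⟩ := mem_adjoin_pair hxy e
          have hmem : ∀ p, (1 : k') ⊗ₜ[k] aeval ![x, y] p ∈ (constEv (k := k) x y k').range :=
            fun p => ⟨map (algebraMap k k') p, constEv_map x y k' p⟩
          refine ⟨(d * aeval ![x, y] qd) * (e * aeval ![x, y] qe),
            mul_ne_zero (mul_ne_zero hd hqd) (mul_ne_zero he hqe), ?_⟩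
          have h1 : ((1 : k') ⊗ₜ[k] ((d * aeval ![x, y] qd) * (e * aeval ![x, y] qe))) * (a + b) =
              ((1 : k') ⊗ₜ[k] aeval ![x, y] qd) * ((1 : k') ⊗ₜ[k] (e * aeval ![x, y] qe)) * ((1 : k') ⊗ₜ[k] d * a) +
              ((1 : k') ⊗ₜ[k] aeval ![x, y] qe) * ((1 : k') ⊗ₜ[k] (d * aeval ![x, y] qd)) * ((1 : k') ⊗ₜ[k] e * b) := by
            simp only [← mul_assoc, Algebra.TensorProduct.tmul_mul_tmul, one_mul, mul_add]
            congr 3 <;> ring
          rw [h1, hpqd, hpqe]
          exact add_mem (mul_mem (mul_mem (hmem _) (hmem _)) hd') (mul_mem (mul_mem (hmem _) (hmem _)) he')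
      have hunit : ∀ d : K, d ≠ 0 → IsUnit ((1 : k') ⊗ₜ[k] d) := fun d hd =>
        (Ne.isUnit hd).map (Algebra.TensorProduct.includeRight : K →ₐ[k] k' ⊗[k] K)
      have : Nontrivial (k' ⊗[k] K) :=
        (Algebra.TensorProduct.includeRight_injective (R := k) (A := k') (B := K) (algebraMap k k').injective).nontrivial
      have : NoZeroDivisors (k' ⊗[k] K) := ⟨fun {z w} h => by
        obtain ⟨d, hd, hd'⟩ := hclear z
        obtain ⟨e, he, he'⟩ := hclear w
        have h2 : (⟨_, hd'⟩ : (constEv (k := k) x y k').range) * ⟨_, he'⟩ = 0 :=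
          Subtype.ext (show (1 : k') ⊗ₜ[k] d * z * ((1 : k') ⊗ₜ[k] e * w) = 0 by rw [mul_mul_mul_comm, h, mul_zero])
        rcases mul_eq_zero.1 h2 with h3 | h3
        · exact Or.inl ((hunit d hd).mul_right_eq_zero.1 (congrArg Subtype.val h3))
        · exact Or.inr ((hunit e he).mul_right_eq_zero.1 (congrArg Subtype.val h3))⟩
      have hdom : IsDomain (k' ⊗[k] K) := NoZeroDivisors.to_isDomain _
      let ε := (Algebra.TensorProduct.comm k K k').toRingEquiv
      have : IsDomain (K ⊗[k] k') := MulEquiv.isDomain (k' ⊗[k] K) ε.toMulEquiv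
      have hint : Algebra.IsIntegral K (K ⊗[k] k') := Algebra.IsIntegral.of_finite _ _
      exact MulEquiv.isField (isField_of_isIntegral_of_isField' (Field.toIsField K)) ε.toMulEquiv.symm
    refine ⟨⟨?_, ?_⟩, hgeo⟩
    · -- transcendence degree one
      have hcase : ∀ s w : K, IntermediateField.adjoin k ({s, w} : Set K) = ⊤ → Transcendental k s →
          IsAlgebraic (IntermediateField.adjoin k ({s} : Set K)) w →
          ∃ z : K, Transcendental k z ∧ FiniteDimensional (IntermediateField.adjoin k ({z} : Set K)) K := by
        intro s w hsw hs hw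
        refine ⟨s, hs, ?_⟩
        have htop : IntermediateField.adjoin (IntermediateField.adjoin k ({s} : Set K)) ({w} : Set K) = ⊤ := by
          apply IntermediateField.restrictScalars_injective k
          rw [IntermediateField.restrictScalars_top, IntermediateField.adjoin_simple_adjoin_simple, hsw]
        have := IntermediateField.adjoin.finiteDimensional hw.isIntegral
        rw [htop] at this
        exact Module.Finite.equiv (IntermediateField.topEquiv).toLinearEquiv
      by_cases hxt : Transcendental k x
      · refine hcase x y hxy hxt ?_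
        refine ⟨overAdjoin x f, fun h0 => ?_, by rw [aeval_overAdjoin, hf0]⟩
        have hx₀ : Transcendental k (IntermediateField.AdjoinSimple.gen k x) := fun h => hxt (by
          have := (isAlgebraic_algebraMap_iff (A := K) (algebraMap (IntermediateField.adjoin k ({x} : Set K)) K).injective).2 h
          rwa [IntermediateField.AdjoinSimple.algebraMap_gen] at this)
        have hm : ∀ r, overAdjoin x r = (toPoly2 r).map (Polynomial.aeval (IntermediateField.AdjoinSimple.gen k x) :
            Polynomial k →ₐ[k] IntermediateField.adjoin k ({x} : Set K)).toRingHom := fun r => by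
          induction r using MvPolynomial.induction_on with
          | C c => simp [overAdjoin, toPoly2, Polynomial.map_C]
          | add a b ha hb => rw [map_add, map_add, ha, hb, Polynomial.map_add]
          | mul_X a i ha =>
            rw [map_mul, map_mul, ha, Polynomial.map_mul]
            congr 1
            fin_cases i <;> simp [overAdjoin, toPoly2]
        rw [hm, ← Polynomial.map_zero (Polynomial.aeval (IntermediateField.AdjoinSimple.gen k x) :
            Polynomial k →ₐ[k] IntermediateField.adjoin k ({x} : Set K)).toRingHom] at h0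
        have h1 : toPoly2 f = 0 := Polynomial.map_injective _ ((transcendental_iff_injective).1 hx₀) h0
        exact hf.ne_zero (zero_dvd_iff.1 (toPoly2_dvd (p := 0) (by rw [h1, map_zero])))
      · have hxa : IsAlgebraic k x := not_not.1 hxt
        have hyt : Transcendental k y := by
          rintro ⟨m, hm, hmy⟩
          obtain ⟨m', hm', hmx⟩ := hxa
          have h1 : f ∣ Polynomial.aeval (X 0) m' := hker _ (by
            rw [← Polynomial.aeval_algHom_apply]; simpa using hmx)
          have h2 : f ∣ Polynomial.aeval (X 1) m := hker _ (by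
            rw [← Polynomial.aeval_algHom_apply]; simpa using hmy)
          have e1 : ∀ q : Polynomial k, toPoly2 (Polynomial.aeval (X 0) q : MvPolynomial (Fin 2) k) = Polynomial.C q := fun q => by
            induction q using Polynomial.induction_on' with
            | add a b ha hb => rw [map_add, map_add, ha, hb, map_add]
            | monomial n c => simp [toPoly2, ← Polynomial.C_mul_X_pow_eq_monomial]
          have e2 : ∀ q : Polynomial k,
              toPoly2 (Polynomial.aeval (X 1) q : MvPolynomial (Fin 2) k) = q.map Polynomial.C := fun q => by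
            induction q using Polynomial.induction_on' with
            | add a b ha hb => rw [map_add, map_add, ha, hb, Polynomial.map_add]
            | monomial n c => simp [toPoly2, ← Polynomial.C_mul_X_pow_eq_monomial]
          have d1 := map_dvd (toPoly2 (k := k)) h1
          have d2 := map_dvd (toPoly2 (k := k)) h2
          rw [e1] at d1
          rw [e2] at d2
          have hdeg : (toPoly2 f).natDegree = 0 := by
            have := Polynomial.natDegree_le_of_dvd d1 (Polynomial.C_ne_zero.2 hm')
            rwa [Polynomial.natDegree_C, Nat.le_zero] at this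
          obtain ⟨a, ha⟩ := Polynomial.natDegree_eq_zero.1 hdeg
          rw [← ha, Polynomial.C_dvd_iff_dvd_coeff] at d2
          have hu : IsUnit a := by
            have := d2 m.natDegree
            rw [Polynomial.coeff_map] at this
            exact isUnit_of_dvd_unit this (Polynomial.isUnit_C.2 (Ne.isUnit (Polynomial.leadingCoeff_ne_zero.2 hm)))
          exact hf.not_isUnit (isUnit_of_dvd_one (toPoly2_dvd (q := 1) (by
            rw [map_one]; exact (ha ▸ Polynomial.isUnit_C.2 hu : IsUnit (toPoly2 f)).dvd)))
        refine hcase y x (by rw [Set.pair_comm]; exact hxy) hyt ?_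
        exact hxa.tower_top _
    · -- constants
      intro z hz
      by_contra hzk
      let k' := IntermediateField.adjoin k ({z} : Set K)
      have hfin : FiniteDimensional k k' := IntermediateField.adjoin.finiteDimensional hz.isIntegral
      let k₀ := AdjoinRoot (minpoly k z)
      have : Fact (Irreducible (minpoly k z)) := ⟨minpoly.irreducible hz.isIntegral⟩
      have hfin₀ : FiniteDimensional k k₀ := (AdjoinRoot.powerBasis (minpoly.ne_zero hz.isIntegral)).finite
      let e : k₀ ≃ₐ[k] k' := IntermediateField.adjoinRootEquivAdjoin k hz.isIntegral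
      have hfld := hgeo k₀ hfin₀
      let _ := hfld.toField
      let μ : k₀ ⊗[k] K →ₐ[k] K := Algebra.TensorProduct.productMap ((k'.val).comp e.toAlgHom) (AlgHom.id k K)
      have hμ : Function.Injective μ := RingHom.injective μ.toRingHom
      set z₀ : k₀ := e.symm ⟨z, IntermediateField.mem_adjoin_simple_self k z⟩
      have heq : z₀ ⊗ₜ[k] (1 : K) = (1 : k₀) ⊗ₜ[k] z := hμ (by simp [μ, z₀])
      have hli : z₀ ∉ Submodule.span k ({(1 : k₀)} : Set k₀) := fun h => hzk (by
        obtain ⟨c, hc⟩ := Submodule.mem_span_singleton.1 h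
        refine ⟨c, ?_⟩
        have := congrArg (fun a => (k'.val).comp e.toAlgHom a) hc
        simpa [z₀, Algebra.smul_def] using this)
      obtain ⟨φ, hφz, hφ1⟩ := Submodule.exists_dual_map_eq_bot_of_notMem hli inferInstance
      have hval := congrArg (fun w => TensorProduct.lid k K (φ.rTensor K w)) heq
      simp only [LinearMap.rTensor_tmul, TensorProduct.lid_tmul] at hval
      have hφ1' : φ 1 = 0 := by
        have : φ 1 ∈ (Submodule.span k ({(1 : k₀)} : Set k₀)).map φ :=
          Submodule.mem_map_of_mem (Submodule.mem_span_singleton_self 1)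
        rwa [hφ1, Submodule.mem_bot] at this
      rw [hφ1', zero_smul, smul_eq_zero] at hval
      exact hval.elim hφz one_ne_zero

end Groth.Agent.FF
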