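/-
A generator at a place with separable residue extension.
-/
import Groth.Agent.L26.FF.Different
import Groth.Agent.L26.Res.SepCoeff
import Mathlib.FieldTheory.PrimitiveElement
import Mathlib.Algebra.Polynomial.Identities

open WithZero Polynomial

universe u v w

namespace Groth.Agent.FF

open FunFld

variable {k : Type u} {K K' : Type v} [Field k] [Field K] [Field K'] [Algebra k K] [Algebra K K']
  [Algebra k K'] [IsScalarTower k K K'] [FiniteDimensional K K']
variable {P : Place k K} {Q : Place k K'} {e : ℕ} [P.1.HasExtension Q.1]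
variable [Algebra P.O K'] [IsScalarTower P.O K K']

/-- `s` generates the residue extension at `Q`, `g s` is a uniformizer there, and `s` vanishes at the
other places over `P`. -/
structure RamGen (P : Place k K) (Q : Place k K') [Algebra P.O K'] (s : K') (g : Polynomial P.O) : Prop where
  one : Q.1 s = 1
  other : ∀ R : Place k K', IsOver R P → R ≠ Q → R.1 s < 1
  aeval_le : ∀ p : Polynomial P.O, Q.1 (aeval s p) ≤ 1
  unif : Q.1 (aeval s g) = exp (-1 : ℤ)
  der : Q.1 (aeval s (derivative g)) = 1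
  dvd : ∀ p : Polynomial P.O, Q.1 (aeval s p) < 1 →
    g.map (IsLocalRing.residue P.O) ∣ p.map (IsLocalRing.residue P.O)
  lift : ∀ z : K', Q.1 z ≤ 1 → ∃ p : Polynomial P.O, Q.1 (z - aeval s p) < 1

omit [P.1.HasExtension Q.1] in
lemma algebraMap_O (a : P.O) : algebraMap P.O K' a = algebraMap K K' (a : K) :=
  IsScalarTower.algebraMap_apply P.O K K' a

theorem exists_ramGen (hK : IsFF k K) (he : IsOverWith Q P e)
    [Algebra.IsSeparable k (IsLocalRing.ResidueField Q.O)] :
    ∃ (s : K') (g : Polynomial P.O), RamGen P Q s g := by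
  classical
  let κ := IsLocalRing.ResidueField P.O
  let κ' := IsLocalRing.ResidueField Q.O
  let ρ : Q.O →+* κ' := IsLocalRing.residue Q.O
  let π : P.O →+* κ := IsLocalRing.residue P.O
  have hcomp : ρ.comp (algebraMap P.O Q.O) = (algebraMap κ κ').comp π := RingHom.ext fun a =>
    (Valuation.HasExtension.algebraMap_residue_eq_residue_algebraMap P.1 Q.1 a).symm
  letI : Algebra k κ := FunFld.Place.algRes P
  letI : Algebra k κ' := FunFld.Place.algRes Q
  have htow : @IsScalarTower k κ κ' (FunFld.Place.algRes P).toSMul _ (FunFld.Place.algRes Q).toSMul :=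
    IsScalarTower.of_algebraMap_eq fun c => by
    show IsLocalRing.residue Q.O _ = algebraMap κ κ' (IsLocalRing.residue P.O _)
    rw [Valuation.HasExtension.algebraMap_residue_eq_residue_algebraMap]
    exact congrArg _ (Subtype.ext (IsScalarTower.algebraMap_apply k K K' c))
  have hfin : FiniteDimensional k κ' := finite_residueField (isFF_ext hK) Q
  have : FiniteDimensional κ κ' := @Module.Finite.of_restrictScalars_finite k κ κ' _ _ _ _ _ _ htow hfin
  have : Algebra.IsSeparable κ κ' := Algebra.isSeparable_tower_top_of_isSeparable k κ κ'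
  obtain ⟨θ, hθ0, hθ⟩ : ∃ θ : κ', θ ≠ 0 ∧ IntermediateField.adjoin κ ({θ} : Set κ') = ⊤ := by
    obtain ⟨θ, hθ⟩ := Field.exists_primitive_element κ κ'
    rcases eq_or_ne θ 0 with h | h
    · refine ⟨1, one_ne_zero, ?_⟩
      rw [IntermediateField.adjoin_one, ← hθ, h, IntermediateField.adjoin_zero]
    · exact ⟨θ, h, hθ⟩
  set g₀ := minpoly κ θ
  have hg₀ : g₀.Monic := minpoly.monic (Algebra.IsIntegral.isIntegral θ)
  obtain ⟨g, hg⟩ := Polynomial.map_surjective π IsLocalRing.residue_surjective g₀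
  have hev : ∀ (x : Q.O) (p : Polynomial P.O), (((p.map (algebraMap P.O Q.O)).eval x : Q.O) : K') = aeval (x : K') p := by
    intro x p
    induction p using Polynomial.induction_on' with
    | add p q hp hq => rw [Polynomial.map_add, eval_add, map_add, ← hp, ← hq]; rfl
    | monomial n a =>
      rw [map_monomial, eval_monomial, aeval_monomial]
      show algebraMap K K' (a : K) * (x : K') ^ n = _
      rw [algebraMap_O (P := P)]
  have hred : ∀ (x : Q.O) (p : Polynomial P.O),
      ρ ((p.map (algebraMap P.O Q.O)).eval x) = aeval (ρ x) (p.map π) := fun x p => by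
    rw [eval_map, hom_eval₂, hcomp, aeval_def, eval₂_map]
  have hlt : ∀ x : Q.O, ρ x = 0 ↔ Q.1 (x : K') < 1 := fun x => residue_eq_zero Q x
  -- a lift of `θ` at which `g` has a simple zero
  obtain ⟨z, hzθ, hzg⟩ : ∃ z : Q.O, ρ z = θ ∧ Q.1 (aeval (z : K') g) = exp (-1 : ℤ) := by
    obtain ⟨z, hz⟩ := IsLocalRing.residue_surjective (R := Q.O) θ
    have hgz : Q.1 (aeval (z : K') g) < 1 := by
      rw [← hev, ← hlt, hred, hg, show ρ z = θ from hz, minpoly.aeval]
    by_cases h : Q.1 (aeval (z : K') g) = exp (-1 : ℤ)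
    · exact ⟨z, hz, h⟩
    obtain ⟨π₀, -, hπ₀⟩ := exists_val_eq Q (-1)
    let y : Q.O := ⟨π₀, show Q.1 π₀ ≤ 1 by rw [hπ₀, exp_le_one']; norm_num⟩
    have hy : Q.1 (y : K') = exp (-1 : ℤ) := hπ₀
    refine ⟨z + y, ?_, ?_⟩
    · rw [map_add, show ρ z = θ from hz, (hlt y).2 (by rw [hy, exp_lt_one']; norm_num), add_zero]
    · obtain ⟨c, hc⟩ := (g.map (algebraMap P.O Q.O)).binomExpansion z y
      rw [← hev, hc, derivative_map]
      show Q.1 ((((g.map (algebraMap P.O Q.O)).eval z : Q.O) : K') +
        ((((derivative g).map (algebraMap P.O Q.O)).eval z : Q.O) : K') * (y : K') + (c : K') * (y : K') ^ 2) = _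
      have hd : Q.1 ((((derivative g).map (algebraMap P.O Q.O)).eval z : Q.O) : K') = 1 := by
        refine le_antisymm (((derivative g).map (algebraMap P.O Q.O)).eval z).2 (not_lt.1 fun hlt' => ?_)
        have := (hlt _).2 hlt'
        rw [hred, ← derivative_map, hg, show ρ z = θ from hz] at this
        exact (Algebra.IsSeparable.isSeparable κ θ).aeval_derivative_ne_zero (minpoly.aeval κ θ) this
      have h1 : Q.1 (((g.map (algebraMap P.O Q.O)).eval z : Q.O) : K') ≤ exp (-2) := by
        rw [hev]; exact le_exp_sub_one (n := -1) (lt_of_le_of_ne (lt_one_le_exp hgz) h)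
      have h2 : Q.1 (((((derivative g).map (algebraMap P.O Q.O)).eval z : Q.O) : K') * (y : K')) = exp (-1 : ℤ) := by
        rw [map_mul, hd, one_mul, hy]
      have h3 : Q.1 ((c : K') * (y : K') ^ 2) ≤ exp (-2) := by
        rw [map_mul, map_pow, hy, ← exp_nsmul]
        exact (mul_le_of_le_one_left' c.2).trans (by norm_num)
      have h12 : exp (-2 : ℤ) < exp (-1 : ℤ) := exp_lt_exp.2 (by norm_num)
      rw [Q.1.map_add_eq_of_lt_left, Q.1.map_add_eq_of_lt_right, h2]
      · rw [h2]; exact h1.trans_lt h12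
      · rw [Q.1.map_add_eq_of_lt_right, h2]
        · exact h3.trans_lt h12
        · rw [h2]; exact h1.trans_lt h12
  obtain ⟨s, hs⟩ := approx (insert Q (finite_over (K' := K') hK P).toFinset) (fun R => if R = Q then (z : K') else 0) 2
  have hsQ : Q.1 (s - z) ≤ exp (-2 : ℤ) := by simpa using hs Q (Finset.mem_insert_self _ _)
  have hsle : Q.1 s ≤ 1 := by
    rw [← sub_add_cancel s (z : K')]
    exact Q.1.map_add_le (hsQ.trans (exp_le_one'.2 (by norm_num))) z.2
  let x : Q.O := ⟨s, hsle⟩
  have hxθ : ρ x = θ := by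
    rw [← hzθ, ← sub_eq_zero, ← map_sub, hlt]
    exact hsQ.trans_lt (exp_lt_one'.2 (by norm_num))
  have hdvd : ∀ p : Polynomial P.O, Q.1 (aeval s p) < 1 → g.map π ∣ p.map π := fun p hp => by
    rw [hg]
    refine minpoly.dvd κ θ ?_
    rw [← hxθ, ← hred, hlt, hev]
    exact hp
  refine ⟨s, g, ⟨?_, fun R hR hne => ?_, fun p => ?_, ?_, ?_, hdvd, fun w hw => ?_⟩⟩
  · refine le_antisymm hsle (not_lt.1 fun h => hθ0 ?_)
    rw [← hxθ]
    exact (hlt x).2 h
  · have := hs R (Finset.mem_insert_of_mem ((Set.Finite.mem_toFinset _).2 hR))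
    rw [if_neg hne, sub_zero] at this
    exact this.trans_lt (exp_lt_one'.2 (by norm_num))
  · rw [show s = (x : K') from rfl, ← hev]
    exact ((p.map (algebraMap P.O Q.O)).eval x).2
  · obtain ⟨c, hc⟩ := (g.map (algebraMap P.O Q.O)).binomExpansion z (x - z)
    rw [add_sub_cancel] at hc
    rw [show s = (x : K') from rfl, ← hev, hc]
    show Q.1 ((((g.map (algebraMap P.O Q.O)).eval z : Q.O) : K') +
      (((g.map (algebraMap P.O Q.O)).derivative.eval z : Q.O) : K') * (s - z) + (c : K') * (s - z) ^ 2) = _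
    have h12 : exp (-2 : ℤ) < exp (-1 : ℤ) := exp_lt_exp.2 (by norm_num)
    rw [add_assoc, Q.1.map_add_eq_of_lt_left, hev, hzg]
    rw [hev, hzg]
    refine lt_of_le_of_lt (Q.1.map_add_le ?_ ?_) h12 <;> rw [map_mul]
    · exact (mul_le_of_le_one_left' ((g.map (algebraMap P.O Q.O)).derivative.eval z).2).trans hsQ
    · refine (mul_le_of_le_one_left' c.2).trans ?_
      rw [map_pow, sq]
      exact (mul_le_of_le_one_left' (hsQ.trans (exp_le_one'.2 (by norm_num)))).trans hsQ
  · refine le_antisymm (by rw [show s = (x : K') from rfl, ← hev]; exact (((derivative g).map (algebraMap P.O Q.O)).eval x).2) (not_lt.1 fun h => ?_)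
    rw [show s = (x : K') from rfl, ← hev, ← hlt, hred, ← derivative_map, hg, hxθ] at h
    exact (Algebra.IsSeparable.isSeparable κ θ).aeval_derivative_ne_zero (minpoly.aeval κ θ) h
  · have htop : Algebra.adjoin κ ({θ} : Set κ') = ⊤ := algebra_adjoin_eq_top' hθ
    obtain ⟨q, hq⟩ : ∃ q : Polynomial κ, aeval θ q = ρ ⟨w, hw⟩ := by
      have h1 : ρ ⟨w, hw⟩ ∈ Algebra.adjoin κ ({θ} : Set κ') := htop ▸ Algebra.mem_top
      rwa [Algebra.adjoin_singleton_eq_range_aeval] at h1
    obtain ⟨p, rfl⟩ := Polynomial.map_surjective π IsLocalRing.residue_surjective q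
    refine ⟨p, ?_⟩
    rw [show s = (x : K') from rfl, ← hev]
    refine (hlt (⟨w, hw⟩ - (p.map (algebraMap P.O Q.O)).eval x)).1 ?_
    rw [map_sub, hred, hxθ, hq, sub_self]
where
  algebra_adjoin_eq_top' {F E : Type v} [Field F] [Field E] [Algebra F E] [FiniteDimensional F E] {a : E}
      (h : IntermediateField.adjoin F ({a} : Set E) = ⊤) : Algebra.adjoin F ({a} : Set E) = ⊤ := by
    rw [← IntermediateField.adjoin_simple_toSubalgebra_of_isAlgebraic (Algebra.IsAlgebraic.isAlgebraic a), h,
      IntermediateField.top_toSubalgebra]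

namespace RamGen

variable {s : K'} {g : Polynomial P.O}

omit [P.1.HasExtension Q.1] [IsScalarTower k K K'] [FiniteDimensional K K'] [IsScalarTower P.O K K'] in
/-- Polynomials in `s` are dense in the ring of `Q`. -/
lemma dense (G : RamGen P Q s g) (z : K') (hz : Q.1 z ≤ 1) (N : ℕ) :
    ∃ p : Polynomial P.O, Q.1 (z - aeval s p) ≤ exp (-(N : ℤ)) := by
  induction N with
  | zero => exact ⟨0, by simpa using hz⟩
  | succ N ih =>
    obtain ⟨p, hp⟩ := ih
    have hgs : Q.1 (aeval s g ^ N) = exp (-(N : ℤ)) := by rw [map_pow, G.unif, ← exp_nsmul]; simp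
    have hg0 : aeval s g ^ N ≠ 0 := fun h => by rw [h, map_zero] at hgs; exact exp_ne_zero hgs.symm
    obtain ⟨q, hq⟩ := G.lift ((z - aeval s p) / aeval s g ^ N) (by
      rw [map_div₀, hgs]; exact div_le_one_of_le₀ hp zero_le)
    refine ⟨p + q * g ^ N, ?_⟩
    rw [map_add, map_mul, map_pow,
      show z - (aeval s p + aeval s q * aeval s g ^ N) =
        ((z - aeval s p) / aeval s g ^ N - aeval s q) * aeval s g ^ N by
        rw [sub_mul, div_mul_cancel₀ _ hg0]; ring, map_mul, hgs]
    refine (mul_le_mul' (lt_one_le_exp hq) le_rfl).trans_eq ?_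
    rw [← exp_add]; congr 1; push_cast; ring

omit [IsScalarTower P.O K K'] in
/-- `s` generates `K'` over `K`. -/
lemma adjoin_eq_top (G : RamGen P Q s g) (hK : IsFF k K) (he : IsOverWith Q P e) [IsScalarTower P.O K K'] :
    IntermediateField.adjoin K ({s} : Set K') = ⊤ := by
  classical
  let L := IntermediateField.adjoin K ({s} : Set K')
  have hsL : s ∈ L := IntermediateField.mem_adjoin_simple_self K s
  have : IsScalarTower k L K' := IsScalarTower.of_algebraMap_eq fun c => rfl
  have hL : IsFF k L := isFF_ext hK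
  obtain ⟨q, e', he'⟩ := exists_below hL Q
  have hqP : IsOver q P := by
    obtain ⟨P', e'', he''⟩ := exists_below hK q
    have : IsOverWith Q P' (e'' * e') := fun x => by
      rw [pow_mul, ← he'' x, ← he', ← IsScalarTower.algebraMap_apply]
    obtain rfl : P' = P := (this.unique he).1
    exact ⟨e'', he''⟩
  have hpL : ∀ p : Polynomial P.O, aeval s p ∈ L := fun p => by
    rw [show aeval s p = aeval s (p.map P.O.subtype) by
      rw [aeval_def, aeval_def, eval₂_map, IsScalarTower.algebraMap_eq P.O K K']; rfl]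
    exact (Algebra.adjoin_le (S := L.toSubalgebra) (Set.singleton_subset_iff.2 hsL))
      (Polynomial.aeval_mem_adjoin_singleton K s)
  have huniq : (finite_over (K' := K') hL q).toFinset = {Q} := by
    ext R
    rw [Set.Finite.mem_toFinset, Finset.mem_singleton]
    refine ⟨fun h => ?_, fun h => h ▸ ⟨e', he'⟩⟩
    by_contra hne
    obtain ⟨e₁, he₁⟩ := h
    obtain ⟨e₂, he₂⟩ := hqP
    have hR : IsOver R P := ⟨e₂ * e₁, fun x => by rw [pow_mul, ← he₂ x, ← he₁, ← IsScalarTower.algebraMap_apply]⟩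
    have h2 : q.1 (⟨s, hsL⟩ : L) = 1 := by
      have h3 : Q.1 (algebraMap L K' ⟨s, hsL⟩) = 1 := G.one
      exact le_antisymm ((he'.le_one_iff _).1 h3.le) (not_lt.1 fun hl => ((he'.lt_one_iff _).2 hl).ne h3)
    have h1 : R.1 (algebraMap L K' ⟨s, hsL⟩) = 1 := by rw [he₁ ⟨s, hsL⟩, h2, one_pow]
    exact (G.other R hR hne).ne h1
  have hsum := sum_ramIdx_ff (K' := K') hL q
  rw [huniq, Finset.sum_singleton, ramIdx_eq he'] at hsum
  have he1 : e' = 1 := by
    have h1 : Q.ord (aeval s g) = (e' : ℤ) * q.ord (⟨aeval s g, hpL g⟩ : L) := he'.ord (⟨aeval s g, hpL g⟩ : L)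
    rw [ord_eq_of_val Q G.unif, neg_neg] at h1
    rcases Int.eq_one_or_neg_one_of_mul_eq_one h1.symm with h3 | h3 <;> omega
  have : q.1.HasExtension Q.1 := ⟨Valuation.isEquiv_of_val_le_one fun {z} => (he'.le_one_iff z).symm⟩
  have hdq : q.deg = Q.deg := by
    refine (deg_eq_of_residue_surjective hL he' fun b => ?_).symm
    obtain ⟨⟨w, hw⟩, rfl⟩ := IsLocalRing.residue_surjective (R := Q.O) b
    obtain ⟨p, hp⟩ := G.lift w hw
    refine ⟨IsLocalRing.residue q.O ⟨⟨aeval s p, hpL p⟩, (he'.le_one_iff _).1 (G.aeval_le p)⟩, ?_⟩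
    rw [Valuation.HasExtension.algebraMap_residue_eq_residue_algebraMap, ← sub_eq_zero, ← map_sub]
    refine (residue_eq_zero Q _).2 ?_
    rw [AddSubgroupClass.coe_sub, Valuation.map_sub_swap]
    exact hp
  rw [he1, one_mul, hdq] at hsum
  have h1 : Module.finrank L K' = 1 := by
    have := one_le_deg (isFF_ext (K' := K') hK) Q
    exact Nat.eq_of_mul_eq_mul_right this (by omega)
  refine eq_top_iff.2 fun w _ => ?_
  obtain ⟨a, ha⟩ := (finrank_eq_one_iff_of_nonzero' (1 : K') one_ne_zero).1 h1 w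
  rw [← ha]
  show (a : K') * 1 ∈ L
  rw [mul_one]
  exact a.2

variable [Algebra.IsSeparable K K'] {F F' : Type w} [Field F] [Algebra k F] [Field F'] [Algebra k F']

/-- `d(Q|P) = ord_Q f'(s)`. -/
theorem ord_derivative_eq_diffExp (G : RamGen P Q s g) (hK : IsFunctionField k K) (hgeo : IsGeometric k K)
    (he : IsOverWith Q P e)
    {φ : K →ₐ[k] LaurentSeries F} (hφ : LocRes.IsExpansionAt P.1 φ)
    {ψ : K' →ₐ[k] LaurentSeries F'} (hψ : LocRes.IsExpansionAt Q.1 ψ)
    {x : K} (hx : LocRes.vDiff φ 1 x ≠ 0) (hx' : LocRes.vDiff ψ 1 (algebraMap K K' x) ≠ 0) :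
    Q.ord (aeval s (derivative (minpoly K s))) = LocRes.diffExp φ ψ e x := by
  classical
  obtain ⟨t, ht0, ht⟩ := exists_val_eq P (-1)
  have htφ : LocRes.vDiff φ 1 t = 1 := Res.vDiff_uniformizer hφ ht
  have hDt : KaehlerDifferential.D k K t ≠ 0 := fun h => by
    rw [Res.vDiff_eq, Res.D_map_eq_zero φ h, map_zero, mul_zero] at htφ
    exact zero_ne_one htφ
  choose c hc using fun z : K => Res.exists_smul_D hK hgeo hDt z
  have hψc : ∀ z : K, ψ (algebraMap K K' (c z)) * LocRes.D F' (ψ (algebraMap K K' t)) =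
      LocRes.D F' (ψ (algebraMap K K' z)) := fun z => by
    have := Res.D_map_smul (ψ.comp (IsScalarTower.toAlgHom k K K')) (hc z)
    simpa only [AlgHom.comp_apply, IsScalarTower.coe_toAlgHom'] using this
  have hφc : ∀ z : K, P.1 (c z) = Valued.v (LocRes.D F (φ z)) := fun z => by
    rw [← Res.D_map_smul φ (hc z), map_mul, Res.val_map hφ]
    rw [Res.vDiff_eq, map_one, map_one, one_mul] at htφ
    rw [htφ, mul_one]
  have htψ : LocRes.vDiff ψ 1 (algebraMap K K' t) ≠ 0 := fun h => hx' (by
    rw [Res.vDiff_eq, map_one, map_one, one_mul] at h ⊢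
    rw [← hψc x, map_mul, h, mul_zero])
  rw [Groth.Agent.S12571.result k K K' hK hgeo F F' P Q e he φ hφ ψ hψ x hx hx' t (by rw [htφ]; exact one_ne_zero) htψ,
    LocRes.diffExp, show LocRes.ordDiff φ 1 t = 0 by rw [LocRes.ordDiff, htφ, WithZero.log_one, neg_zero],
    mul_zero, sub_zero]
  set Ds := LocRes.D F' (ψ s) with hDs
  set Dt := LocRes.D F' (ψ (algebraMap K K' t)) with hDtdef
  -- the chain rule
  have hδ : ∀ p : Polynomial P.O, ∃ d : K', Q.1 d ≤ 1 ∧
      LocRes.D F' (ψ (aeval s p)) = ψ (aeval s (derivative p)) * Ds + ψ d * Dt := fun p => by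
    induction p using Polynomial.induction_on' with
    | add p q hp hq =>
      obtain ⟨d, hd, hp⟩ := hp
      obtain ⟨d', hd', hq⟩ := hq
      exact ⟨d + d', Q.1.map_add_le hd hd', by simp only [map_add, hp, hq]; ring⟩
    | monomial n a =>
      refine ⟨algebraMap K K' (c a) * s ^ n, ?_, ?_⟩
      · rw [map_mul, map_pow, G.one, one_pow, mul_one]
        refine (he.le_one_iff _).2 ?_
        rw [hφc]
        exact Res.v_D_le_one (by rw [Res.val_map hφ]; exact a.2)
      · rw [aeval_monomial, algebraMap_O (P := P), derivative_monomial, aeval_monomial, map_mul (algebraMap P.O K'),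
          algebraMap_O (P := P), map_natCast (algebraMap P.O K')]
        simp only [map_mul, map_pow, map_natCast, Derivation.leibniz, Derivation.leibniz_pow, smul_eq_mul,
          nsmul_eq_mul, ← hψc (a : K)]
        ring
  -- the relation `g(s)^e s^M = t r(s)`
  set f := minpoly P.O s
  have hint : IsIntegral P.O s := (isIntegral_iff hK.1 P s).2 fun R hR => by
    by_cases h : R = Q
    · rw [h, G.one]
    · exact (G.other R hR h).le
  have hgen := G.adjoin_eq_top hK.1 he
  set f' := aeval s (derivative (minpoly K s))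
  have hf'0 : f' ≠ 0 := (Algebra.IsSeparable.isSeparable K s).aeval_derivative_ne_zero (minpoly.aeval K s)
  have hff' : f' = aeval s (derivative f) := by
    show aeval s (derivative (minpoly K s)) = _
    rw [minpoly.isIntegrallyClosed_eq_field_fractions' K hint, derivative_map, aeval_map_algebraMap]
  let Qs := (finite_over (K' := K') hK.1 P).toFinset
  have hmem : ∀ R, R ∈ Qs ↔ IsOver R P := fun R => Set.Finite.mem_toFinset _
  have hcond : ∀ z : K', IsIntegral P.O z → ∃ (M : ℕ) (r : Polynomial P.O), s ^ M * z = aeval s r := fun z hz => by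
    let M := Qs.sup fun R => (R.ord f').toNat
    obtain ⟨p, hpv⟩ := G.dense z ((isIntegral_iff hK.1 P z).1 hz Q ⟨e, he⟩) (Q.ord f').toNat
    have hpA : aeval s p ∈ Algebra.adjoin P.O ({s} : Set K') := Polynomial.aeval_mem_adjoin_singleton P.O s
    have hpi := adjoin_isIntegral hint hpA
    have hq : IsIntegral P.O (s ^ M * (z - aeval s p) / f') := (isIntegral_iff hK.1 P _).2 fun R hR => by
      have hzp : R.1 (z - aeval s p) ≤ 1 := (R.1.map_sub _ _).trans
        (max_le ((isIntegral_iff hK.1 P z).1 hz R hR) ((isIntegral_iff hK.1 P _).1 hpi R hR))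
      rw [map_div₀]
      refine div_le_one_of_le₀ ?_ zero_le
      rw [map_mul, map_pow, val_eq_exp R hf'0]
      by_cases h : R = Q
      · subst h
        rw [G.one, one_pow, one_mul]
        refine hpv.trans (exp_le_exp.2 ?_)
        omega
      · refine (mul_le_of_le_one_right zero_le hzp).trans ((pow_le_exp_neg (G.other R hR h) M).trans (exp_le_exp.2 ?_))
        have hle := Finset.le_sup (f := fun R : Place k K' => (R.ord f').toNat) ((hmem R).2 hR)
        simp only [M] at *
        omega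
    have h2 := derivative_mul_mem hgen hint hq
    rw [mul_div_cancel₀ _ hf'0, Algebra.adjoin_singleton_eq_range_aeval] at h2
    obtain ⟨r, hr⟩ := h2
    exact ⟨M, X ^ M * p + r, by
      rw [map_add, map_mul, map_pow, aeval_X, show aeval s r = s ^ M * (z - aeval s p) from hr]; ring⟩
  let tO : P.O := ⟨t, show P.1 t ≤ 1 by rw [ht, exp_le_one']; norm_num⟩
  have htK : algebraMap P.O K' tO = algebraMap K K' t := algebraMap_O (P := P) tO
  have ht0' : algebraMap K K' t ≠ 0 := (_root_.map_ne_zero _).2 ht0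
  have htQ : Q.1 (algebraMap K K' t) = exp (-(e : ℤ)) := by rw [he, ht, ← exp_nsmul]; simp
  obtain ⟨M, r, hr⟩ : ∃ (M : ℕ) (r : Polynomial P.O),
      aeval s g ^ e * s ^ M = algebraMap K K' t * aeval s r := by
    let M₀ := Qs.sup fun R => (R.ord (algebraMap K K' t)).toNat
    obtain ⟨M, r, hr⟩ := hcond (aeval s g ^ e * s ^ M₀ / algebraMap K K' t) ((isIntegral_iff hK.1 P _).2 fun R hR => by
      rw [map_div₀, map_mul, map_pow, map_pow]
      refine div_le_one_of_le₀ ?_ zero_le
      have hgR : R.1 (aeval s g) ≤ 1 :=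
        (isIntegral_iff hK.1 P _).1 (adjoin_isIntegral hint (Polynomial.aeval_mem_adjoin_singleton P.O s)) R hR
      by_cases h : R = Q
      · subst h
        rw [G.one, one_pow, mul_one, G.unif, htQ, ← exp_nsmul]; simp
      · refine (mul_le_of_le_one_left' (pow_le_one₀ zero_le hgR)).trans
          ((pow_le_exp_neg (G.other R hR h) M₀).trans ?_)
        rw [val_eq_exp R ht0', exp_le_exp]
        have hle := Finset.le_sup (f := fun R : Place k K' => (R.ord (algebraMap K K' t)).toNat) ((hmem R).2 hR)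
        simp only [M₀] at *
        omega)
    refine ⟨M + M₀, r, ?_⟩
    rw [← hr, pow_add]
    field_simp
  set G₀ := aeval s g
  have hG₀ : Q.1 G₀ = exp (-1 : ℤ) := G.unif
  have hru : Q.1 (aeval s r) = 1 := by
    have h1 := congrArg Q.1 hr
    rw [map_mul, map_mul, map_pow, map_pow, G.one, one_pow, mul_one, hG₀, htQ, ← exp_nsmul] at h1
    simp only [nsmul_eq_mul, mul_neg, mul_one] at h1
    exact mul_left_cancel₀ exp_ne_zero (h1.symm.trans (mul_one _).symm)
  set Φ := g ^ e * X ^ M - C tO * r with hΦ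
  have hΦs : aeval s Φ = 0 := by
    rw [hΦ, map_sub, map_mul, map_mul, map_pow, map_pow, aeval_X, aeval_C, htK, sub_eq_zero]
    exact hr
  have : FaithfulSMul P.O K' := (faithfulSMul_iff_algebraMap_injective _ _).2 (by
    rw [IsScalarTower.algebraMap_eq P.O K K']
    exact (algebraMap K K').injective.comp Subtype.val_injective)
  obtain ⟨q, hq⟩ := minpoly.isIntegrallyClosed_dvd hint hΦs
  have hq1 : Q.1 (aeval s q) = 1 := by
    refine le_antisymm (G.aeval_le q) (not_lt.1 fun hlt => ?_)
    set π : P.O →+* IsLocalRing.ResidueField P.O := IsLocalRing.residue P.O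
    obtain ⟨q₁, hq₁⟩ := G.dvd q hlt
    obtain ⟨q₂, rfl⟩ := Polynomial.map_surjective π IsLocalRing.residue_surjective q₁
    have htπ : π tO = 0 := (residue_eq_zero P tO).2 (by show P.1 t < 1; rw [ht, exp_lt_one']; norm_num)
    have h1 := congrArg (Polynomial.map π) hq
    rw [hΦ, Polynomial.map_sub, Polynomial.map_mul, Polynomial.map_mul, Polynomial.map_mul, Polynomial.map_pow,
      Polynomial.map_pow, Polynomial.map_C, htπ, map_zero, zero_mul, sub_zero, Polynomial.map_X, hq₁] at h1
    obtain ⟨e₀, he₀⟩ : ∃ e₀, e = e₀ + 1 := ⟨e - 1, (Nat.sub_add_cancel he.pos).symm⟩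
    have hg0 : g.map π ≠ 0 := fun h0 => by
      have h2 := G.unif
      obtain ⟨p, hp⟩ : C tO ∣ g := Polynomial.C_dvd_iff_dvd_coeff _ _ |>.2 fun i => by
        have h3 : π (g.coeff i) = 0 := by rw [← Polynomial.coeff_map, h0, coeff_zero]
        rw [residue_eq_zero'] at h3
        refine ⟨⟨((g.coeff i : P.O) : K) / t, ?_⟩, Subtype.ext (mul_div_cancel₀ _ ht0).symm⟩
        show P.1 _ ≤ 1
        rw [map_div₀, ht]
        exact div_le_one_of_le₀ (lt_one_le_exp h3) zero_le
      have h4 : Q.1 (aeval s (derivative g)) ≤ exp (-(e : ℤ)) := by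
        rw [hp, derivative_mul, derivative_C, zero_mul, zero_add, map_mul, aeval_C, htK, map_mul, htQ]
        exact mul_le_of_le_one_right' (G.aeval_le _)
      rw [G.der, ← exp_zero, exp_le_exp] at h4
      have := he.pos
      omega
    rw [he₀, pow_succ, show (minpoly P.O s).map π * (g.map π * q₂.map π) = g.map π * ((minpoly P.O s).map π * q₂.map π) by ring,
      show g.map π ^ e₀ * g.map π * X ^ M = g.map π * (g.map π ^ e₀ * X ^ M) by ring] at h1
    have h5 := mul_left_cancel₀ hg0 h1
    have h6 : ∀ i, ∃ a : P.O, (g ^ e₀ * X ^ M - minpoly P.O s * q₂).coeff i = tO * a := fun i => by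
      have h3 : π ((g ^ e₀ * X ^ M - minpoly P.O s * q₂).coeff i) = 0 := by
        rw [← Polynomial.coeff_map, Polynomial.map_sub, Polynomial.map_mul, Polynomial.map_mul, Polynomial.map_pow,
          Polynomial.map_pow, Polynomial.map_X, h5, sub_self, coeff_zero]
      rw [residue_eq_zero'] at h3
      refine ⟨⟨((g ^ e₀ * X ^ M - minpoly P.O s * q₂).coeff i : K) / t, ?_⟩, Subtype.ext (mul_div_cancel₀ _ ht0).symm⟩
      show P.1 _ ≤ 1
      rw [map_div₀, ht]
      exact div_le_one_of_le₀ (lt_one_le_exp h3) zero_le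
    obtain ⟨p, hp⟩ : C tO ∣ g ^ e₀ * X ^ M - minpoly P.O s * q₂ :=
      (Polynomial.C_dvd_iff_dvd_coeff _ _).2 fun i => h6 i
    have h7 := congrArg (aeval s) hp
    rw [map_sub, map_mul, map_mul, map_pow, map_pow, aeval_X, minpoly.aeval, zero_mul, sub_zero, map_mul, aeval_C,
      htK] at h7
    have h8 := congrArg Q.1 h7
    rw [map_mul, map_mul, map_pow, map_pow, G.one, one_pow, mul_one, hG₀, htQ, ← exp_nsmul] at h8
    have h9 : exp (e₀ • (-1 : ℤ)) ≤ exp (-(e : ℤ)) := h8 ▸ mul_le_of_le_one_right' (G.aeval_le p)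
    rw [exp_le_exp, he₀] at h9
    simp only [nsmul_eq_mul, Nat.cast_add, Nat.cast_one] at h9
    omega
  -- differentiate
  obtain ⟨dg, hdg, hDg⟩ := hδ g
  obtain ⟨dr, hdr, hDr⟩ := hδ r
  set g' := aeval s (derivative g)
  set r' := aeval s (derivative r)
  have hΦ' : aeval s (derivative Φ) = e * G₀ ^ (e - 1) * g' * s ^ M + G₀ ^ e * (M * s ^ (M - 1)) -
      algebraMap K K' t * r' := by
    rw [hΦ, derivative_sub, derivative_mul, derivative_mul, derivative_C, derivative_pow, derivative_X_pow]
    simp [htK, G₀, g', r']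
  have hval : Q.1 f' = Q.1 (aeval s (derivative Φ)) := by
    rw [hq, derivative_mul, map_add, map_mul, map_mul, minpoly.aeval, zero_mul, add_zero, ← hff', map_mul, hq1, mul_one]
  rcases Nat.lt_or_ge e 2 with he2 | he2
  · obtain rfl : e = 1 := by have := he.pos; omega
    rw [Nat.cast_one] at htQ
    have h1 : LocRes.vDiff ψ 1 (algebraMap K K' t) = 1 := Res.vDiff_uniformizer hψ htQ
    rw [LocRes.ordDiff, h1, log_one, neg_zero]
    refine (val_eq_one_iff Q hf'0).1 ?_
    rw [hval, hΦ', Nat.cast_one, one_mul, Nat.sub_self, pow_zero, one_mul, pow_one]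
    have hsmall : Q.1 (G₀ * (M * s ^ (M - 1)) - algebraMap K K' t * r') < 1 := by
      refine Q.1.map_sub_lt ?_ ?_ <;> rw [map_mul]
      · refine (mul_le_of_le_one_right' ?_).trans_lt (by rw [hG₀, exp_lt_one']; norm_num)
        rw [map_mul, map_pow, G.one, one_pow, mul_one]
        rw [← map_natCast (algebraMap k K') M]
        exact Q.2.1 _
      · refine (mul_le_of_le_one_right' (G.aeval_le _)).trans_lt (by rw [htQ, exp_lt_one']; norm_num)
    have hmain : Q.1 (g' * s ^ M) = 1 := by rw [map_mul, map_pow, G.one, one_pow, mul_one]; exact G.der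
    rw [add_sub_assoc, Q.1.map_add_eq_of_lt_left (by rw [hmain]; exact hsmall), hmain]
  · have key : ψ (aeval s (derivative Φ)) * Ds =
        ψ (aeval s r + algebraMap K K' t * dr - e * G₀ ^ (e - 1) * dg * s ^ M) * Dt := by
      have h1 := congrArg (fun z => LocRes.D F' (ψ z)) hr
      simp only [map_mul, map_pow, Derivation.leibniz, Derivation.leibniz_pow, smul_eq_mul, nsmul_eq_mul, hDg, hDr,
        ← hDs, ← hDtdef] at h1
      rw [hΦ']
      simp only [map_sub, map_add, map_mul, map_pow, map_natCast]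
      linear_combination h1 - ((e : LaurentSeries F') * ψ G₀ ^ (e - 1) * ψ s ^ M) * hDg
    have hDt1 : Valued.v Dt < 1 := by
      have h2 : Valued.v (ψ (algebraMap K K' t)) ≤ exp (-(e : ℤ)) := by rw [Res.val_map hψ, htQ]
      exact (Res.v_D_le h2).trans_lt (exp_lt_one'.2 (by omega))
    have hDG : Valued.v (LocRes.D F' (ψ G₀)) = 1 := by
      have h2 := Res.vDiff_uniformizer hψ hG₀
      rwa [Res.vDiff_eq, map_one, map_one, one_mul] at h2
    have hDs1 : Valued.v Ds = 1 := by
      have h3 : Valued.v (ψ dg * Dt) < 1 := by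
        rw [map_mul, Res.val_map hψ]
        exact (mul_le_of_le_one_left' hdg).trans_lt hDt1
      rw [hDg] at hDG
      have h4 : Valued.v (ψ g' * Ds) = 1 := by
        rw [← add_sub_cancel_right (ψ g' * Ds) (ψ dg * Dt), Valuation.map_sub_eq_of_lt_left _ (by rw [hDG]; exact h3),
          hDG]
      rwa [map_mul, Res.val_map hψ, G.der, one_mul] at h4
    have hW : Q.1 (aeval s r + algebraMap K K' t * dr - e * G₀ ^ (e - 1) * dg * s ^ M) = 1 := by
      rw [add_sub_assoc, Q.1.map_add_eq_of_lt_left, hru]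
      rw [hru]
      refine Q.1.map_sub_lt ?_ ?_
      · rw [map_mul]
        exact (mul_le_of_le_one_right' hdr).trans_lt (by rw [htQ, exp_lt_one']; omega)
      · rw [map_mul, map_mul, map_mul, map_pow, map_pow, G.one, one_pow, mul_one, hG₀]
        refine (mul_le_of_le_one_right' hdg).trans_lt ((mul_le_of_le_one_left' ?_).trans_lt ?_)
        · rw [← map_natCast (algebraMap k K') e]
          exact Q.2.1 _
        · rw [← exp_nsmul, exp_lt_one', nsmul_eq_mul]
          omega
    have hv := congrArg Valued.v key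
    rw [map_mul, map_mul, Res.val_map hψ, Res.val_map hψ, hW, one_mul, hDs1, mul_one, ← hval] at hv
    rw [FunFld.Place.ord, LocRes.ordDiff, hv, Res.vDiff_eq, map_one, map_one, one_mul]
where
  residue_eq_zero' {P : Place k K} {a : P.O} : IsLocalRing.residue P.O a = 0 ↔ P.1 (a : K) < 1 :=
    residue_eq_zero P a

end RamGen

end Groth.Agent.FF
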