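/-
The different through the ramification groups.
-/
import Groth.Agent.L26.FF.RamParam
import Mathlib.FieldTheory.Galois.Basic

open WithZero Polynomial

universe u v w

namespace Groth.Agent.FF

open FunFld

variable {k : Type u} {K K' : Type v} [Field k] [Field K] [Field K'] [Algebra k K] [Algebra K K']
  [Algebra k K'] [IsScalarTower k K K'] [FiniteDimensional K K']

/-- The conjugate place. -/
def placeComap (Q : Place k K') (σ : K' ≃ₐ[K] K') : Place k K' :=
  ⟨Q.1.comap (σ : K' →+* K'), fun c => by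
    show Q.1 (σ (algebraMap k K' c)) ≤ 1
    rw [IsScalarTower.algebraMap_apply k K K', σ.commutes, ← IsScalarTower.algebraMap_apply]
    exact Q.2.1 c, fun a => by
    obtain ⟨z, hz⟩ := Q.2.2 a
    exact ⟨σ.symm z, show Q.1 (σ (σ.symm z)) = a by rw [σ.apply_symm_apply, hz]⟩⟩

lemma algebra_adjoin_eq_top'' {F E : Type v} [Field F] [Field E] [Algebra F E] [FiniteDimensional F E] {a : E}
    (h : IntermediateField.adjoin F ({a} : Set E) = ⊤) : Algebra.adjoin F ({a} : Set E) = ⊤ := by
  rw [← IntermediateField.adjoin_simple_toSubalgebra_of_isAlgebraic (Algebra.IsAlgebraic.isAlgebraic a), h,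
    IntermediateField.top_toSubalgebra]

lemma aeval_derivative_minpoly_galois [IsGalois K K'] {s : K'}
    (hgen : IntermediateField.adjoin K ({s} : Set K') = ⊤) [DecidableEq (K' ≃ₐ[K] K')] :
    Function.Injective (fun σ : K' ≃ₐ[K] K' => σ s) ∧
    aeval s (derivative (minpoly K s)) = ∏ σ ∈ Finset.univ.erase (1 : K' ≃ₐ[K] K'), (s - σ s) := by
  classical
  have hinj : Function.Injective (fun σ : K' ≃ₐ[K] K' => σ s) := fun σ τ h => by
    refine AlgEquiv.ext fun z => ?_
    refine DFunLike.congr_fun (AlgHom.ext_of_adjoin_eq_top (algebra_adjoin_eq_top'' hgen) (φ₁ := σ.toAlgHom) (φ₂ := τ.toAlgHom) ?_) z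
    rintro x rfl
    exact h
  refine ⟨hinj, ?_⟩
  set PP := ∏ σ : K' ≃ₐ[K] K', (X - C (σ s)) with hPP
  have hPPm : PP.Monic := monic_prod_of_monic _ _ fun σ _ => monic_X_sub_C _
  have hsi : IsIntegral K s := Algebra.IsIntegral.isIntegral s
  have hdvd : PP ∣ (minpoly K s).map (algebraMap K K') := by
    refine Finset.prod_dvd_of_coprime (fun σ _ τ _ hne => pairwise_coprime_X_sub_C hinj hne) fun σ _ => ?_
    rw [dvd_iff_isRoot, IsRoot, eval_map_algebraMap]
    show aeval (σ.toAlgHom s) (minpoly K s) = 0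
    rw [aeval_algHom_apply, minpoly.aeval, map_zero]
  have hdeg : ((minpoly K s).map (algebraMap K K')).natDegree ≤ PP.natDegree := by
    rw [natDegree_map, hPP, natDegree_prod_of_monic _ _ (fun σ _ => monic_X_sub_C _)]
    simp only [natDegree_X_sub_C, Finset.sum_const, smul_eq_mul, mul_one, Finset.card_univ]
    rw [← Nat.card_eq_fintype_card, IsGalois.card_aut_eq_finrank]
    exact minpoly.natDegree_le s
  have heq : (minpoly K s).map (algebraMap K K') = PP :=
    (eq_of_monic_of_dvd_of_natDegree_le hPPm ((minpoly.monic hsi).map _) hdvd hdeg)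
  have h1 : aeval s (derivative (minpoly K s)) = eval s (derivative PP) := by
    rw [← heq, derivative_map, eval_map_algebraMap]
  rw [h1, hPP, ← Finset.mul_prod_erase Finset.univ _ (Finset.mem_univ (1 : K' ≃ₐ[K] K')), derivative_mul,
    derivative_X_sub_C, one_mul, eval_add, eval_mul, eval_sub, eval_X, eval_C, AlgEquiv.one_apply, sub_self,
    zero_mul, add_zero, eval_prod]
  exact Finset.prod_congr rfl fun σ _ => by rw [eval_sub, eval_X, eval_C]

theorem diffExp_eq_sum_ramGroups [IsGalois K K'] (hK : IsFunctionField k K) (hg : IsGeometric k K)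
    {F F' : Type w} [Field F] [Algebra k F] [Field F'] [Algebra k F']
    (P : Place k K) (Q : Place k K') (e : ℕ) (he : IsOverWith Q P e)
    (φ : K →ₐ[k] LaurentSeries F) (hφ : LocRes.IsExpansionAt P.1 φ)
    (ψ : K' →ₐ[k] LaurentSeries F') (hψ : LocRes.IsExpansionAt Q.1 ψ)
    (x : K) (hx : LocRes.vDiff φ 1 x ≠ 0) (hx' : LocRes.vDiff ψ 1 (algebraMap K K' x) ≠ 0) :
    (Function.support fun i : ℕ => (Nat.card {σ : K' ≃ₐ[K] K' //
        ∀ z : K', Q.1 z ≤ 1 → Q.1 (σ z - z) ≤ WithZero.exp (-(i : ℤ))} : ℤ) - 1).Finite ∧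
    LocRes.diffExp φ ψ e x = ∑ᶠ i : ℕ, if 1 ≤ i then
      (Nat.card {σ : K' ≃ₐ[K] K' // ∀ z : K', Q.1 z ≤ 1 → Q.1 (σ z - z) ≤ WithZero.exp (-(i : ℤ))} : ℤ) - 1
      else 0 := by
  classical
  let : Algebra P.O K' := ((algebraMap K K').comp P.O.subtype).toAlgebra
  have : IsScalarTower P.O K K' := IsScalarTower.of_algebraMap_eq fun _ => rfl
  have : P.1.HasExtension Q.1 := ⟨Valuation.isEquiv_of_val_le_one fun {z} => (he.le_one_iff z).symm⟩
  have : Algebra.EssFiniteType K K' := inferInstance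
  have : Algebra.IsSeparable k (IsLocalRing.ResidueField Q.O) :=
    Res.isSeparable_residue (isFF_ext hK.1) (Res.exists_smul_D_ext hK hg) hψ
  obtain ⟨s, g, G⟩ := exists_ramGen hK.1 he
  have hgen := G.adjoin_eq_top hK.1 he
  obtain ⟨hinj, hprod⟩ := aeval_derivative_minpoly_galois hgen
  have hd := G.ord_derivative_eq_diffExp hK hg he hφ hψ hx hx'
  -- conjugates of `s` are integral
  have hint : ∀ σ : K' ≃ₐ[K] K', Q.1 (σ s) ≤ 1 := fun σ => by
    have hR : IsOver (placeComap Q σ) P := ⟨e, fun z => by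
      show Q.1 (σ (algebraMap K K' z)) = _
      rw [σ.commutes]
      exact he z⟩
    by_cases h : placeComap Q σ = Q
    · have := congrArg (fun R : Place k K' => R.1 s) h
      exact (this : Q.1 (σ s) = Q.1 s).trans_le G.one.le
    · exact (G.other _ hR h).le
  set a : (K' ≃ₐ[K] K') → ℕ := fun σ => (Q.ord (s - σ s)).toNat
  have hne : ∀ σ : K' ≃ₐ[K] K', σ ≠ 1 → s - σ s ≠ 0 := fun σ hσ h => hσ (hinj (by
    show σ s = (1 : K' ≃ₐ[K] K') s
    rw [AlgEquiv.one_apply]; exact (sub_eq_zero.1 h).symm))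
  have ha : ∀ σ : K' ≃ₐ[K] K', σ ≠ 1 → (a σ : ℤ) = Q.ord (s - σ s) := fun σ hσ =>
    Int.toNat_of_nonneg ((val_le_one_iff Q (hne σ hσ)).1 ((Q.1.map_sub _ _).trans (max_le G.one.le (hint σ))))
  -- the ramification groups
  have hmem : ∀ i : ℕ, 1 ≤ i → ∀ σ : K' ≃ₐ[K] K',
      (∀ z : K', Q.1 z ≤ 1 → Q.1 (σ z - z) ≤ exp (-(i : ℤ))) ↔ (σ = 1 ∨ i ≤ a σ) := by
    intro i hi σ
    constructor
    · intro h
      refine or_iff_not_imp_left.2 fun hσ => ?_
      have h1 := h s G.one.le
      rw [Valuation.map_sub_swap, val_eq_exp Q (hne σ hσ), exp_le_exp] at h1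
      have := ha σ hσ
      omega
    · rintro (rfl | hia) z hz
      · rw [AlgEquiv.one_apply, sub_self, map_zero]; exact zero_le
      by_cases hσ : σ = 1
      · rw [hσ, AlgEquiv.one_apply, sub_self, map_zero]; exact zero_le
      have hσs : Q.1 (σ s - s) ≤ exp (-(i : ℤ)) := by
        rw [Valuation.map_sub_swap, val_eq_exp Q (hne σ hσ), exp_le_exp]
        have := ha σ hσ
        omega
      have hfix : placeComap Q σ = Q := by
        by_contra h
        have hR : IsOver (placeComap Q σ) P := ⟨e, fun w => by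
          show Q.1 (σ (algebraMap K K' w)) = _
          rw [σ.commutes]
          exact he w⟩
        have h1 : Q.1 (σ s) < 1 := G.other _ hR h
        have h2 := Q.1.map_sub_eq_of_lt_right (x := σ s) (y := s) (by rw [G.one]; exact h1)
        rw [G.one] at h2
        rw [h2, ← exp_zero, exp_le_exp] at hσs
        omega
      obtain ⟨p, hp⟩ := G.dense z hz i
      have h1 : Q.1 (σ (z - aeval s p)) ≤ exp (-(i : ℤ)) := by
        rw [show Q.1 (σ (z - aeval s p)) = (placeComap Q σ).1 (z - aeval s p) from rfl, hfix]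
        exact hp
      have h2 : Q.1 (σ (aeval s p) - aeval s p) ≤ exp (-(i : ℤ)) := by
        let x : Q.O := ⟨s, G.one.le⟩
        let y : Q.O := ⟨σ s, hint σ⟩
        obtain ⟨c, hc⟩ := sub_dvd_eval_sub y x (p.map (algebraMap P.O Q.O))
        have hev : ∀ w : Q.O, (((p.map (algebraMap P.O Q.O)).eval w : Q.O) : K') = aeval (w : K') p := by
          intro w
          rw [eval_map, show ((eval₂ (algebraMap P.O Q.O) w p : Q.O) : K') = Q.O.subtype _ from rfl, hom_eval₂]
          rfl
        have hσp : σ (aeval s p) = aeval (σ s) p :=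
          (aeval_algHom_apply (σ.toAlgHom.restrictScalars P.O) s p).symm
        rw [hσp, show aeval (σ s) p - aeval s p = (((p.map (algebraMap P.O Q.O)).eval y -
          (p.map (algebraMap P.O Q.O)).eval x : Q.O) : K') by rw [AddSubgroupClass.coe_sub, hev, hev], hc]
        show Q.1 ((σ s - s) * (c : K')) ≤ _
        rw [map_mul]
        exact (mul_le_of_le_one_right' c.2).trans hσs
      rw [show σ z - z = σ (z - aeval s p) + (σ (aeval s p) - aeval s p) - (z - aeval s p) by rw [map_sub]; ring]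
      exact (Q.1.map_sub _ _).trans (max_le ((Q.1.map_add _ _).trans (max_le h1 h2)) hp)
  set S := Finset.univ.erase (1 : K' ≃ₐ[K] K')
  have hcard : ∀ i : ℕ, 1 ≤ i →
      (Nat.card {σ : K' ≃ₐ[K] K' // ∀ z : K', Q.1 z ≤ 1 → Q.1 (σ z - z) ≤ exp (-(i : ℤ))} : ℤ) - 1 =
        ∑ σ ∈ S, if i ≤ a σ then (1 : ℤ) else 0 := fun i hi => by
    rw [Nat.card_congr (Equiv.subtypeEquivRight (hmem i hi)), Nat.card_eq_fintype_card, Fintype.card_subtype,
      Finset.sum_boole]
    have : (Finset.univ.filter fun σ : K' ≃ₐ[K] K' => σ = 1 ∨ i ≤ a σ) = insert 1 (S.filter fun σ => i ≤ a σ) := by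
      ext σ
      simp [S]
      tauto
    rw [this, Finset.card_insert_of_notMem (by simp [S])]
    push_cast
    ring
  set N := S.sup a
  have hzero : ∀ i : ℕ, N < i → ∑ σ ∈ S, (if i ≤ a σ then (1 : ℤ) else 0) = 0 := fun i hi =>
    Finset.sum_eq_zero fun σ hσ => if_neg (by have := Finset.le_sup (f := a) hσ; omega)
  refine ⟨(Finset.range (N + 1)).finite_toSet.subset fun i hi => ?_, ?_⟩
  · rw [Finset.mem_coe, Finset.mem_range]
    by_contra h
    exact hi ((hcard i (by omega)).trans (hzero i (by omega)))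
  rw [finsum_eq_sum_of_support_subset (s := Finset.range (N + 1)) _ fun i hi => by
    rw [Finset.mem_coe, Finset.mem_range]
    by_contra h
    exact hi (by
      show (if 1 ≤ i then _ else (0 : ℤ)) = 0
      rw [if_pos (by omega), hcard i (by omega)]; exact hzero i (by omega))]
  rw [Finset.sum_congr rfl fun i _ => show (if 1 ≤ i then _ else (0 : ℤ)) =
      ∑ σ ∈ S, if 1 ≤ i ∧ i ≤ a σ then (1 : ℤ) else 0 from by
    by_cases h : 1 ≤ i
    · rw [if_pos h, hcard i h]; exact Finset.sum_congr rfl fun σ _ => by simp [h]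
    · rw [if_neg h]; exact (Finset.sum_eq_zero fun σ _ => by simp [h]).symm]
  rw [Finset.sum_comm, ← hd, hprod]
  have hord : Q.ord (∏ σ ∈ S, (s - σ s)) = ∑ σ ∈ S, Q.ord (s - σ s) := by
    have : ∀ T : Finset (K' ≃ₐ[K] K'), T ⊆ S → (∏ σ ∈ T, (s - σ s)) ≠ 0 ∧
        Q.ord (∏ σ ∈ T, (s - σ s)) = ∑ σ ∈ T, Q.ord (s - σ s) := fun T => by
      induction T using Finset.induction_on with
      | empty => intro _; simp [FunFld.Place.ord]
      | insert σ T hσ ih =>
        intro hT
        obtain ⟨h1, h2⟩ := ih ((Finset.subset_insert σ T).trans hT)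
        have h3 := hne σ (Finset.mem_erase.1 (hT (Finset.mem_insert_self σ T))).1
        rw [Finset.prod_insert hσ, Finset.sum_insert hσ]
        exact ⟨mul_ne_zero h3 h1, by rw [ord_mul Q h3 h1, h2]⟩
    exact (this S subset_rfl).2
  rw [hord]
  refine Finset.sum_congr rfl fun σ hσ => ?_
  rw [← ha σ (Finset.mem_erase.1 hσ).1, Finset.sum_boole]
  have hle : a σ ≤ N := Finset.le_sup hσ
  rw [show ((Finset.range (N + 1)).filter fun i => 1 ≤ i ∧ i ≤ a σ) = Finset.Icc 1 (a σ) by
    ext i; simp only [Finset.mem_filter, Finset.mem_range, Finset.mem_Icc]; omega]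
  simp

end Groth.Agent.FF
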