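/-
Higher ramification groups at a place with separable residue field.
-/
import Groth.Agent.L26.FF.Galois
import Mathlib.Algebra.Polynomial.Identities
import Mathlib.FieldTheory.Separable
import Mathlib.RingTheory.IntegralDomain

open WithZero Polynomial
open scoped Pointwise

namespace Groth.Agent.FF

open FunFld

variable {k K K' : Type*} [Field k] [Field K] [Field K'] [Algebra k K] [Algebra K K'] [Algebra k K']
  [IsScalarTower k K K']

/-- `σ ∈ G_j`. -/
def InG (Q : Place k K') (σ : K' ≃ₐ[K] K') (j : ℕ) : Prop :=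
  ∀ x : K', Q.1 x ≤ 1 → Q.1 (σ x - x) ≤ exp (-(j : ℤ))

variable {Q : Place k K'} {σ τ : K' ≃ₐ[K] K'} {i j : ℕ}

omit [IsScalarTower k K K'] in
lemma InG.mono (h : InG Q σ j) (hij : i ≤ j) : InG Q σ i := fun x hx =>
  (h x hx).trans (exp_le_exp.2 (by omega))

lemma InG.val_apply (h : InG Q σ j) (y : K') : Q.1 (σ y) = Q.1 y := by
  have h1 : ∀ z, Q.1 z ≤ 1 → Q.1 (σ z) ≤ 1 := fun z hz => by
    rw [← sub_add_cancel (σ z) z]
    exact Q.1.map_add_le ((h z hz).trans (by rw [← exp_zero, exp_le_exp]; omega)) hz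
  have h2 : galPlace σ.symm Q = Q := (eq_of_le fun z hz => by
    rw [galPlace_apply, AlgEquiv.symm_symm]
    exact h1 z hz).symm
  have h3 := congrArg (fun T : Place k K' => T.1 y) h2
  rwa [galPlace_apply, AlgEquiv.symm_symm] at h3

lemma InG.mul (hσ : InG Q σ j) (hτ : InG Q τ j) : InG Q (σ * τ) j := fun x hx => by
  rw [AlgEquiv.mul_apply, show σ (τ x) - x = σ (τ x - x) + (σ x - x) by rw [map_sub]; ring]
  exact Q.1.map_add_le (by rw [hσ.val_apply]; exact hτ x hx) (hσ x hx)

omit [IsScalarTower k K K'] in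
lemma InG.one : InG Q (1 : K' ≃ₐ[K] K') j := fun x _ => by
  rw [AlgEquiv.one_apply, sub_self, map_zero]; exact zero_le

lemma InG.pow (hσ : InG Q σ j) (n : ℕ) : InG Q (σ ^ n) j := by
  induction n with
  | zero => rw [pow_zero]; exact InG.one
  | succ n ih => rw [pow_succ]; exact ih.mul hσ

variable [FiniteDimensional K K']

lemma InG.inv (hσ : InG Q σ j) : InG Q σ⁻¹ j := by
  have h : σ ^ (orderOf σ - 1) * σ = 1 := by
    rw [← pow_succ, Nat.sub_add_cancel (orderOf_pos σ), pow_orderOf_eq_one]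
  rw [← eq_inv_of_mul_eq_one_left h]
  exact hσ.pow _

/-- The `j`-th ramification group. -/
def ramGroup (Q : Place k K') (j : ℕ) : Subgroup (K' ≃ₐ[K] K') where
  carrier := {σ | InG Q σ j}
  mul_mem' := InG.mul
  one_mem' := InG.one
  inv_mem' := InG.inv

omit [FiniteDimensional K K'] in
/-- Approximate roots. -/
lemma exists_near_root (Q : Place k K') [Algebra.IsSeparable k (IsLocalRing.ResidueField Q.O)]
    (a : IsLocalRing.ResidueField Q.O) :
    ∃ g : Polynomial k, ∀ n : ℕ, ∃ x : Q.O, IsLocalRing.residue _ x = a ∧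
      Q.1 (aeval x g : K') ≤ exp (-(n : ℤ)) ∧ Q.1 (aeval x g.derivative : K') = 1 := by
  refine ⟨minpoly k a, fun n => ?_⟩
  have hres : ∀ (x : Q.O) (q : Polynomial k), IsLocalRing.residue _ (aeval x q) = aeval (IsLocalRing.residue _ x) q :=
    fun x q => by
      rw [aeval_def, hom_eval₂, aeval_def]
      rfl
  have hunit : ∀ x : Q.O, IsLocalRing.residue _ x = a → Q.1 (aeval x (minpoly k a).derivative : K') = 1 := by
    intro x hx
    refine le_antisymm (aeval x (minpoly k a).derivative).2 (not_lt.1 fun hlt => ?_)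
    have := (IsLocalRing.residue_eq_zero_iff _).2 (Valuation.Integer.not_isUnit_iff_valuation_lt_one.2 hlt)
    replace this : IsLocalRing.residue Q.O (aeval x (minpoly k a).derivative) = 0 := this
    rw [hres, hx] at this
    exact (Algebra.IsSeparable.isSeparable k a).aeval_derivative_ne_zero (minpoly.aeval k a) this
  induction n with
  | zero =>
    obtain ⟨x, hx⟩ := IsLocalRing.residue_surjective a
    exact ⟨x, hx, by rw [Nat.cast_zero, neg_zero, exp_zero]; exact (aeval x (minpoly k a)).2, hunit x hx⟩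
  | succ n ih =>
    obtain ⟨x, hx, hg, hd⟩ := ih
    have hlt : Q.1 (aeval x (minpoly k a) : K') < 1 := by
      refine lt_of_le_of_ne (aeval x (minpoly k a)).2 fun h1 => ?_
      have := (IsLocalRing.residue_eq_zero_iff (aeval x (minpoly k a))).1 (by rw [hres, hx, minpoly.aeval])
      exact (Valuation.Integer.not_isUnit_iff_valuation_lt_one.1 this).ne h1
    let h : Q.O := ⟨-((aeval x (minpoly k a) : Q.O) : K') / ((aeval x (minpoly k a).derivative : Q.O) : K'),
      show Q.1 _ ≤ 1 by rw [map_div₀, Valuation.map_neg, hd, div_one]; exact hlt.le⟩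
    have hh : Q.1 (h : K') = Q.1 (aeval x (minpoly k a) : K') := by
      show Q.1 (_ / _) = _
      rw [map_div₀, Valuation.map_neg, hd, div_one]
    have hx' : IsLocalRing.residue _ (x + h) = a := by
      rw [map_add, hx, (IsLocalRing.residue_eq_zero_iff h).2
        (Valuation.Integer.not_isUnit_iff_valuation_lt_one.2 (hh.trans_lt hlt)), add_zero]
    refine ⟨x + h, hx', ?_, hunit _ hx'⟩
    obtain ⟨c, hc⟩ := binomExpansion ((minpoly k a).map (algebraMap k Q.O)) x h
    simp only [eval_map_algebraMap, derivative_map] at hc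
    have h0 : ((aeval (x + h) (minpoly k a) : Q.O) : K') = (c : K') * (h : K') ^ 2 := by
      rw [hc]
      push_cast
      have hd0 : ((aeval x (minpoly k a).derivative : Q.O) : K') ≠ 0 := fun h0 => by
        rw [h0, map_zero] at hd; exact zero_ne_one hd
      show _ + _ * (-_ / _) + _ = _
      rw [mul_div_cancel₀ _ hd0, add_neg_cancel, zero_add]
    rw [h0, map_mul, map_pow, hh]
    refine (mul_le_of_le_one_left zero_le c.2).trans ?_
    rw [pow_two]
    refine (mul_le_mul' hg (lt_one_le_exp hlt)).trans ?_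
    rw [← exp_add, exp_le_exp]
    omega

/-- Elements of `G₁` are detected on a local parameter. -/
theorem inG_of_uniformizer [Algebra.IsSeparable k (IsLocalRing.ResidueField Q.O)] (hσ : InG Q σ 1)
    {t : K'} (ht : Q.1 t = exp (-1 : ℤ)) (hj : Q.1 (σ t - t) ≤ exp (-(j : ℤ))) : InG Q σ j := by
  suffices ∀ m ≤ j, InG Q σ m from this j le_rfl
  intro m
  induction m with
  | zero => exact fun _ => hσ.mono (Nat.zero_le 1)
  | succ m ih =>
    intro hm x hx
    have ih := ih (by omega)
    obtain ⟨g, hg⟩ := exists_near_root Q (IsLocalRing.residue Q.O ⟨x, hx⟩)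
    obtain ⟨z, hz, hgz, hdz⟩ := hg (m + 1)
    -- `z` is almost fixed
    have hσz : Q.1 (σ z) ≤ 1 := by rw [hσ.val_apply]; exact z.2
    let z' : Q.O := ⟨σ z, hσz⟩
    have hfix : Q.1 (σ z - z) ≤ exp (-((m + 1 : ℕ) : ℤ)) := by
      obtain ⟨c, hc⟩ := binomExpansion (g.map (algebraMap k Q.O)) z (z' - z)
      simp only [eval_map_algebraMap, derivative_map, add_sub_cancel] at hc
      have hgz' : Q.1 (aeval z' g : K') ≤ exp (-((m + 1 : ℕ) : ℤ)) := by
        have : ((aeval z' g : Q.O) : K') = σ (aeval z g : K') := by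
          have e1 : ∀ w : Q.O, ((aeval w g : Q.O) : K') = aeval (w : K') g := fun w =>
            (hom_eval₂ g (algebraMap k Q.O) Q.O.subtype w).trans rfl
          rw [e1, e1]
          exact (aeval_algHom_apply ((σ : K' →ₐ[K] K').restrictScalars k) (z : K') g)
        rw [this, hσ.val_apply]
        exact hgz
      have h1 : ((z' : K') - z) * ((aeval z g.derivative : Q.O) + c * (z' - z) : Q.O) =
          ((aeval z' g : Q.O) : K') - (aeval z g : Q.O) := by
        rw [hc]; push_cast; ring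
      have hsmall : Q.1 ((z' : K') - z) < 1 :=
        (hσ z z.2).trans_lt (by rw [exp_lt_one']; norm_num)
      have hu : Q.1 (((aeval z g.derivative : Q.O) + c * (z' - z) : Q.O) : K') = 1 := by
        push_cast
        rw [Valuation.map_add_eq_of_lt_left, hdz]
        rw [hdz, map_mul]
        exact (mul_le_of_le_one_left zero_le c.2).trans_lt hsmall
      have h2 := congrArg Q.1 h1
      rw [map_mul, hu, mul_one] at h2
      exact h2.trans_le (Q.1.map_sub_le hgz' hgz)
    have hdiff : Q.1 (x - z) < 1 := by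
      have : IsLocalRing.residue Q.O (⟨x, hx⟩ - z) = 0 := by rw [map_sub, hz, sub_self]
      exact Valuation.Integer.not_isUnit_iff_valuation_lt_one.1 ((IsLocalRing.residue_eq_zero_iff _).1 this)
    have ht0 : t ≠ 0 := fun h => by rw [h, map_zero] at ht; exact exp_ne_zero ht.symm
    have hy : Q.1 ((x - z) / t) ≤ 1 := by
      rw [map_div₀, ht, div_le_one₀ (zero_lt_iff.2 exp_ne_zero)]
      exact lt_one_le_exp hdiff
    set y := (x - (z : K')) / t
    have hxy : x = z + t * y := by rw [mul_div_cancel₀ _ ht0]; ring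
    rw [hxy, show σ ((z : K') + t * y) - ((z : K') + t * y) = (σ z - z) + ((σ t - t) * σ y + t * (σ y - y)) by
      rw [map_add, map_mul]; ring]
    refine Q.1.map_add_le hfix (Q.1.map_add_le ?_ ?_)
    · rw [map_mul, hσ.val_apply]
      exact (mul_le_of_le_one_right zero_le hy).trans (hj.trans (exp_le_exp.2 (by omega)))
    · rw [map_mul, ht]
      refine (mul_le_mul' le_rfl (ih y hy)).trans ?_
      rw [← exp_add, exp_le_exp]
      omega

omit [FiniteDimensional K K'] in
lemma exists_t (Q : Place k K') : ∃ t : K', t ≠ 0 ∧ Q.1 t = exp (-1 : ℤ) := exists_val_eq Q (-1)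

set_option maxHeartbeats 1600000 in
theorem exists_cyclic_generator [Algebra.IsSeparable k (IsLocalRing.ResidueField Q.O)] :
    ∃ σ₀ : K' ≃ₐ[K] K', InG Q σ₀ 1 ∧ ∀ σ, InG Q σ 1 → ∃ n : ℕ, InG Q ((σ₀ ^ n)⁻¹ * σ) 2 := by
  classical
  obtain ⟨t, ht0, ht⟩ := exists_t Q
  let u : ramGroup (K := K) Q 1 → Q.O := fun g => ⟨g.1 t / t, show Q.1 _ ≤ 1 by
    rw [map_div₀, InG.val_apply g.2, div_self (val_ne_zero Q ht0)]⟩
  let φ : ramGroup (K := K) Q 1 →* IsLocalRing.ResidueField Q.O :=
  { toFun := fun g => IsLocalRing.residue _ (u g)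
    map_one' := by
      rw [show u 1 = 1 from Subtype.ext (div_self ht0), map_one]
    map_mul' := fun g g' => by
      have hg' : Q.1 (g.1 (u g' : K')) ≤ 1 := by rw [InG.val_apply g.2]; exact (u g').2
      have e : u (g * g') = ⟨_, hg'⟩ * u g := Subtype.ext (by
        show g.1 (g'.1 t) / t = g.1 (g'.1 t / t) * (g.1 t / t)
        rw [map_div₀, div_mul_div_cancel₀ ((_root_.map_ne_zero g.1).2 ht0)])
      rw [e, map_mul, mul_comm, show IsLocalRing.residue Q.O ⟨_, hg'⟩ = IsLocalRing.residue _ (u g') from ?_]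
      rw [← sub_eq_zero, ← map_sub]
      exact (IsLocalRing.residue_eq_zero_iff _).2 (Valuation.Integer.not_isUnit_iff_valuation_lt_one.2
        ((g.2 _ (u g').2).trans_lt (by rw [exp_lt_one']; norm_num))) }
  have hker : ∀ g, φ g = 1 → InG Q g.1 2 := by
    intro g hg
    refine inG_of_uniformizer g.2 ht ?_
    have : IsLocalRing.residue Q.O (u g - 1) = 0 := by rw [map_sub, map_one]; exact sub_eq_zero.2 hg
    have h1 : Q.1 (g.1 t / t - 1) < 1 :=
      Valuation.Integer.not_isUnit_iff_valuation_lt_one.1 ((IsLocalRing.residue_eq_zero_iff _).1 this)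
    rw [show g.1 t - t = (g.1 t / t - 1) * t by rw [sub_mul, div_mul_cancel₀ _ ht0, one_mul], map_mul, ht]
    refine (mul_le_mul' (lt_one_le_exp h1) le_rfl).trans ?_
    rw [← exp_add]; norm_num
  let ψ : ramGroup (K := K) Q 1 →* (IsLocalRing.ResidueField Q.O)ˣ := φ.toHomUnits
  have : Finite ψ.range := Finite.of_surjective _ ψ.rangeRestrict_surjective
  obtain ⟨⟨_, g₀, rfl⟩, hgen⟩ := IsCyclic.exists_generator (α := ψ.range)
  refine ⟨g₀.1, g₀.2, fun σ hσ => ?_⟩
  obtain ⟨n, hn⟩ : ∃ n : ℕ, (⟨ψ g₀, g₀, rfl⟩ : ψ.range) ^ n = ⟨ψ ⟨σ, hσ⟩, _, rfl⟩ :=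
    (isOfFinOrder_of_finite _).mem_powers_iff_mem_zpowers.2 (hgen _)
  refine ⟨n, hker ((g₀ ^ n)⁻¹ * ⟨σ, hσ⟩) ?_⟩
  have h1 : ψ g₀ ^ n = ψ ⟨σ, hσ⟩ := congrArg Subtype.val hn
  have h2 : ψ ((g₀ ^ n)⁻¹ * ⟨σ, hσ⟩) = 1 := by rw [map_mul, map_inv, map_pow, h1, inv_mul_cancel]
  exact congrArg Units.val h2

set_option maxHeartbeats 1600000 in
theorem quotient_elementary [Algebra.IsSeparable k (IsLocalRing.ResidueField Q.O)] {i : ℕ} (hi : 2 ≤ i)
    (hσ : InG Q σ i) (hτ : InG Q τ i) :
    InG Q (σ * τ * σ⁻¹ * τ⁻¹) (i + 1) ∧ (ringChar K = 0 → InG Q σ (i + 1)) ∧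
      ∀ p : ℕ, p.Prime → ringChar K = p → InG Q (σ ^ p) (i + 1) := by
  classical
  obtain ⟨t, ht0, ht⟩ := exists_t Q
  have hv : ∀ g : K' ≃ₐ[K] K', InG Q g i → Q.1 ((g t - t) / t ^ i) ≤ 1 := fun g hg => by
    rw [map_div₀, map_pow, ht, div_le_one₀ (pow_pos (zero_lt_iff.2 exp_ne_zero) _), ← exp_nsmul]
    simpa using hg t (by rw [ht, exp_le_one']; norm_num)
  let a : ramGroup (K := K) Q i → Q.O := fun g => ⟨_, hv g.1 g.2⟩
  let φ : Additive (ramGroup (K := K) Q i) →+ IsLocalRing.ResidueField Q.O :=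
  { toFun := fun g => IsLocalRing.residue _ (a g.toMul)
    map_zero' := by
      rw [show a (0 : Additive (ramGroup (K := K) Q i)).toMul = 0 from Subtype.ext (by
        show ((1 : K' ≃ₐ[K] K') t - t) / t ^ i = 0
        rw [AlgEquiv.one_apply, sub_self, zero_div]), map_zero]
    map_add' := fun g g' => by
      rw [← sub_eq_zero, ← map_add, ← map_sub]
      refine (IsLocalRing.residue_eq_zero_iff _).2 (Valuation.Integer.not_isUnit_iff_valuation_lt_one.2 ?_)
      set s := g.toMul.1
      set r := g'.toMul.1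
      set δ := r t - t
      have hδ : Q.1 δ ≤ exp (-(i : ℤ)) := g'.toMul.2 t (by rw [ht, exp_le_one']; norm_num)
      show Q.1 ((s (r t) - t) / t ^ i - ((s t - t) / t ^ i + δ / t ^ i)) < 1
      rw [← add_div, ← sub_div, map_div₀, map_pow, ht, div_lt_one₀ (pow_pos (zero_lt_iff.2 exp_ne_zero) _),
        show s (r t) - t - (s t - t + δ) = s δ - δ by simp only [δ, map_sub]; ring, ← exp_nsmul]
      set y := δ / t ^ i
      have hy : Q.1 y ≤ 1 := hv r g'.toMul.2
      have hst : Q.1 (s (t ^ i) - t ^ i) ≤ exp (-((i + 1 : ℕ) : ℤ)) := by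
        obtain ⟨m, rfl⟩ : ∃ m, i = m + 1 := ⟨i - 1, by omega⟩
        rw [map_pow, ← geom_sum₂_mul, map_mul]
        have hs1 : Q.1 (∑ l ∈ Finset.range (m + 1), s t ^ l * t ^ (m + 1 - 1 - l)) ≤ exp (-(m : ℤ)) := by
          refine Q.1.map_sum_le fun l hl => ?_
          rw [map_mul, map_pow, map_pow, InG.val_apply g.toMul.2, ht, ← pow_add, ← exp_nsmul, exp_le_exp]
          have := Finset.mem_range.1 hl
          simp only [nsmul_eq_mul]
          push_cast
          omega
        refine (mul_le_mul' hs1 (g.toMul.2 t (by rw [ht, exp_le_one']; norm_num))).trans ?_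
        rw [← exp_add, exp_le_exp]; omega
      rw [show δ = t ^ i * y by rw [mul_div_cancel₀ _ (pow_ne_zero _ ht0)],
        show s (t ^ i * y) - t ^ i * y = (s (t ^ i) - t ^ i) * s y + t ^ i * (s y - y) by rw [map_mul]; ring]
      refine (Q.1.map_add_le (g := exp (-((i + 1 : ℕ) : ℤ))) ?_ ?_).trans_lt ?_
      · rw [map_mul, InG.val_apply g.toMul.2]
        exact (mul_le_of_le_one_right zero_le hy).trans hst
      · rw [map_mul, map_pow, ht, ← exp_nsmul]
        refine (mul_le_mul' le_rfl (g.toMul.2 y hy)).trans ?_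
        rw [← exp_add, exp_le_exp]
        simp only [nsmul_eq_mul]
        omega
      · rw [exp_lt_exp]
        simp only [nsmul_eq_mul]
        omega }
  have hker : ∀ g : ramGroup (K := K) Q i, φ (Additive.ofMul g) = 0 → InG Q g.1 (i + 1) := by
    intro g hg
    refine inG_of_uniformizer (InG.mono g.2 (by omega)) ht ?_
    have h1 : Q.1 ((g.1 t - t) / t ^ i) < 1 :=
      Valuation.Integer.not_isUnit_iff_valuation_lt_one.1 ((IsLocalRing.residue_eq_zero_iff (a g)).1 hg)
    rw [show g.1 t - t = (g.1 t - t) / t ^ i * t ^ i by rw [div_mul_cancel₀ _ (pow_ne_zero _ ht0)],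
      map_mul, map_pow, ht, ← exp_nsmul]
    refine (mul_le_mul' (lt_one_le_exp h1) le_rfl).trans ?_
    rw [← exp_add, exp_le_exp]
    simp only [nsmul_eq_mul]
    push_cast
    omega
  let gσ : ramGroup (K := K) Q i := ⟨σ, hσ⟩
  let gτ : ramGroup (K := K) Q i := ⟨τ, hτ⟩
  have hchar : ∀ p, ringChar K = p → CharP (IsLocalRing.ResidueField Q.O) p := fun p hp => by
    have : CharP K p := hp ▸ ringChar.charP K
    have : CharP k p := (algebraMap k K).charP (algebraMap k K).injective p
    exact charP_of_injective_algebraMap (algebraMap k (IsLocalRing.ResidueField Q.O)).injective p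
  refine ⟨hker (gσ * gτ * gσ⁻¹ * gτ⁻¹) (by simp only [ofMul_mul, ofMul_inv, map_add, map_neg]; abel),
    fun h0 => hker gσ ?_, fun p hp hK => hker (gσ ^ p) ?_⟩
  · have := hchar 0 h0
    have : CharZero (IsLocalRing.ResidueField Q.O) := CharP.charP_to_charZero _
    have hn : orderOf gσ • φ (Additive.ofMul gσ) = 0 := by
      rw [← map_nsmul, ← ofMul_pow, pow_orderOf_eq_one, ofMul_one, map_zero]
    rw [nsmul_eq_mul, mul_eq_zero] at hn
    exact hn.resolve_left (Nat.cast_ne_zero.2 (orderOf_pos gσ).ne')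
  · have := hchar p hK
    rw [ofMul_pow, map_nsmul, nsmul_eq_mul, CharP.cast_eq_zero, zero_mul]

end Groth.Agent.FF
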