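/-
Separable residue extensions and places with separable residue field.
-/
import Groth.Agent.L26.FF.AlmostUnramified
import Groth.Agent.L26.FF.RatFuncFF
import Groth.Agent.L26.Res.Sep
import Groth.Agent.L26.FF.Closed

open WithZero Polynomial IntermediateField

namespace Groth.Agent.FF

open FunFld

variable {k K K' : Type*} [Field k] [Field K] [Field K'] [Algebra k K] [Algebra K K'] [Algebra k K']
  [IsScalarTower k K K'] [FiniteDimensional K K']

theorem separable_residue_of_monic {Q : Place k K'} {P : Place k K} {e : ℕ}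
    (he : IsOverWith Q P e) {θ : K'} (hθ : K⟮θ⟯ = ⊤) (f : Polynomial P.O) (hf : f.Monic)
    (hroot : f.eval₂ ((algebraMap K K').comp P.O.subtype) θ = 0)
    (hder : Q.1 (f.derivative.eval₂ ((algebraMap K K').comp P.O.subtype) θ) = 1)
    [Algebra.IsSeparable k (IsLocalRing.ResidueField P.O)] :
    Algebra.IsSeparable k (IsLocalRing.ResidueField Q.O) := by
  classical
  set φ : P.O →+* K' := (algebraMap K K').comp P.O.subtype with hφ
  have hφ1 : ∀ a : P.O, Q.1 (φ a) ≤ 1 := fun a => (he.le_one_iff _).2 a.2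
  let ψ : P.O →+* Q.O := φ.codRestrict Q.O hφ1
  have hint : Q.1 θ ≤ 1 := by
    obtain ⟨y, hy⟩ := IsIntegrallyClosed.isIntegral_iff.1 (show IsIntegral Q.O θ from
      ⟨f.map ψ, hf.map ψ, by
        rw [eval₂_map, show (algebraMap Q.O K').comp ψ = φ from RingHom.ext fun _ => rfl]
        exact hroot⟩)
    exact hy ▸ y.2
  let θ' : Q.O := ⟨θ, hint⟩
  let κ := IsLocalRing.ResidueField P.O
  let π : P.O →+* κ := IsLocalRing.residue _
  let F := IsLocalRing.ResidueField Q.O
  let ρ : Q.O →+* F := IsLocalRing.residue _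
  have hlocal : IsLocalHom ψ := ⟨fun a ha => by
    by_contra hna
    have h1 : P.1 (a : K) < 1 := (Valuation.Integer.not_isUnit_iff_valuation_lt_one).1 hna
    have h2 : ¬ IsUnit (ψ a) :=
      (Valuation.Integer.not_isUnit_iff_valuation_lt_one).2 ((he.lt_one_iff _).2 h1)
    exact h2 ha⟩
  let σ : κ →+* F := IsLocalRing.ResidueField.map ψ
  have hσ : σ.comp π = ρ.comp ψ := IsLocalRing.ResidueField.map_comp_residue ψ
  let ev : Polynomial P.O →+* Q.O := eval₂RingHom ψ θ'
  have hev : ∀ q, (ev q : K') = q.eval₂ φ θ := fun q => by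
    show Q.O.subtype (q.eval₂ ψ θ') = _
    rw [hom_eval₂]
    rfl
  have hred : ∀ q, ρ (ev q) = (q.map π).eval₂ σ (ρ θ') := fun q => by
    show ρ (q.eval₂ ψ θ') = _
    rw [hom_eval₂, eval₂_map, hσ]
  let _ : Algebra κ F := σ.toAlgebra
  have haev : ∀ q, aeval (ρ θ') q = (q : Polynomial κ).eval₂ σ (ρ θ') := fun q => rfl
  have hfroot : aeval (ρ θ') (f.map π) = 0 := by
    rw [haev, ← hred, show ev f = 0 from Subtype.ext ((hev f).trans hroot), map_zero]
  have hgint : IsIntegral κ (ρ θ') := ⟨f.map π, hf.map π, hfroot⟩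
  obtain ⟨hb0, hhb0⟩ := minpoly.dvd κ (ρ θ') hfroot
  have hh0 : aeval (ρ θ') hb0 ≠ 0 := by
    intro h0
    have hd : aeval (ρ θ') (f.map π).derivative = 0 := by
      rw [hhb0, derivative_mul, map_add, map_mul, map_mul, minpoly.aeval, h0, mul_zero, zero_mul, add_zero]
    rw [derivative_map, haev, ← hred] at hd
    have hu : IsUnit (ev f.derivative) := by
      by_contra h
      have := (Valuation.Integer.not_isUnit_iff_valuation_lt_one).1 h
      exact this.ne (show Q.1 (ev f.derivative : K') = 1 by rw [hev]; exact hder)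
    exact (hu.map ρ).ne_zero hd
  obtain ⟨h, rfl⟩ := map_surjective π IsLocalRing.residue_surjective hb0
  have hhunit : Q.1 (ev h : K') = 1 := by
    refine le_antisymm (ev h).2 (not_lt.1 fun hlt => hh0 ?_)
    rw [haev, ← hred]
    exact (IsLocalRing.residue_eq_zero_iff _).2
      ((Valuation.Integer.not_isUnit_iff_valuation_lt_one).2 hlt)
  obtain ⟨t, ht0, ht⟩ := exists_val_eq P (-1)
  let t' : P.O := ⟨t, show P.1 t ≤ 1 by rw [ht, exp_le_one']; omega⟩
  have hdiv : ∀ a : P.O, π a = 0 → ∃ b, a = t' * b := by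
    intro a ha
    have h1 : P.1 (a : K) < 1 := (Valuation.Integer.not_isUnit_iff_valuation_lt_one).1
      ((IsLocalRing.residue_eq_zero_iff a).1 ha)
    refine ⟨⟨(a : K) / t, show P.1 _ ≤ 1 by
      rw [map_div₀, ht, div_le_one₀ (zero_lt_iff.2 exp_ne_zero)]; exact lt_one_le_exp h1⟩, Subtype.ext ?_⟩
    exact (mul_div_cancel₀ _ ht0).symm
  have hgsep : IsSeparable κ (ρ θ') := by
    refine (separable_iff_derivative_ne_zero (minpoly.irreducible hgint)).2 fun h0 => ?_
    have hd : aeval (ρ θ') (f.map π).derivative = 0 := by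
      rw [hhb0, derivative_mul, h0, map_add, map_mul, map_mul, minpoly.aeval, map_zero, zero_mul, zero_mul, add_zero]
    rw [derivative_map, haev, ← hred] at hd
    have hu : IsUnit (ev f.derivative) := by
      by_contra h
      have := (Valuation.Integer.not_isUnit_iff_valuation_lt_one).1 h
      exact this.ne (show Q.1 (ev f.derivative : K') = 1 by rw [hev]; exact hder)
    exact (hu.map ρ).ne_zero hd
  let S : IntermediateField κ F := IntermediateField.adjoin κ {ρ θ'}
  have hevS : ∀ q, ρ (ev q) ∈ S := fun q => by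
    rw [hred, ← haev]
    exact IntermediateField.mem_toSubalgebra _ _ |>.1 (IntermediateField.algebra_adjoin_le_adjoin κ _
      (Algebra.adjoin_singleton_eq_range_aeval κ (ρ θ') ▸ ⟨_, rfl⟩))
  have hdesc : ∀ (n : ℕ) (q : Polynomial P.O) (z : Q.O), ev q = ψ t' ^ n * z → ρ z ∈ S := by
    intro n
    induction n with
    | zero => intro q z hq; rw [pow_zero, one_mul] at hq; exact hq ▸ hevS q
    | succ n ih =>
      intro q z hq
      have hψt : ρ (ψ t') = 0 := by
        refine (IsLocalRing.residue_eq_zero_iff _).2 (Valuation.Integer.not_isUnit_iff_valuation_lt_one.2 ?_)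
        exact (he.lt_one_iff t).2 (by rw [ht, exp_lt_one']; omega)
      have hq0 : aeval (ρ θ') (q.map π) = 0 := by
        rw [haev, ← hred, hq, pow_succ]
        simp [hψt]
      obtain ⟨rb, hrb⟩ := minpoly.dvd κ (ρ θ') hq0
      obtain ⟨r, rfl⟩ := map_surjective π IsLocalRing.residue_surjective rb
      have hz : (q * h - f * r).map π = 0 := by
        rw [Polynomial.map_sub, Polynomial.map_mul, Polynomial.map_mul, hrb, hhb0]; ring
      obtain ⟨w, hw⟩ : C t' ∣ q * h - f * r := C_dvd_iff_dvd_coeff _ _ |>.2 fun i => by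
        obtain ⟨b, hb⟩ := hdiv ((q * h - f * r).coeff i) (by rw [← coeff_map, hz, coeff_zero])
        exact ⟨b, hb⟩
      have hw' := congrArg ev hw
      rw [map_sub, map_mul, map_mul, map_mul, show ev f = 0 from Subtype.ext ((hev f).trans hroot), zero_mul, sub_zero,
        show ev (C t') = ψ t' from eval₂_C _ _, hq, pow_succ] at hw'
      have hne : ψ t' ≠ 0 := fun h0 => ht0 ((algebraMap K K').injective
        ((congrArg Subtype.val h0).trans (map_zero _).symm))
      have : ev w = ψ t' ^ n * (z * ev h) := mul_left_cancel₀ hne (hw'.symm.trans (by ring))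
      have h1 := ih w _ this
      rw [map_mul] at h1
      have hh : ρ (ev h) ≠ 0 := by rw [hred, ← haev]; exact hh0
      have := S.mul_mem h1 (S.inv_mem (hevS h))
      rwa [mul_assoc, mul_inv_cancel₀ hh, mul_one] at this
  have htop : S = ⊤ := by
    refine eq_top_iff.2 fun x _ => ?_
    obtain ⟨⟨y, hy⟩, rfl⟩ := IsLocalRing.residue_surjective x
    have hmem : y ∈ K⟮θ⟯ := hθ ▸ mem_top
    rw [← IntermediateField.mem_toSubalgebra, IntermediateField.adjoin_simple_toSubalgebra_of_isAlgebraic
      (Algebra.IsAlgebraic.isAlgebraic θ), Algebra.adjoin_singleton_eq_range_aeval] at hmem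
    obtain ⟨p, hp⟩ := hmem
    change aeval θ p = y at hp
    obtain ⟨c, hc⟩ : ∃ c : K, c ≠ 0 ∧ ∀ i, P.1 (c * p.coeff i) ≤ 1 := by
      have : ∀ S : Finset ℕ, ∃ c : K, c ≠ 0 ∧ ∀ i ∈ S, P.1 (c * p.coeff i) ≤ 1 := by
        intro S
        induction S using Finset.induction with
        | empty => exact ⟨1, one_ne_zero, by simp⟩
        | insert i S _ ih =>
          obtain ⟨c, hc, hS⟩ := ih
          rcases le_or_gt (P.1 (c * p.coeff i)) 1 with h | h
          · exact ⟨c, hc, fun j hj => (Finset.mem_insert.1 hj).elim (fun e => e ▸ h) (hS j)⟩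
          · have hne : c * p.coeff i ≠ 0 := fun h0 => by rw [h0, map_zero] at h; exact not_lt.2 zero_le h
            refine ⟨(c * p.coeff i)⁻¹ * c, mul_ne_zero (inv_ne_zero hne) hc, fun j hj => ?_⟩
            rw [mul_assoc, map_mul, map_inv₀]
            rcases Finset.mem_insert.1 hj with rfl | hj
            · rw [inv_mul_cancel₀ ((Valuation.ne_zero_iff _).2 hne)]
            · exact mul_le_one' (inv_le_one_of_one_le₀ h.le) (hS j hj)
      obtain ⟨c, hc, hS⟩ := this p.support
      refine ⟨c, hc, fun i => ?_⟩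
      by_cases hi : i ∈ p.support
      · exact hS i hi
      · simp [Polynomial.notMem_support_iff.1 hi]
    obtain ⟨hc0, hci⟩ := hc
    obtain ⟨q, hq⟩ : C c * p ∈ Polynomial.lifts P.O.subtype :=
      (lifts_iff_coeff_lifts _).2 fun i => ⟨⟨_, hci i⟩, (coeff_C_mul p).symm⟩
    have hqy : (ev q : K') = algebraMap K K' c * y := by
      rw [coe_mapRingHom] at hq
      rw [hev, hφ, ← eval₂_map, hq, eval₂_mul, eval₂_C, ← hp]
      rfl
    rcases le_or_gt (P.1 c) 1 with hc1 | hc1
    · obtain ⟨n, hn⟩ : ∃ n : ℕ, P.ord c = n := ⟨_, (Int.toNat_of_nonneg ((val_le_one_iff P hc0).1 hc1)).symm⟩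
      have hu : P.1 (t ^ n / c) = 1 := by
        rw [map_div₀, map_pow, ht, val_eq_exp P hc0, hn, ← exp_nsmul, ← exp_sub, exp_eq_one']
        simp
      refine hdesc n (C (⟨_, hu.le⟩ : P.O) * q) ⟨y, hy⟩ (Subtype.ext ?_)
      rw [map_mul, MulMemClass.coe_mul, hqy, hev (C _), eval₂_C, MulMemClass.coe_mul, SubmonoidClass.coe_pow]
      show algebraMap K K' (t ^ n / c) * (algebraMap K K' c * y) = algebraMap K K' t ^ n * y
      rw [← mul_assoc, ← map_mul, div_mul_cancel₀ _ hc0, map_pow]
    · have hci' : P.1 c⁻¹ ≤ 1 := by rw [map_inv₀]; exact inv_le_one_of_one_le₀ hc1.le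
      have : (⟨y, hy⟩ : Q.O) = ev (C (⟨_, hci'⟩ : P.O) * q) := Subtype.ext (by
        rw [map_mul, MulMemClass.coe_mul, hqy, hev (C _), eval₂_C]
        show y = algebraMap K K' c⁻¹ * (algebraMap K K' c * y)
        rw [← mul_assoc, ← map_mul, inv_mul_cancel₀ hc0, map_one, one_mul])
      exact this ▸ hevS _
  have hκF : Algebra.IsSeparable κ F := by
    have h1 := (IntermediateField.isSeparable_adjoin_simple_iff_isSeparable (F := κ) (E := F)).2 hgsep
    rw [show IntermediateField.adjoin κ {ρ θ'} = ⊤ from htop] at h1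
    exact AlgEquiv.Algebra.isSeparable IntermediateField.topEquiv
  have htower : IsScalarTower k κ F := IsScalarTower.of_algebraMap_eq fun x => by
    show IsLocalRing.residue _ _ = σ (IsLocalRing.residue P.O _)
    rw [← RingHom.comp_apply σ, hσ]
    exact congrArg (IsLocalRing.residue _) (Subtype.ext (IsScalarTower.algebraMap_apply k K K' x))
  have := htower
  have := hκF
  exact Algebra.IsSeparable.trans k κ F

theorem finite_nonseparable_over (hK : IsFF k K) [Algebra.IsSeparable K K'] :
    {Q : Place k K' | ∀ P : Place k K, IsOver Q P → Algebra.IsSeparable k (IsLocalRing.ResidueField P.O) →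
      Algebra.IsSeparable k (IsLocalRing.ResidueField Q.O)}ᶜ.Finite := by
  classical
  obtain ⟨θ, hθ⟩ := Field.exists_primitive_element K K'
  set f := minpoly K θ
  have hfm : f.Monic := minpoly.monic (Algebra.IsIntegral.isIntegral θ)
  have hF : IsFF k K' := isFF_ext hK
  have hd : aeval θ f.derivative ≠ 0 := (Algebra.IsSeparable.isSeparable K θ).aeval_derivative_ne_zero (minpoly.aeval K θ)
  have fin : ∀ z : K', {Q : Place k K' | Q.ord z ≠ 0}.Finite := fun z => finite_support_ord hF z
  refine ((f.support.finite_toSet.biUnion fun i _ => fin (algebraMap K K' (f.coeff i))).union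
    (fin (aeval θ f.derivative))).subset fun Q hQ => ?_
  by_contra hgood
  apply hQ
  simp only [Set.mem_union, Set.mem_iUnion, Set.mem_ofPred_eq, not_or, not_exists, not_not] at hgood
  rintro P ⟨e, he⟩ _
  have hcoef : ∀ i, P.1 (f.coeff i) ≤ 1 := by
    intro i
    rw [← he.le_one_iff]
    by_cases hi : i ∈ f.support
    · rcases eq_or_ne (algebraMap K K' (f.coeff i)) 0 with h | h
      · rw [h, map_zero]; exact zero_le
      · exact ((val_eq_one_iff Q h).2 (hgood.1 i hi)).le
    · rw [Polynomial.notMem_support_iff.1 hi, map_zero, map_zero]; exact zero_le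
  obtain ⟨q, hq, -, hqm⟩ := lifts_and_degree_eq_and_monic
    ((lifts_iff_coeff_lifts (f := P.O.subtype) f).2 fun i => ⟨⟨_, hcoef i⟩, rfl⟩) hfm
  have e1 : ∀ g : Polynomial P.O, g.eval₂ ((algebraMap K K').comp P.O.subtype) θ = aeval θ (g.map P.O.subtype) :=
    fun g => by rw [← eval₂_map]; rfl
  exact separable_residue_of_monic he hθ q hqm
    (by rw [e1, hq]; exact minpoly.aeval K θ)
    (by rw [e1, ← derivative_map, hq]; exact (val_eq_one_iff Q hd).2 hgood.2)

omit [Field K'] [Algebra K K'] [Algebra k K'] [IsScalarTower k K K'] [FiniteDimensional K K'] in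
lemma deg_eq_one_of_adjoin_top {K : Type*} [Field K] [Algebra k K] {z : K} (hz : Transcendental k z)
    (htop : k⟮z⟯ = ⊤) {P : Place k K} (h : P.ord z < 0) : P.deg = 1 := by
  classical
  have hF : IsFF k K := ⟨z, hz, by
    rw [htop]; exact Module.Finite.of_surjective (Algebra.linearMap _ _) (fun x => ⟨⟨x, mem_top⟩, rfl⟩)⟩
  have h1 : (poles k z).deg = 1 := by rw [deg_poles hF hz, htop]; simp
  have hP : P ∈ (poles k z).support := by rw [Finsupp.mem_support_iff, poles_apply hF]; omega
  rw [deg_eq_sum (s := (poles k z).support) (fun _ h => h)] at h1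
  have hnn : ∀ Q ∈ (poles k z).support, 0 ≤ poles k z Q * (Q.deg : ℤ) :=
    fun Q _ => mul_nonneg (by rw [poles_apply hF]; omega) (by positivity)
  have h2 := Finset.single_le_sum hnn hP
  rw [h1, poles_apply hF] at h2
  have hd := one_le_deg hF P
  rw [max_eq_left (by omega)] at h2
  have h4 : (P.deg : ℤ) ≤ -P.ord z * (P.deg : ℤ) := le_mul_of_one_le_left (by positivity) (by omega)
  omega

lemma infinite_irreducible (k : Type*) [Field k] : {p : k[X] | p.Monic ∧ Irreducible p}.Infinite := by
  classical
  intro hfin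
  let N : k[X] := X * (∏ p ∈ hfin.toFinset, p) + 1
  have hm : (∏ p ∈ hfin.toFinset, p).Monic := monic_prod_of_monic _ _ fun p hp => (hfin.mem_toFinset.1 hp).1
  have hdeg : 0 < (X * ∏ p ∈ hfin.toFinset, p).natDegree := by
    rw [monic_X.natDegree_mul hm, natDegree_X]; omega
  have hNdeg : 0 < N.natDegree := by rw [show N = _ + C 1 by rw [map_one], natDegree_add_C]; exact hdeg
  obtain ⟨q, hqm, hq, hqN⟩ := exists_monic_irreducible_factor N fun hu => hNdeg.ne' (natDegree_eq_zero_of_isUnit hu)
  have h1 : q ∣ X * ∏ p ∈ hfin.toFinset, p :=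
    (Finset.dvd_prod_of_mem _ (hfin.mem_toFinset.2 ⟨hqm, hq⟩)).mul_left _
  exact hq.not_isUnit (isUnit_of_dvd_one ((dvd_add_right h1).1 hqN))

theorem infinite_separable_places {K : Type*} [Field K] [Algebra k K] (hK : IsFunctionField k K) {x : K}
    (hx : Transcendental k x) [Algebra.IsSeparable k⟮x⟯ K] :
    {P : Place k K | Algebra.IsSeparable k (IsLocalRing.ResidueField P.O)}.Infinite := by
  classical
  rcases finite_or_infinite k with hk | hk
  · have hperf : PerfectField k := inferInstance
    have hall : ∀ P : Place k K, Algebra.IsSeparable k (IsLocalRing.ResidueField P.O) := fun P => by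
      have := finite_residueField hK.1 P
      have : Algebra.IsAlgebraic k (IsLocalRing.ResidueField P.O) := @Algebra.IsAlgebraic.of_finite k _ _ _ _ _ ‹_›
      exact Algebra.IsAlgebraic.isSeparable_of_perfectField
    have htr : ∀ p : {p : k[X] | p.Monic ∧ Irreducible p}, Transcendental k (aeval x p.1) := fun p =>
      hx.aeval_of_transcendental fun halg => by
        obtain ⟨q, hq0, hq⟩ := halg
        rw [← Polynomial.comp_eq_aeval, comp_eq_zero_iff] at hq
        rcases hq with h | ⟨-, h⟩
        · exact hq0 h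
        · exact p.2.2.natDegree_pos.ne' (h ▸ natDegree_C _)
    choose Z hZ using fun p => exists_zero hK.1 (htr p)
    have hinj : Function.Injective Z := by
      intro p q hpq
      by_contra hne
      have hcop : IsCoprime p.1 q.1 := by
        refine p.2.2.coprime_iff_not_dvd.2 fun hd => hne (Subtype.ext ?_)
        exact eq_of_monic_of_associated p.2.1 q.2.1 (p.2.2.associated_of_dvd q.2.2 hd)
      set P := Z p
      have hx1 : P.1 x ≤ 1 := by
        by_contra hc
        rw [not_le] at hc
        have hdom : P.1 x ^ p.1.natDegree ≤ P.1 (aeval x p.1) := by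
          rw [aeval_eq_sum_range, Finset.sum_range_succ, add_comm, p.2.1.coeff_natDegree, one_smul,
            Valuation.map_add_eq_of_lt_left, map_pow]
          rw [map_pow]
          refine P.1.map_sum_lt (pow_ne_zero _ (ne_of_gt (lt_of_le_of_lt zero_le hc))) fun i hi => ?_
          rw [Algebra.smul_def, map_mul, map_pow]
          exact (mul_le_of_le_one_left zero_le (P.2.1 _)).trans_lt (pow_lt_pow_right₀ hc (Finset.mem_range.1 hi))
        exact (hZ p).not_ge (le_trans (one_le_pow₀ hc.le) hdom)
      have hle : ∀ g : k[X], P.1 (aeval x g) ≤ 1 := fun g => by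
        rw [aeval_eq_sum_range]
        refine P.1.map_sum_le fun i _ => ?_
        rw [Algebra.smul_def, map_mul, map_pow]
        exact mul_le_one' (P.2.1 _) (pow_le_one₀ zero_le hx1)
      obtain ⟨a, b, hab⟩ := hcop
      have h1 := congrArg (fun g => P.1 (aeval x g)) hab
      simp only [map_add, map_mul, map_one] at h1
      refine (lt_self_iff_false (1 : WithZero (Multiplicative ℤ))).1 (lt_of_eq_of_lt h1.symm (P.1.map_add_lt ?_ ?_))
      · rw [map_mul]; exact (mul_le_of_le_one_left zero_le (hle a)).trans_lt (hZ p)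
      · rw [map_mul]; exact (mul_le_of_le_one_left zero_le (hle b)).trans_lt (hpq ▸ hZ q)
    have := (infinite_irreducible k).to_subtype
    exact Set.infinite_of_injective_forall_mem hinj fun p => hall _
  · have hfin : FiniteDimensional k⟮x⟯ K := finite_over_adjoin hK.1 hx
    let E := k⟮x⟯
    let xE : E := AdjoinSimple.gen k x
    have hxE : Transcendental k xE := fun h => hx (h.algebraMap (A := K))
    have hEtop : k⟮xE⟯ = ⊤ := by
      refine IntermediateField.map_injective E.val ?_
      rw [adjoin_map, Set.image_singleton, ← AlgHom.fieldRange_eq_map, IntermediateField.fieldRange_val]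
      rfl
    have hE : IsFF k E := ⟨xE, hxE, by
      rw [hEtop]; exact Module.Finite.of_surjective (Algebra.linearMap _ _) (fun x => ⟨⟨x, mem_top⟩, rfl⟩)⟩
    have htr : ∀ c : k, Transcendental k (x - algebraMap k K c) := fun c h =>
      hx (by simpa using h.add (isAlgebraic_algebraMap (A := K) c))
    choose Z hZ using fun c => exists_zero hK.1 (htr c)
    have hinj : Function.Injective Z := by
      intro c d hcd
      by_contra hne
      have h1 : (Z c).1 (algebraMap k K (d - c)) < 1 := by
        rw [map_sub, show algebraMap k K d - algebraMap k K c = (x - algebraMap k K c) - (x - algebraMap k K d) by ring]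
        exact ((Z c).1.map_sub _ _).trans_lt (max_lt (hZ c) (hcd ▸ hZ d))
      rw [val_const _ (sub_ne_zero.2 (Ne.symm hne))] at h1
      exact lt_irrefl _ h1
    refine ((Set.infinite_range_of_injective hinj).sdiff
      (finite_nonseparable_over (K' := K) hE)).mono ?_
    rintro _ ⟨⟨c, rfl⟩, hgood⟩
    rw [Set.mem_compl_iff, not_not] at hgood
    obtain ⟨P, e, he⟩ := exists_below (K := E) hE (Z c)
    refine hgood P ⟨e, he⟩ ?_
    let w := xE - algebraMap k E c
    have hw : P.1 w < 1 := (he.lt_one_iff w).1 (hZ c)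
    have hwtr : Transcendental k w⁻¹ := fun h =>
      htr c (by simpa [w, xE, AdjoinSimple.coe_gen] using h.inv.algebraMap (A := K))
    have hwtop : k⟮w⁻¹⟯ = ⊤ := by
      rw [eq_top_iff, ← hEtop, adjoin_simple_le_iff]
      have hw' : w ∈ k⟮w⁻¹⟯ := by
        have := k⟮w⁻¹⟯.inv_mem (mem_adjoin_simple_self k w⁻¹)
        rwa [inv_inv] at this
      have := k⟮w⁻¹⟯.add_mem hw' (k⟮w⁻¹⟯.algebraMap_mem c)
      rwa [sub_add_cancel] at this
    have hw0 : w ≠ 0 := fun h0 => hwtr (by rw [h0, inv_zero]; exact isAlgebraic_zero)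
    have hdeg : P.deg = 1 := deg_eq_one_of_adjoin_top hwtr hwtop (by
      rw [ord_inv]
      have := (val_lt_one_iff P hw0).1 hw
      omega)
    exact ⟨fun a => by
      obtain ⟨b, rfl⟩ := (residue_bijective_of_deg_one P hdeg).2 a
      exact isSeparable_algebraMap b⟩

end Groth.Agent.FF
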