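/-
Places over a nonsingular place in a constant extension that splits it.
-/
import Groth.Agent.L26.FF.NonsingularTower
import Groth.Agent.L26.FF.Closed
import Mathlib.FieldTheory.PurelyInseparable.Basic
import Mathlib.FieldTheory.PrimitiveElement

open WithZero Polynomial

namespace Groth.Agent.FF

open FunFld

universe u v

section

variable {k k' : Type u} {K K' : Type v} [Field k] [Field k'] [Field K] [Field K']
  [Algebra k k'] [FiniteDimensional k k'] [Algebra k K] [Algebra K K'] [Algebra k' K'] [Algebra k K']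
  [IsScalarTower k k' K'] [IsScalarTower k K K']

lemma val_const_le (Q : Place k K') (c : k') : Q.1 (algebraMap k' K' c) ≤ 1 := by
  have h : IsIntegral k (algebraMap k' K' c) :=
    (Algebra.IsAlgebraic.isAlgebraic c).isIntegral.map (IsScalarTower.toAlgHom k k' K')
  rcases eq_or_ne c 0 with rfl | hc
  · simp
  · exact le_of_eq ((val_eq_one_iff Q ((_root_.map_ne_zero _).2 hc)).2 (ord_algebraic h.isAlgebraic Q))

lemma val_const_eq_one (Q : Place k K') {c : k'} (hc : c ≠ 0) : Q.1 (algebraMap k' K' c) = 1 := by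
  have h : IsIntegral k (algebraMap k' K' c) :=
    (Algebra.IsAlgebraic.isAlgebraic c).isIntegral.map (IsScalarTower.toAlgHom k k' K')
  exact (val_eq_one_iff Q ((_root_.map_ne_zero _).2 hc)).2 (ord_algebraic h.isAlgebraic Q)

lemma const_eq_zero_of_val_lt (Q : Place k K') {c : k'} (h : Q.1 (algebraMap k' K' c) < 1) : c = 0 := by
  by_contra hc
  exact h.ne (val_const_eq_one Q hc)

lemma val_aeval_le (Q : Place k K') {A : K'} (hA : Q.1 A ≤ 1) (h : k'[X]) : Q.1 (aeval A h) ≤ 1 := by
  induction h using Polynomial.induction_on with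
  | C c => rw [aeval_C]; exact val_const_le Q c
  | add p q hp hq => rw [map_add]; exact Q.1.map_add_le hp hq
  | monomial m c _ =>
    rw [map_mul, aeval_C, map_pow, aeval_X, map_mul, map_pow]
    exact mul_le_one₀ (val_const_le Q c) zero_le (pow_le_one₀ zero_le hA)

lemma mem_integralClosure_map_iff [FiniteDimensional K K'] (hK : IsFF k K) (P : Place k K) (z : K') :
    z ∈ integralClosure (P.O.toSubring.map (algebraMap K K')) K' ↔
      ∀ Q : Place k K', IsOver Q P → Q.1 z ≤ 1 := by
  letI : Algebra P.O K' := ((algebraMap K K').comp P.O.subtype).toAlgebra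
  haveI : IsScalarTower P.O K K' := IsScalarTower.of_algebraMap_eq fun _ => rfl
  rw [← isIntegral_iff hK P z]
  let e : P.O.toSubring ≃+* P.O.toSubring.map (algebraMap K K') :=
    P.O.toSubring.equivMapOfInjective (algebraMap K K') (algebraMap K K').injective
  refine ⟨fun hz => hz.map_of_comp_eq (e.symm.toRingHom : _ →+* P.O) (RingHom.id K') ?_,
    fun hz => hz.map_of_comp_eq (e.toRingHom : P.O →+* _) (RingHom.id K') (by ext; rfl)⟩
  ext a
  show algebraMap K K' ((e.symm a : P.O.toSubring) : K) = (a : K')
  exact congrArg Subtype.val (e.apply_symm_apply a)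

/-- In a splitting constant extension a nonsingular place has `n` places above it, each with
ramification index `i`, where `n` and `i` are the separable and inseparable degrees. -/
theorem places_over_of_split
    (h : Function.Bijective (Algebra.TensorProduct.productMap
      (IsScalarTower.toAlgHom k k' K') (IsScalarTower.toAlgHom k K K')))
    (hK : IsFunctionField k K) (P : Place k K)
    (F : Type*) [Field F] [Algebra k F] [FiniteDimensional k F]
    (res : P.O →ₐ[k] F) (hsurj : Function.Surjective res)
    (hres : ∀ a : P.O, res a = 0 ↔ P.1 (a : K) < 1) (hdeg : P.deg = Module.finrank k F)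
    (hns : integralClosure (P.O.toSubring.map (algebraMap K K')) K' =
      Algebra.adjoin (P.O.toSubring.map (algebraMap K K')) (Set.range (algebraMap k' K')))
    (hval : ∀ Q : Place k K', IsOver Q P → ∀ z : K', Q.1 z ≤ 1 →
      ∃ c : k', Q.1 (z - algebraMap k' K' c) < 1)
    (hdegQ : ∀ Q : Place k K', IsOver Q P → Q.deg = Module.finrank k k') :
    ∃ hfin : {Q : Place k K' | IsOver Q P}.Finite,
      hfin.toFinset.card = Module.finrank k (separableClosure k F) ∧
      ∀ Q : Place k K', IsOver Q P → IsOverWith Q P (Module.finrank (separableClosure k F) F) := by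
  classical
  let b := Module.finBasis k k'
  obtain ⟨B, hB, hB'⟩ := exists_constBasis h b
  haveI : FiniteDimensional K K' := Module.Finite.of_basis B
  set S := separableClosure k F with hS
  obtain ⟨θ, hθ⟩ := Field.exists_primitive_element k S
  set g := minpoly k θ with hg
  have hθi : IsIntegral k θ := IsIntegral.of_finite k θ
  have hgd : g.natDegree = Module.finrank k S := by
    rw [hg, ← IntermediateField.adjoin.finrank hθi, hθ, IntermediateField.finrank_top']
  have hgsep : g.Separable := Algebra.IsSeparable.isSeparable k θ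
  have hpoly : ∀ s : S, ∃ p : k[X], aeval θ p = s := fun s => by
    have h1 : Algebra.adjoin k ({θ} : Set S) = ⊤ := by
      rw [← IntermediateField.adjoin_simple_toSubalgebra_of_isAlgebraic hθi.isAlgebraic, hθ,
        IntermediateField.top_toSubalgebra]
    have h2 : s ∈ (⊤ : Subalgebra k S) := Algebra.mem_top
    rw [← h1, Algebra.adjoin_singleton_eq_range_aeval] at h2
    exact h2
  obtain ⟨a, ha⟩ := hsurj (θ : F)
  have hresp : ∀ p : k[X], res (aeval a p) = ((aeval θ p : S) : F) := fun p => by
    rw [← aeval_algHom_apply, ha]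
    exact aeval_algHom_apply S.val θ p
  let f := Module.finBasis S F
  choose φ hφ using fun j => hsurj (f j)
  -- approximation of elements of `O_P`
  have hA : ∀ x : P.O, ∃ p : Fin (Module.finrank S F) → k[X],
      P.1 ((x - ∑ j, aeval a (p j) * φ j : P.O) : K) < 1 := fun x => by
    choose p hp using fun j => hpoly (f.repr (res x) j)
    refine ⟨p, (hres _).1 ?_⟩
    rw [map_sub, map_sum, sub_eq_zero]
    refine (f.sum_repr (res x)).symm.trans (Finset.sum_congr rfl fun j _ => ?_)
    rw [map_mul, hresp, hp, hφ, IntermediateField.smul_def, smul_eq_mul]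
  set A : K' := algebraMap K K' (a : K) with hAdef
  have hAp : ∀ p : k[X], algebraMap K K' ((aeval a p : P.O) : K) = aeval A (p.map (algebraMap k k')) :=
    fun p => by
      rw [aeval_map_algebraMap, hAdef, aeval_algebraMap_apply]
      exact congrArg _ (aeval_algHom_apply (A := P.O) (B := K)
        ({ P.O.subtype with commutes' := fun _ => rfl } : P.O →ₐ[k] K) a p).symm
  -- at each place
  have hQ : ∀ Q : Place k K', IsOver Q P → ∃ c : k', c ∈ (g.map (algebraMap k k')).roots ∧
      Q.1 (A - algebraMap k' K' c) < 1 ∧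
      ∀ e, IsOverWith Q P e → ∀ x : P.O, ∃ d : Fin (Module.finrank S F) → k',
        Q.1 (algebraMap K K' (x : K) - ∑ j, algebraMap k' K' (d j) * algebraMap K K' (φ j : K)) ≤
          exp (-(e : ℤ)) := by
    intro Q hov
    obtain ⟨e₀, he₀⟩ := id hov
    have hA1 : Q.1 A ≤ 1 := (he₀.le_one_iff _).2 a.2
    obtain ⟨c, hc⟩ := hval Q hov A hA1
    have hval_eval : ∀ p : k'[X], ∃ q : k'[X],
        aeval A p - algebraMap k' K' (p.eval c) = (A - algebraMap k' K' c) * aeval A q := fun p => by
      obtain ⟨q, hq⟩ := X_sub_C_dvd_sub_C_eval (a := c) (p := p)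
      refine ⟨q, ?_⟩
      have := congrArg (aeval A) hq
      rwa [map_sub, map_mul, map_sub, aeval_C, aeval_C, aeval_X] at this
    have hsmall : ∀ p : k'[X], Q.1 (aeval A p - algebraMap k' K' (p.eval c)) < 1 := fun p => by
      obtain ⟨q, hq⟩ := hval_eval p
      rw [hq, map_mul]
      exact mul_lt_one_of_lt_of_le hc (val_aeval_le Q hA1 q)
    have hgP : P.1 ((aeval a g : P.O) : K) < 1 := (hres _).1 (by rw [hresp, minpoly.aeval]; rfl)
    have hgQ : Q.1 (aeval A (g.map (algebraMap k k'))) < 1 := by
      rw [← hAp]; exact (he₀.lt_one_iff _).2 hgP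
    have hroot : (g.map (algebraMap k k')).eval c = 0 := by
      refine const_eq_zero_of_val_lt Q ?_
      have := Q.1.map_sub_le hgQ.le (hsmall (g.map (algebraMap k k'))).le
      rw [sub_sub_cancel] at this
      refine lt_of_le_of_lt ?_ (max_lt hgQ (hsmall (g.map (algebraMap k k'))))
      have h2 := Q.1.map_sub (aeval A (g.map (algebraMap k k')))
        (aeval A (g.map (algebraMap k k')) - algebraMap k' K' ((g.map (algebraMap k k')).eval c))
      rwa [sub_sub_cancel] at h2
    have hg0 : g.map (algebraMap k k') ≠ 0 := map_ne_zero (minpoly.ne_zero hθi)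
    refine ⟨c, (mem_roots hg0).2 hroot, hc, fun e he x => ?_⟩
    -- `A - c` is as small as `g(A)`
    obtain ⟨h', hh'⟩ := dvd_iff_isRoot.2 (show (g.map (algebraMap k k')).IsRoot c from hroot)
    have hh'c : h'.eval c ≠ 0 := fun h0 => by
      have h1 := (hgsep.map (f := algebraMap k k')).aeval_derivative_ne_zero (x := c)
        (by rwa [aeval_def, eval₂_eq_eval_map, Algebra.algebraMap_self, Polynomial.map_id])
      rw [hh', derivative_mul] at h1
      simp [h0] at h1
    have hh'1 : Q.1 (aeval A h') = 1 := by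
      have h1 : Q.1 (aeval A h' - algebraMap k' K' (h'.eval c)) < Q.1 (algebraMap k' K' (h'.eval c)) := by
        rw [val_const_eq_one Q hh'c]; exact hsmall h'
      have h2 := Q.1.map_add_eq_of_lt_right h1
      rwa [sub_add_cancel, val_const_eq_one Q hh'c] at h2
    have hsmallP : ∀ z : K, P.1 z < 1 → Q.1 (algebraMap K K' z) ≤ exp (-(e : ℤ)) := fun z hz => by
      rw [he z]
      exact pow_le_exp_neg hz e
    have hAc : Q.1 (A - algebraMap k' K' c) ≤ exp (-(e : ℤ)) := by
      have h1 := hsmallP _ hgP
      rw [hAp, hh', map_mul, map_sub, aeval_X, aeval_C, map_mul, hh'1, mul_one] at h1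
      exact h1
    obtain ⟨p, hp⟩ := hA x
    refine ⟨fun j => ((p j).map (algebraMap k k')).eval c, ?_⟩
    have h1 := hsmallP _ hp
    rw [show algebraMap K K' ((x - ∑ j, aeval a (p j) * φ j : P.O) : K) = algebraMap K K' (x : K) -
        ∑ j, aeval A ((p j).map (algebraMap k k')) * algebraMap K K' (φ j : K) by
      simp only [← hAp]
      show algebraMap K K' (P.O.subtype (x - ∑ j, aeval a (p j) * φ j)) = _
      simp only [map_sub, map_sum, map_mul]
      rfl] at h1
    have h2 : Q.1 (∑ j, (aeval A ((p j).map (algebraMap k k')) -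
        algebraMap k' K' (((p j).map (algebraMap k k')).eval c)) * algebraMap K K' (φ j : K)) ≤ exp (-(e : ℤ)) :=
      Q.1.map_sum_le fun j _ => by
        obtain ⟨q, hq⟩ := hval_eval ((p j).map (algebraMap k k'))
        rw [hq, map_mul, map_mul]
        calc _ ≤ exp (-(e : ℤ)) * 1 * 1 := mul_le_mul' (mul_le_mul' hAc (val_aeval_le Q hA1 q))
              ((he.le_one_iff _).2 (φ j).2)
          _ = _ := by rw [mul_one, mul_one]
    have h3 := Q.1.map_add_le h1 h2
    convert h3 using 2
    simp only [sub_mul, Finset.sum_sub_distrib]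
    ring
  choose cQ hcroot hcA happrox using hQ
  have hfin := finite_over (K' := K') hK.1 P
  refine ⟨hfin, ?_⟩
  set T := hfin.toFinset with hT
  have hTmem : ∀ Q, Q ∈ T ↔ IsOver Q P := fun Q => hfin.mem_toFinset
  have hcoord : ∀ w : K', (∀ Q : Place k K', IsOver Q P → Q.1 w ≤ 1) → ∀ l, B.repr w l ∈ P.O := fun w hw l => by
    have h1 : w ∈ integralClosure (P.O.toSubring.map (algebraMap K K')) K' :=
      (mem_integralClosure_map_iff hK.1 P w).2 hw
    rw [hns] at h1
    exact coord_mem hB' P.O.toSubring (fun c => P.2.1 c) h1 l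
  -- `e ≤ i`
  have hle : ∀ (Q : Place k K') (e : ℕ), IsOverWith Q P e → e ≤ Module.finrank S F := by
    intro Q e he
    have hov : IsOver Q P := ⟨e, he⟩
    by_contra hlt
    push Not at hlt
    choose u hu using fun m : Fin e => approx_val T (fun R : Place k K' => if R = Q then -((m : ℕ) : ℤ) else 0)
    have huQ : ∀ m : Fin e, Q.1 (u m) = exp (-((m : ℕ) : ℤ)) := fun m => by
      have := hu m Q ((hTmem Q).2 hov); rwa [if_pos rfl] at this
    have hux : ∀ m l, B.repr (u m) l ∈ P.O := fun m => hcoord _ fun R hR => by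
      rw [hu m R ((hTmem R).2 hR), exp_le_one']
      split_ifs <;> omega
    choose d hd using fun (m : Fin e) l => happrox Q hov e he ⟨_, hux m l⟩
    let D : Fin e → Fin (Module.finrank S F) → k' := fun m j => ∑ l, b l * d m l j
    have hD : ∀ m, Q.1 (u m - ∑ j, algebraMap k' K' (D m j) * algebraMap K K' (φ j : K)) ≤ exp (-(e : ℤ)) := by
      intro m
      have e1 : u m - ∑ j, algebraMap k' K' (D m j) * algebraMap K K' (φ j : K) =
          ∑ l, algebraMap k' K' (b l) * (algebraMap K K' (B.repr (u m) l) -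
            ∑ j, algebraMap k' K' (d m l j) * algebraMap K K' (φ j : K)) := by
        conv_lhs => rw [← B.sum_repr (u m)]
        simp only [mul_sub, Finset.sum_sub_distrib, D, map_sum, map_mul, Finset.sum_mul, Finset.mul_sum]
        congr 1
        · exact Finset.sum_congr rfl fun l _ => by rw [Algebra.smul_def, hB, mul_comm]
        · rw [Finset.sum_comm]
          exact Finset.sum_congr rfl fun l _ => Finset.sum_congr rfl fun j _ => by ring
      rw [e1]
      exact Q.1.map_sum_le fun l _ => by
        rw [map_mul]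
        exact (mul_le_mul' (val_const_le Q _) (hd m l)).trans_eq (one_mul _)
    have hdep : ¬ LinearIndependent k' D := fun hli => by
      have := hli.fintype_card_le_finrank
      rw [Fintype.card_fin, Module.finrank_fin_fun] at this
      omega
    obtain ⟨r, hr, m₁, hm₁⟩ := Fintype.not_linearIndependent_iff.1 hdep
    have hne : (Finset.univ.filter fun m => r m ≠ 0).Nonempty := ⟨m₁, by simp [hm₁]⟩
    obtain ⟨m₀, hm₀, hmin⟩ := Finset.exists_min_image _ id hne
    rw [Finset.mem_filter] at hm₀
    have hs0 : ∑ m, algebraMap k' K' (r m) * u m = ∑ m, algebraMap k' K' (r m) *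
        (u m - ∑ j, algebraMap k' K' (D m j) * algebraMap K K' (φ j : K)) := by
      simp only [mul_sub, Finset.sum_sub_distrib]
      rw [eq_comm, sub_eq_self]
      simp only [Finset.mul_sum]
      rw [Finset.sum_comm]
      refine Finset.sum_eq_zero fun j _ => ?_
      have := congrFun hr j
      simp only [Finset.sum_apply, Pi.smul_apply, smul_eq_mul, Pi.zero_apply] at this
      simp only [← mul_assoc, ← map_mul, ← Finset.sum_mul, ← map_sum, this, map_zero, zero_mul]
    have h1 : Q.1 (∑ m, algebraMap k' K' (r m) * u m) ≤ exp (-(e : ℤ)) := by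
      rw [hs0]
      exact Q.1.map_sum_le fun m _ => by
        rw [map_mul]
        exact (mul_le_mul' (val_const_le Q _) (hD m)).trans_eq (one_mul _)
    have h2 : Q.1 (∑ m, algebraMap k' K' (r m) * u m) = exp (-((m₀ : ℕ) : ℤ)) := by
      rw [Q.1.map_sum_eq_of_lt (Finset.mem_univ m₀)]
      · rw [map_mul, val_const_eq_one Q hm₀.2, one_mul, huQ]
      · intro m hm
        rw [map_mul, map_mul, val_const_eq_one Q hm₀.2, one_mul, huQ, huQ]
        by_cases hrm : r m = 0
        · rw [hrm, map_zero, map_zero, zero_mul]; exact zero_lt_iff.2 exp_ne_zero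
        · rw [val_const_eq_one Q hrm, one_mul, exp_lt_exp]
          have h3 : m₀ ≤ m := hmin m (by simp [hrm])
          have h4 : m ≠ m₀ := by simpa using hm
          have : (m₀ : ℕ) < m := lt_of_le_of_ne h3 fun e' => h4 (Fin.ext e'.symm)
          omega
    rw [h2, exp_le_exp] at h1
    have := m₀.2
    omega
  -- at most `n` places
  have hinj : ∀ (Q₁ Q₂ : Place k K') (h₁ : IsOver Q₁ P) (h₂ : IsOver Q₂ P), cQ Q₁ h₁ = cQ Q₂ h₂ → Q₁ = Q₂ := by
    intro Q₁ Q₂ h₁ h₂ hc
    by_contra hne
    obtain ⟨u, hu⟩ := approx_val T (fun R => if R = Q₂ then -1 else 0)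
    have hu1 : Q₁.1 u = 1 := by
      have := hu Q₁ ((hTmem _).2 h₁); rwa [if_neg hne, exp_zero] at this
    have hu2 : Q₂.1 u < 1 := by
      rw [hu Q₂ ((hTmem _).2 h₂), if_pos rfl, exp_lt_one']; omega
    have hux : ∀ l, B.repr u l ∈ P.O := hcoord _ fun R hR => by
      rw [hu R ((hTmem R).2 hR), exp_le_one']
      split_ifs <;> omega
    have hxv : ∀ x : P.O, ∃ v : k', Q₁.1 (algebraMap K K' (x : K) - algebraMap k' K' v) < 1 ∧
        Q₂.1 (algebraMap K K' (x : K) - algebraMap k' K' v) < 1 := by
      intro x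
      have hx1 : Q₁.1 (algebraMap K K' (x : K)) ≤ 1 := by
        obtain ⟨e, he⟩ := h₁; exact (he.le_one_iff _).2 x.2
      have hx2 : Q₂.1 (algebraMap K K' (x : K)) ≤ 1 := by
        obtain ⟨e, he⟩ := h₂; exact (he.le_one_iff _).2 x.2
      obtain ⟨v₁, hv₁⟩ := hval Q₁ h₁ _ hx1
      obtain ⟨v₂, hv₂⟩ := hval Q₂ h₂ _ hx2
      obtain ⟨m, s, hs⟩ := IsPurelyInseparable.pow_mem S (ringExpChar k) (res x)
      obtain ⟨p, hp⟩ := hpoly s
      set q := ringExpChar k ^ m with hq
      have hq0 : q ≠ 0 := pow_ne_zero _ (expChar_ne_zero k _)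
      have hPz : P.1 ((x ^ q - aeval a p : P.O) : K) < 1 := (hres _).1 (by
        rw [map_sub, map_pow, hresp, hp, sub_eq_zero, ← hs]; rfl)
      have key : ∀ (Q : Place k K') (hQ' : IsOver Q P) (v : k'),
          Q.1 (algebraMap K K' (x : K) - algebraMap k' K' v) < 1 →
          v ^ q = (p.map (algebraMap k k')).eval (cQ Q hQ') := by
        intro Q hQ' v hv
        obtain ⟨e, he⟩ := id hQ'
        have hA1 : Q.1 A ≤ 1 := (he.le_one_iff _).2 a.2
        haveI : ExpChar K' (ringExpChar k) := expChar_of_injective_algebraMap (algebraMap k K').injective _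
        refine sub_eq_zero.1 (const_eq_zero_of_val_lt Q ?_)
        have e1 : Q.1 ((algebraMap K K' (x : K)) ^ q - algebraMap k' K' v ^ q) < 1 := by
          rw [hq, ← sub_pow_expChar_pow, map_pow]
          exact pow_lt_one₀ zero_le hv hq0
        have e2 : Q.1 ((algebraMap K K' (x : K)) ^ q - aeval A (p.map (algebraMap k k'))) < 1 := by
          rw [← map_pow, ← hAp, ← map_sub]
          exact (he.lt_one_iff _).2 hPz
        obtain ⟨w, hw⟩ := X_sub_C_dvd_sub_C_eval (a := cQ Q hQ') (p := p.map (algebraMap k k'))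
        have e3 : Q.1 (aeval A (p.map (algebraMap k k')) -
            algebraMap k' K' ((p.map (algebraMap k k')).eval (cQ Q hQ'))) < 1 := by
          have h' := congrArg (aeval A) hw
          rw [map_sub, map_mul, map_sub, aeval_C, aeval_C, aeval_X] at h'
          rw [h', map_mul]
          exact mul_lt_one_of_lt_of_le (hcA Q hQ') (val_aeval_le Q hA1 w)
        have e4 := Q.1.map_add_lt (Q.1.map_sub_swap _ _ ▸ e1) e2
        have e5 := Q.1.map_add_lt e4 e3
        rw [map_sub, map_pow]
        convert e5 using 2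
        ring
      have hk1 := key Q₁ h₁ v₁ hv₁
      have hk2 := key Q₂ h₂ v₂ hv₂
      rw [hc, ← hk2] at hk1
      haveI : ExpChar k' (ringExpChar k) := expChar_of_injective_algebraMap (algebraMap k k').injective _
      have hv : v₁ = v₂ := iterateFrobenius_inj k' (ringExpChar k) m (by simpa [iterateFrobenius_def] using hk1)
      exact ⟨v₁, hv₁, hv ▸ hv₂⟩
    choose v hv1 hv2 using fun l => hxv ⟨_, hux l⟩
    have hsum : ∀ Q : Place k K', (∀ l, Q.1 (algebraMap K K' (B.repr u l) - algebraMap k' K' (v l)) < 1) →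
        Q.1 (u - algebraMap k' K' (∑ l, b l * v l)) < 1 := fun Q hQl => by
      conv_lhs => rw [← B.sum_repr u]
      rw [map_sum, ← Finset.sum_sub_distrib]
      refine Q.1.map_sum_lt one_ne_zero fun l _ => ?_
      rw [Algebra.smul_def, hB, map_mul, mul_comm, ← mul_sub, map_mul]
      exact lt_of_le_of_lt (mul_le_of_le_one_left' (val_const_le Q _)) (hQl l)
    have hz : (∑ l, b l * v l) = 0 := by
      refine const_eq_zero_of_val_lt Q₂ ?_
      have := Q₂.1.map_sub_lt hu2 (hsum Q₂ hv2)
      rwa [sub_sub_cancel] at this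
    have := hsum Q₁ hv1
    rw [hz, map_zero, sub_zero, hu1] at this
    exact lt_irrefl _ this
  have hcard : T.card ≤ Module.finrank k S := by
    let c' : T → k' := fun Q => cQ Q.1 ((hTmem _).1 Q.2)
    have hc' : Function.Injective c' := fun Q₁ Q₂ e => Subtype.ext (hinj _ _ _ _ e)
    calc T.card = (T.attach.image c').card := by rw [Finset.card_image_of_injective _ hc', Finset.card_attach]
      _ ≤ (g.map (algebraMap k k')).roots.toFinset.card := Finset.card_le_card fun z hz => by
          obtain ⟨Q, -, rfl⟩ := Finset.mem_image.1 hz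
          exact Multiset.mem_toFinset.2 (hcroot _ _)
      _ ≤ (g.map (algebraMap k k')).natDegree := (Multiset.toFinset_card_le _).trans (card_roots' _)
      _ = Module.finrank k S := by rw [natDegree_map, hgd]
  have hKK' : Module.finrank K K' = Module.finrank k k' := by
    rw [Module.finrank_eq_card_basis B, Fintype.card_fin]
  have hsum : ∑ Q ∈ T, ramIdx Q P = Module.finrank k F := by
    have h1 := (finite_over_and_sum (K' := K') hK P).2 T hTmem
    rw [Finset.sum_congr rfl (fun Q hQ => by rw [hdegQ Q ((hTmem Q).1 hQ)]) , ← Finset.sum_mul, hKK', hdeg,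
      mul_comm (Module.finrank k k')] at h1
    exact Nat.eq_of_mul_eq_mul_right Module.finrank_pos h1
  rw [← Module.finrank_mul_finrank k S F] at hsum
  have hleT : ∀ Q ∈ T, ramIdx Q P ≤ Module.finrank S F := fun Q hQ => by
    obtain ⟨e, he⟩ := (hTmem Q).1 hQ
    rw [ramIdx_eq he]; exact hle Q e he
  have hsum2 := Finset.sum_le_sum hleT
  rw [Finset.sum_const, smul_eq_mul, hsum] at hsum2
  have hpos : 0 < Module.finrank S F := Module.finrank_pos
  have hcardeq : T.card = Module.finrank k S :=
    le_antisymm hcard (Nat.le_of_mul_le_mul_right hsum2 hpos)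
  refine ⟨hcardeq, fun Q hQ' => ?_⟩
  have heq := (Finset.sum_eq_sum_iff_of_le hleT).1 (by
    rw [Finset.sum_const, smul_eq_mul, hsum, hcardeq]) Q ((hTmem Q).2 hQ')
  obtain ⟨e, he⟩ := hQ'
  rw [ramIdx_eq he] at heq
  exact heq ▸ he

end

end Groth.Agent.FF
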