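/-
A local parameter at a place with separable residue field is a separating variable.
-/
import Groth.Agent.L26.FF.PBasis
import Groth.Agent.L26.FF.Ext
import Mathlib.RingTheory.AlgebraicIndependent.Basic
import Mathlib.FieldTheory.PurelyInseparable.Tower

open IntermediateField WithZero

universe u v

namespace Groth.Agent.FF

open FunFld Groth.Agent.Res

variable {k : Type u} {K : Type v} [Field k] [Field K] [Algebra k K] (p : ℕ) [Fact p.Prime] [CharP K p]

/-- A separable extension keeps `p`-independent elements of the base independent over `p`-th powers. -/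
lemma indep_pow_of_separable {F : Type*} [Field F] [Algebra k F] [Algebra.IsSeparable k F] [ExpChar k p]
    {n : ℕ} {c : Fin n → k} (hc : ∀ a : Fin n → k, ∑ i, a i ^ p * c i = 0 → a = 0)
    (y : Fin n → F) (h : ∑ i, algebraMap k F (c i) * y i ^ p = 0) : y = 0 := by
  have : ExpChar F p := expChar_of_injective_algebraMap (algebraMap k F).injective p
  let b := Module.Free.chooseBasis k F
  classical
  let s : Finset (Module.Free.ChooseBasisIndex k F) := Finset.univ.biUnion fun i => (b.repr (y i)).support
  have hy : ∀ i, y i = ∑ j ∈ s, b.repr (y i) j • b j := by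
    intro i
    conv_lhs => rw [← b.linearCombination_repr (y i)]
    rw [Finsupp.linearCombination_apply]
    exact Finsupp.sum_of_support_subset _ (Finset.subset_biUnion_of_mem (fun i => (b.repr (y i)).support) (Finset.mem_univ i)) _ (fun _ _ => zero_smul _ _)
  have hb := b.linearIndependent.map_pow_expChar_pow_of_isSeparable p 1
  simp only [pow_one] at hb
  have h1 : ∑ j ∈ s, (∑ i, c i * b.repr (y i) j ^ p) • b j ^ p = 0 := by
    rw [← h]
    simp only [Finset.sum_smul]
    rw [Finset.sum_comm]
    refine Finset.sum_congr rfl fun i _ => ?_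
    conv_rhs => rw [hy i, sum_pow_char p, Finset.mul_sum]
    refine Finset.sum_congr rfl fun j _ => ?_
    rw [Algebra.smul_def, Algebra.smul_def, mul_pow, map_mul, map_pow, mul_assoc]
  have h2 := linearIndependent_iff'.1 hb s _ h1
  funext i
  rw [hy i]
  refine Finset.sum_eq_zero fun j hj => ?_
  have := hc (fun i => b.repr (y i) j) (by simpa [mul_comm] using h2 j hj)
  rw [show b.repr (y i) j = 0 from congrFun this i, zero_smul]

lemma mem_span_pow {z : K} (hz : z ∈ pPow k K p) :
    z ∈ Submodule.span k (Set.range fun y : K => y ^ p) := by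
  rw [IntermediateField.mem_adjoin_iff] at hz
  obtain ⟨r, s, rfl⟩ := hz
  set P := Submodule.span k (Set.range fun y : K => y ^ p)
  have hmul : ∀ a ∈ P, ∀ b ∈ P, a * b ∈ P := by
    intro a ha b hb
    induction ha using Submodule.span_induction with
    | mem a ha =>
      obtain ⟨x, rfl⟩ := ha
      induction hb using Submodule.span_induction with
      | mem b hb =>
        obtain ⟨y, rfl⟩ := hb
        exact Submodule.subset_span ⟨x * y, mul_pow x y p⟩
      | zero => rw [mul_zero]; exact zero_mem _
      | add b b' _ _ hb hb' => rw [mul_add]; exact add_mem hb hb'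
      | smul c b _ hb => rw [mul_smul_comm]; exact P.smul_mem c hb
    | zero => rw [zero_mul]; exact zero_mem _
    | add a a' _ _ ha ha' => rw [add_mul]; exact add_mem ha ha'
    | smul c a _ ha => rw [smul_mul_assoc]; exact P.smul_mem c ha
  have hev : ∀ q : MvPolynomial (Set.range fun y : K => y ^ p) k, MvPolynomial.aeval (fun x : (Set.range fun y : K => y ^ p) => (x : K)) q ∈ P := by
    intro q
    induction q using MvPolynomial.induction_on with
    | C a =>
      rw [MvPolynomial.aeval_C, Algebra.algebraMap_eq_smul_one]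
      exact P.smul_mem a (Submodule.subset_span ⟨1, one_pow p⟩)
    | add q q' hq hq' => rw [map_add]; exact add_mem hq hq'
    | mul_X q i hq => rw [map_mul, MvPolynomial.aeval_X]; exact hmul _ hq _ (Submodule.subset_span i.2)
  rw [div_eq_mul_inv]
  refine hmul _ (hev r) _ ?_
  set d := MvPolynomial.aeval (fun x : (Set.range fun y : K => y ^ p) => (x : K)) s
  rcases eq_or_ne d 0 with h | h
  · rw [h, inv_zero]; exact zero_mem _
  · have hp1 : 1 ≤ p := (Fact.out : p.Prime).one_le
    have : d⁻¹ = d ^ (p - 1) * d⁻¹ ^ p := by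
      nth_rewrite 2 [← Nat.sub_add_cancel hp1]
      rw [pow_add, ← mul_assoc, ← mul_pow, mul_inv_cancel₀ h, one_pow, pow_one, one_mul]
    rw [this]
    refine hmul _ ?_ _ (Submodule.subset_span ⟨d⁻¹, rfl⟩)
    have hpw : ∀ n : ℕ, d ^ n ∈ P := by
      intro n
      induction n with
      | zero => rw [pow_zero]; exact Submodule.subset_span ⟨1, one_pow p⟩
      | succ n ih => rw [pow_succ]; exact hmul _ ih _ (hev s)
    exact hpw _

lemma exists_min_repr {z : K} (hz : z ∈ pPow k K p) :
    ∃ (n : ℕ) (c : Fin n → k) (y : Fin n → K), ∑ i, algebraMap k K (c i) * y i ^ p = z ∧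
      ∀ a : Fin n → k, ∑ i, a i ^ p * c i = 0 → a = 0 := by
  classical
  have hex : ∃ (n : ℕ) (c : Fin n → k) (y : Fin n → K), ∑ i, algebraMap k K (c i) * y i ^ p = z := by
    obtain ⟨n, c, g, h⟩ := Submodule.mem_span_set'.1 (mem_span_pow p hz)
    choose y hy using fun i => (g i).2
    refine ⟨n, c, y, ?_⟩
    rw [← h]
    exact Finset.sum_congr rfl fun i _ => by rw [Algebra.smul_def, ← hy i]
  obtain ⟨c, y, h⟩ := Nat.find_spec hex
  refine ⟨_, c, y, h, fun a ha => ?_⟩
  by_contra hne
  obtain ⟨i₀, hi₀⟩ := Function.ne_iff.1 hne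
  obtain ⟨m, hm⟩ : ∃ m, Nat.find hex = m + 1 := Nat.exists_eq_succ_of_ne_zero (fun h0 => by
    rw [h0] at i₀; exact i₀.elim0)
  have hchar : CharP K p := inferInstance
  revert c y i₀ a
  rw [hm]
  intro c y h a ha hne i₀ hi₀
  refine Nat.find_min hex (m := m) (by omega) ⟨c ∘ i₀.succAbove,
    fun i => y (i₀.succAbove i) - algebraMap k K (a (i₀.succAbove i) / a i₀) * y i₀, ?_⟩
  rw [Fin.sum_univ_succAbove _ i₀] at h ha
  have hc0 : c i₀ = -∑ i, (a (i₀.succAbove i) / a i₀) ^ p * c (i₀.succAbove i) := by
    have ha0 : a i₀ ^ p ≠ 0 := pow_ne_zero _ hi₀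
    refine mul_left_cancel₀ ha0 ?_
    rw [mul_neg, Finset.mul_sum, ← add_eq_zero_iff_eq_neg]
    refine Eq.trans ?_ ha
    congr 1
    refine Finset.sum_congr rfl fun i _ => ?_
    rw [div_pow]
    field_simp
  rw [← h, hc0, map_neg, map_sum, neg_mul, Finset.sum_mul, ← Finset.sum_neg_distrib, ← Finset.sum_add_distrib]
  refine Finset.sum_congr rfl fun i _ => ?_
  simp only [Function.comp_apply, sub_pow_char (p := p), mul_pow, map_mul, map_pow]
  ring

theorem ord_dvd_of_mem_pPow (P : Place k K) [Algebra.IsSeparable k (IsLocalRing.ResidueField P.O)]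
    {t : K} (ht : t ∈ pPow k K p) (ht0 : t ≠ 0) : (p : ℤ) ∣ P.ord t := by
  classical
  obtain ⟨n, c, y, h, hc⟩ := exists_min_repr p ht
  have hp : p ≠ 0 := (Fact.out : p.Prime).ne_zero
  have hne : (Finset.univ.filter fun i => y i ≠ 0).Nonempty := by
    by_contra hcon
    refine ht0 (h ▸ Finset.sum_eq_zero fun i _ => ?_)
    have : y i = 0 := by
      by_contra hy
      exact hcon ⟨i, Finset.mem_filter.2 ⟨Finset.mem_univ _, hy⟩⟩
    rw [this, zero_pow hp, mul_zero]
  obtain ⟨i₀, hi₀, hmin⟩ := Finset.exists_max_image _ (fun i => P.1 (y i)) hne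
  have hy0 : y i₀ ≠ 0 := (Finset.mem_filter.1 hi₀).2
  have hle : ∀ i, P.1 (y i / y i₀) ≤ 1 := by
    intro i
    by_cases hi : y i = 0
    · rw [hi, zero_div, map_zero]; exact zero_le
    · rw [map_div₀, div_le_one₀ (zero_lt_iff.2 (val_ne_zero P hy0))]
      exact hmin i (Finset.mem_filter.2 ⟨Finset.mem_univ _, hi⟩)
  let z : Fin n → P.O := fun i => ⟨y i / y i₀, hle i⟩
  let w : P.O := ∑ i, (⟨algebraMap k K (c i), P.2.1 _⟩ : P.O) * z i ^ p
  have hw : (w : K) = t / y i₀ ^ p := by
    rw [AddSubmonoidClass.coe_finsetSum, ← h, Finset.sum_div]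
    refine Finset.sum_congr rfl fun i _ => ?_
    show algebraMap k K (c i) * (y i / y i₀) ^ p = _
    rw [div_pow, mul_div_assoc]
  have hwu : IsUnit w := by
    by_contra hu
    have h0 := (IsLocalRing.residue_eq_zero_iff w).2 hu
    rw [map_sum] at h0
    have : ExpChar k p := by
      have : CharP k p := (RingHom.charP_iff _ (algebraMap k K).injective p).2 inferInstance
      exact .prime Fact.out
    have hz := indep_pow_of_separable (F := IsLocalRing.ResidueField P.O) p hc
      (fun i => IsLocalRing.residue _ (z i)) (by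
        refine Eq.trans (Finset.sum_congr rfl fun i _ => ?_) h0
        rw [map_mul, map_pow]
        rfl)
    have h1 : IsLocalRing.residue _ (z i₀) = 0 := congrFun hz i₀
    rw [show z i₀ = 1 from Subtype.ext (div_self hy0), map_one] at h1
    exact one_ne_zero h1
  have hval : P.1 (w : K) = 1 := le_antisymm w.2 (not_lt.1 fun hlt =>
    (Valuation.Integer.not_isUnit_iff_valuation_lt_one.2 hlt) hwu)
  rw [hw, map_div₀, map_pow, val_eq_exp P ht0, val_eq_exp P hy0, ← exp_nsmul, ← exp_sub, exp_eq_one'] at hval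
  exact ⟨P.ord (y i₀), by simp at hval; linarith⟩

omit p in
theorem D_uniformizer_ne_zero (hK : IsFunctionField k K) (hg : IsGeometric k K) (P : Place k K)
    [Algebra.IsSeparable k (IsLocalRing.ResidueField P.O)] {t : K} (ht : P.1 t = exp (-1 : ℤ)) :
    KaehlerDifferential.D k K t ≠ 0 := by
  have ht0 : t ≠ 0 := fun h => by rw [h, map_zero] at ht; exact exp_ne_zero ht.symm
  have htr : Transcendental k t := transcendental_of_val_lt_one P ht0 (by rw [ht, exp_lt_one']; norm_num)
  rcases CharP.exists' K with hch | ⟨p, hp, hpK⟩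
  · have : CharZero k := (algebraMap k K).charZero
    have := finite_over_adjoin hK.1 htr
    have : Algebra.IsAlgebraic k⟮t⟯ K := Algebra.IsAlgebraic.of_finite _ _
    exact D_ne_zero hK htr
  · intro h
    have hd := ord_dvd_of_mem_pPow p P ((mem_pPow_iff p hK hg).2 h) ht0
    rw [ord_eq_of_val P ht] at hd
    exact hp.out.one_lt.ne' (by exact_mod_cast Int.eq_one_of_dvd_one (Int.natCast_nonneg p) (by simpa using hd))

end Groth.Agent.FF
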